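import Cfsg.Agent.Lib.Helper81.CharRam
set_option autoImplicit false
set_option linter.style.haveILetI false
set_option linter.unusedSectionVars false
namespace Cfsg.Agent.Helper81
open Representation
open scoped ComplexConjugate
universe u v w

section prod
variable {G : Type u} [Group G]

/-- The product of two characters is a character. -/
theorem isCharacter_mul {α β : G → ℂ} (hα : IsCharacter G α) (hβ : IsCharacter G β) :
    IsCharacter G (α * β) := by
  obtain ⟨n, ρ, rfl⟩ := hα
  obtain ⟨m, σ, rfl⟩ := hβ
  have h := isCharacter_of_rep (ρ.tprod σ)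
  rwa [char_tensor] at h

theorem extendByZero_mul (N : Subgroup G) (φ : N → ℂ) (χ : G → ℂ) (g : G) :
    extendByZero N (φ * fun n : N => χ n) g = extendByZero N φ g * χ g := by
  by_cases hg : g ∈ N
  · rw [extendByZero_apply_mem N _ hg, extendByZero_apply_mem N _ hg]
    rfl
  · rw [extendByZero_apply_not_mem N _ hg, extendByZero_apply_not_mem N _ hg, zero_mul]

/-- Push-pull formula. -/
theorem indFun_mul_restrict [Fintype G] (N : Subgroup G) (φ : N → ℂ) {χ : G → ℂ}
    (hχ : IsClassFunction G χ) :
    indFun N (φ * fun n : N => χ n) = indFun N φ * χ := by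
  ext g
  simp only [indFun_apply, Pi.mul_apply]
  rw [mul_assoc, Finset.sum_mul]
  congr 1
  apply Finset.sum_congr rfl
  intro x _
  rw [extendByZero_mul]
  congr 1
  have := hχ g x⁻¹
  rw [inv_inv] at this
  exact this

end prod

section norms
variable {G : Type u} [Group G] [Fintype G]

theorem classInner_self_eq_zero {α : G → ℂ} (h : classInner α α = 0) : α = 0 := by
  unfold classInner at h
  have hG0 : (Nat.card G : ℂ) ≠ 0 := by exact_mod_cast (Nat.card_pos (α := G)).ne'
  have h1 : ∑ g : G, α g * conj (α g) = 0 := by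
    rcases mul_eq_zero.mp h with h' | h'
    · exact absurd (inv_eq_zero.mp h') hG0
    · exact h'
  have h2 : ∀ g : G, α g * conj (α g) = ((Complex.normSq (α g) : ℝ) : ℂ) := fun g =>
    Complex.mul_conj (α g)
  simp only [h2] at h1
  rw [← Complex.ofReal_sum, Complex.ofReal_eq_zero,
    Finset.sum_eq_zero_iff_of_nonneg (fun g _ => Complex.normSq_nonneg _)] at h1
  ext g
  exact Complex.normSq_eq_zero.mp (h1 g (Finset.mem_univ _))

/-- A character of norm one is irreducible. -/
theorem isIrrCharacter_of_classInner_self_eq_one {α : G → ℂ} (hα : IsCharacter G α)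
    (h : classInner α α = 1) : IsIrrCharacter G α := by
  have hα0 : α ≠ 0 := by
    intro h0; rw [h0, classInner_zero_left] at h; exact zero_ne_one h
  obtain ⟨β, hβ, hβc⟩ := exists_irr_constituent hα hα0
  obtain ⟨α', hα', hsplit⟩ := exists_add_of_classInner_ne_zero hα hβ hβc
  obtain ⟨k, hk⟩ := exists_nat_classInner hα' hβ
  obtain ⟨k', hk'⟩ := exists_nat_classInner_char hα' hα'
  have h1 : classInner α α = 1 + (k : ℂ) + (k : ℂ) + (k' : ℂ) := by
    rw [hsplit, classInner_add_left, classInner_add_right, classInner_add_right,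
      irr_orthonormal hβ hβ, if_pos rfl, hk, hk', classInner_conj_symm α' β, hk]
    simp
    ring
  rw [h] at h1
  have h2 : 1 = 1 + k + k + k' := by exact_mod_cast h1
  have hk'0 : k' = 0 := by omega
  rw [hk'0] at hk'
  have : α' = 0 := classInner_self_eq_zero (by simpa using hk')
  rw [hsplit, this, add_zero]
  exact hβ

/-- Norm of the induced character of an invariant irreducible character. -/
theorem classInner_indFun_self_of_invariant (N : Subgroup G) [Fintype N] (hN : N.Normal)
    {ψ : N → ℂ} (hψ : IsIrrCharacter N ψ) (hinv : ∀ g : G, conjFun N hN ψ g = ψ) :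
    classInner (indFun N ψ) (indFun N ψ) = (N.index : ℂ) := by
  rw [frobenius_reciprocity N ψ (indFun_isClassFunction N ψ), indFun_restrict_normal N hN ψ,
    classInner_smul_right, classInner_sum_right]
  simp only [hinv, irr_orthonormal hψ hψ, if_true, Finset.sum_const, Finset.card_univ,
    nsmul_eq_mul, mul_one]
  have hN0 : (Nat.card N : ℂ) ≠ 0 := by exact_mod_cast (Nat.card_pos (α := N)).ne'
  have h2 : (Fintype.card G : ℂ) = (N.index : ℂ) * (Nat.card N : ℂ) := by
    rw [← Nat.card_eq_fintype_card, ← Subgroup.index_mul_card N]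
    push_cast; ring
  rw [h2]
  simp only [map_inv₀, map_natCast]
  field_simp

end norms

section gallagher
variable {G : Type u} [Group G] [Fintype G]

/-- Core of the Gallagher-type correspondence. -/
theorem gallagher_core (N : Subgroup G) [Fintype N] (hN : N.Normal) {φ ϑ : N → ℂ}
    (hφ : IsIrrCharacter N φ) (hφinv : ∀ g : G, conjFun N hN φ g = φ)
    (hprod : IsIrrCharacter N (φ * ϑ)) (hprodinv : ∀ g : G, conjFun N hN (φ * ϑ) g = φ * ϑ)
    {χ : G → ℂ} (hχ : IsIrrCharacter G χ) (hext : (fun n : N => χ n) = ϑ)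
    [Fintype (IrrCharacter G)] (m : IrrCharacter G → ℕ)
    (hm : indFun N φ = ∑ β, (m β : ℂ) • (β : G → ℂ)) :
    (∀ β : IrrCharacter G, m β ≠ 0 → IsIrrCharacter G ((β : G → ℂ) * χ)) ∧
    (∀ β γ : IrrCharacter G, m β ≠ 0 → m γ ≠ 0 → β ≠ γ →
      classInner ((β : G → ℂ) * χ) ((γ : G → ℂ) * χ) = 0) ∧
    indFun N (φ * ϑ) = ∑ β, (m β : ℂ) • ((β : G → ℂ) * χ) := by
  classical
  have hχc := isClassFunction_of_isCharacter (IsIrrCharacter.isCharacter hχ)
  -- the induced character of the product
  have hΨ : indFun N (φ * ϑ) = ∑ β, (m β : ℂ) • ((β : G → ℂ) * χ) := by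
    rw [← hext, indFun_mul_restrict N φ hχc, hm, Finset.sum_mul]
    apply Finset.sum_congr rfl
    intro β _
    rw [smul_mul_assoc]
  -- sum of squares of multiplicities
  have hsq : ∑ β, m β ^ 2 = N.index := by
    have h1 := classInner_indFun_self_of_invariant N hN hφ hφinv
    conv at h1 => lhs; rw [hm]
    rw [classInner_sum_left] at h1
    have h2 : ∀ β : IrrCharacter G, classInner ((m β : ℂ) • (β : G → ℂ))
        (∑ γ, (m γ : ℂ) • (γ : G → ℂ)) = ((m β ^ 2 : ℕ) : ℂ) := by
      intro β
      rw [classInner_smul_left, classInner_conj_symm,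
        classInner_nat_decomp (fun γ => (m γ : ℂ)) β]
      simp [sq]
    simp only [h2] at h1
    exact_mod_cast h1
  -- the pairwise inner products
  have hβχ : ∀ β : IrrCharacter G, IsCharacter G ((β : G → ℂ) * χ) := fun β =>
    isCharacter_mul (IsIrrCharacter.isCharacter β.2) (IsIrrCharacter.isCharacter hχ)
  have hb : ∀ β γ : IrrCharacter G, ∃ b : ℕ,
      classInner ((β : G → ℂ) * χ) ((γ : G → ℂ) * χ) = ((b + if β = γ then 1 else 0 : ℕ) : ℂ) := by
    intro β γ
    obtain ⟨k, hk⟩ := exists_nat_classInner_char (hβχ β) (hβχ γ)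
    by_cases hβγ : β = γ
    · subst hβγ
      have hk0 : k ≠ 0 := by
        intro h0
        rw [h0] at hk
        have hz := classInner_self_eq_zero (by simpa using hk)
        have h1 := congrFun hz 1
        obtain ⟨d, hd0, hd⟩ := irr_one_pos β.2
        obtain ⟨e, he0, he⟩ := irr_one_pos hχ
        simp only [Pi.mul_apply, Pi.zero_apply, hd, he] at h1
        have : d * e = 0 := by exact_mod_cast h1
        rcases Nat.mul_eq_zero.mp this with h | h <;> omega
      refine ⟨k - 1, ?_⟩
      rw [hk, if_pos rfl]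
      congr 1
      omega
    · exact ⟨k, by rw [hk, if_neg hβγ, add_zero]⟩
  choose b hb using hb
  have hnorm : ∑ β, ∑ γ, m β * m γ * (b β γ + if β = γ then 1 else 0) = N.index := by
    have h1 := classInner_indFun_self_of_invariant N hN hprod hprodinv
    conv at h1 => lhs; rw [hΨ]
    rw [classInner_sum_left] at h1
    simp only [classInner_smul_left, classInner_sum_right, classInner_smul_right, hb,
      Complex.conj_natCast] at h1
    have h2 : ∀ β : IrrCharacter G, ∑ γ, (m γ : ℂ) * ((m β : ℂ) * ((b β γ + if β = γ then 1 else 0 : ℕ) : ℂ))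
        = ((∑ γ, m β * m γ * (b β γ + if β = γ then 1 else 0) : ℕ) : ℂ) := by
      intro β
      push_cast
      apply Finset.sum_congr rfl
      intro γ _
      ring
    simp only [h2] at h1
    exact_mod_cast h1
  have hzero : ∑ β, ∑ γ, m β * m γ * b β γ = 0 := by
    have h1 : ∑ β, ∑ γ, m β * m γ * (b β γ + if β = γ then 1 else 0) =
        ∑ β, ∑ γ, m β * m γ * b β γ + ∑ β, m β ^ 2 := by
      rw [← Finset.sum_add_distrib]
      apply Finset.sum_congr rfl
      intro β _
      simp only [mul_add, Finset.sum_add_distrib]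
      congr 1
      rw [Finset.sum_eq_single β]
      · rw [if_pos rfl, mul_one, sq]
      · intro γ _ hγ
        rw [if_neg (Ne.symm hγ), mul_zero]
      · intro h; exact absurd (Finset.mem_univ _) h
    rw [hnorm, hsq] at h1
    omega
  have hall : ∀ β γ : IrrCharacter G, m β * m γ * b β γ = 0 := by
    intro β γ
    have h1 := (Finset.sum_eq_zero_iff.mp hzero) β (Finset.mem_univ _)
    exact (Finset.sum_eq_zero_iff.mp h1) γ (Finset.mem_univ _)
  refine ⟨?_, ?_, hΨ⟩
  · intro β hβ
    apply isIrrCharacter_of_classInner_self_eq_one (hβχ β)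
    have h1 := hall β β
    have hb0 : b β β = 0 := by
      rcases Nat.mul_eq_zero.mp h1 with h | h
      · rcases Nat.mul_eq_zero.mp h with h' | h' <;> exact absurd h' hβ
      · exact h
    rw [hb, hb0, if_pos rfl]
    simp
  · intro β γ hβ hγ hne
    have h1 := hall β γ
    have hb0 : b β γ = 0 := by
      rcases Nat.mul_eq_zero.mp h1 with h | h
      · rcases Nat.mul_eq_zero.mp h with h' | h'
        · exact absurd h' hβ
        · exact absurd h' hγ
      · exact h
    rw [hb, hb0, if_neg hne]
    simp

end gallagher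
end Cfsg.Agent.Helper81
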