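import Cfsg.Agent.Lib.Helper81.CharFrob

set_option autoImplicit false
set_option linter.style.haveILetI false
set_option linter.unusedSectionVars false

namespace Cfsg.Agent.Helper81

open Representation
open scoped ComplexConjugate

universe u v w

section degrees
variable {G : Type u} [Group G]

theorem irr_one_pos {χ : G → ℂ} (hχ : IsIrrCharacter G χ) : ∃ n : ℕ, 0 < n ∧ χ 1 = (n : ℂ) := by
  obtain ⟨n, ρ, hρ, rfl⟩ := hχ
  haveI := nontrivial_of_isIrreducible ρ
  refine ⟨n, ?_, ?_⟩
  · by_contra h0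
    have : n = 0 := by omega
    subst this
    exact not_subsingleton (Fin 0 → ℂ) inferInstance
  · rw [Representation.char_one]; simp

theorem char_one_nat {χ : G → ℂ} (hχ : IsCharacter G χ) : ∃ n : ℕ, χ 1 = (n : ℂ) := by
  obtain ⟨n, ρ, rfl⟩ := hχ
  exact ⟨n, by rw [Representation.char_one]; simp⟩

theorem indFun_one [Fintype G] (N : Subgroup G) (ϑ : N → ℂ) :
    indFun N ϑ 1 = (N.index : ℂ) * ϑ 1 := by
  rw [indFun_apply]
  have h1 : ∀ x : G, extendByZero N ϑ (x⁻¹ * 1 * x) = ϑ 1 := by
    intro x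
    have : x⁻¹ * 1 * x = ((1 : N) : G) := by simp
    rw [this, extendByZero_apply_coe]
  simp only [h1, Finset.sum_const, Finset.card_univ, nsmul_eq_mul]
  have hN0 : (Nat.card N : ℂ) ≠ 0 := by exact_mod_cast (Nat.card_pos (α := N)).ne'
  have h2 : (Fintype.card G : ℂ) = (N.index : ℂ) * (Nat.card N : ℂ) := by
    rw [← Nat.card_eq_fintype_card, ← Subgroup.index_mul_card N]
    push_cast; ring
  rw [h2]
  field_simp

/-- A character vanishing at the identity is zero. -/
theorem eq_zero_of_char_one_eq_zero [Finite G] {α : G → ℂ} (hα : IsCharacter G α)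
    (h1 : α 1 = 0) : α = 0 := by
  obtain ⟨n, ρ, rfl⟩ := hα
  rw [Representation.char_one] at h1
  have h0 : Module.finrank ℂ (Fin n → ℂ) = 0 := by exact_mod_cast h1
  ext g
  exact character_eq_zero_of_finrank_eq_zero ρ h0 g

end degrees

section normsq
variable {G : Type u} [Group G] [Fintype G]

open scoped Classical in
/-- The norm of the restriction of an irreducible character to a subgroup. -/
theorem classInner_restrict_self (N : Subgroup G) [Fintype N] {χ : G → ℂ}
    (hχ : IsIrrCharacter G χ) :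
    (Nat.card N : ℂ) * classInner (fun n : N => χ n) (fun n : N => χ n) =
      (Nat.card G : ℂ) - ∑ g : G, if g ∈ N then 0 else χ g * conj (χ g) := by
  have h1 : classInner χ χ = 1 := by rw [irr_orthonormal hχ hχ, if_pos rfl]
  unfold classInner at h1 ⊢
  have hG0 : (Nat.card G : ℂ) ≠ 0 := by exact_mod_cast (Nat.card_pos (α := G)).ne'
  have hN0 : (Nat.card N : ℂ) ≠ 0 := by exact_mod_cast (Nat.card_pos (α := N)).ne'
  have h2 : ∑ g : G, χ g * conj (χ g) = (Nat.card G : ℂ) := by
    field_simp at h1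
    exact h1
  rw [← mul_assoc, mul_inv_cancel₀ hN0, one_mul, ← h2, ← Finset.sum_sub_distrib]
  have h3 : ∀ g : G, χ g * conj (χ g) - (if g ∈ N then 0 else χ g * conj (χ g)) =
      if g ∈ N then χ g * conj (χ g) else 0 := by
    intro g
    by_cases hg : g ∈ N <;> simp [hg]
  simp only [h3]
  rw [← Finset.sum_filter]
  rw [Finset.sum_subtype (Finset.univ.filter (· ∈ N)) (p := (· ∈ N)) (by simp)
    (fun g => χ g * conj (χ g))]

open scoped Classical in
theorem vanish_off_iff (N : Subgroup G) {χ : G → ℂ} :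
    (∑ g : G, if g ∈ N then 0 else χ g * conj (χ g)) = 0 ↔ ∀ g : G, g ∉ N → χ g = 0 := by
  have hre : ∀ g : G, (if g ∈ N then (0 : ℂ) else χ g * conj (χ g)) =
      ((if g ∈ N then (0 : ℝ) else Complex.normSq (χ g) : ℝ) : ℂ) := by
    intro g
    by_cases hg : g ∈ N
    · simp [hg]
    · simp [hg, Complex.mul_conj]
  simp only [hre]
  rw [← Complex.ofReal_sum, Complex.ofReal_eq_zero]
  rw [Finset.sum_eq_zero_iff_of_nonneg]
  · constructor
    · intro h g hg
      have := h g (Finset.mem_univ _)
      rw [if_neg hg] at this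
      exact Complex.normSq_eq_zero.mp this
    · intro h g _
      by_cases hg : g ∈ N
      · rw [if_pos hg]
      · rw [if_neg hg, h g hg]; simp
  · intro g _
    by_cases hg : g ∈ N
    · rw [if_pos hg]
    · rw [if_neg hg]; exact Complex.normSq_nonneg _

end normsq

section invariant
variable {G : Type u} [Group G] [Fintype G]

/-- If `ϑ` is `G`-invariant, the restriction of `χ` to `N` is a multiple of `ϑ`. -/
theorem restrict_eq_smul_of_invariant (N : Subgroup G) [Fintype N] (hN : N.Normal) {χ : G → ℂ}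
    (hχ : IsIrrCharacter G χ) {ϑ : N → ℂ} (hϑ : IsIrrCharacter N ϑ)
    (hne : classInner (fun n : N => χ n) ϑ ≠ 0) (hinv : ∀ g : G, conjFun N hN ϑ g = ϑ) :
    (fun n : N => χ n) = classInner (fun n : N => χ n) ϑ • ϑ := by
  have h := clifford N hN hχ hϑ hne
  have hset : conjSet N hN ϑ = {ϑ} := by
    ext ψ
    simp only [conjSet, Set.mem_ofPred_eq, Set.mem_singleton_iff]
    constructor
    · rintro ⟨g, rfl⟩; exact hinv g
    · intro h; exact ⟨1, by rw [h, hinv 1]⟩
  rw [hset, finsum_mem_singleton] at h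
  exact h

end invariant
end Cfsg.Agent.Helper81
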