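import Cfsg.Agent.Lib.Helper81.CharCyc
import Cfsg.Agent.Lib.Helper79.Integrality
set_option autoImplicit false
set_option linter.style.haveILetI false
set_option linter.unusedSectionVars false
namespace Cfsg.Agent.Helper81
open Representation
open scoped ComplexConjugate
universe u v w

section twist
variable {G : Type u} [Group G] {V : Type v} [AddCommGroup V] [Module ℂ V]

/-- Twist of a representation by a multiplicative function. -/
noncomputable def twistRep (l : G →* ℂ) (σ : Representation ℂ G V) : Representation ℂ G V where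
  toFun g := l g • σ g
  map_one' := by simp
  map_mul' g h := by
    rw [map_mul, map_mul, smul_mul_smul_comm]

theorem twistRep_apply (l : G →* ℂ) (σ : Representation ℂ G V) (g : G) :
    twistRep l σ g = l g • σ g := rfl

theorem monoidHom_ne_zero (l : G →* ℂ) (g : G) : l g ≠ 0 := by
  intro h
  have h1 : l g * l g⁻¹ = 1 := by rw [← map_mul, mul_inv_cancel, map_one]
  rw [h, zero_mul] at h1
  exact zero_ne_one h1

theorem twistRep_isIrreducible (l : G →* ℂ) (σ : Representation ℂ G V) [hσ : σ.IsIrreducible] :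
    (twistRep l σ).IsIrreducible := by
  have key : ∀ U : Subrepresentation (twistRep l σ), ∃ U' : Subrepresentation σ,
      U'.toSubmodule = U.toSubmodule := by
    intro U
    refine ⟨⟨U.toSubmodule, ?_⟩, rfl⟩
    intro g v hv
    have h1 := U.apply_mem_toSubmodule g hv
    rw [twistRep_apply, LinearMap.smul_apply] at h1
    have h2 := U.toSubmodule.smul_mem (l g)⁻¹ h1
    rwa [smul_smul, inv_mul_cancel₀ (monoidHom_ne_zero l g), one_smul] at h2
  refine { exists_pair_ne := ⟨⊥, ⊤, ?_⟩, eq_bot_or_eq_top := ?_ }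
  · intro hbt
    have h1 : (⊥ : Subrepresentation σ) ≠ ⊤ := bot_ne_top
    apply h1
    apply Subrepresentation.toSubmodule_injective
    have h2 := congrArg Subrepresentation.toSubmodule hbt
    exact h2
  · intro U
    obtain ⟨U', hU'⟩ := key U
    rcases hσ.eq_bot_or_eq_top U' with h' | h'
    · left
      apply Subrepresentation.toSubmodule_injective
      rw [← hU', h']; rfl
    · right
      apply Subrepresentation.toSubmodule_injective
      rw [← hU', h']; rfl

theorem twistRep_character [FiniteDimensional ℂ V] (l : G →* ℂ) (σ : Representation ℂ G V) (g : G) :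
    (twistRep l σ).character g = l g * σ.character g := by
  simp [Representation.character, twistRep_apply]

theorem det_twistRep [FiniteDimensional ℂ V] (l : G →* ℂ) (σ : Representation ℂ G V) (g : G) :
    LinearMap.det (twistRep l σ g) = l g ^ Module.finrank ℂ V * LinearMap.det (σ g) := by
  rw [twistRep_apply, LinearMap.det_smul]

end twist

section deteq
variable {G : Type u} [Group G] [Fintype G]

/-- Irreducible representations with the same character have the same determinant. -/
theorem det_eq_of_character_eq {V : Type v} [AddCommGroup V] [Module ℂ V] [FiniteDimensional ℂ V]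
    {W : Type w} [AddCommGroup W] [Module ℂ W] [FiniteDimensional ℂ W]
    (σ : Representation ℂ G V) (τ : Representation ℂ G W) [σ.IsIrreducible] [τ.IsIrreducible]
    (h : σ.character = τ.character) (g : G) :
    LinearMap.det (σ g) = LinearMap.det (τ g) := by
  have hE : Nonempty (τ.Equiv σ) := by
    have h1 := classInner_rep_eq σ τ
    have h2 := classInner_rep_eq σ σ
    rw [if_pos ⟨Representation.Equiv.refl σ⟩] at h2
    rw [← h, h2] at h1
    by_contra hne
    rw [if_neg hne] at h1
    exact one_ne_zero h1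
  obtain ⟨E⟩ := hE
  let e : W ≃ₗ[ℂ] V := E.toLinearEquiv
  have hE2 : ∀ v, e (τ g v) = σ g (e v) := fun v =>
    IntertwiningMap.isIntertwining _ _ E.toIntertwiningMap g v
  have h3 : σ g = (e : W →ₗ[ℂ] V) ∘ₗ τ g ∘ₗ (e.symm : V →ₗ[ℂ] W) := by
    ext v
    simp only [LinearMap.comp_apply, LinearEquiv.coe_coe]
    rw [hE2, e.apply_symm_apply]
  rw [h3, LinearMap.det_conj]

end deteq
section transitive
variable {G : Type u} [Group G] [Fintype G]

theorem smul_indFun_eq_sum_linChar (N : Subgroup G) [Fintype N] (hN : N.Normal)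
    {A : Type v} [CommGroup A] [Finite A] (π : G →* A) (hπ : Function.Surjective π)
    (hker : ∀ g : G, π g = 1 ↔ g ∈ N) {θ : N → ℂ} {χ₀ : G → ℂ}
    (hχ₀cf : IsClassFunction G χ₀) (c : ℂ) (hres : (fun n : N => χ₀ n) = c • θ) :
    c • indFun N θ = ∑ ψ : AddChar (Additive A) ℂ, linChar π ψ * χ₀ := by
  classical
  have hcardA : Nat.card A = N.index := by
    have h1 : π.ker = N := by
      ext g
      rw [MonoidHom.mem_ker]
      exact hker g
    rw [← h1, Subgroup.index_ker, MonoidHom.range_eq_top.mpr hπ]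
    exact (Nat.card_congr Subgroup.topEquiv.toEquiv).symm
  rw [← indFun_smul, ← hres]
  have h1 : (fun n : N => χ₀ n) = (1 : N → ℂ) * fun n : N => χ₀ n := by rw [one_mul]
  rw [h1, indFun_mul_restrict N 1 hχ₀cf, ← Finset.sum_mul]
  congr 1
  ext g
  rw [indFun_one_fun N hN, Finset.sum_apply, sum_linChar, hcardA]
  by_cases hg : g ∈ N
  · rw [if_pos hg, if_pos ((hker g).mpr hg)]
  · rw [if_neg hg, if_neg (fun h => hg ((hker g).mp h))]

/-- Two irreducible characters extending the same character of a normal subgroup with abelian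
quotient differ by a linear character of the quotient. -/
theorem exists_linChar_mul_eq (N : Subgroup G) [Fintype N] (hN : N.Normal)
    {A : Type v} [CommGroup A] [Finite A] (π : G →* A) (hπ : Function.Surjective π)
    (hker : ∀ g : G, π g = 1 ↔ g ∈ N) {χ χ' : G → ℂ} (hχ : IsIrrCharacter G χ)
    (hχ' : IsIrrCharacter G χ') {θ : N → ℂ} (hθ : IsIrrCharacter N θ)
    (hres : (fun n : N => χ n) = θ) (hres' : (fun n : N => χ' n) = θ) :
    ∃ ψ : AddChar (Additive A) ℂ, χ' = linChar π ψ * χ := by
  classical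
  have hχcf := isClassFunction_of_isCharacter (IsIrrCharacter.isCharacter hχ)
  have hχ'cf := isClassFunction_of_isCharacter (IsIrrCharacter.isCharacter hχ')
  have hkey := smul_indFun_eq_sum_linChar N hN π hπ hker (θ := θ) hχcf 1
    (by rw [one_smul]; exact hres)
  rw [one_smul] at hkey
  have h1 : classInner (indFun N θ) χ' = 1 := by
    rw [frobenius_reciprocity N θ hχ'cf, hres', irr_orthonormal hθ hθ, if_pos rfl]
  rw [hkey, classInner_sum_left] at h1
  have h2 : ∑ ψ : AddChar (Additive A) ℂ, classInner (linChar π ψ * χ) χ' ≠ 0 := by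
    rw [h1]; exact one_ne_zero
  obtain ⟨ψ, _, hψ⟩ := Finset.exists_ne_zero_of_sum_ne_zero h2
  exact ⟨ψ, (eq_of_classInner_ne_zero (isIrrCharacter_linChar_mul π ψ hχ) hχ' hψ).symm⟩

end transitive
section relcyc
variable {T : Type u} [Group T] [Finite T]

/-- Relative form of `exists_rep_extension_cyclic` for subgroups `H ≤ K` of a group. -/
theorem exists_rep_extension_cyclic_rel (H K : Subgroup T) (hH : H.Normal) (hHK : H ≤ K)
    (hcyc : IsCyclic (K ⧸ H.subgroupOf K))
    {V : Type v} [AddCommGroup V] [Module ℂ V] [FiniteDimensional ℂ V]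
    (ρ : Representation ℂ H V) [hρ : ρ.IsIrreducible]
    (hinv : ∀ (t : T) (h : H), t ∈ K →
      ρ.character ⟨t * h * t⁻¹, hH.conj_mem h h.2 t⟩ = ρ.character h) :
    ∃ σ : Representation ℂ K V, σ.IsIrreducible ∧ ∀ h : H, σ ⟨h, hHK h.2⟩ = ρ h := by
  haveI hN' : (H.subgroupOf K).Normal := Subgroup.normal_subgroupOf
  let iso : H.subgroupOf K ≃* H := Subgroup.subgroupOfEquivOfLe hHK
  let ρ' : Representation ℂ (H.subgroupOf K) V := ρ.comp iso.toMonoidHom
  haveI hρ' : ρ'.IsIrreducible := isIrreducible_comp_of_surjective ρ iso.toMonoidHom iso.surjective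
  have hinv' : ∀ (g : K) (n : H.subgroupOf K),
      ρ'.character ⟨g * n * g⁻¹, hN'.conj_mem n n.2 g⟩ = ρ'.character n := by
    intro g n
    have := hinv (g : T) (iso n) g.2
    exact this
  obtain ⟨σ, hσ, hσρ⟩ := exists_rep_extension_cyclic (H.subgroupOf K) hN' hcyc ρ' hinv'
  refine ⟨σ, hσ, ?_⟩
  intro h
  have := hσρ ⟨⟨h, hHK h.2⟩, Subgroup.mem_subgroupOf.mpr h.2⟩
  exact this

end relcyc
section coprime

theorem exists_mul_add_one_dvd (N p : ℕ) (hp : 1 < p) (h : Nat.Coprime N p) :
    ∃ a : ℕ, p ∣ a * N + 1 := by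
  obtain ⟨m, -, hm⟩ := Nat.exists_mul_mod_eq_one_of_coprime h hp
  have h1 := Nat.div_add_mod (N * m) p
  rw [hm] at h1
  obtain ⟨p', rfl⟩ : ∃ p', p = p' + 1 := ⟨p - 1, by omega⟩
  refine ⟨m * p', (N * m / (p' + 1)) * p' + 1, ?_⟩
  set r := N * m / (p' + 1)
  have h2 : N * m = (p' + 1) * r + 1 := h1.symm
  calc m * p' * N + 1 = (N * m) * p' + 1 := by ring
    _ = ((p' + 1) * r + 1) * p' + 1 := by rw [h2]
    _ = (p' + 1) * (r * p' + 1) := by ring

variable {T : Type u} [Group T] [Finite T]

theorem exists_rep_extension_coprime_aux (n : ℕ) {V : Type v} [AddCommGroup V] [Module ℂ V]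
    [FiniteDimensional ℂ V] :
    ∀ (k : ℕ) (H : Subgroup T) (hH : H.Normal), (∀ x y : T, x * y * x⁻¹ * y⁻¹ ∈ H) →
      H.index = k → Nat.Coprime (n * Module.finrank ℂ V) k →
      ∀ (ρ : Representation ℂ H V), ρ.IsIrreducible → (∀ h : H, LinearMap.det (ρ h) ^ n = 1) →
      (∀ (t : T) (h : H), ρ.character ⟨t * h * t⁻¹, hH.conj_mem h h.2 t⟩ = ρ.character h) →
      ∃ σ : Representation ℂ T V, σ.IsIrreducible ∧ ∀ h : H, σ (h : T) = ρ h := by
  intro k
  induction k using Nat.strong_induction_on with
  | _ k ih =>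
    intro H hH hab hk hcop ρ hρ hdet hinv
    classical
    haveI := hH
    haveI := hρ
    by_cases hHtop : H = ⊤
    · subst hHtop
      let e : T ≃* (⊤ : Subgroup T) := Subgroup.topEquiv.symm
      refine ⟨ρ.comp e.toMonoidHom,
        isIrreducible_comp_of_surjective ρ e.toMonoidHom e.surjective, ?_⟩
      intro h
      show ρ (e (h : T)) = ρ h
      congr 1
    · have hk1 : k ≠ 1 := by
        intro h1
        apply hHtop
        rw [← Subgroup.index_eq_one, hk, h1]
      obtain ⟨p, hp, hpk⟩ := Nat.exists_prime_and_dvd hk1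
      haveI : Fact p.Prime := ⟨hp⟩
      have hcardQ : Nat.card (T ⧸ H) = k := by rw [← hk]; rfl
      obtain ⟨q, hq⟩ := exists_prime_orderOf_dvd_card' p (by rw [hcardQ]; exact hpk)
      let T1 : Subgroup T := Subgroup.comap (QuotientGroup.mk' H) (Subgroup.zpowers q)
      have hHT1 : H ≤ T1 := by
        intro h hh
        show (QuotientGroup.mk' H h) ∈ Subgroup.zpowers q
        rw [QuotientGroup.mk'_apply, (QuotientGroup.eq_one_iff h).mpr hh]
        exact Subgroup.one_mem _
      have hT1 : T1.Normal := by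
        constructor
        intro y hy t
        have h1 : t * y * t⁻¹ = (t * y * t⁻¹ * y⁻¹) * y := by group
        rw [h1]
        exact T1.mul_mem (hHT1 (hab t y)) hy
      have hab1 : ∀ x y : T, x * y * x⁻¹ * y⁻¹ ∈ T1 := fun x y => hHT1 (hab x y)
      have hidx : p * T1.index = k := by
        have h1 : T1.index = (Subgroup.zpowers q).index :=
          Subgroup.index_comap_of_surjective _ (QuotientGroup.mk'_surjective H)
        have h2 := Subgroup.card_mul_index (Subgroup.zpowers q)
        rw [Nat.card_zpowers, hq, hcardQ] at h2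
        rw [h1]; exact h2
      have hidx0 : T1.index ≠ 0 := Subgroup.index_ne_zero_of_finite
      have hrel : H.relIndex T1 = p := by
        have h1 := Subgroup.relIndex_mul_index hHT1
        rw [hk, ← hidx] at h1
        exact Nat.eq_of_mul_eq_mul_right (Nat.pos_of_ne_zero hidx0) h1
      have hcardq : Nat.card (T1 ⧸ H.subgroupOf T1) = p := hrel
      haveI hcyc : IsCyclic (T1 ⧸ H.subgroupOf T1) := isCyclic_of_prime_card hcardq
      obtain ⟨σ₁, hσ₁, hσ₁ρ⟩ :=
        exists_rep_extension_cyclic_rel H T1 hH hHT1 hcyc ρ (fun t h _ => hinv t h)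
      haveI := hσ₁
      let κ : T1 →* ℂ := ((LinearMap.det : (V →ₗ[ℂ] V) →* ℂ).comp σ₁) ^ n
      have hκ : ∀ y, κ y = LinearMap.det (σ₁ y) ^ n := fun y => rfl
      have hκH : ∀ h : H, κ ⟨h, hHT1 h.2⟩ = 1 := by
        intro h
        rw [hκ, hσ₁ρ, hdet]
      have hqpow : ∀ y : T1, ((y : T1 ⧸ H.subgroupOf T1)) ^ p = 1 := by
        intro y
        rw [← hcardq]
        exact pow_card_eq_one'
      have hpow : ∀ y : T1, ((y : T) ^ p) ∈ H := by
        intro y
        have h1 := hqpow y
        rw [← QuotientGroup.mk_pow, QuotientGroup.eq_one_iff, Subgroup.mem_subgroupOf] at h1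
        simpa using h1
      have hκp : ∀ y : T1, κ y ^ p = 1 := by
        intro y
        rw [← map_pow]
        have h1 : y ^ p = ⟨(y : T) ^ p, hHT1 (hpow y)⟩ := Subtype.ext (by simp)
        rw [h1]
        exact hκH ⟨_, hpow y⟩
      have hcop_p : Nat.Coprime (n * Module.finrank ℂ V) p :=
        Nat.Coprime.coprime_dvd_right hpk hcop
      obtain ⟨a', ha'⟩ := exists_mul_add_one_dvd _ p hp.one_lt hcop_p
      let l : T1 →* ℂ := κ ^ a'
      have hl : ∀ y, l y = κ y ^ a' := fun y => rfl
      let σ₁' := twistRep l σ₁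
      haveI hσ₁' : σ₁'.IsIrreducible := twistRep_isIrreducible l σ₁
      have hlH : ∀ h : H, l ⟨h, hHT1 h.2⟩ = 1 := by
        intro h
        rw [hl, hκH, one_pow]
      have hσ₁'ρ : ∀ h : H, σ₁' ⟨h, hHT1 h.2⟩ = ρ h := by
        intro h
        rw [twistRep_apply, hlH, one_smul, hσ₁ρ]
      have hdet' : ∀ y : T1, LinearMap.det (σ₁' y) ^ n = 1 := by
        intro y
        rw [det_twistRep, mul_pow, ← hκ, hl, ← pow_mul, ← pow_mul, ← pow_succ]
        obtain ⟨c, hc⟩ := ha'
        have h1 : a' * (Module.finrank ℂ V * n) + 1 = p * c := by rw [← hc]; ring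
        rw [h1, pow_mul, hκp, one_pow]
      have hinv' : ∀ (t : T) (y : T1),
          σ₁'.character ⟨t * y * t⁻¹, hT1.conj_mem y y.2 t⟩ = σ₁'.character y := by
        intro t y
        haveI : Fintype T1 := Fintype.ofFinite T1
        haveI : Fintype (H.subgroupOf T1) := Fintype.ofFinite _
        haveI hN' : (H.subgroupOf T1).Normal := Subgroup.normal_subgroupOf
        letI : CommGroup (T1 ⧸ H.subgroupOf T1) := IsCyclic.commGroup
        let π : T1 →* T1 ⧸ H.subgroupOf T1 := QuotientGroup.mk' (H.subgroupOf T1)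
        let c : T1 →* T1 := (MulAut.conjNormal t : MulAut T1).toMonoidHom
        have hc : ∀ y : T1, c y = ⟨t * y * t⁻¹, hT1.conj_mem y y.2 t⟩ := fun y =>
          Subtype.ext (by simp [c, MulAut.conjNormal_apply])
        let τ : Representation ℂ T1 V := σ₁'.comp c
        haveI hτ : τ.IsIrreducible :=
          isIrreducible_comp_of_surjective σ₁' c (MulAut.conjNormal t : MulAut T1).surjective
        let χ : T1 → ℂ := σ₁'.character
        let χ' : T1 → ℂ := τ.character
        have hχ : IsIrrCharacter T1 χ := isIrrCharacter_of_rep σ₁'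
        have hχ' : IsIrrCharacter T1 χ' := isIrrCharacter_of_rep τ
        let iso : H.subgroupOf T1 ≃* H := Subgroup.subgroupOfEquivOfLe hHT1
        let θ' : H.subgroupOf T1 → ℂ := fun x => ρ.character (iso x)
        have hθ' : IsIrrCharacter (H.subgroupOf T1) θ' :=
          isIrrCharacter_comp_equiv iso (isIrrCharacter_of_rep ρ)
        have hres : (fun x : H.subgroupOf T1 => χ x) = θ' := by
          ext x
          show LinearMap.trace ℂ V (σ₁' (x : T1)) = LinearMap.trace ℂ V (ρ (iso x))
          rw [← hσ₁'ρ (iso x)]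
          rfl
        have hres' : (fun x : H.subgroupOf T1 => χ' x) = θ' := by
          ext x
          show LinearMap.trace ℂ V (σ₁' (c (x : T1))) = LinearMap.trace ℂ V (ρ (iso x))
          rw [hc]
          have hx : ((x : T1) : T) ∈ H := Subgroup.mem_subgroupOf.mp x.2
          have h1 := hσ₁'ρ ⟨t * ((x : T1) : T) * t⁻¹, hH.conj_mem _ hx t⟩
          have h2 : (⟨t * ((x : T1) : T) * t⁻¹, hT1.conj_mem _ (x : T1).2 t⟩ : T1) =
              ⟨_, hHT1 (hH.conj_mem _ hx t)⟩ := rfl
          rw [h2, h1]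
          exact hinv t (iso x)
        obtain ⟨μ, hμ⟩ := exists_linChar_mul_eq (H.subgroupOf T1) hN' π
          (QuotientGroup.mk'_surjective _) (fun g => QuotientGroup.eq_one_iff g) hχ hχ' hθ'
          hres hres'
        let l' : T1 →* ℂ :=
          { toFun := linChar π μ
            map_one' := linChar_one π μ
            map_mul' := linChar_mul π μ }
        haveI : (twistRep l' σ₁').IsIrreducible := twistRep_isIrreducible l' σ₁'
        have hchar : τ.character = (twistRep l' σ₁').character := by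
          ext z
          rw [twistRep_character]
          exact congrFun hμ z
        have hdeteq := det_eq_of_character_eq τ (twistRep l' σ₁') hchar
        have hl'1 : ∀ z : T1, l' z = 1 := by
          intro z
          have h1 := hdeteq z
          rw [det_twistRep] at h1
          have h2 : LinearMap.det (τ z) ^ n = 1 := hdet' (c z)
          have h3 := hdet' z
          have h4 : l' z ^ (Module.finrank ℂ V * n) = 1 := by
            have h5 := congrArg (· ^ n) h1
            simp only [mul_pow] at h5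
            rw [h2, h3, mul_one, ← pow_mul] at h5
            exact h5.symm
          have h5 : l' z ^ p = 1 := by
            rw [← map_pow]
            show linChar π μ (z ^ p) = 1
            apply linChar_ker
            rw [map_pow]
            exact hqpow z
          have h7 : Nat.Coprime (Module.finrank ℂ V * n) p := by
            rw [mul_comm]; exact hcop_p
          exact (pow_eq_one_iff_of_coprime h7).mp ⟨h4, h5⟩
        have h8 := congrFun hμ y
        rw [← hc]
        show χ' y = χ y
        rw [h8]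
        show l' y * χ y = χ y
        rw [hl'1, one_mul]
      have hlt : T1.index < k := by
        rw [← hidx]
        have := hp.two_le
        have h0 := Nat.pos_of_ne_zero hidx0
        nlinarith
      have hcop1 : Nat.Coprime (n * Module.finrank ℂ V) T1.index :=
        Nat.Coprime.coprime_dvd_right ⟨p, by rw [← hidx]; ring⟩ hcop
      obtain ⟨σ, hσ, hσσ₁⟩ := ih T1.index hlt T1 hT1 hab1 rfl hcop1 σ₁' hσ₁' hdet' hinv'
      refine ⟨σ, hσ, fun h => ?_⟩
      rw [← hσ₁'ρ h]
      exact hσσ₁ ⟨h, hHT1 h.2⟩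

end coprime
section coprimefinal
variable {T : Type u} [Group T] [Finite T]

/-- Extension of an invariant irreducible representation of a normal subgroup with abelian
quotient of coprime order. -/
theorem exists_rep_extension_coprime (H : Subgroup T) (hH : H.Normal)
    (hab : ∀ x y : T, x * y * x⁻¹ * y⁻¹ ∈ H) (hcop : Nat.Coprime (Nat.card H) H.index)
    {V : Type v} [AddCommGroup V] [Module ℂ V] [FiniteDimensional ℂ V]
    (ρ : Representation ℂ H V) [hρ : ρ.IsIrreducible]
    (hinv : ∀ (t : T) (h : H),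
      ρ.character ⟨t * h * t⁻¹, hH.conj_mem h h.2 t⟩ = ρ.character h) :
    ∃ σ : Representation ℂ T V, σ.IsIrreducible ∧ ∀ h : H, σ (h : T) = ρ h := by
  haveI : Fintype H := Fintype.ofFinite H
  have hdvd : Module.finrank ℂ V ∣ Nat.card H := Cfsg.Agent.Helper79.finrank_dvd_card ρ
  have hcop' : Nat.Coprime (Nat.card H * Module.finrank ℂ V) H.index :=
    Nat.Coprime.mul_left hcop (Nat.Coprime.coprime_dvd_left hdvd hcop)
  have hdet : ∀ h : H, LinearMap.det (ρ h) ^ Nat.card H = 1 := by
    intro h
    rw [← map_pow, ← map_pow, pow_card_eq_one', map_one, map_one]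
  exact exists_rep_extension_coprime_aux (Nat.card H) H.index H hH hab rfl hcop' ρ hρ hdet hinv

end coprimefinal

section abelinertia2
variable {G : Type u} [Group G] [Fintype G]

/-- Variant of `abelian_inertia` recording that `e = 1` as soon as `θ` extends to `T`. -/
theorem abelian_inertia' (H T : Subgroup G) [Fintype H] [Fintype T] (hN : H.Normal)
    {θ : H → ℂ} (hθ : IsIrrCharacter H θ)
    (hT : ∀ g : G, g ∈ T ↔ conjFun H hN θ g = θ)
    (hab : ∀ x ∈ T, ∀ y ∈ T, x * y * x⁻¹ * y⁻¹ ∈ H) :
    ∃ (e : ℕ) (C : Finset (G → ℂ)), 0 < e ∧ (∀ χ ∈ C, IsIrrCharacter G χ) ∧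
      e ^ 2 * C.card * Nat.card H = Nat.card T ∧ indFun H θ = (e : ℂ) • ∑ χ ∈ C, χ ∧
      (∀ χ ∈ C, χ 1 = (T.index : ℂ) * e * θ 1) ∧
      ((∃ ψ : T → ℂ, IsIrrCharacter T ψ ∧ ∀ (h : H) (hh : (h : G) ∈ T), ψ ⟨h, hh⟩ = θ h) →
        e = 1) := by
  classical
  have hθc := IsIrrCharacter.isCharacter hθ
  have hθcf := isClassFunction_of_isCharacter hθc
  have hHT : H ≤ T := by
    intro g hg
    rw [hT]
    ext n
    rw [conjFun_apply]
    exact hθcf n ⟨g, hg⟩
  haveI hN' : (H.subgroupOf T).Normal := Subgroup.normal_subgroupOf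
  haveI : Fintype (H.subgroupOf T) := Fintype.ofFinite _
  let θ' : H.subgroupOf T → ℂ := fun x => θ ⟨((x : T) : G), Subgroup.mem_subgroupOf.mp x.2⟩
  have hθ' : IsIrrCharacter (H.subgroupOf T) θ' :=
    isIrrCharacter_comp_equiv (Subgroup.subgroupOfEquivOfLe hHT) hθ
  have hinv' : ∀ t : T, conjFun (H.subgroupOf T) hN' θ' t = θ' := by
    intro t
    ext x
    rw [conjFun_apply]
    have h1 := (hT t).mp t.2
    have h2 := congrFun h1 ⟨((x : T) : G), Subgroup.mem_subgroupOf.mp x.2⟩
    rw [conjFun_apply] at h2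
    exact h2
  letI : CommGroup (T ⧸ H.subgroupOf T) :=
    { (inferInstance : Group (T ⧸ H.subgroupOf T)) with
      mul_comm := by
        intro a b
        induction a using QuotientGroup.induction_on with
        | H x =>
          induction b using QuotientGroup.induction_on with
          | H y =>
            rw [← QuotientGroup.mk_mul, ← QuotientGroup.mk_mul, QuotientGroup.eq]
            rw [Subgroup.mem_subgroupOf]
            have := hab _ (T.inv_mem y.2) _ (T.inv_mem x.2)
            simpa [mul_assoc] using this }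
  obtain ⟨e, CT, he0, hirr, hnorm, hdecomp, hres⟩ :=
    abelian_quotient_core (H.subgroupOf T) hN' (QuotientGroup.mk' (H.subgroupOf T))
      (QuotientGroup.mk'_surjective _) (fun g => QuotientGroup.eq_one_iff g) hθ' hinv'
  have hresTo : ∀ χ ∈ CT, resTo hHT χ = (e : ℂ) • θ := by
    intro χ hχ
    ext n
    have h1 := congrFun (hres χ hχ) ⟨⟨(n : G), hHT n.2⟩, Subgroup.mem_subgroupOf.mpr n.2⟩
    exact h1
  have hne : ∀ χ ∈ CT, classInner (resTo hHT χ) θ ≠ 0 := by
    intro χ hχ
    rw [hresTo χ hχ, classInner_smul_left, irr_orthonormal hθ hθ, if_pos rfl, mul_one]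
    exact_mod_cast he0.ne'
  have hinj : Set.InjOn (indFun T) (CT : Set (T → ℂ)) := by
    intro χ hχ χ' hχ' heq
    exact clifford_corr_inj H T hN hHT hθ hT (hirr χ hχ) (hirr χ' hχ') (hne χ hχ) (hne χ' hχ') heq
  refine ⟨e, CT.image (indFun T), he0, ?_, ?_, ?_, ?_, ?_⟩
  · intro χ hχ
    obtain ⟨ψ, hψ, rfl⟩ := Finset.mem_image.mp hχ
    exact (clifford_corr_irr H T hN hHT hθ hT (hirr ψ hψ) (hne ψ hψ)).1
  · rw [Finset.card_image_of_injOn hinj, hnorm]
    rw [← Nat.card_congr (Subgroup.subgroupOfEquivOfLe hHT).toEquiv]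
    exact Subgroup.index_mul_card _
  · rw [← indFun_trans H T hHT θ]
    change indFun T (indFun (H.subgroupOf T) θ') = _
    rw [hdecomp, indFun_smul, indFun_sum, Finset.sum_image hinj]
  · intro χ hχ
    obtain ⟨ψ, hψ, rfl⟩ := Finset.mem_image.mp hχ
    rw [indFun_one]
    have h1 := congrFun (hres ψ hψ) 1
    simp only [Pi.smul_apply, smul_eq_mul] at h1
    have h2 : ψ 1 = (e : ℂ) * θ 1 := h1
    rw [h2, mul_assoc]
  · rintro ⟨ψ, hψ, hψθ⟩
    have hψcf := isClassFunction_of_isCharacter (IsIrrCharacter.isCharacter hψ)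
    have hψres : (fun n : H.subgroupOf T => ψ n) = θ' := by
      ext x
      exact hψθ ⟨((x : T) : G), Subgroup.mem_subgroupOf.mp x.2⟩ (x : T).2
    have h1 : classInner (indFun (H.subgroupOf T) θ') ψ = 1 := by
      rw [frobenius_reciprocity _ θ' hψcf, hψres, irr_orthonormal hθ' hθ', if_pos rfl]
    rw [hdecomp, classInner_smul_left, classInner_sum_left] at h1
    by_cases hmem : ψ ∈ CT
    · rw [Finset.sum_eq_single ψ, irr_orthonormal hψ hψ, if_pos rfl, mul_one] at h1
      · exact_mod_cast h1
      · intro γ hγ hne'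
        rw [irr_orthonormal (hirr γ hγ) hψ, if_neg hne']
      · intro h; exact absurd hmem h
    · rw [Finset.sum_eq_zero, mul_zero] at h1
      · exact absurd h1 zero_ne_one
      · intro γ hγ
        rw [irr_orthonormal (hirr γ hγ) hψ, if_neg]
        rintro rfl
        exact hmem hγ

/-- Coprime abelian inertia quotient: `θ^G` is a multiplicity-free sum of `|T : H|` irreducible
characters. -/
theorem abelian_inertia_coprime (H T : Subgroup G) [Fintype H] [Fintype T] (hN : H.Normal)
    {θ : H → ℂ} (hθ : IsIrrCharacter H θ)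
    (hT : ∀ g : G, g ∈ T ↔ conjFun H hN θ g = θ)
    (hab : ∀ x ∈ T, ∀ y ∈ T, x * y * x⁻¹ * y⁻¹ ∈ H)
    (hcop : Nat.Coprime (Nat.card H) (H.relIndex T)) :
    ∃ C : Finset (G → ℂ), (∀ χ ∈ C, IsIrrCharacter G χ) ∧ C.card = H.relIndex T ∧
      indFun H θ = ∑ χ ∈ C, χ ∧ ∀ χ ∈ C, χ 1 = (T.index : ℂ) * θ 1 := by
  classical
  obtain ⟨e, C, he0, hirr, hcard, hdecomp, hdeg, hone⟩ := abelian_inertia' H T hN hθ hT hab
  have hθc := IsIrrCharacter.isCharacter hθ
  have hθcf := isClassFunction_of_isCharacter hθc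
  have hHT : H ≤ T := by
    intro g hg
    rw [hT]
    ext n
    rw [conjFun_apply]
    exact hθcf n ⟨g, hg⟩
  have he1 : e = 1 := by
    apply hone
    obtain ⟨k, ρ, hρ, rfl⟩ := hθ
    haveI hN' : (H.subgroupOf T).Normal := Subgroup.normal_subgroupOf
    let iso : H.subgroupOf T ≃* H := Subgroup.subgroupOfEquivOfLe hHT
    let ρ' : Representation ℂ (H.subgroupOf T) (Fin k → ℂ) := ρ.comp iso.toMonoidHom
    haveI hρ' : ρ'.IsIrreducible :=
      isIrreducible_comp_of_surjective ρ iso.toMonoidHom iso.surjective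
    have hab' : ∀ x y : T, x * y * x⁻¹ * y⁻¹ ∈ H.subgroupOf T := by
      intro x y
      rw [Subgroup.mem_subgroupOf]
      exact hab x x.2 y y.2
    have hcop' : Nat.Coprime (Nat.card (H.subgroupOf T)) (H.subgroupOf T).index := by
      rw [Nat.card_congr iso.toEquiv]
      exact hcop
    have hinv' : ∀ (t : T) (h : H.subgroupOf T),
        ρ'.character ⟨t * h * t⁻¹, hN'.conj_mem h h.2 t⟩ = ρ'.character h := by
      intro t h
      have h1 := (hT t).mp t.2
      have h2 := congrFun h1 (iso h)
      rw [conjFun_apply] at h2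
      exact h2
    obtain ⟨σ, hσ, hσρ⟩ := exists_rep_extension_coprime (H.subgroupOf T) hN' hab' hcop' ρ' hinv'
    refine ⟨σ.character, isIrrCharacter_of_rep σ, ?_⟩
    intro h hh
    have h3 := hσρ ⟨⟨h, hh⟩, Subgroup.mem_subgroupOf.mpr h.2⟩
    show LinearMap.trace ℂ _ (σ ⟨h, hh⟩) = LinearMap.trace ℂ _ (ρ h)
    rw [h3]
    rfl
  subst he1
  refine ⟨C, hirr, ?_, ?_, ?_⟩
  · have h1 := Subgroup.index_mul_card (H.subgroupOf T)
    rw [Nat.card_congr (Subgroup.subgroupOfEquivOfLe hHT).toEquiv] at h1
    have h2 : C.card * Nat.card H = H.relIndex T * Nat.card H := by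
      rw [Subgroup.relIndex, h1, ← hcard]; ring
    exact Nat.eq_of_mul_eq_mul_right Nat.card_pos h2
  · rw [hdecomp]; simp
  · intro χ hχ
    rw [hdeg χ hχ]; simp

end abelinertia2
end Cfsg.Agent.Helper81
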