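import Cfsg.Agent.Lib.Helper81.CharCorr

set_option autoImplicit false
set_option linter.style.haveILetI false
set_option linter.unusedSectionVars false

namespace Cfsg.Agent.Helper81

open Representation
open scoped ComplexConjugate

universe u v w

section trivchar
variable {G : Type u} [Group G]

theorem isIrreducible_of_finrank_eq_one {V : Type v} [AddCommGroup V] [Module ℂ V]
    [FiniteDimensional ℂ V] (ρ : Representation ℂ G V) (h : Module.finrank ℂ V = 1) :
    ρ.IsIrreducible := by
  haveI : Nontrivial V := (Module.finrank_pos_iff (R := ℂ)).mp (by rw [h]; exact Nat.one_pos)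
  refine { exists_pair_ne := ⟨⊥, ⊤, ?_⟩, eq_bot_or_eq_top := ?_ }
  · intro hbt
    obtain ⟨v, hv⟩ := exists_ne (0 : V)
    have : v ∈ (⊤ : Subrepresentation ρ) := trivial
    rw [← hbt] at this
    exact hv this
  · intro U
    have hle : Module.finrank ℂ U.toSubmodule ≤ 1 := h ▸ Submodule.finrank_le _
    rcases Nat.le_one_iff_eq_zero_or_eq_one.mp hle with h0 | h1
    · left
      apply Subrepresentation.toSubmodule_injective
      exact Submodule.finrank_eq_zero.mp h0
    · right
      apply Subrepresentation.toSubmodule_injective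
      exact Submodule.eq_top_of_finrank_eq (h1.trans h.symm)

/-- The principal character is irreducible. -/
theorem isIrrCharacter_one : IsIrrCharacter G (fun _ : G => (1 : ℂ)) := by
  have hirr : (1 : Representation ℂ G (Fin 1 → ℂ)).IsIrreducible :=
    isIrreducible_of_finrank_eq_one _ (by simp)
  refine ⟨1, 1, hirr, ?_⟩
  ext g
  simp [Representation.character]

end trivchar

section colorth
variable {G : Type u} [Group G] [Fintype G]

/-- Column orthogonality, non-conjugate case. -/
theorem col_orth_of_not_isConj [Fintype (IrrCharacter G)] {a b : G} (hab : ¬ IsConj b a) :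
    ∑ χ : IrrCharacter G, (χ : G → ℂ) a * conj ((χ : G → ℂ) b) = 0 := by
  classical
  let δ : G → ℂ := fun x => if IsConj b x then 1 else 0
  have hδ : IsClassFunction G δ := by
    intro g h
    simp only [δ]
    have : IsConj b (h * g * h⁻¹) ↔ IsConj b g := by
      constructor
      · intro h1
        exact h1.trans (isConj_iff.mpr ⟨h⁻¹, by group⟩)
      · intro h1
        exact h1.trans (isConj_iff.mpr ⟨h, rfl⟩)
    simp only [this]
  have hexp := congrFun (class_function_expansion hδ) a
  rw [show δ a = 0 from if_neg hab] at hexp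
  simp only [Finset.sum_apply, Pi.smul_apply, smul_eq_mul] at hexp
  -- compute the coefficients
  have hcoef : ∀ χ : IrrCharacter G, classInner δ (χ : G → ℂ) =
      (Nat.card G : ℂ)⁻¹ * ((Finset.univ.filter (fun x : G => IsConj b x)).card : ℂ) *
        conj ((χ : G → ℂ) b) := by
    intro χ
    unfold classInner
    rw [mul_assoc]
    congr 1
    have hχc := isClassFunction_of_isCharacter (IsIrrCharacter.isCharacter χ.2)
    have : ∀ x : G, δ x * conj ((χ : G → ℂ) x) =
        if IsConj b x then conj ((χ : G → ℂ) b) else 0 := by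
      intro x
      simp only [δ]
      by_cases hx : IsConj b x
      · rw [if_pos hx, if_pos hx, one_mul]
        obtain ⟨c, hc⟩ := isConj_iff.mp hx
        rw [← hc, hχc b c]
      · rw [if_neg hx, if_neg hx, zero_mul]
    simp only [this]
    rw [← Finset.sum_filter, Finset.sum_const, nsmul_eq_mul]
  simp only [hcoef] at hexp
  have hcard : (Nat.card G : ℂ) ≠ 0 := by exact_mod_cast (Nat.card_pos (α := G)).ne'
  have hpos : ((Finset.univ.filter (fun x : G => IsConj b x)).card : ℂ) ≠ 0 := by
    have : 0 < (Finset.univ.filter (fun x : G => IsConj b x)).card :=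
      Finset.card_pos.mpr ⟨b, Finset.mem_filter.mpr ⟨Finset.mem_univ _, IsConj.refl b⟩⟩
    exact_mod_cast this.ne'
  have h2 : (Nat.card G : ℂ)⁻¹ * ((Finset.univ.filter (fun x : G => IsConj b x)).card : ℂ) *
      ∑ χ : IrrCharacter G, (χ : G → ℂ) a * conj ((χ : G → ℂ) b) = 0 := by
    rw [hexp, Finset.mul_sum]
    apply Finset.sum_congr rfl
    intro χ _
    ring
  rcases mul_eq_zero.mp h2 with h | h
  · exfalso
    rcases mul_eq_zero.mp h with h' | h'
    · exact hcard (inv_eq_zero.mp h')
    · exact hpos h'
  · exact h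

/-- Sum of squares of degrees (as `χ 1 * conj (χ 1)`). -/
theorem sum_one_mul_conj_one [Fintype (IrrCharacter G)] :
    ∑ χ : IrrCharacter G, (χ : G → ℂ) 1 * conj ((χ : G → ℂ) 1) = (Nat.card G : ℂ) := by
  classical
  let δ : G → ℂ := fun x => if x = 1 then 1 else 0
  have hδ : IsClassFunction G δ := by
    intro g h
    simp only [δ]
    have : h * g * h⁻¹ = 1 ↔ g = 1 := by
      constructor
      · intro h1
        have : g = h⁻¹ * (h * g * h⁻¹) * h := by group
        rw [this, h1]; group
      · intro h1; rw [h1]; group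
    simp only [this]
  have hexp := congrFun (class_function_expansion hδ) 1
  rw [show δ 1 = 1 from if_pos rfl] at hexp
  simp only [Finset.sum_apply, Pi.smul_apply, smul_eq_mul] at hexp
  have hcoef : ∀ χ : IrrCharacter G, classInner δ (χ : G → ℂ) =
      (Nat.card G : ℂ)⁻¹ * conj ((χ : G → ℂ) 1) := by
    intro χ
    unfold classInner
    congr 1
    rw [Finset.sum_eq_single 1]
    · simp [δ]
    · intro x _ hx; simp [δ, hx]
    · intro h; exact absurd (Finset.mem_univ _) h
  simp only [hcoef] at hexp
  have hcard : (Nat.card G : ℂ) ≠ 0 := by exact_mod_cast (Nat.card_pos (α := G)).ne'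
  have h2 : (1 : ℂ) = (Nat.card G : ℂ)⁻¹ *
      ∑ χ : IrrCharacter G, (χ : G → ℂ) 1 * conj ((χ : G → ℂ) 1) := by
    rw [hexp, Finset.mul_sum]
    apply Finset.sum_congr rfl
    intro χ _
    ring
  field_simp at h2
  exact h2.symm

end colorth

section frob
variable {G : Type u} [Group G] [Fintype G]

theorem conjFun_one_apply (N : Subgroup G) (hN : N.Normal) (θ : N → ℂ) (g : G) :
    conjFun N hN θ g 1 = θ 1 := by
  rw [conjFun_apply]
  congr 1
  apply Subtype.ext
  simp

/-- If centralizers of nonidentity elements of the normal subgroup `N` lie in `N`, then an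
element outside `N` fixes exactly one irreducible character of `N`. -/
theorem sum_fixed_eq_one (N : Subgroup G) [Fintype N] (hN : N.Normal)
    (hC : ∀ n ∈ N, n ≠ 1 → Subgroup.centralizer ({n} : Set G) ≤ N) {g : G} (hg : g ∉ N)
    [Fintype (IrrCharacter N)] :
    ∑ ψ : IrrCharacter N, classInner (conjFun N hN (ψ : N → ℂ) g) (ψ : N → ℂ) = 1 := by
  classical
  unfold classInner
  rw [← Finset.mul_sum, Finset.sum_comm]
  have hterm : ∀ n : N, ∑ ψ : IrrCharacter N,
      conjFun N hN (ψ : N → ℂ) g n * conj ((ψ : N → ℂ) n) =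
      if n = 1 then (Nat.card N : ℂ) else 0 := by
    intro n
    by_cases hn : n = 1
    · subst hn
      rw [if_pos rfl]
      simp only [conjFun_one_apply]
      exact sum_one_mul_conj_one
    · rw [if_neg hn]
      simp only [conjFun_apply]
      apply col_orth_of_not_isConj
      intro hconj
      obtain ⟨c, hc⟩ := isConj_iff.mp hconj
      have hc' : (c : G) * n * (c : G)⁻¹ = g * n * g⁻¹ := by
        have := congrArg Subtype.val hc
        simpa using this
      have hn' : (n : G) ≠ 1 := fun h => hn (Subtype.ext h)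
      have hmem : g⁻¹ * c ∈ Subgroup.centralizer ({(n : G)} : Set G) := by
        rw [Subgroup.mem_centralizer_iff]
        intro h hh
        rw [Set.mem_singleton_iff] at hh
        subst hh
        have : g⁻¹ * ((c : G) * n * (c : G)⁻¹) * g = n := by rw [hc']; group
        calc (n : G) * (g⁻¹ * c) = (g⁻¹ * ((c : G) * n * (c : G)⁻¹) * g) * (g⁻¹ * c) := by rw [this]
          _ = g⁻¹ * c * n := by group
      have h2 := hC n n.2 hn' hmem
      have h3 : g⁻¹ ∈ N := by
        have := N.mul_mem h2 (N.inv_mem c.2)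
        simpa [mul_assoc] using this
      exact hg (by simpa using N.inv_mem h3)
  simp only [hterm]
  rw [Finset.sum_ite_eq' Finset.univ (1 : N)]
  simp only [Finset.mem_univ, if_true]
  have hcard : (Nat.card N : ℂ) ≠ 0 := by exact_mod_cast (Nat.card_pos (α := N)).ne'
  field_simp

theorem conjFun_ne_of_centralizer (N : Subgroup G) [Fintype N] (hN : N.Normal)
    (hC : ∀ n ∈ N, n ≠ 1 → Subgroup.centralizer ({n} : Set G) ≤ N) {g : G} (hg : g ∉ N)
    {φ : N → ℂ} (hφ : IsIrrCharacter N φ) (hφ1 : φ ≠ fun _ => 1) :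
    conjFun N hN φ g ≠ φ := by
  classical
  haveI : Fintype (IrrCharacter N) := @Fintype.ofFinite _ irr_finite
  intro hfix
  have hsum := sum_fixed_eq_one N hN hC hg
  have hF : ∀ ψ : IrrCharacter N, classInner (conjFun N hN (ψ : N → ℂ) g) (ψ : N → ℂ) =
      if conjFun N hN (ψ : N → ℂ) g = (ψ : N → ℂ) then 1 else 0 :=
    fun ψ => irr_orthonormal (conjFun_isIrrCharacter N hN ψ.2 g) ψ.2
  simp only [hF] at hsum
  rw [Finset.sum_boole] at hsum
  have hcard : (Finset.univ.filter
      (fun ψ : IrrCharacter N => conjFun N hN (ψ : N → ℂ) g = (ψ : N → ℂ))).card = 1 := by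
    exact_mod_cast hsum
  have h1 : (⟨fun _ => 1, isIrrCharacter_one⟩ : IrrCharacter N) ∈ Finset.univ.filter
      (fun ψ : IrrCharacter N => conjFun N hN (ψ : N → ℂ) g = (ψ : N → ℂ)) := by
    simp only [Finset.mem_filter, Finset.mem_univ, true_and]
    rfl
  have h2 : (⟨φ, hφ⟩ : IrrCharacter N) ∈ Finset.univ.filter
      (fun ψ : IrrCharacter N => conjFun N hN (ψ : N → ℂ) g = (ψ : N → ℂ)) := by
    simp only [Finset.mem_filter, Finset.mem_univ, true_and]
    exact hfix
  have h3 : (⟨φ, hφ⟩ : IrrCharacter N) ≠ ⟨fun _ => 1, isIrrCharacter_one⟩ := by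
    intro h
    exact hφ1 (congrArg Subtype.val h)
  have := Finset.one_lt_card.mpr ⟨_, h2, _, h1, h3⟩
  omega

end frob
end Cfsg.Agent.Helper81
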