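import Cfsg.Agent.Lib.Helper81.CharDet
set_option autoImplicit false
set_option linter.style.haveILetI false
set_option linter.unusedSectionVars false
namespace Cfsg.Agent.Helper81
open Representation
open scoped ComplexConjugate
universe u v w

section solvtools

/-- A nontrivial finite solvable group maps onto a nontrivial cyclic group. -/
theorem exists_surj_cyclic (Q : Type u) [Group Q] [Finite Q] [Nontrivial Q]
    [hQ : Group.IsSolvable Q] :
    ∃ (n : ℕ) (_ : 1 < n) (f : Q →* Multiplicative (ZMod n)), Function.Surjective f := by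
  classical
  have hlt := Group.IsSolvable.commutator_lt_top_of_nontrivial Q
  obtain ⟨x, -, hx⟩ := SetLike.exists_of_lt hlt
  haveI : Nontrivial (Abelianization Q) := by
    refine ⟨⟨Abelianization.of x, 1, ?_⟩⟩
    intro h
    apply hx
    exact (QuotientGroup.eq_one_iff x).mp h
  obtain ⟨ι, _, n, hn, ⟨e⟩⟩ := CommGroup.equiv_prod_multiplicative_zmod_of_finite (Abelianization Q)
  have hι : Nonempty ι := by
    by_contra hne
    rw [not_nonempty_iff] at hne
    have : Subsingleton (Abelianization Q) := e.toEquiv.subsingleton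
    exact not_subsingleton _ this
  obtain ⟨i⟩ := hι
  refine ⟨n i, hn i, (Pi.evalMonoidHom (fun j => Multiplicative (ZMod (n j))) i).comp
    (e.toMonoidHom.comp Abelianization.of), ?_⟩
  intro y
  obtain ⟨z, hz⟩ : ∃ z : (j : ι) → Multiplicative (ZMod (n j)), z i = y :=
    ⟨Function.update (fun _ => 1) i y, by simp⟩
  obtain ⟨w, hw⟩ := e.surjective z
  obtain ⟨q, hq⟩ := QuotientGroup.mk_surjective w
  refine ⟨q, ?_⟩
  show (e (Abelianization.of q)) i = y
  have : Abelianization.of q = w := hq
  rw [this, hw, ← hz]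

theorem isSolvable_quotient_subgroupOf {G : Type u} [Group G] (N M : Subgroup G) [N.Normal]
    (h : Group.IsSolvable (G ⧸ N)) : Group.IsSolvable (M ⧸ N.subgroupOf M) := by
  let φ : M ⧸ N.subgroupOf M →* G ⧸ N :=
    QuotientGroup.map (N.subgroupOf M) N M.subtype (fun x hx => hx)
  have hinj : Function.Injective φ := by
    rw [injective_iff_map_eq_one]
    intro q
    induction q using QuotientGroup.induction_on with
    | H m =>
      intro hq
      have hq' : ((M.subtype m : G) : G ⧸ N) = 1 := hq
      rw [QuotientGroup.eq_one_iff] at hq'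
      exact (QuotientGroup.eq_one_iff _).mpr hq'
  exact Group.isSolvable_of_isSolvable_injective hinj

end solvtools

section detcomp

theorem detChar_comp_hom {K : Type u} {K' : Type v} [Group K] [Finite K] [Group K'] [Finite K']
    (e : K' →* K) (he : Function.Surjective e) {θ : K → ℂ} (hθ : IsIrrCharacter K θ) (x : K') :
    detChar (fun y => θ (e y)) x = detChar θ (e x) := by
  obtain ⟨k, ρ, hρ, rfl⟩ := hθ
  haveI := hρ
  let ρ' : Representation ℂ K' (Fin k → ℂ) := ρ.comp e
  haveI : ρ'.IsIrreducible := isIrreducible_comp_of_surjective ρ e he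
  have h1 : (fun y => ρ.character (e y)) = ρ'.character := rfl
  rw [h1, detChar_eq_det, detChar_eq_det]
  rfl

end detcomp
section main863

theorem exists_extension_of_det_aux : ∀ (c : ℕ) (G : Type u) [Group G] [Finite G],
    Nat.card G = c →
    ∀ (N : Subgroup G) [hN : N.Normal], Group.IsSolvable (G ⧸ N) →
    ∀ (ϑ : N → ℂ), IsIrrCharacter N ϑ →
    (∀ (g : G) (n : N), ϑ ⟨g * n * g⁻¹, hN.conj_mem n n.2 g⟩ = ϑ n) →
    ∀ (d : ℕ), ϑ 1 = d → Nat.Coprime N.index d →
    ∀ (μ : G → ℂ), IsCharacter G μ → μ 1 = 1 → (∀ n : N, μ n = detChar ϑ n) →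
    ∃ χ : G → ℂ, IsIrrCharacter G χ ∧ ∀ n : N, χ n = ϑ n := by
  intro c
  induction c using Nat.strong_induction_on with
  | _ c ih =>
    intro G _ _ hc N hN hsolv ϑ hϑ hinv d hd hcop μ hμ hμ1 hμN
    classical
    by_cases hNtop : N = ⊤
    · subst hNtop
      let e : G ≃* (⊤ : Subgroup G) := Subgroup.topEquiv.symm
      refine ⟨fun g => ϑ (e g), isIrrCharacter_comp_equiv e hϑ, ?_⟩
      intro n
      congr 1
    · haveI : Nontrivial (G ⧸ N) := by
        have hx : ∃ x : G, x ∉ N := by
          by_contra hcon
          push Not at hcon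
          exact hNtop ((Subgroup.eq_top_iff' N).mpr hcon)
        obtain ⟨x, hx⟩ := hx
        refine ⟨⟨(x : G ⧸ N), 1, ?_⟩⟩
        intro h
        exact hx ((QuotientGroup.eq_one_iff x).mp h)
      haveI := hsolv
      obtain ⟨m, hm, f, hf⟩ := exists_surj_cyclic (G ⧸ N)
      let F : G →* Multiplicative (ZMod m) := f.comp (QuotientGroup.mk' N)
      have hF : Function.Surjective F := hf.comp (QuotientGroup.mk'_surjective N)
      let M : Subgroup G := F.ker
      have hM : M.Normal := inferInstance
      have hNM : N ≤ M := by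
        intro n hn
        rw [MonoidHom.mem_ker]
        show f (QuotientGroup.mk' N n) = 1
        rw [QuotientGroup.mk'_apply, (QuotientGroup.eq_one_iff n).mpr hn, map_one]
      haveI : NeZero m := ⟨by omega⟩
      have hcyc : IsCyclic (G ⧸ M) := by
        have e := QuotientGroup.quotientKerEquivOfSurjective F hF
        exact isCyclic_of_surjective e.symm e.symm.surjective
      have hidx : M.index = m := by
        rw [Subgroup.index_ker, MonoidHom.range_eq_top.mpr hF,
          Nat.card_congr Subgroup.topEquiv.toEquiv]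
        simp
      have hcardM : Nat.card M < c := by
        have h1 := Subgroup.index_mul_card M
        rw [hidx, hc] at h1
        have h2 : 0 < Nat.card M := Nat.card_pos
        nlinarith
      haveI hN' : (N.subgroupOf M).Normal := Subgroup.normal_subgroupOf
      let iso : N.subgroupOf M ≃* N := Subgroup.subgroupOfEquivOfLe hNM
      let ϑ' : N.subgroupOf M → ℂ := fun x => ϑ (iso x)
      have hϑ' : IsIrrCharacter (N.subgroupOf M) ϑ' := isIrrCharacter_comp_equiv iso hϑ
      have hinv' : ∀ (g : M) (n : N.subgroupOf M),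
          ϑ' ⟨g * n * g⁻¹, hN'.conj_mem n n.2 g⟩ = ϑ' n := by
        intro g n
        exact hinv (g : G) (iso n)
      have hd' : ϑ' 1 = d := by
        show ϑ (iso 1) = d
        rw [map_one]; exact hd
      have hcop' : Nat.Coprime (N.subgroupOf M).index d := by
        apply Nat.Coprime.coprime_dvd_left _ hcop
        exact Dvd.intro _ (Subgroup.relIndex_mul_index hNM)
      let μ' : M → ℂ := fun x => μ x
      have hμ' : IsCharacter M μ' := isCharacter_restrict M hμ
      have hμ'1 : μ' 1 = 1 := hμ1
      have hμ'N : ∀ n : N.subgroupOf M, μ' n = detChar ϑ' n := by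
        intro n
        have h1 := detChar_comp_hom iso.toMonoidHom iso.surjective hϑ n
        show μ' n = detChar ϑ' n
        rw [show detChar ϑ' n = detChar ϑ (iso n) from h1]
        exact hμN (iso n)
      obtain ⟨ψ₀, hψ₀, hψ₀res⟩ := ih (Nat.card M) hcardM M rfl (N.subgroupOf M)
        (isSolvable_quotient_subgroupOf N M hsolv) ϑ' hϑ' hinv' d hd' hcop' μ' hμ' hμ'1 hμ'N
      obtain ⟨ψ, hψ, hψres, hψdet⟩ := exists_extension_with_detChar (N.subgroupOf M) hN' hϑ' d hd'
        hcop' hψ₀ hψ₀res hμ' hμ'1 hμ'N
      have hψinv : ∀ (g : G) (x : M), ψ ⟨g * x * g⁻¹, hM.conj_mem x x.2 g⟩ = ψ x := by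
        intro g x
        let cg : M ≃* M := MulAut.conjNormal g
        have hcg : ∀ y : M, cg y = ⟨g * y * g⁻¹, hM.conj_mem y y.2 g⟩ := fun y =>
          Subtype.ext (by simp [cg, MulAut.conjNormal_apply])
        let ψg : M → ℂ := fun y => ψ (cg y)
        have hψg : IsIrrCharacter M ψg := isIrrCharacter_comp_equiv cg hψ
        have hψgres : ∀ n : N.subgroupOf M, ψg n = ϑ' n := by
          intro n
          show ψ (cg (n : M)) = ϑ' n
          have hmem : cg (n : M) ∈ N.subgroupOf M := by
            rw [hcg, Subgroup.mem_subgroupOf]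
            exact hN.conj_mem _ (Subgroup.mem_subgroupOf.mp n.2) g
          have h1 := hψres ⟨cg (n : M), hmem⟩
          rw [h1]
          show ϑ (iso ⟨cg (n : M), hmem⟩) = ϑ (iso n)
          have h2 := hinv g (iso n)
          rw [← h2]
          congr 1
        have hdetg : detChar ψg = detChar ψ := by
          ext y
          have h1 := detChar_comp_hom cg.toMonoidHom cg.surjective hψ y
          rw [show detChar ψg y = detChar ψ (cg y) from h1, hψdet]
          show μ (cg y : M) = μ y
          rw [hcg]
          exact (isClassFunction_of_isCharacter hμ) y g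
        have h3 := extension_unique_of_detChar (N.subgroupOf M) hN' hϑ' d hd' hcop' hψ hψg
          hψres hψgres hdetg
        have h4 := congrFun h3 x
        rw [← hcg]
        exact h4
      obtain ⟨k, τ, hτ, rfl⟩ := hψ
      haveI := hτ
      obtain ⟨σ, hσ, hστ⟩ := exists_rep_extension_cyclic M hM hcyc τ hψinv
      refine ⟨σ.character, isIrrCharacter_of_rep σ, ?_⟩
      intro n
      have h4 := hστ ⟨n, hNM n.2⟩
      show LinearMap.trace ℂ _ (σ (n : G)) = ϑ n
      rw [show σ (n : G) = τ ⟨n, hNM n.2⟩ from h4]
      have h5 := hψres ⟨⟨n, hNM n.2⟩, Subgroup.mem_subgroupOf.mpr n.2⟩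
      exact h5

end main863
end Cfsg.Agent.Helper81
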