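import Cfsg.Agent.Lib.Helper81.CharClifford

set_option autoImplicit false
set_option linter.style.haveILetI false
set_option linter.unusedSectionVars false

namespace Cfsg.Agent.Helper81

open Representation
open scoped ComplexConjugate

universe u v w

section constituents
variable {G : Type u} [Group G] [Fintype G]

theorem exists_add_of_classInner_ne_zero_aux [Fintype (IrrCharacter G)] {α : G → ℂ}
    (m : IrrCharacter G → ℕ) (hm : α = ∑ χ, (m χ : ℂ) • (χ : G → ℂ)) (b : IrrCharacter G)
    (hm0 : m b ≠ 0) :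
    ∃ α' : G → ℂ, IsCharacter G α' ∧ α = (b : G → ℂ) + α' := by
  classical
  refine ⟨∑ χ : IrrCharacter G, ((m χ - if χ = b then 1 else 0 : ℕ) : ℂ) • (χ : G → ℂ), ?_, ?_⟩
  · apply isCharacter_sum
    intro χ _
    rw [Nat.cast_smul_eq_nsmul]
    exact isCharacter_nsmul _ (IsIrrCharacter.isCharacter χ.2)
  · have h2 : (b : G → ℂ) = ∑ χ : IrrCharacter G, ((if χ = b then 1 else 0 : ℕ) : ℂ) • (χ : G → ℂ) := by
      rw [Finset.sum_eq_single b]
      · simp
      · intro c _ hc; simp [hc]
      · intro h; exact absurd (Finset.mem_univ _) h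
    conv_lhs => rw [hm]
    conv_rhs => rw [h2]
    rw [← Finset.sum_add_distrib]
    apply Finset.sum_congr rfl
    intro χ _
    rw [← add_smul]
    congr 1
    by_cases hχ : χ = b
    · subst hχ
      simp only [if_true]
      have : 1 ≤ m χ := Nat.one_le_iff_ne_zero.mpr hm0
      push_cast [Nat.cast_sub this]
      ring
    · simp [hχ]

/-- If an irreducible character occurs in a character, it can be split off. -/
theorem exists_add_of_classInner_ne_zero {α β : G → ℂ} (hα : IsCharacter G α)
    (hβ : IsIrrCharacter G β) (h : classInner α β ≠ 0) :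
    ∃ α' : G → ℂ, IsCharacter G α' ∧ α = β + α' := by
  classical
  haveI : Fintype (IrrCharacter G) := @Fintype.ofFinite _ irr_finite
  obtain ⟨m, hm⟩ := exists_nat_decomp hα
  have h1 : classInner α β = (m ⟨β, hβ⟩ : ℂ) := by
    conv_lhs => rw [hm]
    exact classInner_nat_decomp (fun χ' => (m χ' : ℂ)) ⟨β, hβ⟩
  have hm0 : m ⟨β, hβ⟩ ≠ 0 := by
    intro h0; rw [h1, h0] at h; exact h (by simp)
  exact exists_add_of_classInner_ne_zero_aux m hm ⟨β, hβ⟩ hm0

/-- A nonzero character has an irreducible constituent. -/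
theorem exists_irr_constituent {α : G → ℂ} (hα : IsCharacter G α) (h0 : α ≠ 0) :
    ∃ β : G → ℂ, IsIrrCharacter G β ∧ classInner α β ≠ 0 := by
  classical
  haveI : Fintype (IrrCharacter G) := @Fintype.ofFinite _ irr_finite
  obtain ⟨m, hm⟩ := exists_nat_decomp hα
  by_contra hcon
  push Not at hcon
  apply h0
  rw [hm]
  apply Finset.sum_eq_zero
  intro χ _
  have h1 : classInner α (χ : G → ℂ) = (m χ : ℂ) := by
    conv_lhs => rw [hm]
    exact classInner_nat_decomp (fun χ' => (m χ' : ℂ)) χ
  rw [← h1, hcon χ χ.2, zero_smul]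

end constituents

section transportiso

theorem classInner_comp_equiv {K : Type u} {K' : Type v} [Group K] [Group K'] [Fintype K]
    [Fintype K'] (e : K' ≃* K) (a b : K → ℂ) :
    classInner (fun x => a (e x)) (fun x => b (e x)) = classInner a b := by
  unfold classInner
  rw [Nat.card_congr e.toEquiv]
  congr 1
  exact Equiv.sum_comp e.toEquiv (fun y => a y * conj (b y))

theorem isIrrCharacter_comp_equiv {K : Type u} {K' : Type v} [Group K] [Group K']
    (e : K' ≃* K) {θ : K → ℂ} (hθ : IsIrrCharacter K θ) :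
    IsIrrCharacter K' (fun x => θ (e x)) := by
  obtain ⟨k, ρ, hρ, rfl⟩ := hθ
  have := isIrreducible_comp_of_surjective ρ e.toMonoidHom e.surjective
  exact ⟨k, ρ.comp e.toMonoidHom, this, rfl⟩

theorem isCharacter_comp_hom {K : Type u} {K' : Type v} [Group K] [Group K']
    (e : K' →* K) {θ : K → ℂ} (hθ : IsCharacter K θ) :
    IsCharacter K' (fun x => θ (e x)) := by
  obtain ⟨k, ρ, rfl⟩ := hθ
  exact ⟨k, ρ.comp e, rfl⟩

end transportiso

section relclifford
variable {G : Type u} [Group G] [Fintype G]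

/-- Restriction of a function on `T` to a subgroup `H ≤ T`. -/
def resTo {H T : Subgroup G} (hHT : H ≤ T) (ψ : T → ℂ) : H → ℂ :=
  fun n => ψ ⟨(n : G), hHT n.2⟩

/-- Clifford for the inertia group: an irreducible character of `T` lying over the
`T`-invariant `θ` has no other irreducible constituents on `H`. -/
theorem clifford_inertia (H T : Subgroup G) [Fintype H] [Fintype T] (hN : H.Normal) (hHT : H ≤ T)
    {θ : H → ℂ} (hθ : IsIrrCharacter H θ)
    (hT : ∀ t ∈ T, conjFun H hN θ t = θ)
    {ψ : T → ℂ} (hψ : IsIrrCharacter T ψ) (hne : classInner (resTo hHT ψ) θ ≠ 0)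
    {φ : H → ℂ} (hφ : IsIrrCharacter H φ) (hφθ : φ ≠ θ) :
    classInner (resTo hHT ψ) φ = 0 := by
  classical
  let H' : Subgroup T := H.subgroupOf T
  haveI hN' : H'.Normal := hN.subgroupOf T
  haveI : Fintype H' := Fintype.ofFinite H'
  let ι : H' ≃* H := Subgroup.subgroupOfEquivOfLe hHT
  have e1 : ∀ a : H → ℂ, classInner (fun n' : H' => ψ n') (fun x => a (ι x)) =
      classInner (resTo hHT ψ) a := by
    intro a
    exact classInner_comp_equiv ι (resTo hHT ψ) a
  rw [← e1 φ]
  apply clifford_not_conj H' hN' hψ (isIrrCharacter_comp_equiv ι hθ) (isIrrCharacter_comp_equiv ι hφ)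
  · rw [e1 θ]; exact hne
  · rintro ⟨t, ht⟩
    apply hφθ
    have h2 : conjFun H' hN' (fun x => θ (ι x)) t = fun x => θ (ι x) := by
      ext x
      have := congrFun (hT t t.2) (ι x)
      simp only [conjFun_apply] at this ⊢
      convert this using 2
      apply Subtype.ext
      rfl
    rw [h2] at ht
    ext n
    have := congrFun ht (ι.symm n)
    simpa using this

end relclifford

section step23
variable {G : Type u} [Group G] [Fintype G]

theorem indFun_restrict_of_le (H T : Subgroup G) (hN : H.Normal) (hHT : H ≤ T) (ψ : T → ℂ) :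
    (fun n : H => indFun T ψ (n : G)) =
      (Nat.card T : ℂ)⁻¹ • ∑ x : G, conjFun H hN (resTo hHT ψ) x := by
  ext n
  rw [indFun_apply]
  simp only [Pi.smul_apply, Finset.sum_apply, smul_eq_mul]
  congr 1
  rw [← Equiv.sum_comp (Equiv.inv G)]
  apply Finset.sum_congr rfl
  intro x _
  simp only [Equiv.inv_apply, inv_inv, conjFun_apply, resTo]
  exact extendByZero_apply_mem T ψ (hHT (hN.conj_mem n n.2 x))

theorem classInner_conjFun_left (H : Subgroup G) [Fintype H] (hN : H.Normal) (a b : H → ℂ)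
    (x : G) : classInner (conjFun H hN a x) b = classInner a (conjFun H hN b x⁻¹) := by
  haveI := hN
  unfold classInner
  congr 1
  rw [← Equiv.sum_comp (MulAut.conjNormal x : H ≃* H).toEquiv
    (fun m : H => a m * conj (conjFun H hN b x⁻¹ m))]
  apply Finset.sum_congr rfl
  intro n _
  have h1 : ((MulAut.conjNormal x : H ≃* H).toEquiv n : H) = ⟨x * n * x⁻¹, hN.conj_mem n n.2 x⟩ := by
    apply Subtype.ext
    exact MulAut.conjNormal_apply x n
  rw [h1]
  simp only [conjFun_apply]
  congr 3
  apply Subtype.ext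
  simp only
  group

theorem classInner_indFun_restrict (H T : Subgroup G) [Fintype H] [Fintype T] (hN : H.Normal)
    (hHT : H ≤ T) {θ : H → ℂ} (hθ : IsIrrCharacter H θ)
    (hT : ∀ g : G, g ∈ T ↔ conjFun H hN θ g = θ)
    {ψ : T → ℂ} (hψ : IsIrrCharacter T ψ) (hne : classInner (resTo hHT ψ) θ ≠ 0) :
    classInner (fun n : H => indFun T ψ (n : G)) θ = classInner (resTo hHT ψ) θ := by
  classical
  rw [indFun_restrict_of_le H T hN hHT ψ, classInner_smul_left, classInner_sum_left]
  have h1 : ∀ x : G, classInner (conjFun H hN (resTo hHT ψ) x) θ =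
      if x ∈ T then classInner (resTo hHT ψ) θ else 0 := by
    intro x
    rw [classInner_conjFun_left]
    by_cases hx : x ∈ T
    · rw [if_pos hx, (hT x⁻¹).mp (T.inv_mem hx)]
    · rw [if_neg hx]
      apply clifford_inertia H T hN hHT hθ (fun t ht => (hT t).mp ht) hψ hne
        (conjFun_isIrrCharacter H hN hθ x⁻¹)
      intro h
      exact hx (by simpa using T.inv_mem ((hT x⁻¹).mpr h))
  simp only [h1]
  rw [Finset.sum_ite, Finset.sum_const_zero, add_zero, Finset.sum_const, nsmul_eq_mul]
  have h2 : (Finset.univ.filter (fun x : G => x ∈ T)).card = Nat.card T := by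
    rw [Nat.card_eq_fintype_card, Fintype.card_subtype]
  rw [h2]
  have hT0 : (Nat.card T : ℂ) ≠ 0 := by exact_mod_cast (Nat.card_pos (α := T)).ne'
  field_simp

end step23

section cc1
variable {G : Type u} [Group G] [Fintype G]

theorem isCharacter_resTo {H T : Subgroup G} (hHT : H ≤ T) {ψ : T → ℂ} (hψ : IsCharacter T ψ) :
    IsCharacter H (resTo hHT ψ) :=
  isCharacter_comp_hom (Subgroup.inclusion hHT) hψ

theorem resTo_add {H T : Subgroup G} (hHT : H ≤ T) (a b : T → ℂ) :
    resTo hHT (a + b) = resTo hHT a + resTo hHT b := rfl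

theorem resTo_restrict {H T : Subgroup G} (hHT : H ≤ T) (χ : G → ℂ) :
    resTo hHT (fun t : T => χ t) = fun n : H => χ n := rfl

/-- Key claim: an irreducible constituent of `Ind ψ` restricted to `H` contains `θ` at least as
often as `ψ` does. -/
theorem classInner_restrict_ge (H T : Subgroup G) [Fintype H] [Fintype T]
    (hHT : H ≤ T) {θ : H → ℂ} (hθ : IsIrrCharacter H θ)
    {ψ : T → ℂ} (hψ : IsIrrCharacter T ψ)
    {χ : G → ℂ} (hχ : IsIrrCharacter G χ) (hc : classInner (indFun T ψ) χ ≠ 0) :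
    ∃ k : ℕ, classInner (fun n : H => χ n) θ = classInner (resTo hHT ψ) θ + (k : ℂ) := by
  have hχc := isClassFunction_of_isCharacter (IsIrrCharacter.isCharacter hχ)
  rw [frobenius_reciprocity T ψ hχc, classInner_conj_symm] at hc
  have hc' : classInner (fun t : T => χ t) ψ ≠ 0 := by
    intro h; rw [h] at hc; simp at hc
  obtain ⟨Δ', hΔ', hsplit⟩ := exists_add_of_classInner_ne_zero
    (isCharacter_restrict T (IsIrrCharacter.isCharacter hχ)) hψ hc'
  obtain ⟨k, hk⟩ := exists_nat_classInner (isCharacter_resTo hHT hΔ') hθ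
  refine ⟨k, ?_⟩
  rw [← resTo_restrict hHT χ, hsplit, resTo_add, classInner_add_left, hk]

/-- Clifford correspondence, part 1: induction from the inertia group gives an irreducible
character, with the same multiplicity of `θ`. -/
theorem clifford_corr_irr (H T : Subgroup G) [Fintype H] [Fintype T] (hN : H.Normal)
    (hHT : H ≤ T) {θ : H → ℂ} (hθ : IsIrrCharacter H θ)
    (hT : ∀ g : G, g ∈ T ↔ conjFun H hN θ g = θ)
    {ψ : T → ℂ} (hψ : IsIrrCharacter T ψ) (hne : classInner (resTo hHT ψ) θ ≠ 0) :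
    IsIrrCharacter G (indFun T ψ) ∧
      classInner (fun n : H => indFun T ψ (n : G)) θ = classInner (resTo hHT ψ) θ := by
  have hstep3 := classInner_indFun_restrict H T hN hHT hθ hT hψ hne
  refine ⟨?_, hstep3⟩
  have hΘ : IsCharacter G (indFun T ψ) := isCharacter_indFun T (IsIrrCharacter.isCharacter hψ)
  obtain ⟨kf, hkf⟩ := exists_nat_classInner (isCharacter_resTo hHT (IsIrrCharacter.isCharacter hψ)) hθ
  have hkf0 : kf ≠ 0 := by
    intro h; rw [h] at hkf; exact hne (by simpa using hkf)
  have hΘ0 : indFun T ψ ≠ 0 := by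
    intro h0
    rw [h0] at hstep3
    have : classInner (fun n : H => (0 : G → ℂ) (n : G)) θ = 0 := classInner_zero_left θ
    rw [this] at hstep3
    exact hne hstep3.symm
  obtain ⟨χ, hχ, hχc⟩ := exists_irr_constituent hΘ hΘ0
  obtain ⟨Δ, hΔ, hsplit⟩ := exists_add_of_classInner_ne_zero hΘ hχ hχc
  obtain ⟨k1, hk1⟩ := classInner_restrict_ge H T hHT hθ hψ hχ hχc
  obtain ⟨k2, hk2⟩ := exists_nat_classInner (isCharacter_restrict H hΔ) hθ
  have hsum : classInner (fun n : H => indFun T ψ (n : G)) θ =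
      classInner (fun n : H => χ n) θ + classInner (fun n : H => Δ n) θ := by
    rw [← classInner_add_left]
    congr 1
    ext n
    rw [hsplit]; rfl
  rw [hstep3, hk1, hk2, hkf] at hsum
  have hk12 : k1 + k2 = 0 := by
    have : (kf : ℂ) = ((kf + k1 + k2 : ℕ) : ℂ) := by push_cast; exact hsum
    have := Nat.cast_injective this
    omega
  have hk2' : k2 = 0 := by omega
  -- show Δ = 0
  have hΔ0 : Δ = 0 := by
    by_contra hne0
    obtain ⟨χ₂, hχ₂, hχ₂c⟩ := exists_irr_constituent hΔ hne0
    obtain ⟨Δ₂, hΔ₂, hsplit₂⟩ := exists_add_of_classInner_ne_zero hΔ hχ₂ hχ₂c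
    have hc2 : classInner (indFun T ψ) χ₂ ≠ 0 := by
      rw [hsplit, classInner_add_left]
      obtain ⟨a, ha⟩ := exists_nat_classInner (IsIrrCharacter.isCharacter hχ) hχ₂
      obtain ⟨b, hb⟩ := exists_nat_classInner hΔ hχ₂
      rw [ha, hb]
      have hb0 : b ≠ 0 := by
        intro h; rw [h] at hb; exact hχ₂c (by simpa using hb)
      have : a + b ≠ 0 := by omega
      exact_mod_cast this
    obtain ⟨k3, hk3⟩ := classInner_restrict_ge H T hHT hθ hψ hχ₂ hc2
    obtain ⟨k4, hk4⟩ := exists_nat_classInner (isCharacter_restrict H hΔ₂) hθ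
    have hsum2 : classInner (fun n : H => Δ n) θ =
        classInner (fun n : H => χ₂ n) θ + classInner (fun n : H => Δ₂ n) θ := by
      rw [← classInner_add_left]
      congr 1
      ext n
      rw [hsplit₂]; rfl
    rw [hk2, hk3, hk4, hkf, hk2'] at hsum2
    have : (0 : ℕ) = kf + k3 + k4 := by
      have h : ((0 : ℕ) : ℂ) = ((kf + k3 + k4 : ℕ) : ℂ) := by push_cast; simpa using hsum2
      exact Nat.cast_injective h
    omega
  rw [hsplit, hΔ0, add_zero]
  exact hχ

end cc1

section cc2
variable {G : Type u} [Group G] [Fintype G]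

theorem resTo_smul {H T : Subgroup G} (hHT : H ≤ T) (c : ℂ) (a : T → ℂ) :
    resTo hHT (c • a) = c • resTo hHT a := rfl

theorem resTo_sum {H T : Subgroup G} (hHT : H ≤ T) {ι : Type*} (s : Finset ι) (a : ι → T → ℂ) :
    resTo hHT (∑ i ∈ s, a i) = ∑ i ∈ s, resTo hHT (a i) := by
  ext n
  simp [resTo, Finset.sum_apply]

/-- Two irreducible characters with nonzero inner product are equal. -/
theorem eq_of_classInner_ne_zero {α β : G → ℂ} (hα : IsIrrCharacter G α) (hβ : IsIrrCharacter G β)
    (h : classInner α β ≠ 0) : α = β := by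
  classical
  by_contra hne
  rw [irr_orthonormal hα hβ, if_neg hne] at h
  exact h rfl

/-- Clifford correspondence, part 3 (surjectivity). -/
theorem clifford_corr_surj (H T : Subgroup G) [Fintype H] [Fintype T] (hN : H.Normal)
    (hHT : H ≤ T) {θ : H → ℂ} (hθ : IsIrrCharacter H θ)
    (hT : ∀ g : G, g ∈ T ↔ conjFun H hN θ g = θ)
    {χ : G → ℂ} (hχ : IsIrrCharacter G χ) (hne : classInner (fun n : H => χ n) θ ≠ 0) :
    ∃ ψ : T → ℂ, IsIrrCharacter T ψ ∧ indFun T ψ = χ ∧
      classInner (resTo hHT ψ) θ = classInner (fun n : H => χ n) θ := by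
  classical
  haveI : Fintype (IrrCharacter T) := @Fintype.ofFinite _ irr_finite
  have hχc := isClassFunction_of_isCharacter (IsIrrCharacter.isCharacter hχ)
  obtain ⟨m, hm⟩ := exists_nat_decomp (isCharacter_restrict T (IsIrrCharacter.isCharacter hχ))
  have h1 : (fun n : H => χ n) = ∑ ψ : IrrCharacter T, (m ψ : ℂ) • resTo hHT (ψ : T → ℂ) := by
    rw [← resTo_restrict hHT χ, hm, resTo_sum]
    rfl
  have h2 : ∃ ψ : IrrCharacter T, m ψ ≠ 0 ∧ classInner (resTo hHT (ψ : T → ℂ)) θ ≠ 0 := by
    by_contra hcon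
    push Not at hcon
    apply hne
    rw [h1, classInner_sum_left]
    apply Finset.sum_eq_zero
    intro ψ _
    rw [classInner_smul_left]
    by_cases h0 : m ψ = 0
    · rw [h0]; simp
    · rw [hcon ψ h0, mul_zero]
  obtain ⟨ψ, hmψ, hψθ⟩ := h2
  obtain ⟨hirr, hmult⟩ := clifford_corr_irr H T hN hHT hθ hT ψ.2 hψθ
  have h3 : classInner (fun t : T => χ t) (ψ : T → ℂ) = (m ψ : ℂ) := by
    conv_lhs => rw [hm]
    exact classInner_nat_decomp (fun χ' => (m χ' : ℂ)) ψ
  have h4 : classInner (indFun T (ψ : T → ℂ)) χ ≠ 0 := by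
    rw [frobenius_reciprocity T _ hχc, classInner_conj_symm, h3]
    simpa using hmψ
  have h5 : indFun T (ψ : T → ℂ) = χ := eq_of_classInner_ne_zero hirr hχ h4
  refine ⟨ψ, ψ.2, h5, ?_⟩
  rw [← hmult, h5]

/-- Clifford correspondence, part 2 (injectivity). -/
theorem clifford_corr_inj (H T : Subgroup G) [Fintype H] [Fintype T] (hN : H.Normal)
    (hHT : H ≤ T) {θ : H → ℂ} (hθ : IsIrrCharacter H θ)
    (hT : ∀ g : G, g ∈ T ↔ conjFun H hN θ g = θ)
    {ψ ψ' : T → ℂ} (hψ : IsIrrCharacter T ψ) (hψ' : IsIrrCharacter T ψ')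
    (hne : classInner (resTo hHT ψ) θ ≠ 0) (hne' : classInner (resTo hHT ψ') θ ≠ 0)
    (heq : indFun T ψ = indFun T ψ') : ψ = ψ' := by
  classical
  by_contra hneq
  obtain ⟨hirr, hmult⟩ := clifford_corr_irr H T hN hHT hθ hT hψ hne
  have hχc := isClassFunction_of_isCharacter (IsIrrCharacter.isCharacter hirr)
  have hself : classInner (indFun T ψ) (indFun T ψ) = 1 := by
    rw [irr_orthonormal hirr hirr, if_pos rfl]
  have h1 : classInner (fun t : T => indFun T ψ (t : G)) ψ ≠ 0 := by
    have := hself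
    rw [frobenius_reciprocity T ψ hχc, classInner_conj_symm] at this
    intro h0; rw [h0] at this; simp at this
  have h1' : classInner (fun t : T => indFun T ψ (t : G)) ψ' ≠ 0 := by
    have := hself
    conv at this => lhs; arg 1; rw [heq]
    rw [frobenius_reciprocity T ψ' hχc, classInner_conj_symm] at this
    intro h0; rw [h0] at this; simp at this
  have hresT := isCharacter_restrict T (IsIrrCharacter.isCharacter hirr)
  obtain ⟨Δ', hΔ', hsplit⟩ := exists_add_of_classInner_ne_zero hresT hψ h1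
  have h2 : classInner Δ' ψ' ≠ 0 := by
    have : classInner (fun t : T => indFun T ψ (t : G)) ψ' = classInner ψ ψ' + classInner Δ' ψ' := by
      rw [hsplit, classInner_add_left]
    rw [this, irr_orthonormal hψ hψ', if_neg hneq, zero_add] at h1'
    exact h1'
  obtain ⟨Δ'', hΔ'', hsplit'⟩ := exists_add_of_classInner_ne_zero hΔ' hψ' h2
  obtain ⟨k, hk⟩ := exists_nat_classInner (isCharacter_resTo hHT hΔ'') hθ
  obtain ⟨kf, hkf⟩ := exists_nat_classInner (isCharacter_resTo hHT (IsIrrCharacter.isCharacter hψ)) hθ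
  obtain ⟨kf', hkf'⟩ := exists_nat_classInner (isCharacter_resTo hHT (IsIrrCharacter.isCharacter hψ')) hθ
  have h3 : classInner (fun n : H => indFun T ψ (n : G)) θ =
      classInner (resTo hHT ψ) θ + classInner (resTo hHT ψ') θ + classInner (resTo hHT Δ'') θ := by
    rw [← resTo_restrict hHT (indFun T ψ), hsplit, hsplit', resTo_add, resTo_add,
      classInner_add_left, classInner_add_left, add_assoc]
  rw [hmult, hk, hkf, hkf'] at h3
  have h4 : kf = kf + kf' + k := by
    have : ((kf : ℕ) : ℂ) = ((kf + kf' + k : ℕ) : ℂ) := by push_cast; exact h3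
    exact Nat.cast_injective this
  have h5 : kf' = 0 := by omega
  rw [h5] at hkf'
  exact hne' (by simpa using hkf')

end cc2
end Cfsg.Agent.Helper81
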