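import Cfsg.Agent.Lib.Helper81.CharCoprime
set_option autoImplicit false
set_option linter.style.haveILetI false
set_option linter.unusedSectionVars false
namespace Cfsg.Agent.Helper81
open Representation
open scoped ComplexConjugate
universe u v w

section sylind
variable {G : Type u} [Group G] [Fintype G]

/-- A character of degree zero is zero. -/
theorem isCharacter_eq_zero_of_one {ξ : G → ℂ} (hξ : IsCharacter G ξ) (h : ξ 1 = 0) : ξ = 0 := by
  obtain ⟨n, ρ, rfl⟩ := hξ
  rw [Representation.char_one] at h
  have hn : Module.finrank ℂ (Fin n → ℂ) = 0 := by exact_mod_cast h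
  funext g
  exact character_eq_zero_of_finrank_eq_zero ρ hn g

/-- An irreducible constituent of a character of no larger degree is the whole character. -/
theorem eq_of_constituent_of_degree_le {ψ χ : G → ℂ} (hψ : IsCharacter G ψ)
    (hχ : IsIrrCharacter G χ) (hne : classInner ψ χ ≠ 0) (a b : ℕ) (ha : ψ 1 = a) (hb : χ 1 = b)
    (hab : a ≤ b) : ψ = χ := by
  classical
  have hξ : IsCharacter G (ψ - χ) := by
    apply isCharacter_of_nat_classInner
    · intro g h
      simp only [Pi.sub_apply]
      rw [isClassFunction_of_isCharacter hψ g h,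
        isClassFunction_of_isCharacter (IsIrrCharacter.isCharacter hχ) g h]
    · intro φ hφ
      obtain ⟨k, hk⟩ := exists_nat_classInner hψ hφ
      rw [classInner_sub_left, hk, irr_orthonormal hχ hφ]
      by_cases hχφ : χ = φ
      · rw [if_pos hχφ]
        subst hχφ
        have hk0 : k ≠ 0 := by
          rintro rfl
          rw [hk] at hne
          simp at hne
        refine ⟨k - 1, ?_⟩
        rw [Nat.cast_sub (Nat.one_le_iff_ne_zero.mpr hk0)]
        simp
      · rw [if_neg hχφ]
        exact ⟨k, by simp⟩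
  obtain ⟨n', hn'⟩ := char_one_nat hξ
  have h1 : ψ 1 = χ 1 + (ψ - χ) 1 := by simp
  rw [ha, hb, hn'] at h1
  have h2 : a = b + n' := by exact_mod_cast h1
  have h3 : n' = 0 := by omega
  rw [h3] at hn'
  have h4 := isCharacter_eq_zero_of_one hξ (by simpa using hn')
  exact sub_eq_zero.mp h4

/-- The degree of an irreducible character is a positive divisor of the group order. -/
theorem irr_degree_dvd_card {χ : G → ℂ} (hχ : IsIrrCharacter G χ) :
    ∃ d : ℕ, χ 1 = d ∧ d ∣ Nat.card G ∧ 0 < d := by
  obtain ⟨n, ρ, hρ, rfl⟩ := hχ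
  haveI := hρ
  haveI := nontrivial_of_isIrreducible ρ
  refine ⟨Module.finrank ℂ (Fin n → ℂ), ?_, Cfsg.Agent.Helper79.finrank_dvd_card ρ,
    Module.finrank_pos⟩
  rw [Representation.char_one]

theorem charDegree_eq_of_one {χ : G → ℂ} (n : ℕ) (h : χ 1 = n) : charDegree χ = n := by
  unfold charDegree
  rw [h]
  simp

/-- An irreducible character has `p`-power codegree `|G| / χ(1)` iff it is induced from a
character of a Sylow `p`-subgroup. -/
theorem induced_from_sylow_iff (p : ℕ) [hp : Fact p.Prime] {χ : G → ℂ} (hχ : IsIrrCharacter G χ) :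
    (∃ k : ℕ, Nat.card G = p ^ k * charDegree χ) ↔
    ∃ (P : Sylow p G) (θ : ↥(P : Subgroup G) → ℂ),
      IsCharacter ↥(P : Subgroup G) θ ∧ χ = indFun (P : Subgroup G) θ := by
  classical
  obtain ⟨n, hn, hndvd, hnpos⟩ := irr_degree_dvd_card hχ
  rw [charDegree_eq_of_one n hn]
  constructor
  · rintro ⟨k, hk⟩
    let P : Sylow p G := default
    haveI : Fintype ↥(P : Subgroup G) := Fintype.ofFinite _
    haveI : Fintype (IrrCharacter ↥(P : Subgroup G)) := @Fintype.ofFinite _ irr_finite
    have hm : ¬ p ∣ (P : Subgroup G).index := P.not_dvd_index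
    have hmpos : 0 < (P : Subgroup G).index := Nat.pos_of_ne_zero (Subgroup.index_ne_zero_of_finite)
    have hPcard : Nat.card ↥(P : Subgroup G) = p ^ (Nat.card G).factorization p :=
      P.card_eq_multiplicity
    have hidx := Subgroup.index_mul_card (P : Subgroup G)
    set m := (P : Subgroup G).index with hmdef
    set a := (Nat.card G).factorization p with hadef
    rw [hPcard, hk] at hidx
    have hcop : Nat.Coprime m (p ^ k) :=
      Nat.Coprime.pow_right k ((Nat.Prime.coprime_iff_not_dvd hp.1).mpr hm).symm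
    have hmn : m ∣ n := hcop.dvd_of_dvd_mul_left (Dvd.intro _ hidx)
    obtain ⟨s, hs⟩ := hmn
    have hs2 : p ^ a = p ^ k * s := by
      have h1 : m * p ^ a = m * (p ^ k * s) := by rw [hidx, hs]; ring
      exact Nat.eq_of_mul_eq_mul_left hmpos h1
    obtain ⟨b, hba, hsb⟩ := (Nat.dvd_prime_pow hp.1).mp (Dvd.intro_left _ hs2.symm)
    -- decomposition of the restriction
    have hres : IsCharacter ↥(P : Subgroup G) (fun x : ↥(P : Subgroup G) => χ x) :=
      isCharacter_restrict _ (IsIrrCharacter.isCharacter hχ)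
    obtain ⟨mult, hmult⟩ := exists_nat_decomp hres
    have hdeg : ∀ l : IrrCharacter ↥(P : Subgroup G), ∃ d : ℕ,
        (l : ↥(P : Subgroup G) → ℂ) 1 = d ∧ d ∣ Nat.card ↥(P : Subgroup G) ∧ 0 < d :=
      fun l => irr_degree_dvd_card l.2
    choose d hd1 hd2 hd3 using hdeg
    have hsum : n = ∑ l, mult l * d l := by
      have h1 := congrFun hmult 1
      simp only [Finset.sum_apply, Pi.smul_apply, smul_eq_mul, hd1] at h1
      have h2 : χ ((1 : ↥(P : Subgroup G)) : G) = n := by
        rw [Subgroup.coe_one]; exact hn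
      rw [h2] at h1
      exact_mod_cast h1
    have hex : ∃ l, mult l ≠ 0 ∧ d l ≤ p ^ b := by
      by_contra hcon
      push Not at hcon
      have hall : ∀ l, p ^ (b + 1) ∣ mult l * d l := by
        intro l
        by_cases hl : mult l = 0
        · rw [hl, zero_mul]; exact dvd_zero _
        · have h1 := hcon l hl
          have h2 := hd2 l
          rw [hPcard] at h2
          obtain ⟨c, -, hc⟩ := (Nat.dvd_prime_pow hp.1).mp h2
          rw [hc] at h1 ⊢
          have h3 : b < c := (Nat.pow_lt_pow_iff_right hp.1.one_lt).mp h1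
          exact Dvd.dvd.mul_left (pow_dvd_pow p h3) _
      have h4 : p ^ (b + 1) ∣ n := by
        rw [hsum]
        exact Finset.dvd_sum (fun l _ => hall l)
      rw [hs, hsb, pow_succ, mul_comm m] at h4
      exact hm ((Nat.mul_dvd_mul_iff_left (pow_pos hp.1.pos b)).mp h4)
    obtain ⟨l, hl0, hlb⟩ := hex
    have hinner : classInner (fun x : ↥(P : Subgroup G) => χ x) (l : ↥(P : Subgroup G) → ℂ) =
        (mult l : ℂ) := by
      rw [hmult]
      exact classInner_nat_decomp (fun l' => (mult l' : ℂ)) l
    have hψ : IsCharacter G (indFun (P : Subgroup G) (l : ↥(P : Subgroup G) → ℂ)) :=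
      isCharacter_indFun _ (IsIrrCharacter.isCharacter l.2)
    have hne : classInner (indFun (P : Subgroup G) (l : ↥(P : Subgroup G) → ℂ)) χ ≠ 0 := by
      rw [frobenius_reciprocity _ _
        (isClassFunction_of_isCharacter (IsIrrCharacter.isCharacter hχ)),
        classInner_conj_symm, hinner]
      simpa using hl0
    have hψ1 : indFun (P : Subgroup G) (l : ↥(P : Subgroup G) → ℂ) 1 = ((m * d l : ℕ) : ℂ) := by
      rw [indFun_one, hd1]
      push_cast
      rfl
    have hle : m * d l ≤ n := by
      rw [hs, hsb]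
      exact Nat.mul_le_mul_left m hlb
    have heq := eq_of_constituent_of_degree_le hψ hχ hne (m * d l) n hψ1 hn hle
    exact ⟨P, (l : ↥(P : Subgroup G) → ℂ), IsIrrCharacter.isCharacter l.2, heq.symm⟩
  · rintro ⟨P, θ, hθ, hχθ⟩
    obtain ⟨t, ht⟩ := char_one_nat hθ
    have hmpos : 0 < (P : Subgroup G).index := Nat.pos_of_ne_zero (Subgroup.index_ne_zero_of_finite)
    have hPcard : Nat.card ↥(P : Subgroup G) = p ^ (Nat.card G).factorization p :=
      P.card_eq_multiplicity
    have hidx := Subgroup.index_mul_card (P : Subgroup G)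
    have h1 : n = (P : Subgroup G).index * t := by
      have h2 : χ 1 = (((P : Subgroup G).index * t : ℕ) : ℂ) := by
        rw [hχθ, indFun_one, ht]
        push_cast
        rfl
      rw [hn] at h2
      exact_mod_cast h2
    rw [← hidx, h1] at hndvd
    have h3 : t ∣ Nat.card ↥(P : Subgroup G) := (Nat.mul_dvd_mul_iff_left hmpos).mp hndvd
    obtain ⟨q, hq⟩ := h3
    have h4 : q ∣ p ^ (Nat.card G).factorization p := by
      rw [← hPcard, hq]; exact Dvd.intro_left _ rfl
    obtain ⟨k, -, hk⟩ := (Nat.dvd_prime_pow hp.1).mp h4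
    refine ⟨k, ?_⟩
    rw [← hidx, hq, h1, ← hk]
    ring

end sylind
end Cfsg.Agent.Helper81
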