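import Cfsg.Agent.Lib.Helper81.CharProd
set_option autoImplicit false
set_option linter.style.haveILetI false
set_option linter.unusedSectionVars false
namespace Cfsg.Agent.Helper81
open Representation
open scoped ComplexConjugate
universe u v w

section indlin
variable {G : Type u} [Group G]

theorem extendByZero_add (H : Subgroup G) (a b : H → ℂ) (g : G) :
    extendByZero H (a + b) g = extendByZero H a g + extendByZero H b g := by
  by_cases hg : g ∈ H
  · simp only [extendByZero_apply_mem H _ hg, Pi.add_apply]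
  · simp only [extendByZero_apply_not_mem H _ hg, add_zero]

theorem extendByZero_smul (H : Subgroup G) (c : ℂ) (a : H → ℂ) (g : G) :
    extendByZero H (c • a) g = c * extendByZero H a g := by
  by_cases hg : g ∈ H
  · simp only [extendByZero_apply_mem H _ hg, Pi.smul_apply, smul_eq_mul]
  · simp only [extendByZero_apply_not_mem H _ hg, mul_zero]

variable [Fintype G]

theorem indFun_add (H : Subgroup G) (a b : H → ℂ) :
    indFun H (a + b) = indFun H a + indFun H b := by
  ext g
  simp only [indFun_apply, Pi.add_apply, extendByZero_add, Finset.sum_add_distrib, mul_add]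

theorem indFun_smul (H : Subgroup G) (c : ℂ) (a : H → ℂ) :
    indFun H (c • a) = c • indFun H a := by
  ext g
  simp only [indFun_apply, Pi.smul_apply, smul_eq_mul, extendByZero_smul, ← Finset.mul_sum]
  ring

theorem indFun_zero (H : Subgroup G) : indFun H (0 : H → ℂ) = 0 := by
  have := indFun_smul H 0 (0 : H → ℂ)
  simpa using this

theorem indFun_sum (H : Subgroup G) {ι : Type*} (s : Finset ι) (a : ι → H → ℂ) :
    indFun H (∑ i ∈ s, a i) = ∑ i ∈ s, indFun H (a i) := by
  classical
  induction s using Finset.induction_on with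
  | empty => simp [indFun_zero]
  | insert i s hi ih => rw [Finset.sum_insert hi, Finset.sum_insert hi, indFun_add, ih]

/-- Transitivity of induction (after helper3's `indFun_trans`). -/
theorem indFun_trans (H K : Subgroup G) [Fintype K] (hHK : H ≤ K) (θ : H → ℂ) :
    indFun K (indFun (H.subgroupOf K)
      (fun x => θ ⟨((x : K) : G), Subgroup.mem_subgroupOf.mp x.2⟩)) = indFun H θ := by
  classical
  set θ' : H.subgroupOf K → ℂ := fun x => θ ⟨((x : K) : G), Subgroup.mem_subgroupOf.mp x.2⟩
    with hθ'
  have hext : ∀ u : K, extendByZero (H.subgroupOf K) θ' u = extendByZero H θ (u : G) := by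
    intro u
    by_cases hu : (u : G) ∈ H
    · have hu' : u ∈ H.subgroupOf K := Subgroup.mem_subgroupOf.mpr hu
      rw [extendByZero_apply_mem _ _ hu', extendByZero_apply_mem _ _ hu]
    · have hu' : u ∉ H.subgroupOf K := fun h => hu (Subgroup.mem_subgroupOf.mp h)
      rw [extendByZero_apply_not_mem _ _ hu', extendByZero_apply_not_mem _ _ hu]
  have hcard : Nat.card (H.subgroupOf K) = Nat.card H :=
    Nat.card_congr (Subgroup.subgroupOfEquivOfLe hHK).toEquiv
  have hψ : ∀ y : G, extendByZero K (indFun (H.subgroupOf K) θ') y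
      = (Nat.card H : ℂ)⁻¹ * ∑ k : K, extendByZero H θ ((k : G)⁻¹ * y * k) := by
    intro y
    by_cases hy : y ∈ K
    · rw [extendByZero_apply_mem _ _ hy, indFun_apply, hcard]
      congr 1
      apply Finset.sum_congr rfl
      intro k _
      rw [hext]
      rfl
    · rw [extendByZero_apply_not_mem _ _ hy]
      symm
      rw [mul_eq_zero]; right
      apply Finset.sum_eq_zero
      intro k _
      apply extendByZero_apply_not_mem
      intro h
      apply hy
      have h1 := hHK h
      have h2 : (k : G) * ((k : G)⁻¹ * y * k) * (k : G)⁻¹ ∈ K :=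
        K.mul_mem (K.mul_mem k.2 h1) (K.inv_mem k.2)
      have h3 : (k : G) * ((k : G)⁻¹ * y * k) * (k : G)⁻¹ = y := by group
      rwa [h3] at h2
  funext g
  rw [indFun_apply, indFun_apply]
  simp_rw [hψ]
  rw [← Finset.mul_sum, Finset.sum_comm]
  have h2 : ∀ k : K, ∑ x : G, extendByZero H θ ((k : G)⁻¹ * (x⁻¹ * g * x) * k)
      = ∑ x : G, extendByZero H θ (x⁻¹ * g * x) := by
    intro k
    refine Fintype.sum_equiv (Equiv.mulRight (k : G)) _ _ ?_
    intro x
    simp only [Equiv.coe_mulRight]
    congr 1
    group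
  simp_rw [h2]
  rw [Finset.sum_const, Finset.card_univ, nsmul_eq_mul, ← Nat.card_eq_fintype_card]
  have hK : (Nat.card K : ℂ) ≠ 0 := by exact_mod_cast Nat.card_pos.ne'
  field_simp

end indlin
section linear
variable {G : Type u} [Group G]

/-- A multiplicative function to `ℂ` is a character (of a one-dimensional representation). -/
theorem isCharacter_of_mul {l : G → ℂ} (h1 : l 1 = 1) (hmul : ∀ g h, l (g * h) = l g * l h) :
    IsCharacter G l := by
  let ρ : Representation ℂ G ℂ :=
    { toFun := fun g => l g • LinearMap.id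
      map_one' := by rw [h1, one_smul]; rfl
      map_mul' := by
        intro g h
        rw [hmul]
        ext
        simp [mul_comm] }
  have h := isCharacter_of_rep ρ
  have hc : ρ.character = l := by
    ext g
    simp [Representation.character, ρ]
  rwa [hc] at h

/-- Twisting an irreducible character by a unitary multiplicative function gives an
irreducible character. -/
theorem isIrrCharacter_mul_linear [Fintype G] {l χ : G → ℂ} (h1 : l 1 = 1)
    (hmul : ∀ g h, l (g * h) = l g * l h) (hnorm : ∀ g, l g * conj (l g) = 1)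
    (hχ : IsIrrCharacter G χ) : IsIrrCharacter G (l * χ) := by
  apply isIrrCharacter_of_classInner_self_eq_one
    (isCharacter_mul (isCharacter_of_mul h1 hmul) (IsIrrCharacter.isCharacter hχ))
  have h : classInner χ χ = 1 := by rw [irr_orthonormal hχ hχ, if_pos rfl]
  rw [← h]
  unfold classInner
  congr 1
  apply Finset.sum_congr rfl
  intro g _
  simp only [Pi.mul_apply, map_mul]
  calc l g * χ g * (conj (l g) * conj (χ g)) = (l g * conj (l g)) * (χ g * conj (χ g)) := by ring
    _ = _ := by rw [hnorm, one_mul]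

variable {A : Type v} [CommGroup A] [Finite A] (π : G →* A)

/-- The linear character of `G` obtained from a character of the abelian quotient `A`. -/
noncomputable def linChar (ψ : AddChar (Additive A) ℂ) : G → ℂ :=
  fun g => ψ (Additive.ofMul (π g))

theorem linChar_apply (ψ : AddChar (Additive A) ℂ) (g : G) :
    linChar π ψ g = ψ (Additive.ofMul (π g)) := rfl

theorem linChar_one (ψ : AddChar (Additive A) ℂ) : linChar π ψ 1 = 1 := by
  simp [linChar_apply]

theorem linChar_mul (ψ : AddChar (Additive A) ℂ) (g h : G) :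
    linChar π ψ (g * h) = linChar π ψ g * linChar π ψ h := by
  simp [linChar_apply, AddChar.map_add_eq_mul]

theorem linChar_norm (ψ : AddChar (Additive A) ℂ) (g : G) :
    linChar π ψ g * conj (linChar π ψ g) = 1 := by
  rw [Complex.mul_conj, Complex.normSq_eq_norm_sq, linChar_apply, AddChar.norm_apply]
  simp

theorem linChar_ker (ψ : AddChar (Additive A) ℂ) {g : G} (hg : π g = 1) :
    linChar π ψ g = 1 := by
  simp [linChar_apply, hg]

theorem sum_linChar (g : G) [DecidableEq A] :
    ∑ ψ : AddChar (Additive A) ℂ, linChar π ψ g =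
      if π g = 1 then (Nat.card A : ℂ) else 0 := by
  classical
  haveI : Fintype A := Fintype.ofFinite A
  simp only [linChar_apply]
  rw [AddChar.sum_apply_eq_ite]
  have : (Additive.ofMul (π g) = 0) ↔ π g = 1 := by
    constructor
    · intro h; exact h
    · intro h; exact h
  simp only [this, Fintype.card_additive, Nat.card_eq_fintype_card]

theorem isIrrCharacter_linChar_mul [Fintype G] (ψ : AddChar (Additive A) ℂ) {χ : G → ℂ}
    (hχ : IsIrrCharacter G χ) : IsIrrCharacter G (linChar π ψ * χ) :=
  isIrrCharacter_mul_linear (linChar_one π ψ) (linChar_mul π ψ) (linChar_norm π ψ) hχ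

end linear

section abelcore
variable {G : Type u} [Group G] [Fintype G]

theorem indFun_one_fun (N : Subgroup G) (hN : N.Normal) (g : G) [Decidable (g ∈ N)] :
    indFun N (1 : N → ℂ) g = if g ∈ N then (N.index : ℂ) else 0 := by
  rw [indFun_apply]
  have hN0 : (Nat.card N : ℂ) ≠ 0 := by exact_mod_cast (Nat.card_pos (α := N)).ne'
  by_cases hg : g ∈ N
  · rw [if_pos hg]
    have h1 : ∀ x : G, extendByZero N (1 : N → ℂ) (x⁻¹ * g * x) = 1 := by
      intro x
      have hx : x⁻¹ * g * x ∈ N := by
        have := hN.conj_mem g hg x⁻¹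
        rwa [inv_inv] at this
      rw [extendByZero_apply_mem N _ hx]
      rfl
    simp only [h1, Finset.sum_const, Finset.card_univ, nsmul_eq_mul, mul_one]
    rw [← Nat.card_eq_fintype_card, ← Subgroup.index_mul_card N]
    push_cast
    field_simp
  · rw [if_neg hg]
    have h1 : ∀ x : G, extendByZero N (1 : N → ℂ) (x⁻¹ * g * x) = 0 := by
      intro x
      apply extendByZero_apply_not_mem
      intro hx
      apply hg
      have := hN.conj_mem _ hx x
      have h3 : x * (x⁻¹ * g * x) * x⁻¹ = g := by group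
      rwa [h3] at this
    simp only [h1, Finset.sum_const_zero, mul_zero]

/-- Invariant irreducible character under a normal subgroup with abelian quotient:
`θ^G = e ∑_{χ ∈ C} χ` with `e² |C| = |G : N|`. -/
theorem abelian_quotient_core (N : Subgroup G) [Fintype N] (hN : N.Normal)
    {A : Type v} [CommGroup A] [Finite A] (π : G →* A) (hπ : Function.Surjective π)
    (hker : ∀ g : G, π g = 1 ↔ g ∈ N)
    {θ : N → ℂ} (hθ : IsIrrCharacter N θ) (hinv : ∀ g : G, conjFun N hN θ g = θ) :
    ∃ (e : ℕ) (C : Finset (G → ℂ)), 0 < e ∧ (∀ χ ∈ C, IsIrrCharacter G χ) ∧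
      e ^ 2 * C.card = N.index ∧ indFun N θ = (e : ℂ) • ∑ χ ∈ C, χ ∧
      ∀ χ ∈ C, (fun n : N => χ n) = (e : ℂ) • θ := by
  classical
  have hθc := IsIrrCharacter.isCharacter hθ
  have hIndc : IsCharacter G (indFun N θ) := isCharacter_indFun N hθc
  have hInd0 : indFun N θ ≠ 0 := by
    intro h0
    have h1 := indFun_one N θ
    rw [h0] at h1
    obtain ⟨d, hd0, hd⟩ := irr_one_pos hθ
    simp only [Pi.zero_apply] at h1
    rw [hd] at h1
    have hidx : N.index ≠ 0 := Subgroup.index_ne_zero_of_finite
    have : (N.index : ℂ) * (d : ℂ) ≠ 0 :=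
      mul_ne_zero (by exact_mod_cast hidx) (by exact_mod_cast hd0.ne')
    exact this h1.symm
  obtain ⟨χ₀, hχ₀, hχ₀c⟩ := exists_irr_constituent hIndc hInd0
  have hχ₀cf := isClassFunction_of_isCharacter (IsIrrCharacter.isCharacter hχ₀)
  obtain ⟨e, he⟩ := exists_nat_classInner_char
    (isCharacter_restrict N (IsIrrCharacter.isCharacter hχ₀)) hθc
  have hres_ne : classInner (fun n : N => χ₀ n) θ ≠ 0 := by
    rw [frobenius_reciprocity N θ hχ₀cf, classInner_conj_symm, he] at hχ₀c
    rw [he]
    simpa using hχ₀c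
  have he0 : 0 < e := by
    rcases Nat.eq_zero_or_pos e with h | h
    · exfalso; apply hres_ne; rw [he, h]; simp
    · exact h
  have hres : (fun n : N => χ₀ n) = (e : ℂ) • θ := by
    have := restrict_eq_smul_of_invariant N hN hχ₀ hθ hres_ne hinv
    rwa [he] at this
  let C : Finset (G → ℂ) :=
    Finset.univ.image (fun ψ : AddChar (Additive A) ℂ => linChar π ψ * χ₀)
  have hCirr : ∀ χ ∈ C, IsIrrCharacter G χ := by
    intro χ hχ
    obtain ⟨ψ, _, rfl⟩ := Finset.mem_image.mp hχ
    exact isIrrCharacter_linChar_mul π ψ hχ₀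
  have hCres : ∀ χ ∈ C, (fun n : N => χ n) = (e : ℂ) • θ := by
    intro χ hχ
    obtain ⟨ψ, _, rfl⟩ := Finset.mem_image.mp hχ
    rw [← hres]
    ext n
    simp only [Pi.mul_apply]
    rw [linChar_ker π ψ ((hker _).mpr n.2), one_mul]
  have hCmult : ∀ χ ∈ C, classInner (indFun N θ) χ = (e : ℂ) := by
    intro χ hχ
    rw [frobenius_reciprocity N θ
      (isClassFunction_of_isCharacter (IsIrrCharacter.isCharacter (hCirr χ hχ))),
      hCres χ hχ, classInner_smul_right, irr_orthonormal hθ hθ, if_pos rfl]
    simp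
  have hcardA : Nat.card A = N.index := by
    have h1 : π.ker = N := by
      ext g
      rw [MonoidHom.mem_ker]
      exact hker g
    rw [← h1, Subgroup.index_ker, MonoidHom.range_eq_top.mpr hπ]
    exact (Nat.card_congr Subgroup.topEquiv.toEquiv).symm
  have hkey : (e : ℂ) • indFun N θ = ∑ ψ : AddChar (Additive A) ℂ, linChar π ψ * χ₀ := by
    rw [← indFun_smul, ← hres]
    have h1 : (fun n : N => χ₀ n) = (1 : N → ℂ) * fun n : N => χ₀ n := by rw [one_mul]
    rw [h1, indFun_mul_restrict N 1 hχ₀cf, ← Finset.sum_mul]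
    congr 1
    ext g
    rw [indFun_one_fun N hN, Finset.sum_apply, sum_linChar, hcardA]
    by_cases hg : g ∈ N
    · rw [if_pos hg, if_pos ((hker g).mpr hg)]
    · rw [if_neg hg, if_neg (fun h => hg ((hker g).mp h))]
  have hnotC : ∀ χ, IsIrrCharacter G χ → χ ∉ C → classInner (indFun N θ) χ = 0 := by
    intro χ hχ hχC
    have h1 : classInner ((e : ℂ) • indFun N θ) χ = 0 := by
      rw [hkey, classInner_sum_left]
      apply Finset.sum_eq_zero
      intro ψ _
      rw [irr_orthonormal (isIrrCharacter_linChar_mul π ψ hχ₀) hχ, if_neg]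
      intro h
      apply hχC
      rw [← h]
      exact Finset.mem_image_of_mem _ (Finset.mem_univ _)
    rw [classInner_smul_left] at h1
    rcases mul_eq_zero.mp h1 with h | h
    · exfalso
      have : e = 0 := by exact_mod_cast h
      omega
    · exact h
  have hdecomp : indFun N θ = (e : ℂ) • ∑ χ ∈ C, χ := by
    rw [← sub_eq_zero]
    apply eq_zero_of_classInner_irr_eq_zero
    · intro g h
      simp only [Pi.sub_apply, Pi.smul_apply, Finset.sum_apply, smul_eq_mul]
      rw [indFun_isClassFunction N θ g h]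
      congr 2
      apply Finset.sum_congr rfl
      intro χ hχ
      exact isClassFunction_of_isCharacter (IsIrrCharacter.isCharacter (hCirr χ hχ)) g h
    · intro β hβ
      rw [classInner_sub_left, classInner_smul_left, classInner_sum_left]
      by_cases hβC : β ∈ C
      · rw [hCmult β hβC, Finset.sum_eq_single β]
        · rw [irr_orthonormal hβ hβ, if_pos rfl, mul_one, sub_self]
        · intro γ hγ hne
          rw [irr_orthonormal (hCirr γ hγ) hβ, if_neg hne]
        · intro h; exact absurd hβC h
      · rw [hnotC β hβ hβC, Finset.sum_eq_zero, mul_zero, sub_zero]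
        intro γ hγ
        rw [irr_orthonormal (hCirr γ hγ) hβ, if_neg]
        rintro rfl
        exact hβC hγ
  have hnorm : e ^ 2 * C.card = N.index := by
    have h1 := classInner_indFun_self_of_invariant N hN hθ hinv
    have h2 : classInner (indFun N θ) (indFun N θ) = ((e ^ 2 * C.card : ℕ) : ℂ) := by
      conv_lhs => arg 2; rw [hdecomp]
      rw [classInner_smul_right, classInner_sum_right, Finset.sum_congr rfl hCmult,
        Finset.sum_const, nsmul_eq_mul]
      simp only [Complex.conj_natCast]
      push_cast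
      ring
    rw [h2] at h1
    exact_mod_cast h1
  exact ⟨e, C, he0, hCirr, hnorm, hdecomp, hCres⟩

end abelcore
section abelinertia
variable {G : Type u} [Group G] [Fintype G]

/-- Clifford theory over an inertia group with abelian quotient `T / H`. -/
theorem abelian_inertia (H T : Subgroup G) [Fintype H] [Fintype T] (hN : H.Normal)
    {θ : H → ℂ} (hθ : IsIrrCharacter H θ)
    (hT : ∀ g : G, g ∈ T ↔ conjFun H hN θ g = θ)
    (hab : ∀ x ∈ T, ∀ y ∈ T, x * y * x⁻¹ * y⁻¹ ∈ H) :
    ∃ (e : ℕ) (C : Finset (G → ℂ)), 0 < e ∧ (∀ χ ∈ C, IsIrrCharacter G χ) ∧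
      e ^ 2 * C.card * Nat.card H = Nat.card T ∧ indFun H θ = (e : ℂ) • ∑ χ ∈ C, χ ∧
      ∀ χ ∈ C, χ 1 = (T.index : ℂ) * e * θ 1 := by
  classical
  have hθc := IsIrrCharacter.isCharacter hθ
  have hθcf := isClassFunction_of_isCharacter hθc
  have hHT : H ≤ T := by
    intro g hg
    rw [hT]
    ext n
    rw [conjFun_apply]
    exact hθcf n ⟨g, hg⟩
  haveI hN' : (H.subgroupOf T).Normal := Subgroup.normal_subgroupOf
  haveI : Fintype (H.subgroupOf T) := Fintype.ofFinite _
  let θ' : H.subgroupOf T → ℂ := fun x => θ ⟨((x : T) : G), Subgroup.mem_subgroupOf.mp x.2⟩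
  have hθ' : IsIrrCharacter (H.subgroupOf T) θ' :=
    isIrrCharacter_comp_equiv (Subgroup.subgroupOfEquivOfLe hHT) hθ
  have hinv' : ∀ t : T, conjFun (H.subgroupOf T) hN' θ' t = θ' := by
    intro t
    ext x
    rw [conjFun_apply]
    have h1 := (hT t).mp t.2
    have h2 := congrFun h1 ⟨((x : T) : G), Subgroup.mem_subgroupOf.mp x.2⟩
    rw [conjFun_apply] at h2
    exact h2
  -- abelian quotient
  letI : CommGroup (T ⧸ H.subgroupOf T) :=
    { (inferInstance : Group (T ⧸ H.subgroupOf T)) with
      mul_comm := by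
        intro a b
        induction a using QuotientGroup.induction_on with
        | H x =>
          induction b using QuotientGroup.induction_on with
          | H y =>
            rw [← QuotientGroup.mk_mul, ← QuotientGroup.mk_mul, QuotientGroup.eq]
            rw [Subgroup.mem_subgroupOf]
            have := hab _ (T.inv_mem y.2) _ (T.inv_mem x.2)
            simpa [mul_assoc] using this }
  obtain ⟨e, CT, he0, hirr, hnorm, hdecomp, hres⟩ :=
    abelian_quotient_core (H.subgroupOf T) hN' (QuotientGroup.mk' (H.subgroupOf T))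
      (QuotientGroup.mk'_surjective _) (fun g => QuotientGroup.eq_one_iff g) hθ' hinv'
  -- restriction of members of CT to H
  have hresTo : ∀ χ ∈ CT, resTo hHT χ = (e : ℂ) • θ := by
    intro χ hχ
    ext n
    have h1 := congrFun (hres χ hχ) ⟨⟨(n : G), hHT n.2⟩, Subgroup.mem_subgroupOf.mpr n.2⟩
    exact h1
  have hne : ∀ χ ∈ CT, classInner (resTo hHT χ) θ ≠ 0 := by
    intro χ hχ
    rw [hresTo χ hχ, classInner_smul_left, irr_orthonormal hθ hθ, if_pos rfl, mul_one]
    exact_mod_cast he0.ne'
  have hinj : Set.InjOn (indFun T) (CT : Set (T → ℂ)) := by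
    intro χ hχ χ' hχ' heq
    exact clifford_corr_inj H T hN hHT hθ hT (hirr χ hχ) (hirr χ' hχ') (hne χ hχ) (hne χ' hχ') heq
  refine ⟨e, CT.image (indFun T), he0, ?_, ?_, ?_, ?_⟩
  · intro χ hχ
    obtain ⟨ψ, hψ, rfl⟩ := Finset.mem_image.mp hχ
    exact (clifford_corr_irr H T hN hHT hθ hT (hirr ψ hψ) (hne ψ hψ)).1
  · rw [Finset.card_image_of_injOn hinj, hnorm]
    rw [← Nat.card_congr (Subgroup.subgroupOfEquivOfLe hHT).toEquiv]
    exact Subgroup.index_mul_card _
  · rw [← indFun_trans H T hHT θ]
    change indFun T (indFun (H.subgroupOf T) θ') = _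
    rw [hdecomp, indFun_smul, indFun_sum, Finset.sum_image hinj]
  · intro χ hχ
    obtain ⟨ψ, hψ, rfl⟩ := Finset.mem_image.mp hχ
    rw [indFun_one]
    have h1 := congrFun (hres ψ hψ) 1
    simp only [Pi.smul_apply, smul_eq_mul] at h1
    have h2 : ψ 1 = (e : ℂ) * θ 1 := h1
    rw [h2, mul_assoc]

end abelinertia
end Cfsg.Agent.Helper81
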