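import Cfsg.Agent.Lib.Helper81.CharCore

set_option autoImplicit false
set_option linter.style.haveILetI false

namespace Cfsg.Agent.Helper81

open Representation
open scoped ComplexConjugate

universe u v w

section chars
variable {G : Type u} [Group G]

theorem isCharacter_zero : IsCharacter G (0 : G → ℂ) := by
  refine ⟨0, 1, ?_⟩
  ext g
  simp [Representation.character]

theorem isCharacter_add {χ ψ : G → ℂ} (hχ : IsCharacter G χ) (hψ : IsCharacter G ψ) :
    IsCharacter G (χ + ψ) := by
  obtain ⟨n, ρ, rfl⟩ := hχ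
  obtain ⟨m, σ, rfl⟩ := hψ
  have h := isCharacter_of_rep (ρ.prod σ)
  convert h using 1
  ext g
  simp only [Pi.add_apply, Representation.character]
  exact (LinearMap.trace_prodMap' (ρ g) (σ g)).symm

theorem isCharacter_sum {ι : Type*} (s : Finset ι) (f : ι → G → ℂ)
    (h : ∀ i ∈ s, IsCharacter G (f i)) : IsCharacter G (∑ i ∈ s, f i) := by
  classical
  induction s using Finset.induction_on with
  | empty => simpa using isCharacter_zero
  | insert a s ha ih =>
    rw [Finset.sum_insert ha]
    exact isCharacter_add (h a (Finset.mem_insert_self a s))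
      (ih (fun i hi => h i (Finset.mem_insert_of_mem hi)))

theorem isCharacter_nsmul (n : ℕ) {χ : G → ℂ} (hχ : IsCharacter G χ) :
    IsCharacter G (n • χ) := by
  induction n with
  | zero => simpa using isCharacter_zero
  | succ k ih => rw [succ_nsmul]; exact isCharacter_add ih hχ

theorem isCharacter_restrict (H : Subgroup G) {χ : G → ℂ} (hχ : IsCharacter G χ) :
    IsCharacter H (fun h : H => χ h) := by
  obtain ⟨n, ρ, rfl⟩ := hχ
  exact ⟨n, ρ.comp H.subtype, rfl⟩

end chars

section decomp
variable {G : Type u} [Group G] [Finite G]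

theorem exists_nat_decomp_aux [Fintype (IrrCharacter G)] (n : ℕ) :
    ∀ (V : Type v) [AddCommGroup V] [Module ℂ V] [FiniteDimensional ℂ V]
      (ρ : Representation ℂ G V), Module.finrank ℂ V = n →
      ∃ m : IrrCharacter G → ℕ, ρ.character = ∑ χ, (m χ : ℂ) • (χ : G → ℂ) := by
  classical
  induction n using Nat.strong_induction_on with
  | _ n ih =>
    intro V _ _ _ ρ hn
    rcases Nat.eq_zero_or_pos n with hz | hpos
    · rw [hz] at hn
      refine ⟨fun _ => 0, ?_⟩
      ext g
      rw [character_eq_zero_of_finrank_eq_zero ρ hn]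
      simp
    · haveI : Nontrivial V := Module.finrank_pos_iff.mp (hn ▸ hpos)
      obtain ⟨W, W', hc, hW⟩ := exists_irreducible_compl ρ
      haveI := isIrreducible_of_isAtom W hW
      obtain ⟨m', hm'⟩ := ih _ (hn ▸ finrank_compl_lt hc hW) W'.toSubmodule W'.toRepresentation rfl
      let χW : IrrCharacter G := ⟨W.toRepresentation.character, isIrrCharacter_of_rep _⟩
      refine ⟨fun χ => m' χ + (if χ = χW then 1 else 0), ?_⟩
      ext g
      rw [character_eq_add_of_isCompl hc, hm']
      simp only [Nat.cast_add, add_smul, Finset.sum_add_distrib, Finset.sum_apply, Pi.add_apply,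
        Pi.smul_apply, smul_eq_mul]
      rw [add_comm]
      congr 1
      rw [Finset.sum_eq_single χW]
      · simp [χW]
      · intro b _ hb; simp [hb]
      · intro h; exact absurd (Finset.mem_univ _) h

theorem exists_nat_decomp [Fintype (IrrCharacter G)] {ψ : G → ℂ} (hψ : IsCharacter G ψ) :
    ∃ m : IrrCharacter G → ℕ, ψ = ∑ χ, (m χ : ℂ) • (χ : G → ℂ) := by
  obtain ⟨n, ρ, rfl⟩ := hψ
  exact exists_nat_decomp_aux _ _ ρ rfl

end decomp

section decomp2
variable {G : Type u} [Group G] [Fintype G]

theorem classInner_nat_decomp [Fintype (IrrCharacter G)] (m : IrrCharacter G → ℂ)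
    (χ : IrrCharacter G) :
    classInner (∑ χ', m χ' • (χ' : G → ℂ)) (χ : G → ℂ) = m χ := by
  classical
  rw [classInner_sum_left]
  simp only [classInner_smul_left]
  rw [Finset.sum_eq_single χ]
  · rw [irr_orthonormal χ.2 χ.2, if_pos rfl, mul_one]
  · intro b _ hb
    rw [irr_orthonormal b.2 χ.2, if_neg (fun h => hb (Subtype.ext h)), mul_zero]
  · intro h; exact absurd (Finset.mem_univ _) h

/-- The multiplicity of an irreducible character in a character is a natural number. -/
theorem exists_nat_classInner {ψ : G → ℂ} (hψ : IsCharacter G ψ) {χ : G → ℂ}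
    (hχ : IsIrrCharacter G χ) : ∃ k : ℕ, classInner ψ χ = (k : ℂ) := by
  haveI : Fintype (IrrCharacter G) := @Fintype.ofFinite _ irr_finite
  obtain ⟨m, hm⟩ := exists_nat_decomp hψ
  refine ⟨m ⟨χ, hχ⟩, ?_⟩
  rw [hm]
  exact classInner_nat_decomp (fun χ' => (m χ' : ℂ)) ⟨χ, hχ⟩

end decomp2

section ind
variable {G : Type u} [Group G]

theorem extendByZero_apply_mem (H : Subgroup G) (θ : H → ℂ) {g : G} (hg : g ∈ H) :
    extendByZero H θ g = θ ⟨g, hg⟩ := by
  unfold extendByZero
  exact Subtype.val_injective.extend_apply θ 0 ⟨g, hg⟩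

theorem extendByZero_apply_coe (H : Subgroup G) (θ : H → ℂ) (h : H) :
    extendByZero H θ (h : G) = θ h := by
  unfold extendByZero
  exact Subtype.val_injective.extend_apply θ 0 h

theorem extendByZero_apply_not_mem (H : Subgroup G) (θ : H → ℂ) {g : G} (hg : g ∉ H) :
    extendByZero H θ g = 0 := by
  unfold extendByZero
  rw [Function.extend_apply']
  · rfl
  · rintro ⟨a, rfl⟩
    exact hg a.2

theorem sum_extendByZero_mul [Fintype G] (H : Subgroup G) [Fintype H] (θ : H → ℂ) (c : G → ℂ) :
    ∑ y : G, extendByZero H θ y * c y = ∑ h : H, θ h * c h := by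
  classical
  rw [← Finset.sum_subset (Finset.subset_univ (Finset.univ.filter (· ∈ H)))]
  · rw [Finset.sum_subtype (Finset.univ.filter (· ∈ H)) (p := (· ∈ H)) (by simp)]
    apply Finset.sum_congr rfl
    intro h _
    rw [extendByZero_apply_coe]
  · intro y _ hy
    simp only [Finset.mem_filter, Finset.mem_univ, true_and] at hy
    rw [extendByZero_apply_not_mem H θ hy, zero_mul]

theorem indFun_apply [Fintype G] (H : Subgroup G) (θ : H → ℂ) (g : G) :
    indFun H θ g = (Nat.card H : ℂ)⁻¹ * ∑ x : G, extendByZero H θ (x⁻¹ * g * x) := rfl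

theorem indFun_isClassFunction [Fintype G] (H : Subgroup G) (θ : H → ℂ) :
    IsClassFunction G (indFun H θ) := by
  intro g h
  rw [indFun_apply, indFun_apply]
  congr 1
  rw [← Equiv.sum_comp (Equiv.mulLeft h)]
  apply Finset.sum_congr rfl
  intro x _
  congr 1
  simp only [Equiv.coe_mulLeft]
  group

/-- Frobenius reciprocity. -/
theorem frobenius_reciprocity [Fintype G] (H : Subgroup G) [Fintype H] (θ : H → ℂ)
    {χ : G → ℂ} (hχ : IsClassFunction G χ) :
    classInner (indFun H θ) χ = classInner θ (fun h : H => χ h) := by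
  unfold classInner
  simp only [indFun_apply]
  have hG : (Nat.card G : ℂ) ≠ 0 := by exact_mod_cast (Nat.card_pos (α := G)).ne'
  have h1 : ∀ g : G, ((Nat.card H : ℂ)⁻¹ * ∑ x : G, extendByZero H θ (x⁻¹ * g * x)) * conj (χ g)
      = (Nat.card H : ℂ)⁻¹ * ∑ x : G, extendByZero H θ (x⁻¹ * g * x) * conj (χ (x⁻¹ * g * x)) := by
    intro g
    rw [mul_assoc, Finset.sum_mul]
    congr 1
    apply Finset.sum_congr rfl
    intro x _
    have := hχ g x⁻¹
    rw [inv_inv] at this
    rw [this]
  simp only [h1]
  rw [← Finset.mul_sum, Finset.sum_comm]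
  have h2 : ∀ x : G, ∑ g : G, extendByZero H θ (x⁻¹ * g * x) * conj (χ (x⁻¹ * g * x))
      = ∑ h : H, θ h * conj (χ h) := by
    intro x
    rw [← sum_extendByZero_mul H θ (fun y => conj (χ y))]
    exact Equiv.sum_comp ((Equiv.mulLeft x⁻¹).trans (Equiv.mulRight x))
      (fun y => extendByZero H θ y * conj (χ y))
  simp only [h2]
  rw [Finset.sum_const, Finset.card_univ, nsmul_eq_mul, ← Nat.card_eq_fintype_card]
  field_simp

end ind

section more
variable {G : Type u} [Group G] [Fintype G]

/-- The inner product of two characters is a natural number. -/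
theorem exists_nat_classInner_char {α β : G → ℂ} (hα : IsCharacter G α) (hβ : IsCharacter G β) :
    ∃ k : ℕ, classInner α β = (k : ℂ) := by
  classical
  haveI : Fintype (IrrCharacter G) := @Fintype.ofFinite _ irr_finite
  obtain ⟨m, hm⟩ := exists_nat_decomp hβ
  have h : ∀ χ : IrrCharacter G, ∃ k : ℕ, classInner α (χ : G → ℂ) = (k : ℂ) :=
    fun χ => exists_nat_classInner hα χ.2
  choose a ha using h
  refine ⟨∑ χ, m χ * a χ, ?_⟩
  rw [hm, classInner_sum_right]
  simp only [classInner_smul_right, ha, Complex.conj_natCast]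
  push_cast
  rfl

/-- A class function all of whose multiplicities are natural numbers is a character. -/
theorem isCharacter_of_nat_classInner {f : G → ℂ} (hf : IsClassFunction G f)
    (h : ∀ χ : G → ℂ, IsIrrCharacter G χ → ∃ k : ℕ, classInner f χ = (k : ℂ)) :
    IsCharacter G f := by
  haveI : Fintype (IrrCharacter G) := @Fintype.ofFinite _ irr_finite
  rw [class_function_expansion hf]
  apply isCharacter_sum
  intro χ _
  obtain ⟨k, hk⟩ := h χ χ.2
  rw [hk, Nat.cast_smul_eq_nsmul]
  exact isCharacter_nsmul k (IsIrrCharacter.isCharacter χ.2)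

/-- The function induced from a character of a subgroup is a character. -/
theorem isCharacter_indFun (H : Subgroup G) {θ : H → ℂ} (hθ : IsCharacter H θ) :
    IsCharacter G (indFun H θ) := by
  haveI : Fintype H := Fintype.ofFinite H
  apply isCharacter_of_nat_classInner (indFun_isClassFunction H θ)
  intro χ hχ
  rw [frobenius_reciprocity H θ (isClassFunction_of_isCharacter (IsIrrCharacter.isCharacter hχ))]
  exact exists_nat_classInner_char hθ (isCharacter_restrict H (IsIrrCharacter.isCharacter hχ))

end more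
end Cfsg.Agent.Helper81
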