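import Mathlib
import Cfsg.Prelude.Def_Characters

set_option autoImplicit false
set_option linter.style.haveILetI false

namespace Cfsg.Agent.Helper81

open Representation
open scoped ComplexConjugate

universe u v w

section transport

variable {G : Type u} [Group G] {V : Type v} [AddCommGroup V] [Module ℂ V]
  {W : Type w} [AddCommGroup W] [Module ℂ W]

/-- Transport a representation along a linear equivalence. -/
noncomputable def conjRep (ρ : Representation ℂ G V)
    (e : V ≃ₗ[ℂ] W) : Representation ℂ G W :=
  (e.conjRingEquiv : Module.End ℂ V →* Module.End ℂ W).comp ρ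

theorem conjRep_apply (ρ : Representation ℂ G V)
    (e : V ≃ₗ[ℂ] W) (g : G) : conjRep ρ e g = e.conj (ρ g) := rfl

/-- The canonical equivalence between a representation and its transport. -/
noncomputable def conjRepEquiv
    (ρ : Representation ℂ G V) (e : V ≃ₗ[ℂ] W) : ρ.Equiv (conjRep ρ e) :=
  Representation.Equiv.mk e (fun g => by
    ext v
    simp [conjRep_apply, LinearEquiv.conj_apply])

open scoped MonoidAlgebra in
theorem isIrreducible_of_equiv {ρ : Representation ℂ G V} {σ : Representation ℂ G W}
    (φ : ρ.Equiv σ) [hρ : ρ.IsIrreducible] : σ.IsIrreducible := by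
  rw [irreducible_iff_isSimpleModule_asModule] at hρ ⊢
  let f : ρ.asModule →ₗ[ℂ[G]] σ.asModule :=
    IntertwiningMap.equivLinearMapAsModule ρ σ φ.toIntertwiningMap
  have hf : Function.Bijective f := φ.toLinearEquiv.bijective
  exact IsSimpleModule.congr (LinearEquiv.ofBijective f hf).symm

theorem isCharacter_of_rep [FiniteDimensional ℂ V] (ρ : Representation ℂ G V) :
    IsCharacter G ρ.character := by
  let e : V ≃ₗ[ℂ] (Fin (Module.finrank ℂ V) → ℂ) := (Module.finBasis ℂ V).equivFun
  exact ⟨_, conjRep ρ e, (char_iso (conjRepEquiv ρ e)).symm⟩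

theorem isIrrCharacter_of_rep [FiniteDimensional ℂ V] (ρ : Representation ℂ G V)
    [ρ.IsIrreducible] : IsIrrCharacter G ρ.character := by
  let e : V ≃ₗ[ℂ] (Fin (Module.finrank ℂ V) → ℂ) := (Module.finBasis ℂ V).equivFun
  exact ⟨_, conjRep ρ e, isIrreducible_of_equiv (conjRepEquiv ρ e),
    (char_iso (conjRepEquiv ρ e)).symm⟩

theorem IsIrrCharacter.isCharacter {χ : G → ℂ} (h : IsIrrCharacter G χ) : IsCharacter G χ := by
  obtain ⟨n, ρ, _, h⟩ := h
  exact ⟨n, ρ, h⟩

end transport

section subrep

variable {G : Type u} [Group G] {V : Type v} [AddCommGroup V] [Module ℂ V]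

/-- The image in `ρ` of a subrepresentation of a subrepresentation. -/
def subrepMap {ρ : Representation ℂ G V} (W : Subrepresentation ρ)
    (U : Subrepresentation W.toRepresentation) : Subrepresentation ρ where
  toSubmodule := U.toSubmodule.map W.toSubmodule.subtype
  apply_mem_toSubmodule g v hv := by
    obtain ⟨u, hu, rfl⟩ := hv
    exact ⟨W.toRepresentation g u, U.apply_mem_toSubmodule g hu, rfl⟩

theorem subrepMap_le {ρ : Representation ℂ G V} (W : Subrepresentation ρ)
    (U : Subrepresentation W.toRepresentation) : subrepMap W U ≤ W := by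
  intro v hv
  obtain ⟨u, _, rfl⟩ := hv
  exact u.2

theorem isIrreducible_of_isAtom {ρ : Representation ℂ G V} (W : Subrepresentation ρ)
    (hW : IsAtom W) : W.toRepresentation.IsIrreducible := by
  have hne : W ≠ ⊥ := hW.1
  refine { exists_pair_ne := ⟨⊥, ⊤, ?_⟩, eq_bot_or_eq_top := ?_ }
  · intro h
    apply hne
    apply le_antisymm _ bot_le
    intro v hv
    have : (⟨v, hv⟩ : W.toSubmodule) ∈ (⊤ : Subrepresentation W.toRepresentation) := trivial
    rw [← h] at this
    have h0 : (⟨v, hv⟩ : W.toSubmodule) = 0 := this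
    have : v = 0 := congrArg Subtype.val h0
    rw [this]; exact (⊥ : Subrepresentation ρ).toSubmodule.zero_mem
  · intro U
    rcases (hW.le_iff.mp (subrepMap_le W U)) with h | h
    · left
      apply le_antisymm _ bot_le
      intro u hu
      have : (u : V) ∈ subrepMap W U := ⟨u, hu, rfl⟩
      rw [h] at this
      have h0 : (u : V) = 0 := this
      have : u = 0 := Subtype.ext h0
      rw [this]; exact (⊥ : Subrepresentation W.toRepresentation).toSubmodule.zero_mem
    · right
      apply le_antisymm le_top
      intro u _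
      have : (u : V) ∈ subrepMap W U := by rw [h]; exact u.2
      obtain ⟨u', hu', he⟩ := this
      have : u' = u := Subtype.ext he
      rw [← this]; exact hu'

theorem toSubmodule_lt {ρ : Representation ℂ G V} {U W : Subrepresentation ρ} (h : U < W) :
    U.toSubmodule < W.toSubmodule := by
  constructor
  · exact h.le
  · intro h'
    exact h.not_ge h'

theorem exists_isAtom [FiniteDimensional ℂ V] [Nontrivial V] (ρ : Representation ℂ G V) :
    ∃ W : Subrepresentation ρ, IsAtom W := by
  classical
  have hex : ∃ n : ℕ, ∃ W : Subrepresentation ρ, W ≠ ⊥ ∧ Module.finrank ℂ W.toSubmodule = n := by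
    refine ⟨_, ⊤, ?_, rfl⟩
    intro h
    obtain ⟨v, hv⟩ := exists_ne (0 : V)
    have : v ∈ (⊤ : Subrepresentation ρ) := trivial
    rw [h] at this
    exact hv this
  obtain ⟨W, hW, hn⟩ := Nat.find_spec hex
  refine ⟨W, hW, ?_⟩
  intro U hU
  by_contra hU0
  have hlt : Module.finrank ℂ U.toSubmodule < Module.finrank ℂ W.toSubmodule :=
    Submodule.finrank_lt_finrank_of_lt (toSubmodule_lt hU)
  rw [hn] at hlt
  exact Nat.find_min hex hlt ⟨U, hU0, rfl⟩

theorem exists_irreducible_compl [Finite G] [FiniteDimensional ℂ V] [Nontrivial V]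
    (ρ : Representation ℂ G V) :
    ∃ W W' : Subrepresentation ρ, IsCompl W W' ∧ IsAtom W := by
  obtain ⟨W, hW⟩ := exists_isAtom ρ
  haveI : NeZero (Nat.card G : ℂ) := ⟨by exact_mod_cast (Nat.card_pos (α := G)).ne'⟩
  obtain ⟨W', hW'⟩ := exists_isCompl W
  exact ⟨W, W', hW', hW⟩

theorem isCompl_toSubmodule {ρ : Representation ℂ G V} {W W' : Subrepresentation ρ}
    (h : IsCompl W W') : IsCompl W.toSubmodule W'.toSubmodule := by
  constructor
  · rw [disjoint_iff]
    exact congrArg Subrepresentation.toSubmodule h.inf_eq_bot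
  · rw [codisjoint_iff]
    exact congrArg Subrepresentation.toSubmodule h.sup_eq_top

theorem character_eq_add_of_isCompl [FiniteDimensional ℂ V] {ρ : Representation ℂ G V}
    {W W' : Subrepresentation ρ} (h : IsCompl W W') (g : G) :
    ρ.character g = W.toRepresentation.character g + W'.toRepresentation.character g := by
  have hc := isCompl_toSubmodule h
  let N : Bool → Submodule ℂ V := fun b => cond b W.toSubmodule W'.toSubmodule
  have hint : DirectSum.IsInternal N := by
    rw [DirectSum.isInternal_submodule_iff_isCompl N (i := true) (j := false) (by decide)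
      (by ext b; cases b <;> simp)]
    exact hc
  have hf : ∀ b, Set.MapsTo (ρ g) (N b) (N b) := by
    intro b
    cases b
    · exact fun v hv => W'.apply_mem_toSubmodule g hv
    · exact fun v hv => W.apply_mem_toSubmodule g hv
  have hfin : ∀ b, Module.Finite ℂ (N b) := fun b => by cases b <;> infer_instance
  have hfree : ∀ b, Module.Free ℂ (N b) := fun b => by cases b <;> infer_instance
  have := LinearMap.trace_eq_sum_trace_restrict hint hf
  rw [Fintype.sum_bool] at this
  exact this

theorem finrank_compl_lt [FiniteDimensional ℂ V] {ρ : Representation ℂ G V}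
    {W W' : Subrepresentation ρ} (h : IsCompl W W') (hW : IsAtom W) :
    Module.finrank ℂ W'.toSubmodule < Module.finrank ℂ V := by
  have h1 := Submodule.finrank_add_eq_of_isCompl (isCompl_toSubmodule h)
  have h2 : 0 < Module.finrank ℂ W.toSubmodule := by
    rw [Module.finrank_pos_iff, Submodule.nontrivial_iff_ne_bot]
    intro h0
    apply hW.1
    apply Subrepresentation.toSubmodule_injective
    exact h0
  omega

theorem character_eq_zero_of_finrank_eq_zero [FiniteDimensional ℂ V] (ρ : Representation ℂ G V)
    (h : Module.finrank ℂ V = 0) (g : G) : ρ.character g = 0 := by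
  haveI : Subsingleton V := Module.finrank_zero_iff.mp h
  have : ρ g = 0 := Subsingleton.elim _ _
  unfold Representation.character
  rw [this, map_zero]

theorem nontrivial_of_isIrreducible (ρ : Representation ℂ G V) [hρ : ρ.IsIrreducible] :
    Nontrivial V := by
  obtain ⟨a, b, hab⟩ := hρ.exists_pair_ne
  by_contra hV
  rw [not_nontrivial_iff_subsingleton] at hV
  apply hab
  apply Subrepresentation.toSubmodule_injective
  exact Subsingleton.elim _ _

theorem schur_scalar [FiniteDimensional ℂ V] (ρ : Representation ℂ G V) [ρ.IsIrreducible]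
    (T : V →ₗ[ℂ] V) (hT : ∀ g, T ∘ₗ ρ g = ρ g ∘ₗ T) : ∃ c : ℂ, T = c • LinearMap.id := by
  let T' : IntertwiningMap ρ ρ := ⟨T, hT⟩
  obtain ⟨c, hc⟩ :=
    (IsIrreducible.algebraMap_intertwiningMap_bijective_of_isAlgClosed (ρ := ρ)).2 T'
  refine ⟨c, ?_⟩
  have := congrArg IntertwiningMap.toLinearMap hc
  rw [IntertwiningMap.algebraMap_apply] at this
  rw [← show T'.toLinearMap = T from rfl, ← this]
  ext v
  simp

end subrep

section conjugation

theorem char_inv_irr_comm {A : Type u} [Group A] [IsMulCommutative A] [Finite A] {V : Type v}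
    [AddCommGroup V] [Module ℂ V] [FiniteDimensional ℂ V] (ρ : Representation ℂ A V)
    [ρ.IsIrreducible] (a : A) :
    ρ.character a⁻¹ = conj (ρ.character a) := by
  haveI := nontrivial_of_isIrreducible ρ
  obtain ⟨c, hc⟩ := schur_scalar ρ (ρ a) (fun g => by
    have h1 : ρ a ∘ₗ ρ g = ρ (a * g) := by rw [map_mul]; rfl
    have h2 : ρ g ∘ₗ ρ a = ρ (g * a) := by rw [map_mul]; rfl
    rw [h1, h2, mul_comm'])
  obtain ⟨v, hv⟩ := exists_ne (0 : V)
  have hm : 0 < orderOf a := orderOf_pos a
  have hpow : c ^ orderOf a = 1 := by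
    have h1 : (ρ a) ^ orderOf a = 1 := by rw [← map_pow, pow_orderOf_eq_one, map_one]
    rw [hc] at h1
    have h2 : (c • (LinearMap.id : V →ₗ[ℂ] V)) ^ orderOf a = (c ^ orderOf a) • LinearMap.id := by
      rw [smul_pow]
      congr 1
      exact one_pow _
    rw [h2] at h1
    have h3 := LinearMap.congr_fun h1 v
    simp at h3
    by_contra hne
    have : (c ^ orderOf a - 1) • v = 0 := by rw [sub_smul, h3, one_smul, sub_self]
    rcases smul_eq_zero.mp this with h | h
    · exact hne (sub_eq_zero.mp h)
    · exact hv h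
  have hnorm : ‖c‖ = 1 := Complex.norm_eq_one_of_pow_eq_one hpow hm.ne'
  have hc0 : c ≠ 0 := by
    intro h; rw [h] at hnorm; simp at hnorm
  have hinv : ρ a⁻¹ = c⁻¹ • LinearMap.id := by
    have h1 : ρ a * ρ a⁻¹ = 1 := by rw [← map_mul, mul_inv_cancel, map_one]
    rw [hc] at h1
    have : ρ a⁻¹ = c⁻¹ • ((c • (LinearMap.id : V →ₗ[ℂ] V)) * ρ a⁻¹) := by
      rw [smul_mul_assoc, smul_smul, inv_mul_cancel₀ hc0, one_smul]
      rfl
    rw [this, h1]; rfl
  unfold Representation.character
  rw [hinv, hc, map_smul, map_smul, smul_eq_mul, smul_eq_mul, map_mul, ← Complex.inv_eq_conj hnorm]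
  congr 1
  rw [LinearMap.trace_id]
  simp

theorem char_inv_comm_aux {A : Type u} [Group A] [IsMulCommutative A] [Finite A] (n : ℕ) :
    ∀ (V : Type v) [AddCommGroup V] [Module ℂ V] [FiniteDimensional ℂ V]
      (ρ : Representation ℂ A V), Module.finrank ℂ V = n →
      ∀ a : A, ρ.character a⁻¹ = conj (ρ.character a) := by
  induction n using Nat.strong_induction_on with
  | _ n ih =>
    intro V _ _ _ ρ hn a
    rcases Nat.eq_zero_or_pos n with h0 | hpos
    · rw [h0] at hn
      rw [character_eq_zero_of_finrank_eq_zero ρ hn, character_eq_zero_of_finrank_eq_zero ρ hn]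
      simp
    · haveI : Nontrivial V := Module.finrank_pos_iff.mp (hn ▸ hpos)
      obtain ⟨W, W', hc, hW⟩ := exists_irreducible_compl ρ
      haveI := isIrreducible_of_isAtom W hW
      rw [character_eq_add_of_isCompl hc, character_eq_add_of_isCompl hc, map_add,
        char_inv_irr_comm W.toRepresentation a,
        ih _ (hn ▸ finrank_compl_lt hc hW) W'.toSubmodule W'.toRepresentation rfl a]

/-- The value of a character at `g⁻¹` is the complex conjugate of the value at `g`. -/
theorem char_inv {G : Type u} [Group G] [Finite G] {V : Type v} [AddCommGroup V]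
    [Module ℂ V] [FiniteDimensional ℂ V] (ρ : Representation ℂ G V) (g : G) :
    ρ.character g⁻¹ = conj (ρ.character g) := by
  let H := Subgroup.zpowers g
  let σ : Representation ℂ H V := ρ.comp H.subtype
  exact char_inv_comm_aux (A := H) _ V σ rfl ⟨g, Subgroup.mem_zpowers g⟩

end conjugation

section ortho
variable {G : Type u} [Group G] [Fintype G]

open scoped Classical in
theorem classInner_rep_eq {V : Type v} [AddCommGroup V] [Module ℂ V] [FiniteDimensional ℂ V]
    {W : Type w} [AddCommGroup W] [Module ℂ W] [FiniteDimensional ℂ W]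
    (ρ : Representation ℂ G V) (σ : Representation ℂ G W) [ρ.IsIrreducible] [σ.IsIrreducible] :
    classInner ρ.character σ.character = if Nonempty (σ.Equiv ρ) then 1 else 0 := by
  haveI : Invertible (Nat.card G : ℂ) :=
    invertibleOfNonzero (by exact_mod_cast (Nat.card_pos (α := G)).ne')
  have h := char_orthonormal ρ σ
  unfold classInner
  simp only [char_inv] at h
  rw [h]

open scoped Classical in
/-- Irreducible characters are orthonormal. -/
theorem irr_orthonormal {χ ψ : G → ℂ} (hχ : IsIrrCharacter G χ) (hψ : IsIrrCharacter G ψ) :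
    classInner χ ψ = if χ = ψ then 1 else 0 := by
  obtain ⟨n, ρ, hρ, rfl⟩ := hχ
  obtain ⟨m, σ, hσ, rfl⟩ := hψ
  rw [classInner_rep_eq ρ σ]
  by_cases h : Nonempty (σ.Equiv ρ)
  · obtain ⟨φ⟩ := h
    have : ρ.character = σ.character := (char_iso φ).symm
    rw [if_pos ⟨φ⟩, if_pos this]
  · rw [if_neg h]
    by_cases h2 : ρ.character = σ.character
    · exfalso
      have h3 := classInner_rep_eq ρ σ
      rw [if_neg h] at h3
      have h4 := classInner_rep_eq ρ ρ
      rw [if_pos ⟨Representation.Equiv.refl ρ⟩] at h4
      rw [← h2, h4] at h3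
      exact one_ne_zero h3
    · rw [if_neg h2]

end ortho

section inner
variable {G : Type u} [Group G] [Fintype G]

theorem classInner_add_left (φ₁ φ₂ ψ : G → ℂ) :
    classInner (φ₁ + φ₂) ψ = classInner φ₁ ψ + classInner φ₂ ψ := by
  simp only [classInner, Pi.add_apply, add_mul, Finset.sum_add_distrib, mul_add]

theorem classInner_sub_left (φ₁ φ₂ ψ : G → ℂ) :
    classInner (φ₁ - φ₂) ψ = classInner φ₁ ψ - classInner φ₂ ψ := by
  simp only [classInner, Pi.sub_apply, sub_mul, Finset.sum_sub_distrib, mul_sub]

theorem classInner_smul_left (c : ℂ) (φ ψ : G → ℂ) :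
    classInner (c • φ) ψ = c * classInner φ ψ := by
  simp only [classInner, Pi.smul_apply, smul_eq_mul, mul_assoc, ← Finset.mul_sum]
  ring

theorem classInner_zero_left (ψ : G → ℂ) : classInner (0 : G → ℂ) ψ = 0 := by
  simp [classInner]

theorem classInner_sum_left {ι : Type*} (s : Finset ι) (φ : ι → G → ℂ) (ψ : G → ℂ) :
    classInner (∑ i ∈ s, φ i) ψ = ∑ i ∈ s, classInner (φ i) ψ := by
  classical
  induction s using Finset.induction_on with
  | empty => simp [classInner_zero_left]
  | insert a s ha ih => rw [Finset.sum_insert ha, Finset.sum_insert ha, classInner_add_left, ih]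

theorem classInner_conj_symm (φ ψ : G → ℂ) : classInner ψ φ = conj (classInner φ ψ) := by
  simp only [classInner, map_mul, map_inv₀, map_natCast, map_sum, Complex.conj_conj]
  congr 1
  apply Finset.sum_congr rfl
  intro g _
  ring

theorem classInner_add_right (φ ψ₁ ψ₂ : G → ℂ) :
    classInner φ (ψ₁ + ψ₂) = classInner φ ψ₁ + classInner φ ψ₂ := by
  simp only [classInner, Pi.add_apply, map_add, mul_add, Finset.sum_add_distrib]

theorem classInner_zero_right (φ : G → ℂ) : classInner φ (0 : G → ℂ) = 0 := by
  simp [classInner]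

theorem classInner_smul_right (c : ℂ) (φ ψ : G → ℂ) :
    classInner φ (c • ψ) = conj c * classInner φ ψ := by
  simp only [classInner, Pi.smul_apply, smul_eq_mul, map_mul]
  rw [Finset.mul_sum, Finset.mul_sum, Finset.mul_sum]
  apply Finset.sum_congr rfl
  intro g _
  ring

theorem classInner_sum_right {ι : Type*} (s : Finset ι) (φ : G → ℂ) (ψ : ι → G → ℂ) :
    classInner φ (∑ i ∈ s, ψ i) = ∑ i ∈ s, classInner φ (ψ i) := by
  classical
  induction s using Finset.induction_on with
  | empty => simp [classInner_zero_right]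
  | insert a s ha ih => rw [Finset.sum_insert ha, Finset.sum_insert ha, classInner_add_right, ih]

end inner

section opsum
variable {G : Type u} [Group G] [Fintype G] {V : Type v} [AddCommGroup V] [Module ℂ V]

/-- The operator `∑ g, f g • ρ g`. -/
noncomputable def opSum (ρ : Representation ℂ G V) (f : G → ℂ) : V →ₗ[ℂ] V :=
  ∑ g : G, f g • ρ g

theorem opSum_apply (ρ : Representation ℂ G V) (f : G → ℂ) (v : V) :
    opSum ρ f v = ∑ g : G, f g • ρ g v := by
  simp [opSum, LinearMap.sum_apply]

theorem opSum_comm (ρ : Representation ℂ G V) {f : G → ℂ} (hf : IsClassFunction G f) (h : G) :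
    opSum ρ f ∘ₗ ρ h = ρ h ∘ₗ opSum ρ f := by
  ext v
  simp only [LinearMap.comp_apply, opSum_apply, map_sum, map_smul]
  rw [← Equiv.sum_comp (Equiv.mulRight h⁻¹ |>.trans (Equiv.mulLeft h))]
  apply Finset.sum_congr rfl
  intro g _
  simp only [Equiv.trans_apply, Equiv.coe_mulRight, Equiv.coe_mulLeft]
  rw [show f (h * (g * h⁻¹)) = f g by rw [← mul_assoc]; exact hf g h]
  congr 1
  rw [← Module.End.mul_apply, ← map_mul, ← Module.End.mul_apply, ← map_mul]
  congr 2
  group

theorem trace_opSum [FiniteDimensional ℂ V] (ρ : Representation ℂ G V) (f : G → ℂ) :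
    LinearMap.trace ℂ V (opSum ρ f) = ∑ g : G, f g * ρ.character g := by
  simp [opSum, map_sum, Representation.character]

theorem opSum_subrep (ρ : Representation ℂ G V) (f : G → ℂ) (W : Subrepresentation ρ)
    (w : W.toSubmodule) : (opSum W.toRepresentation f w : V) = opSum ρ f (w : V) := by
  rw [opSum_apply, opSum_apply]
  simp only [Submodule.coe_sum, Submodule.coe_smul]
  rfl

theorem opSum_irr_eq_zero [FiniteDimensional ℂ V] (ρ : Representation ℂ G V) [ρ.IsIrreducible]
    {f : G → ℂ} (hf : IsClassFunction G f) (h0 : ∑ g : G, f g * ρ.character g = 0) :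
    opSum ρ f = 0 := by
  haveI := nontrivial_of_isIrreducible ρ
  obtain ⟨c, hc⟩ := schur_scalar ρ (opSum ρ f) (opSum_comm ρ hf)
  have ht := trace_opSum ρ f
  rw [h0, hc, map_smul, LinearMap.trace_id, smul_eq_mul] at ht
  have hpos : (Module.finrank ℂ V : ℂ) ≠ 0 := by
    exact_mod_cast (Module.finrank_pos (R := ℂ) (M := V)).ne'
  have : c = 0 := by
    rcases mul_eq_zero.mp ht with h | h
    · exact h
    · exact absurd h hpos
  rw [hc, this, zero_smul]

theorem opSum_eq_zero_aux {f : G → ℂ} (hf : IsClassFunction G f)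
    (h0 : ∀ χ : G → ℂ, IsIrrCharacter G χ → ∑ g : G, f g * χ g = 0) (n : ℕ) :
    ∀ (V : Type v) [AddCommGroup V] [Module ℂ V] [FiniteDimensional ℂ V]
      (ρ : Representation ℂ G V), Module.finrank ℂ V = n → opSum ρ f = 0 := by
  induction n using Nat.strong_induction_on with
  | _ n ih =>
    intro V _ _ _ ρ hn
    rcases Nat.eq_zero_or_pos n with hz | hpos
    · rw [hz] at hn
      haveI : Subsingleton V := Module.finrank_zero_iff.mp hn
      exact Subsingleton.elim _ _
    · haveI : Nontrivial V := Module.finrank_pos_iff.mp (hn ▸ hpos)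
      obtain ⟨W, W', hc, hW⟩ := exists_irreducible_compl ρ
      haveI := isIrreducible_of_isAtom W hW
      have h1 : opSum W.toRepresentation f = 0 :=
        opSum_irr_eq_zero _ hf (h0 _ (isIrrCharacter_of_rep W.toRepresentation))
      have h2 : opSum W'.toRepresentation f = 0 :=
        ih _ (hn ▸ finrank_compl_lt hc hW) W'.toSubmodule W'.toRepresentation rfl
      ext v
      have hv : v ∈ W.toSubmodule ⊔ W'.toSubmodule := by
        rw [(isCompl_toSubmodule hc).sup_eq_top]; trivial
      obtain ⟨w, hw, w', hw', rfl⟩ := Submodule.mem_sup.mp hv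
      rw [map_add, ← opSum_subrep ρ f W ⟨w, hw⟩, ← opSum_subrep ρ f W' ⟨w', hw'⟩, h1, h2]
      simp

open scoped MonoidAlgebra in
theorem eq_zero_of_opSum_leftRegular {f : G → ℂ}
    (h : opSum (leftRegular ℂ G) f = 0) : f = 0 := by
  classical
  have h1 := LinearMap.congr_fun h (MonoidAlgebra.single 1 1)
  rw [opSum_apply] at h1
  simp only [ofMulAction_single, smul_eq_mul, mul_one, LinearMap.zero_apply] at h1
  ext x
  have h2 := congrArg (fun a : ℂ[G] => a.coeff x) h1
  simp [MonoidAlgebra.coeff_sum, MonoidAlgebra.coeff_single] at h2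
  simp only [Finsupp.single_apply, Finset.sum_ite_eq', Finset.mem_univ, if_true] at h2
  simpa using h2

end opsum

section completeness
variable {G : Type u} [Group G] [Fintype G]

/-- Irreducible characters are linearly independent. -/
theorem irr_linearIndependent :
    LinearIndependent ℂ (fun χ : IrrCharacter G => (χ : G → ℂ)) := by
  classical
  rw [linearIndependent_iff']
  intro s c hc j hj
  have h1 := congrArg (fun f => classInner f (j : G → ℂ)) hc
  simp only [classInner_sum_left, classInner_smul_left, classInner_zero_left] at h1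
  rw [Finset.sum_eq_single j] at h1
  · rw [irr_orthonormal j.2 j.2, if_pos rfl, mul_one] at h1
    exact h1
  · intro i _ hij
    rw [irr_orthonormal i.2 j.2, if_neg (fun h => hij (Subtype.ext h)), mul_zero]
  · intro h; exact absurd hj h

theorem irr_finite : Finite (IrrCharacter G) := irr_linearIndependent.finite

omit [Fintype G] in
theorem isClassFunction_of_isCharacter {χ : G → ℂ} (h : IsCharacter G χ) :
    IsClassFunction G χ := by
  obtain ⟨n, ρ, rfl⟩ := h
  intro g h
  exact char_conj ρ g h

/-- A class function orthogonal to all irreducible characters vanishes. -/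
theorem eq_zero_of_classInner_irr_eq_zero {f : G → ℂ} (hf : IsClassFunction G f)
    (h0 : ∀ χ : G → ℂ, IsIrrCharacter G χ → classInner f χ = 0) : f = 0 := by
  have hcard : (Nat.card G : ℂ) ≠ 0 := by exact_mod_cast (Nat.card_pos (α := G)).ne'
  let f' : G → ℂ := fun g => conj (f g)
  have hf' : IsClassFunction G f' := fun g h => by simp only [f', hf g h]
  have h0' : ∀ χ : G → ℂ, IsIrrCharacter G χ → ∑ g : G, f' g * χ g = 0 := by
    intro χ hχ
    have h1 := h0 χ hχ
    unfold classInner at h1
    have h2 : ∑ g : G, f g * conj (χ g) = 0 := by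
      rcases mul_eq_zero.mp h1 with h | h
      · exact absurd (inv_eq_zero.mp h) hcard
      · exact h
    have h3 := congrArg conj h2
    simp only [map_sum, map_mul, Complex.conj_conj, map_zero] at h3
    exact h3
  have h4 : opSum (leftRegular ℂ G) f' = 0 :=
    opSum_eq_zero_aux hf' h0' _ _ (leftRegular ℂ G) rfl
  have h5 := eq_zero_of_opSum_leftRegular h4
  ext g
  have h6 := congrFun h5 g
  simp only [f', Pi.zero_apply] at h6
  have h7 := congrArg conj h6
  simpa using h7

/-- Completeness: a class function is the combination of the irreducible characters with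
coefficients given by the inner products. -/
theorem class_function_expansion [Fintype (IrrCharacter G)] {f : G → ℂ}
    (hf : IsClassFunction G f) :
    f = ∑ χ : IrrCharacter G, classInner f (χ : G → ℂ) • (χ : G → ℂ) := by
  classical
  rw [← sub_eq_zero]
  apply eq_zero_of_classInner_irr_eq_zero
  · intro g h
    simp only [Pi.sub_apply, Finset.sum_apply, Pi.smul_apply, smul_eq_mul]
    rw [hf g h]
    congr 1
    apply Finset.sum_congr rfl
    intro χ _
    rw [isClassFunction_of_isCharacter (IsIrrCharacter.isCharacter χ.2) g h]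
  · intro ψ hψ
    rw [classInner_sub_left, classInner_sum_left]
    simp only [classInner_smul_left]
    rw [Finset.sum_eq_single ⟨ψ, hψ⟩]
    · rw [irr_orthonormal hψ hψ, if_pos rfl, mul_one, sub_self]
    · intro χ _ hne
      rw [irr_orthonormal χ.2 hψ, if_neg (fun h => hne (Subtype.ext h)), mul_zero]
    · intro h; exact absurd (Finset.mem_univ _) h

end completeness

end Cfsg.Agent.Helper81
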