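import Cfsg.Agent.Lib.Helper81.CharInd

set_option autoImplicit false
set_option linter.style.haveILetI false
set_option linter.unusedSectionVars false

namespace Cfsg.Agent.Helper81

open Representation
open scoped ComplexConjugate

universe u v w

section conjfun
variable {G : Type u} [Group G]

/-- Composition of an irreducible representation with a surjective homomorphism is irreducible. -/
theorem isIrreducible_comp_of_surjective {K : Type w} [Group K] {V : Type v} [AddCommGroup V]
    [Module ℂ V] (ρ : Representation ℂ G V) [hρ : ρ.IsIrreducible] (φ : K →* G)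
    (hφ : Function.Surjective φ) :
    Representation.IsIrreducible (ρ.comp φ : Representation ℂ K V) := by
  have key : ∀ U : Subrepresentation (ρ.comp φ : Representation ℂ K V), ∃ U' : Subrepresentation ρ,
      U'.toSubmodule = U.toSubmodule := by
    intro U
    refine ⟨⟨U.toSubmodule, ?_⟩, rfl⟩
    intro g v hv
    obtain ⟨k, rfl⟩ := hφ g
    exact U.apply_mem_toSubmodule k hv
  refine { exists_pair_ne := ⟨⊥, ⊤, ?_⟩, eq_bot_or_eq_top := ?_ }
  · intro h
    have h1 : (⊥ : Subrepresentation ρ) ≠ ⊤ := bot_ne_top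
    apply h1
    apply Subrepresentation.toSubmodule_injective
    have h2 := congrArg Subrepresentation.toSubmodule h
    exact h2
  · intro U
    obtain ⟨U', hU'⟩ := key U
    rcases hρ.eq_bot_or_eq_top U' with h | h
    · left
      apply Subrepresentation.toSubmodule_injective
      rw [← hU', h]; rfl
    · right
      apply Subrepresentation.toSubmodule_injective
      rw [← hU', h]; rfl

/-- The conjugate of a function on a normal subgroup by an element of the group. -/
def conjFun (N : Subgroup G) (hN : N.Normal) (θ : N → ℂ) (g : G) : N → ℂ :=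
  fun n => θ ⟨g * n * g⁻¹, hN.conj_mem n n.2 g⟩

theorem conjFun_apply (N : Subgroup G) (hN : N.Normal) (θ : N → ℂ) (g : G) (n : N) :
    conjFun N hN θ g n = θ ⟨g * n * g⁻¹, hN.conj_mem n n.2 g⟩ := rfl

theorem conjFun_isIrrCharacter (N : Subgroup G) (hN : N.Normal) {θ : N → ℂ}
    (hθ : IsIrrCharacter N θ) (g : G) : IsIrrCharacter N (conjFun N hN θ g) := by
  obtain ⟨k, ρ, hρ, rfl⟩ := hθ
  haveI := hN
  let φ : N →* N := (MulAut.conjNormal g : N ≃* N).toMonoidHom
  have hφ : Function.Surjective φ := (MulAut.conjNormal g : N ≃* N).surjective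
  haveI := isIrreducible_comp_of_surjective ρ φ hφ
  refine ⟨k, ρ.comp φ, this, ?_⟩
  ext n
  simp only [conjFun_apply, Representation.character]
  congr 2

theorem conjFun_one (N : Subgroup G) (hN : N.Normal) (θ : N → ℂ) : conjFun N hN θ 1 = θ := by
  ext n
  simp [conjFun_apply]

theorem conjFun_mul (N : Subgroup G) (hN : N.Normal) (θ : N → ℂ) (g h : G) :
    conjFun N hN (conjFun N hN θ g) h = conjFun N hN θ (g * h) := by
  ext n
  simp only [conjFun_apply]
  congr 1
  apply Subtype.ext
  simp only
  group

end conjfun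

section clifford1
variable {G : Type u} [Group G] [Fintype G]

theorem indFun_apply_normal (N : Subgroup G) (hN : N.Normal) (θ : N → ℂ) (n : N) :
    indFun N θ (n : G) = (Nat.card N : ℂ)⁻¹ * ∑ x : G, conjFun N hN θ x n := by
  rw [indFun_apply]
  congr 1
  rw [← Equiv.sum_comp (Equiv.inv G)]
  apply Finset.sum_congr rfl
  intro x _
  simp only [Equiv.inv_apply, inv_inv, conjFun_apply]
  exact extendByZero_apply_mem N θ _

theorem classInner_restrict_conjFun (N : Subgroup G) [Fintype N] (hN : N.Normal) {χ : G → ℂ}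
    (hχ : IsClassFunction G χ) (θ : N → ℂ) (g : G) :
    classInner (fun n : N => χ n) (conjFun N hN θ g) = classInner (fun n : N => χ n) θ := by
  haveI := hN
  unfold classInner
  congr 1
  rw [← Equiv.sum_comp (MulAut.conjNormal g : N ≃* N).toEquiv
    (fun m : N => χ m * conj (θ m))]
  apply Finset.sum_congr rfl
  intro n _
  simp only [conjFun_apply]
  have h1 : ((MulAut.conjNormal g : N ≃* N).toEquiv n : N) = ⟨g * n * g⁻¹, hN.conj_mem n n.2 g⟩ := by
    apply Subtype.ext
    exact MulAut.conjNormal_apply g n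
  rw [h1]
  simp only
  rw [hχ (n : G) g]

end clifford1

section clifford2
variable {G : Type u} [Group G] [Fintype G]

theorem indFun_restrict_normal (N : Subgroup G) (hN : N.Normal) (θ : N → ℂ) :
    (fun n : N => indFun N θ (n : G)) =
      (Nat.card N : ℂ)⁻¹ • ∑ x : G, conjFun N hN θ x := by
  ext n
  rw [indFun_apply_normal N hN θ n]
  simp [Finset.sum_apply]

/-- Clifford: irreducible constituents of the restriction to a normal subgroup that are not
conjugate to a given constituent do not occur. -/
theorem clifford_not_conj (N : Subgroup G) [Fintype N] (hN : N.Normal) {χ : G → ℂ}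
    (hχ : IsIrrCharacter G χ) {θ φ : N → ℂ} (hθ : IsIrrCharacter N θ) (hφ : IsIrrCharacter N φ)
    (hne : classInner (fun n : N => χ n) θ ≠ 0)
    (hnc : ¬ ∃ g : G, φ = conjFun N hN θ g) :
    classInner (fun n : N => χ n) φ = 0 := by
  classical
  haveI : Fintype (IrrCharacter G) := @Fintype.ofFinite _ irr_finite
  have hχc := isClassFunction_of_isCharacter (IsIrrCharacter.isCharacter hχ)
  have hΘ : IsCharacter G (indFun N θ) := isCharacter_indFun N (IsIrrCharacter.isCharacter hθ)
  obtain ⟨m, hm⟩ := exists_nat_decomp hΘ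
  -- multiplicity of χ in Θ is nonzero
  have h1 : classInner (indFun N θ) χ = (m ⟨χ, hχ⟩ : ℂ) := by
    conv_lhs => rw [hm]
    exact classInner_nat_decomp (fun χ' => (m χ' : ℂ)) ⟨χ, hχ⟩
  have h2 : classInner (indFun N θ) χ = conj (classInner (fun n : N => χ n) θ) := by
    rw [frobenius_reciprocity N θ hχc, classInner_conj_symm]
  have hmχ : m ⟨χ, hχ⟩ ≠ 0 := by
    intro h0
    rw [h1, h0] at h2
    have : classInner (fun n : N => χ n) θ = 0 := by
      have := congrArg conj h2
      simpa using this.symm
    exact hne this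
  -- multiplicities of φ in restrictions
  have hk : ∀ ψ : IrrCharacter G, ∃ k : ℕ, classInner (fun n : N => (ψ : G → ℂ) n) φ = (k : ℂ) :=
    fun ψ => exists_nat_classInner (isCharacter_restrict N (IsIrrCharacter.isCharacter ψ.2)) hφ
  choose k hk using hk
  -- restriction of Θ
  have h3 : (fun n : N => indFun N θ (n : G)) =
      ∑ ψ : IrrCharacter G, (m ψ : ℂ) • (fun n : N => (ψ : G → ℂ) n) := by
    ext n
    conv_lhs => rw [hm]
    simp [Finset.sum_apply]
  have h4 : classInner (fun n : N => indFun N θ (n : G)) φ = ∑ ψ : IrrCharacter G, ((m ψ * k ψ : ℕ) : ℂ) := by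
    rw [h3, classInner_sum_left]
    apply Finset.sum_congr rfl
    intro ψ _
    rw [classInner_smul_left, hk ψ]
    push_cast
    rfl
  have h5 : classInner (fun n : N => indFun N θ (n : G)) φ = 0 := by
    rw [indFun_restrict_normal N hN θ, classInner_smul_left, classInner_sum_left]
    rw [Finset.sum_eq_zero, mul_zero]
    intro x _
    rw [irr_orthonormal (conjFun_isIrrCharacter N hN hθ x) hφ, if_neg]
    intro h
    exact hnc ⟨x, h.symm⟩
  rw [h5] at h4
  have h6 : ∑ ψ : IrrCharacter G, (m ψ * k ψ) = 0 := by exact_mod_cast h4.symm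
  have h7 := (Finset.sum_eq_zero_iff.mp h6) ⟨χ, hχ⟩ (Finset.mem_univ _)
  have h8 : k ⟨χ, hχ⟩ = 0 := by
    rcases Nat.mul_eq_zero.mp h7 with h | h
    · exact absurd h hmχ
    · exact h
  have := hk ⟨χ, hχ⟩
  rw [h8] at this
  simpa using this

end clifford2

section clifford3
variable {G : Type u} [Group G] [Fintype G]

/-- The set of conjugates of a function on a normal subgroup. -/
def conjSet (N : Subgroup G) (hN : N.Normal) (θ : N → ℂ) : Set (N → ℂ) :=
  {ψ : N → ℂ | ∃ g : G, ψ = conjFun N hN θ g}

theorem conjSet_finite (N : Subgroup G) (hN : N.Normal) (θ : N → ℂ) :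
    (conjSet N hN θ).Finite := by
  have : conjSet N hN θ = Set.range (conjFun N hN θ) := by
    ext ψ
    simp only [conjSet, Set.mem_ofPred_eq, Set.mem_range]
    constructor
    · rintro ⟨g, rfl⟩; exact ⟨g, rfl⟩
    · rintro ⟨g, rfl⟩; exact ⟨g, rfl⟩
  rw [this]
  exact Set.finite_range _

/-- Clifford's theorem. -/
theorem clifford (N : Subgroup G) [Fintype N] (hN : N.Normal) {χ : G → ℂ}
    (hχ : IsIrrCharacter G χ) {θ : N → ℂ} (hθ : IsIrrCharacter N θ)
    (hne : classInner (fun n : N => χ n) θ ≠ 0) :
    (fun n : N => χ n) = classInner (fun n : N => χ n) θ •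
      ∑ᶠ ψ ∈ conjSet N hN θ, ψ := by
  classical
  haveI : Fintype (IrrCharacter N) := @Fintype.ofFinite _ irr_finite
  have hχc := isClassFunction_of_isCharacter (IsIrrCharacter.isCharacter hχ)
  have hres : IsCharacter N (fun n : N => χ n) :=
    isCharacter_restrict N (IsIrrCharacter.isCharacter hχ)
  have hS := conjSet_finite N hN θ
  rw [finsum_mem_eq_finite_toFinset_sum _ hS]
  conv_lhs => rw [class_function_expansion (isClassFunction_of_isCharacter hres)]
  -- split the sum
  have hcoef : ∀ φ : IrrCharacter N, classInner (fun n : N => χ n) (φ : N → ℂ) =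
      if (φ : N → ℂ) ∈ conjSet N hN θ then classInner (fun n : N => χ n) θ else 0 := by
    intro φ
    by_cases h : (φ : N → ℂ) ∈ conjSet N hN θ
    · rw [if_pos h]
      obtain ⟨g, hg⟩ := h
      rw [hg, classInner_restrict_conjFun N hN hχc θ g]
    · rw [if_neg h]
      exact clifford_not_conj N hN hχ hθ φ.2 hne h
  simp only [hcoef, ite_smul, zero_smul]
  rw [← Finset.sum_filter, ← Finset.smul_sum]
  congr 1
  have himg : (Finset.univ.filter (fun φ : IrrCharacter N => (φ : N → ℂ) ∈ conjSet N hN θ)).image
      Subtype.val = hS.toFinset := by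
    ext ψ
    simp only [Finset.mem_image, Finset.mem_filter, Finset.mem_univ, true_and,
      Set.Finite.mem_toFinset]
    constructor
    · rintro ⟨φ, hφ, rfl⟩; exact hφ
    · intro hψ
      obtain ⟨g, hg⟩ := hψ
      exact ⟨⟨ψ, hg ▸ conjFun_isIrrCharacter N hN hθ g⟩, ⟨g, hg⟩, rfl⟩
  rw [← himg, Finset.sum_image]
  intro a _ b _ hab
  exact Subtype.ext hab

end clifford3
end Cfsg.Agent.Helper81
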