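import Mathlib
import Cfsg.Prelude.Def_Local
import Cfsg.Agent.Lib.Helper89.TH1Defs

/-!
# TH1 (COREB) sub-server (helper81, for helper89's S3797 server): definitions and base lemmas

`kerM W Y` : the kernel of the action on `M = Y/W` inside `N_G(Y) ∩ C_G(W)`;
`actG W Y = N_G(Y) ∩ C_G(W)` : the acting group.  "`g` acts trivially on `M`" is `g ∈ kerM W Y`.
-/

set_option autoImplicit false

namespace Cfsg.Agent.Helper81.TH1B

open Cfsg Subgroup Cfsg.Agent.Helper89.TH1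
open scoped commutatorElement

universe u

variable {G : Type u} [Group G]

/-- the acting group `N_G(Y) ∩ C_G(W)` -/
def actG (W Y : Subgroup G) : Subgroup G := normalizer (Y : Set G) ⊓ centralizer (W : Set G)

theorem mem_actG {W Y : Subgroup G} {g : G} :
    g ∈ actG W Y ↔ g ∈ normalizer (Y : Set G) ∧ g ∈ centralizer (W : Set G) := Iff.rfl

theorem conj_mem_of_mem_actG {W Y : Subgroup G} {g : G} (hg : g ∈ actG W Y) {y : G} (hy : y ∈ Y) :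
    g * y * g⁻¹ ∈ Y := (mem_normalizer_iff.1 hg.1 y).1 hy

theorem conj_inv_mem_of_mem_actG {W Y : Subgroup G} {g : G} (hg : g ∈ actG W Y) {y : G} (hy : y ∈ Y) :
    g⁻¹ * y * g ∈ Y := by
  have := conj_mem_of_mem_actG ((actG W Y).inv_mem hg) hy
  simpa using this

theorem conj_eq_of_mem_actG {W Y : Subgroup G} {g : G} (hg : g ∈ actG W Y) {w : G} (hw : w ∈ W) :
    g * w * g⁻¹ = w := by
  have := mem_centralizer_iff.1 hg.2 w hw
  rw [← this]; group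

/-- the kernel of the action on `Y/W` inside `N_G(Y) ∩ C_G(W)` -/
def kerM (W Y : Subgroup G) : Subgroup G where
  carrier := {g | g ∈ actG W Y ∧ ∀ y ∈ Y, ⁅g, y⁆ ∈ W}
  one_mem' := by
    refine ⟨(actG W Y).one_mem, fun y _ => ?_⟩
    rw [commutatorElement_one_left]; exact W.one_mem
  mul_mem' := by
    rintro g h ⟨hg, hg'⟩ ⟨hh, hh'⟩
    refine ⟨(actG W Y).mul_mem hg hh, fun y hy => ?_⟩
    have e : ⁅g * h, y⁆ = g * ⁅h, y⁆ * g⁻¹ * ⁅g, y⁆ := by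
      simp only [commutatorElement_def]; group
    rw [e, conj_eq_of_mem_actG hg (hh' y hy)]
    exact W.mul_mem (hh' y hy) (hg' y hy)
  inv_mem' := by
    rintro g ⟨hg, hg'⟩
    refine ⟨(actG W Y).inv_mem hg, fun y hy => ?_⟩
    have e : ⁅g⁻¹, y⁆ = g⁻¹ * (⁅g, y⁆)⁻¹ * g⁻¹⁻¹ := by
      simp only [commutatorElement_def]; group
    rw [e, conj_eq_of_mem_actG ((actG W Y).inv_mem hg) (W.inv_mem (hg' y hy))]
    exact W.inv_mem (hg' y hy)

theorem mem_kerM {W Y : Subgroup G} {g : G} :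
    g ∈ kerM W Y ↔ g ∈ actG W Y ∧ ∀ y ∈ Y, ⁅g, y⁆ ∈ W := Iff.rfl

theorem kerM_le_actG (W Y : Subgroup G) : kerM W Y ≤ actG W Y := fun _ h => h.1

/-- `kerM` is normalized by `actG` -/
theorem conj_mem_kerM {W Y : Subgroup G} {h g : G} (hh : h ∈ actG W Y) (hg : g ∈ kerM W Y) :
    h * g * h⁻¹ ∈ kerM W Y := by
  refine ⟨(actG W Y).mul_mem ((actG W Y).mul_mem hh hg.1) ((actG W Y).inv_mem hh), fun y hy => ?_⟩
  have e : ⁅h * g * h⁻¹, y⁆ = h * ⁅g, h⁻¹ * y * h⁆ * h⁻¹ := by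
    simp only [commutatorElement_def]; group
  have hy' : h⁻¹ * y * h ∈ Y := conj_inv_mem_of_mem_actG hh hy
  rw [e, conj_eq_of_mem_actG hh (hg.2 _ hy')]
  exact hg.2 _ hy'

theorem conj_inv_mem_kerM {W Y : Subgroup G} {h g : G} (hh : h ∈ actG W Y) (hg : g ∈ kerM W Y) :
    h⁻¹ * g * h ∈ kerM W Y := by
  have := conj_mem_kerM ((actG W Y).inv_mem hh) hg
  simpa using this

variable [Finite G] {W Y K₁ E Q₀ N : Subgroup G}

theorem K₁_le_actG (hC : Core G W Y K₁ E Q₀ N) : K₁ ≤ actG W Y := by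
  intro k hk
  refine mem_actG.2 ⟨?_, ?_⟩
  · rw [mem_normalizer_iff]
    intro y
    refine ⟨fun hy => hC.K_Y k hk y hy, fun hy => ?_⟩
    have := hC.K_Y k⁻¹ (K₁.inv_mem hk) _ hy
    have e : k⁻¹ * (k * y * k⁻¹) * k⁻¹⁻¹ = y := by group
    rwa [e] at this
  · rw [mem_centralizer_iff]
    intro w hw
    exact (hC.K_W k hk w hw).symm

theorem N_le_normalizer_Y (hC : Core G W Y K₁ E Q₀ N) : N ≤ normalizer (Y : Set G) := by
  intro g hg
  rw [mem_normalizer_iff]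
  intro y
  refine ⟨fun hy => hC.N_Y g hg y hy, fun hy => ?_⟩
  have := hC.N_Y g⁻¹ (N.inv_mem hg) _ hy
  have e : g⁻¹ * (g * y * g⁻¹) * g⁻¹⁻¹ = y := by group
  rwa [e] at this

theorem E_le_actG (hC : Core G W Y K₁ E Q₀ N) : E ≤ actG W Y := by
  intro e he
  refine mem_actG.2 ⟨N_le_normalizer_Y hC (hC.E_le_N he), ?_⟩
  rw [mem_centralizer_iff]
  intro w hw
  exact (hC.E_W e he w hw).symm

/-- `kerM` is also normalized by `N` (which normalizes `W` and `Y` but need not centralize `W`) -/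
theorem conj_mem_kerM_of_mem_N (hC : Core G W Y K₁ E Q₀ N) {g x : G} (hg : g ∈ N)
    (hx : x ∈ kerM W Y) : g * x * g⁻¹ ∈ kerM W Y := by
  have hgY := N_le_normalizer_Y hC hg
  have hgiW : ∀ w ∈ W, g⁻¹ * w * g ∈ W := by
    intro w hw
    have := hC.N_W g⁻¹ (N.inv_mem hg) w hw
    simpa using this
  have hgiY : ∀ y ∈ Y, g⁻¹ * y * g ∈ Y := by
    intro y hy
    have := hC.N_Y g⁻¹ (N.inv_mem hg) y hy
    simpa using this
  refine ⟨mem_actG.2 ⟨?_, ?_⟩, fun y hy => ?_⟩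
  · exact (normalizer (Y : Set G)).mul_mem ((normalizer (Y : Set G)).mul_mem hgY hx.1.1)
      ((normalizer (Y : Set G)).inv_mem hgY)
  · rw [mem_centralizer_iff]
    intro w hw
    have h1 := conj_eq_of_mem_actG hx.1 (hgiW w hw)
    -- x * (g⁻¹ w g) * x⁻¹ = g⁻¹ w g
    have h2 : g * x * g⁻¹ * w * (g * x * g⁻¹)⁻¹ = w := by
      have e : g * x * g⁻¹ * w * (g * x * g⁻¹)⁻¹ = g * (x * (g⁻¹ * w * g) * x⁻¹) * g⁻¹ := by group
      rw [e, h1]; group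
    calc w * (g * x * g⁻¹) = (g * x * g⁻¹ * w * (g * x * g⁻¹)⁻¹) * (g * x * g⁻¹) := by rw [h2]
      _ = g * x * g⁻¹ * w := by group
  · have e : ⁅g * x * g⁻¹, y⁆ = g * ⁅x, g⁻¹ * y * g⁆ * g⁻¹ := by
      simp only [commutatorElement_def]; group
    rw [e]
    exact hC.N_W g hg _ (hx.2 _ (hgiY y hy))

/-! ### class-2 calculus in `Y` -/

theorem comm_mul_right' (hC : Core G W Y K₁ E Q₀ N) {x y z : G} (hx : x ∈ Y) (hy : y ∈ Y)
    (hz : z ∈ Y) : ⁅x, y * z⁆ = ⁅x, y⁆ * ⁅x, z⁆ := by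
  have hc := hC.W_central _ (hC.comm_mem x hx z hz) y hy
  have e : ⁅x, y * z⁆ = ⁅x, y⁆ * (y * ⁅x, z⁆) * y⁻¹ := by
    simp only [commutatorElement_def]; group
  rw [e, ← hc]; group

theorem comm_mul_left' (hC : Core G W Y K₁ E Q₀ N) {x y z : G} (hx : x ∈ Y) (hy : y ∈ Y)
    (hz : z ∈ Y) : ⁅x * y, z⁆ = ⁅x, z⁆ * ⁅y, z⁆ := by
  have hc := hC.W_central _ (hC.comm_mem y hy z hz) x hx
  have e : ⁅x * y, z⁆ = (x * ⁅y, z⁆) * x⁻¹ * ⁅x, z⁆ := by
    simp only [commutatorElement_def]; group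
  have hc2 := hC.W_central _ (hC.comm_mem y hy z hz) _ (Y.mul_mem (Y.mul_mem hx hz) (Y.mul_mem (Y.inv_mem hx) (Y.inv_mem hz)))
  rw [e, ← hc]
  have : ⁅y, z⁆ * x * x⁻¹ * ⁅x, z⁆ = ⁅y, z⁆ * ⁅x, z⁆ := by group
  rw [this]
  have hxz : ⁅x, z⁆ = x * z * (x⁻¹ * z⁻¹) := by simp only [commutatorElement_def]; group
  rw [hxz]; exact hc2

theorem comm_W_left (hC : Core G W Y K₁ E Q₀ N) {w y : G} (hw : w ∈ W) (hy : y ∈ Y) :
    ⁅w, y⁆ = 1 := by
  rw [commutatorElement_eq_one_iff_mul_comm]; exact hC.W_central w hw y hy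

theorem comm_W_right (hC : Core G W Y K₁ E Q₀ N) {w y : G} (hw : w ∈ W) (hy : y ∈ Y) :
    ⁅y, w⁆ = 1 := by
  rw [commutatorElement_eq_one_iff_mul_comm]; exact (hC.W_central w hw y hy).symm

theorem W_le_Y (hC : Core G W Y K₁ E Q₀ N) : W ≤ Y := hC.W_lt_Y.le

/-- `(x y)² = x² y² [y,x]` -/
theorem mul_sq' (hC : Core G W Y K₁ E Q₀ N) {x y : G} (hx : x ∈ Y) (hy : y ∈ Y) :
    (x * y) ^ 2 = x ^ 2 * y ^ 2 * ⁅y, x⁆ := by
  have hc := hC.W_central _ (hC.comm_mem y hy x hx) (x * (x * y ^ 2))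
    (Y.mul_mem hx (Y.mul_mem hx (Y.pow_mem hy 2)))
  have e : (x * y) ^ 2 = x * ⁅y, x⁆ * (x * y ^ 2) := by
    simp only [commutatorElement_def, pow_two]; group
  have hc1 := hC.W_central _ (hC.comm_mem y hy x hx) x hx
  rw [e, ← hc1, mul_assoc, hc]
  simp only [pow_two]; group

/-- conjugation by `actG` preserves commutators of elements of `Y` -/
theorem comm_conj (hC : Core G W Y K₁ E Q₀ N) {g x y : G} (hg : g ∈ actG W Y) (hx : x ∈ Y)
    (hy : y ∈ Y) : ⁅g * x * g⁻¹, g * y * g⁻¹⁆ = ⁅x, y⁆ := by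
  have e : ⁅g * x * g⁻¹, g * y * g⁻¹⁆ = g * ⁅x, y⁆ * g⁻¹ := by
    simp only [commutatorElement_def]; group
  rw [e]; exact conj_eq_of_mem_actG hg (hC.comm_mem x hx y hy)

/-- conjugation by `actG` preserves squares of elements of `Y` -/
theorem sq_conj (hC : Core G W Y K₁ E Q₀ N) {g y : G} (hg : g ∈ actG W Y) (hy : y ∈ Y) :
    (g * y * g⁻¹) ^ 2 = y ^ 2 := by
  have e : (g * y * g⁻¹) ^ 2 = g * y ^ 2 * g⁻¹ := by simp only [pow_two]; group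
  rw [e]; exact conj_eq_of_mem_actG hg (hC.sq_mem y hy)

/-- `C_M(e)` as a subgroup of `G` -/
theorem exists_cM (hC : Core G W Y K₁ E Q₀ N) (e : G) :
    ∃ C : Subgroup G, ∀ y, y ∈ C ↔ y ∈ Y ∧ ⁅e, y⁆ ∈ W := by
  refine ⟨{ carrier := {y | y ∈ Y ∧ ⁅e, y⁆ ∈ W}
            one_mem' := ⟨Y.one_mem, by rw [commutatorElement_one_right]; exact W.one_mem⟩
            mul_mem' := ?_
            inv_mem' := ?_ }, fun y => Iff.rfl⟩
  · rintro a b ⟨ha, ha'⟩ ⟨hb, hb'⟩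
    refine ⟨Y.mul_mem ha hb, ?_⟩
    have hc := hC.W_central _ hb' a ha
    have e1 : ⁅e, a * b⁆ = ⁅e, a⁆ * (a * ⁅e, b⁆) * a⁻¹ := by
      simp only [commutatorElement_def]; group
    rw [e1, ← hc]
    have : ⁅e, a⁆ * (⁅e, b⁆ * a) * a⁻¹ = ⁅e, a⁆ * ⁅e, b⁆ := by group
    rw [this]; exact W.mul_mem ha' hb'
  · rintro a ⟨ha, ha'⟩
    refine ⟨Y.inv_mem ha, ?_⟩
    have hc := hC.W_central _ (W.inv_mem ha') a ha
    have e1 : ⁅e, a⁻¹⁆ = a⁻¹ * ((⁅e, a⁆)⁻¹ * a) := by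
      simp only [commutatorElement_def]; group
    rw [e1, hc]
    have : a⁻¹ * (a * (⁅e, a⁆)⁻¹) = (⁅e, a⁆)⁻¹ := by group
    rw [this]; exact W.inv_mem ha'

end Cfsg.Agent.Helper81.TH1B
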