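import Cfsg.Agent.Lib.Helper81.CharAbel
set_option autoImplicit false
set_option linter.style.haveILetI false
set_option linter.unusedSectionVars false
namespace Cfsg.Agent.Helper81
open Representation
open scoped ComplexConjugate
universe u v w

section normarg
variable {G : Type u} [Group G] [Fintype G]

/-- A nonzero character has positive norm. -/
theorem exists_pos_classInner_self {f : G → ℂ} (hf : IsCharacter G f) (h0 : f ≠ 0) :
    ∃ k : ℕ, 0 < k ∧ classInner f f = (k : ℂ) := by
  obtain ⟨k, hk⟩ := exists_nat_classInner_char hf hf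
  refine ⟨k, ?_, hk⟩
  rcases Nat.eq_zero_or_pos k with h | h
  · exfalso
    apply h0
    apply classInner_self_eq_zero
    rw [hk, h]; simp
  · exact h

/-- If a sum of `m` nonzero characters has norm `m`, they are irreducible and pairwise distinct. -/
theorem irr_of_norm_sum_eq_card {ι : Type*} [Fintype ι] (f : ι → G → ℂ)
    (hf : ∀ i, IsCharacter G (f i)) (h0 : ∀ i, f i ≠ 0)
    (hnorm : classInner (∑ i, f i) (∑ i, f i) = (Fintype.card ι : ℂ)) :
    (∀ i, IsIrrCharacter G (f i)) ∧ Function.Injective f := by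
  classical
  have hn : ∀ i j, ∃ k : ℕ, classInner (f i) (f j) = (k : ℂ) := fun i j =>
    exists_nat_classInner_char (hf i) (hf j)
  choose n hn using hn
  have hdiag : ∀ i, 1 ≤ n i i := by
    intro i
    obtain ⟨k, hk, hk2⟩ := exists_pos_classInner_self (hf i) (h0 i)
    rw [hn i i] at hk2
    have : n i i = k := by exact_mod_cast hk2
    omega
  have hsum : ∑ i, ∑ j, n i j = Fintype.card ι := by
    have h1 : classInner (∑ i, f i) (∑ i, f i) = ∑ i, ∑ j, (n i j : ℂ) := by
      rw [classInner_sum_left]
      apply Finset.sum_congr rfl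
      intro i _
      rw [classInner_sum_right]
      apply Finset.sum_congr rfl
      intro j _
      exact hn i j
    rw [h1] at hnorm
    exact_mod_cast hnorm
  have hrow : ∀ i, n i i ≤ ∑ j, n i j := fun i =>
    Finset.single_le_sum (f := fun j => n i j) (fun j _ => Nat.zero_le _) (Finset.mem_univ i)
  have h2 : ∑ i : ι, 1 ≤ ∑ i, n i i := Finset.sum_le_sum (fun i _ => hdiag i)
  have h3 : ∑ i, n i i ≤ ∑ i, ∑ j, n i j := Finset.sum_le_sum (fun i _ => hrow i)
  have h4 : ∑ i : ι, 1 = Fintype.card ι := by simp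
  have hdiag1 : ∀ i, n i i = 1 := by
    intro i
    by_contra hne
    have hlt : 1 < n i i := lt_of_le_of_ne (hdiag i) (Ne.symm hne)
    have : ∑ i : ι, 1 < ∑ i, n i i :=
      Finset.sum_lt_sum (fun i _ => hdiag i) ⟨i, Finset.mem_univ i, hlt⟩
    omega
  have hrow1 : ∀ i, ∑ j, n i j = n i i := by
    intro i
    by_contra hne
    have hlt : n i i < ∑ j, n i j := lt_of_le_of_ne (hrow i) (Ne.symm hne)
    have : ∑ i, n i i < ∑ i, ∑ j, n i j :=
      Finset.sum_lt_sum (fun i _ => hrow i) ⟨i, Finset.mem_univ i, hlt⟩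
    omega
  have hoff : ∀ i j, i ≠ j → n i j = 0 := by
    intro i j hij
    by_contra hne
    have h5 : n i i + n i j ≤ ∑ k, n i k := by
      have h6 : ∑ k ∈ ({i, j} : Finset ι), n i k ≤ ∑ k, n i k :=
        Finset.sum_le_sum_of_subset (Finset.subset_univ _)
      rw [Finset.sum_pair hij] at h6
      exact h6
    have h7 := hrow1 i
    have : 0 < n i j := Nat.pos_of_ne_zero hne
    omega
  constructor
  · intro i
    apply isIrrCharacter_of_classInner_self_eq_one (hf i)
    rw [hn i i, hdiag1 i]; simp
  · intro i j hij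
    by_contra hne
    have h8 := hn i j
    rw [← hij, hn i i, hdiag1 i, hoff i j hne] at h8
    simp at h8

end normarg

section decomp
variable {G : Type u} [Group G] [Fintype G]

/-- Decomposition of a permutation character `(1_{P₀})^G` of rank `|A| + 1`, where
`P₀ ⊴ P ≤ G` with `P / P₀ ≅ A` abelian and `P < G`: it is `1` plus `|A|` distinct irreducibles. -/
theorem exists_perm_char_decomp (P₀ P : Subgroup G) (hle : P₀ ≤ P) {A : Type v} [CommGroup A]
    [Finite A] (lam : P →* A) (hlam : Function.Surjective lam)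
    (hker : ∀ x : P, lam x = 1 ↔ (x : G) ∈ P₀) (hP : P ≠ ⊤)
    (hrank : classInner (indFun P₀ (1 : P₀ → ℂ)) (indFun P₀ (1 : P₀ → ℂ)) =
      ((Nat.card A + 1 : ℕ) : ℂ)) :
    ∃ χ : AddChar (Additive A) ℂ → (G → ℂ), (∀ ψ, IsIrrCharacter G (χ ψ)) ∧
      Function.Injective χ ∧ indFun P₀ (1 : P₀ → ℂ) = 1 + ∑ ψ, χ ψ := by
  classical
  haveI : Fintype A := Fintype.ofFinite A
  haveI : Fintype P := Fintype.ofFinite P
  set N' : Subgroup P := P₀.subgroupOf P with hN'def
  have hN'ker : N' = lam.ker := by
    ext x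
    rw [hN'def, Subgroup.mem_subgroupOf, MonoidHom.mem_ker, hker]
  have hN' : N'.Normal := by rw [hN'ker]; infer_instance
  have hcardA : Nat.card A = N'.index := by
    rw [hN'ker, Subgroup.index_ker, MonoidHom.range_eq_top.mpr hlam]
    exact (Nat.card_congr Subgroup.topEquiv.toEquiv).symm
  have h1 : indFun N' (1 : N' → ℂ) = ∑ ψ : AddChar (Additive A) ℂ, linChar lam ψ := by
    funext x
    rw [indFun_one_fun N' hN', Finset.sum_apply, sum_linChar, hcardA]
    by_cases hx : x ∈ N'
    · rw [if_pos hx, if_pos]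
      rw [hN'ker, MonoidHom.mem_ker] at hx
      exact hx
    · rw [if_neg hx, if_neg]
      intro h
      apply hx
      rw [hN'ker, MonoidHom.mem_ker]
      exact h
  have h2 : indFun P₀ (1 : P₀ → ℂ) =
      ∑ ψ : AddChar (Additive A) ℂ, indFun P (linChar lam ψ) := by
    rw [← indFun_trans P₀ P hle (1 : P₀ → ℂ)]
    show indFun P (indFun N' (1 : N' → ℂ)) = _
    rw [h1, indFun_sum]
  set pi : AddChar (Additive A) ℂ → (G → ℂ) := fun ψ => indFun P (linChar lam ψ) with hpidef
  have hpichar : ∀ ψ, IsCharacter G (pi ψ) := fun ψ =>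
    isCharacter_indFun P (isCharacter_of_mul (linChar_one lam ψ) (linChar_mul lam ψ))
  have hpi1 : ∀ ψ, pi ψ 1 = (P.index : ℂ) := by
    intro ψ
    show indFun P (linChar lam ψ) 1 = _
    rw [indFun_one, linChar_one, mul_one]
  have hidx0 : (P.index : ℂ) ≠ 0 := by
    have : P.index ≠ 0 := Subgroup.index_ne_zero_of_finite
    exact_mod_cast this
  have hone : IsIrrCharacter G (1 : G → ℂ) := isIrrCharacter_one
  have hlin0 : linChar lam (0 : AddChar (Additive A) ℂ) = fun _ => 1 := by
    funext x
    simp [linChar_apply]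
  have h0 : classInner (pi 0) (1 : G → ℂ) = 1 := by
    show classInner (indFun P (linChar lam 0)) (1 : G → ℂ) = 1
    rw [frobenius_reciprocity P _
      (isClassFunction_of_isCharacter (IsIrrCharacter.isCharacter hone)), hlin0]
    have := irr_orthonormal (isIrrCharacter_one (G := P)) (isIrrCharacter_one (G := P))
    rw [if_pos rfl] at this
    exact this
  obtain ⟨α', hα', hα'eq⟩ := exists_add_of_classInner_ne_zero (hpichar 0) hone
    (by rw [h0]; exact one_ne_zero)
  have hα'0 : α' ≠ 0 := by
    intro h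
    rw [h, add_zero] at hα'eq
    have h3 := hpi1 0
    rw [hα'eq] at h3
    simp only [Pi.one_apply] at h3
    have h4 : P.index = 1 := by exact_mod_cast h3.symm
    exact hP (Subgroup.index_eq_one.mp h4)
  set χ : AddChar (Additive A) ℂ → (G → ℂ) :=
    fun ψ => pi ψ - (if ψ = 0 then (1 : G → ℂ) else 0) with hχdef
  have hχ0 : χ 0 = α' := by
    show pi 0 - (if (0 : AddChar (Additive A) ℂ) = 0 then (1 : G → ℂ) else 0) = α'
    rw [if_pos rfl, hα'eq, add_sub_cancel_left]
  have hχne : ∀ ψ, ψ ≠ 0 → χ ψ = pi ψ := by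
    intro ψ hψ
    show pi ψ - (if ψ = 0 then (1 : G → ℂ) else 0) = pi ψ
    rw [if_neg hψ, sub_zero]
  have hsum : indFun P₀ (1 : P₀ → ℂ) = 1 + ∑ ψ, χ ψ := by
    rw [h2]
    simp only [hχdef, Finset.sum_sub_distrib, Finset.sum_ite_eq', Finset.mem_univ, if_true]
    abel
  let f : Option (AddChar (Additive A) ℂ) → (G → ℂ) := fun o =>
    match o with
    | none => 1
    | some ψ => χ ψ
  have hfsum : ∑ o, f o = indFun P₀ (1 : P₀ → ℂ) := by
    rw [Fintype.sum_option, hsum]
  have hfchar : ∀ o, IsCharacter G (f o) := by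
    intro o
    cases o with
    | none => exact IsIrrCharacter.isCharacter hone
    | some ψ =>
      show IsCharacter G (χ ψ)
      by_cases hψ : ψ = 0
      · rw [hψ, hχ0]; exact hα'
      · rw [hχne ψ hψ]; exact hpichar ψ
  have hf0 : ∀ o, f o ≠ 0 := by
    intro o
    cases o with
    | none =>
      intro h
      have := congrFun h 1
      simp [f] at this
    | some ψ =>
      show χ ψ ≠ 0
      by_cases hψ : ψ = 0
      · rw [hψ, hχ0]; exact hα'0
      · rw [hχne ψ hψ]
        intro h
        have h5 := hpi1 ψ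
        rw [h] at h5
        exact hidx0 h5.symm
  have hcard : Fintype.card (Option (AddChar (Additive A) ℂ)) = Nat.card A + 1 := by
    rw [Fintype.card_option, AddChar.card_eq, Fintype.card_additive, Nat.card_eq_fintype_card]
  obtain ⟨hirr, hinj⟩ := irr_of_norm_sum_eq_card f hfchar hf0 (by rw [hfsum, hrank, hcard])
  refine ⟨χ, fun ψ => hirr (some ψ), ?_, hsum⟩
  intro ψ ψ' h
  have := hinj (a₁ := some ψ) (a₂ := some ψ') h
  exact Option.some_injective _ this

end decomp

section permchar
variable {G : Type u} [Group G] [Fintype G] {X : Type v} [Fintype X] [DecidableEq X]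
  [MulAction G X]

theorem extendByZero_one (H : Subgroup G) (y : G) [Decidable (y ∈ H)] :
    extendByZero H (1 : H → ℂ) y = if y ∈ H then 1 else 0 := by
  by_cases hy : y ∈ H
  · rw [if_pos hy, extendByZero_apply_mem H _ hy]; rfl
  · rw [if_neg hy, extendByZero_apply_not_mem H _ hy]

/-- Summation over a transitive orbit map. -/
theorem sum_smul_eq_card_stabilizer_mul [hX : MulAction.IsPretransitive G X] (x₀ : X)
    (φ : X → ℂ) :
    ∑ x : G, φ (x • x₀) = (Nat.card (MulAction.stabilizer G x₀) : ℂ) * ∑ y : X, φ y := by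
  classical
  have hfib : ∀ y : X, (Finset.univ.filter (fun x : G => x • x₀ = y)).card =
      Nat.card (MulAction.stabilizer G x₀) := by
    intro y
    obtain ⟨xy, hxy⟩ := MulAction.exists_smul_eq G x₀ y
    rw [Nat.card_eq_fintype_card, ← Fintype.card_subtype]
    apply Fintype.card_congr
    refine ⟨fun x => ⟨xy⁻¹ * x.1, ?_⟩, fun h => ⟨xy * h.1, ?_⟩, ?_, ?_⟩
    · rw [MulAction.mem_stabilizer_iff, mul_smul, x.2, ← hxy, inv_smul_smul]
    · rw [mul_smul, MulAction.mem_stabilizer_iff.mp h.2, hxy]
    · intro x; apply Subtype.ext; simp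
    · intro h; apply Subtype.ext; simp
  rw [← Finset.sum_fiberwise (s := Finset.univ) (g := fun x : G => x • x₀)
    (f := fun x => φ (x • x₀)), Finset.mul_sum]
  apply Finset.sum_congr rfl
  intro y _
  have h1 : ∀ x ∈ Finset.univ.filter (fun x : G => x • x₀ = y), φ (x • x₀) = φ y := by
    intro x hx
    rw [(Finset.mem_filter.mp hx).2]
  rw [Finset.sum_congr rfl h1, Finset.sum_const, hfib, nsmul_eq_mul]

/-- The permutation character of a transitive action is induced from the trivial character of a
point stabilizer. -/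
theorem indFun_stabilizer_one [hX : MulAction.IsPretransitive G X] (x₀ : X) (g : G) :
    indFun (MulAction.stabilizer G x₀) (1 : MulAction.stabilizer G x₀ → ℂ) g =
      (Fintype.card {x : X // g • x = x} : ℂ) := by
  classical
  rw [indFun_apply]
  have h1 : ∀ x : G, extendByZero (MulAction.stabilizer G x₀)
      (1 : MulAction.stabilizer G x₀ → ℂ) (x⁻¹ * g * x) =
      (fun y : X => if g • y = y then (1 : ℂ) else 0) (x • x₀) := by
    intro x
    rw [extendByZero_one]
    have : x⁻¹ * g * x ∈ MulAction.stabilizer G x₀ ↔ g • x • x₀ = x • x₀ := by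
      rw [MulAction.mem_stabilizer_iff, mul_smul, mul_smul, inv_smul_eq_iff]
    simp only [this]
  rw [Finset.sum_congr rfl (fun x _ => h1 x),
    sum_smul_eq_card_stabilizer_mul x₀ (fun y : X => if g • y = y then (1 : ℂ) else 0)]
  have hH0 : (Nat.card (MulAction.stabilizer G x₀) : ℂ) ≠ 0 := by
    exact_mod_cast (Nat.card_pos (α := MulAction.stabilizer G x₀)).ne'
  rw [← mul_assoc, inv_mul_cancel₀ hH0, one_mul, Finset.sum_boole, Fintype.card_subtype]

/-- The norm of a transitive permutation character is the number of orbits of a point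
stabilizer. -/
theorem classInner_indFun_stabilizer_one [hX : MulAction.IsPretransitive G X] (x₀ : X) :
    classInner (indFun (MulAction.stabilizer G x₀) (1 : MulAction.stabilizer G x₀ → ℂ))
      (indFun (MulAction.stabilizer G x₀) (1 : MulAction.stabilizer G x₀ → ℂ)) =
      (Nat.card (Quotient (MulAction.orbitRel (MulAction.stabilizer G x₀) X)) : ℂ) := by
  classical
  set H := MulAction.stabilizer G x₀ with hH
  haveI : Fintype H := Fintype.ofFinite H
  haveI : Fintype (Quotient (MulAction.orbitRel H X)) := Fintype.ofFinite _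
  rw [frobenius_reciprocity H _ (indFun_isClassFunction H _)]
  unfold classInner
  have h1 : ∀ h : H, (1 : H → ℂ) h * conj (indFun H (1 : H → ℂ) (h : G)) =
      (Fintype.card (MulAction.fixedBy X h) : ℂ) := by
    intro h
    rw [indFun_stabilizer_one x₀ (h : G)]
    simp only [Pi.one_apply, one_mul, Complex.conj_natCast]
    congr 1
  simp only [h1]
  rw [← Nat.cast_sum, MulAction.sum_card_fixedBy_eq_card_orbits_mul_card_group H X]
  have hH0 : (Nat.card H : ℂ) ≠ 0 := by exact_mod_cast (Nat.card_pos (α := H)).ne'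
  rw [Nat.card_eq_fintype_card (α := Quotient (MulAction.orbitRel H X))]
  push_cast
  rw [← Nat.card_eq_fintype_card (α := H)]
  field_simp

end permchar
end Cfsg.Agent.Helper81
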