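import Cfsg.Agent.Lib.Helper81.CharCoprime
import Cfsg.Prelude.Def_CharExt
set_option autoImplicit false
set_option linter.style.haveILetI false
set_option linter.unusedSectionVars false
namespace Cfsg.Agent.Helper81
open Representation
open scoped ComplexConjugate
universe u v w

section irrOfChar
variable {G : Type u} [Group G] [Fintype G]

/-- A representation whose character is an irreducible character is irreducible. -/
theorem isIrreducible_of_character_irr {V : Type v} [AddCommGroup V] [Module ℂ V]
    [FiniteDimensional ℂ V] (ρ : Representation ℂ G V) (h : IsIrrCharacter G ρ.character) :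
    ρ.IsIrreducible := by
  classical
  obtain ⟨d, hd0, hd⟩ := irr_one_pos h
  rw [Representation.char_one] at hd
  have hfr : 0 < Module.finrank ℂ V := by
    have : Module.finrank ℂ V = d := by exact_mod_cast hd
    omega
  haveI : Nontrivial V := (Module.finrank_pos_iff (R := ℂ)).mp hfr
  obtain ⟨W, W', hc, hW⟩ := exists_irreducible_compl ρ
  haveI := isIrreducible_of_isAtom W hW
  have hWirr : IsIrrCharacter G W.toRepresentation.character := isIrrCharacter_of_rep _
  have hW'c : IsCharacter G W'.toRepresentation.character := isCharacter_of_rep _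
  have hsum : ρ.character = W.toRepresentation.character + W'.toRepresentation.character := by
    ext g
    exact character_eq_add_of_isCompl hc g
  obtain ⟨k, hk⟩ := exists_nat_classInner hW'c hWirr
  obtain ⟨k', hk'⟩ := exists_nat_classInner_char hW'c hW'c
  have h1 : classInner ρ.character ρ.character = 1 + (k : ℂ) + (k : ℂ) + (k' : ℂ) := by
    rw [hsum, classInner_add_left, classInner_add_right, classInner_add_right,
      irr_orthonormal hWirr hWirr, if_pos rfl, hk, hk',
      classInner_conj_symm W'.toRepresentation.character W.toRepresentation.character, hk]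
    simp
    ring
  rw [irr_orthonormal h h, if_pos rfl] at h1
  have h2 : 1 = 1 + k + k + k' := by exact_mod_cast h1
  have hk'0 : k' = 0 := by omega
  rw [hk'0] at hk'
  have hz := classInner_self_eq_zero (by simpa using hk')
  have hz1 := congrFun hz 1
  rw [Representation.char_one, Pi.zero_apply] at hz1
  have hfr' : Module.finrank ℂ W'.toSubmodule = 0 := by exact_mod_cast hz1
  have hW'bot : W'.toSubmodule = ⊥ := by
    rw [← Submodule.finrank_eq_zero (R := ℂ)]
    exact hfr'
  have hWtop : W = ⊤ := by
    have h3 := (isCompl_toSubmodule hc).sup_eq_top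
    rw [hW'bot, sup_bot_eq] at h3
    apply Subrepresentation.toSubmodule_injective
    exact h3
  rw [hWtop] at hW
  refine { exists_pair_ne := ⟨⊥, ⊤, hW.1.symm⟩, eq_bot_or_eq_top := ?_ }
  intro U
  by_cases hU : U = ⊤
  · right; exact hU
  · left
    exact hW.2 U (lt_of_le_of_ne le_top hU)

end irrOfChar

section detchar
variable {G : Type u} [Group G] [Finite G]

/-- The determinantal character of an irreducible character, computed from any representation
affording it. -/
theorem detChar_eq_det {V : Type v} [AddCommGroup V] [Module ℂ V] [FiniteDimensional ℂ V]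
    (σ : Representation ℂ G V) [σ.IsIrreducible] (g : G) :
    detChar σ.character g = LinearMap.det (σ g) := by
  classical
  haveI : Fintype G := Fintype.ofFinite G
  have h : IsCharacter G σ.character := isCharacter_of_rep σ
  unfold detChar
  rw [dif_pos h]
  have hspec := Classical.choose_spec (Classical.choose_spec h)
  haveI : (Classical.choose (Classical.choose_spec h)).IsIrreducible := by
    apply isIrreducible_of_character_irr
    rw [hspec]
    exact isIrrCharacter_of_rep σ
  exact det_eq_of_character_eq _ σ hspec g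

end detchar
section linearchars
variable {G : Type u} [Group G]

theorem trace_eq_det_fin_one (f : (Fin 1 → ℂ) →ₗ[ℂ] (Fin 1 → ℂ)) :
    LinearMap.trace ℂ (Fin 1 → ℂ) f = LinearMap.det f := by
  rw [← LinearMap.det_toMatrix', LinearMap.trace_eq_matrix_trace ℂ (Pi.basisFun ℂ (Fin 1)) f,
    Matrix.det_fin_one, Matrix.trace_fin_one]
  rfl

/-- A character of degree one is multiplicative. -/
theorem linear_mul {β : G → ℂ} (hβ : IsCharacter G β) (h1 : β 1 = 1) (g h : G) :
    β (g * h) = β g * β h := by
  obtain ⟨n, ρ, rfl⟩ := hβ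
  rw [Representation.char_one] at h1
  have hn : n = 1 := by
    have : Module.finrank ℂ (Fin n → ℂ) = 1 := by exact_mod_cast h1
    simpa using this
  subst hn
  simp only [Representation.character]
  rw [trace_eq_det_fin_one, trace_eq_det_fin_one, trace_eq_det_fin_one, map_mul, map_mul]

/-- A character of degree one, as a monoid homomorphism. -/
noncomputable def linHom {β : G → ℂ} (hβ : IsCharacter G β) (h1 : β 1 = 1) : G →* ℂ where
  toFun := β
  map_one' := h1
  map_mul' := linear_mul hβ h1

theorem linHom_apply {β : G → ℂ} (hβ : IsCharacter G β) (h1 : β 1 = 1) (g : G) :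
    linHom hβ h1 g = β g := rfl

/-- Values of a multiplicative function on a finite group are unitary. -/
theorem hom_mul_conj [Finite G] (l : G →* ℂ) (g : G) : l g * conj (l g) = 1 := by
  have h1 : l g ^ Nat.card G = 1 := by rw [← map_pow, pow_card_eq_one', map_one]
  have h2 : ‖l g‖ = 1 := Complex.norm_eq_one_of_pow_eq_one h1 Nat.card_pos.ne'
  rw [Complex.mul_conj, Complex.normSq_eq_norm_sq, h2]
  simp

theorem isIrrCharacter_hom_mul [Fintype G] (l : G →* ℂ) {χ : G → ℂ} (hχ : IsIrrCharacter G χ) :
    IsIrrCharacter G ((l : G → ℂ) * χ) :=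
  isIrrCharacter_mul_linear (map_one l) (map_mul l) (hom_mul_conj l) hχ

theorem isIrrCharacter_hom [Fintype G] (l : G →* ℂ) : IsIrrCharacter G (l : G → ℂ) := by
  have := isIrrCharacter_hom_mul l (isIrrCharacter_one (G := G))
  have h2 : ((l : G → ℂ) * fun _ : G => (1 : ℂ)) = (l : G → ℂ) := by
    ext g; simp
  rwa [h2] at this

end linearchars

section gallext
variable {G : Type u} [Group G] [Fintype G]

/-- Gallagher: two irreducible characters extending the same irreducible character of a normal
subgroup differ by a linear character trivial on the subgroup. -/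
theorem exists_hom_mul_eq_of_extensions (N : Subgroup G) [Fintype N] (hN : N.Normal)
    {η χ : G → ℂ} (hη : IsIrrCharacter G η) (hχ : IsIrrCharacter G χ) {ϑ : N → ℂ}
    (hϑ : IsIrrCharacter N ϑ) (hηres : (fun n : N => η n) = ϑ) (hχres : (fun n : N => χ n) = ϑ) :
    ∃ β : G →* ℂ, (∀ n : N, β n = 1) ∧ χ = (β : G → ℂ) * η := by
  classical
  haveI : Fintype (IrrCharacter G) := @Fintype.ofFinite _ irr_finite
  have hηcf := isClassFunction_of_isCharacter (IsIrrCharacter.isCharacter hη)
  have hχcf := isClassFunction_of_isCharacter (IsIrrCharacter.isCharacter hχ)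
  have h1N : IsIrrCharacter N (1 : N → ℂ) := isIrrCharacter_one
  have h1inv : ∀ g : G, conjFun N hN (1 : N → ℂ) g = 1 := fun g => rfl
  have hprod : IsIrrCharacter N ((1 : N → ℂ) * ϑ) := by rw [one_mul]; exact hϑ
  have hprodinv : ∀ g : G, conjFun N hN ((1 : N → ℂ) * ϑ) g = (1 : N → ℂ) * ϑ := by
    intro g
    rw [one_mul, ← hηres]
    ext n
    rw [conjFun_apply]
    exact hηcf n g
  obtain ⟨m, hm⟩ := exists_nat_decomp
    (isCharacter_indFun N (IsIrrCharacter.isCharacter h1N))
  obtain ⟨hirr, -, hΨ⟩ := gallagher_core N hN h1N h1inv hprod hprodinv hη hηres m hm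
  rw [one_mul] at hΨ
  have h1 : classInner (indFun N ϑ) χ = 1 := by
    rw [frobenius_reciprocity N ϑ hχcf, hχres, irr_orthonormal hϑ hϑ, if_pos rfl]
  rw [hΨ, classInner_sum_left] at h1
  have h2 : ∑ β : IrrCharacter G, classInner ((m β : ℂ) • ((β : G → ℂ) * η)) χ ≠ 0 := by
    rw [h1]; exact one_ne_zero
  obtain ⟨β, _, hβ⟩ := Finset.exists_ne_zero_of_sum_ne_zero h2
  rw [classInner_smul_left] at hβ
  have hmβ : m β ≠ 0 := by
    intro h0; apply hβ; rw [h0]; simp
  have hβχ : classInner ((β : G → ℂ) * η) χ ≠ 0 := by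
    intro h0; apply hβ; rw [h0, mul_zero]
  have heq : (β : G → ℂ) * η = χ := eq_of_classInner_ne_zero (hirr β hmβ) hχ hβχ
  -- degree of β
  have hdeg : (β : G → ℂ) 1 = 1 := by
    have h3 := congrFun heq 1
    simp only [Pi.mul_apply] at h3
    have h4 : η 1 = χ 1 := by
      have a := congrFun hηres 1
      have b := congrFun hχres 1
      simp only [Subgroup.coe_one] at a b
      rw [a, b]
    obtain ⟨d, hd0, hd⟩ := irr_one_pos hχ
    have hχ1 : χ 1 ≠ 0 := by rw [hd]; exact_mod_cast hd0.ne'
    rw [h4] at h3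
    exact mul_right_cancel₀ hχ1 (by rw [h3, one_mul])
  let βh : G →* ℂ := linHom (IsIrrCharacter.isCharacter β.2) hdeg
  refine ⟨βh, ?_, heq.symm⟩
  -- trivial on N
  have hβN : IsIrrCharacter N (fun n : N => (β : G → ℂ) n) := by
    have := isIrrCharacter_hom (βh.comp N.subtype)
    exact this
  have hinner : classInner (1 : N → ℂ) (fun n : N => (β : G → ℂ) n) ≠ 0 := by
    have h5 : classInner (indFun N (1 : N → ℂ)) (β : G → ℂ) = (m β : ℂ) := by
      rw [hm]
      exact classInner_nat_decomp (fun γ => (m γ : ℂ)) β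
    rw [frobenius_reciprocity N 1
      (isClassFunction_of_isCharacter (IsIrrCharacter.isCharacter β.2))] at h5
    rw [h5]
    exact_mod_cast hmβ
  have h6 := eq_of_classInner_ne_zero h1N hβN hinner
  intro n
  exact (congrFun h6 n).symm

end gallext
section detext
variable {G : Type u} [Group G] [Finite G]

theorem detChar_restrict (N : Subgroup G) {V : Type v} [AddCommGroup V] [Module ℂ V]
    [FiniteDimensional ℂ V] (σ : Representation ℂ G V)
    (hres : IsIrrCharacter N (fun n : N => σ.character n)) (n : N) :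
    detChar (fun n : N => σ.character n) n = LinearMap.det (σ n) := by
  haveI : Fintype N := Fintype.ofFinite N
  let σN : Representation ℂ N V := σ.comp N.subtype
  have h1 : σN.character = fun n : N => σ.character n := rfl
  haveI : σN.IsIrreducible := isIrreducible_of_character_irr σN (by rw [h1]; exact hres)
  have h2 := detChar_eq_det σN n
  rw [h1] at h2
  exact h2

theorem hom_eq_one_of_pow (β : G →* ℂ) (N : Subgroup G) [N.Normal] (hβN : ∀ n : N, β n = 1)
    (d : ℕ) (hcop : Nat.Coprime N.index d) (hd : ∀ g, β g ^ d = 1) (g : G) : β g = 1 := by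
  have h1 : β g ^ N.index = 1 := by
    rw [← map_pow]
    exact hβN ⟨g ^ N.index, Subgroup.pow_index_mem N g⟩
  exact (pow_eq_one_iff_of_coprime hcop).mp ⟨h1, hd g⟩

theorem exists_hom_pow_eq (ν : G →* ℂˣ) (N : Subgroup G) [N.Normal] (hνN : ∀ n : N, ν n = 1)
    (d : ℕ) (hcop : Nat.Coprime N.index d) :
    ∃ β : G →* ℂˣ, (∀ n : N, β n = 1) ∧ ∀ g, β g ^ d = ν g := by
  have hνidx : ∀ g, ν g ^ N.index = 1 := by
    intro g
    rw [← map_pow]
    exact hνN ⟨g ^ N.index, Subgroup.pow_index_mem N g⟩
  have hbez := Nat.gcd_eq_gcd_ab d N.index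
  rw [Nat.Coprime.symm hcop, Nat.cast_one] at hbez
  let a : ℤ := Nat.gcdA d N.index
  let b : ℤ := Nat.gcdB d N.index
  have hab : (1 : ℤ) = d * a + N.index * b := hbez
  let β : G →* ℂˣ :=
    { toFun := fun g => ν g ^ a
      map_one' := by simp
      map_mul' := by intro x y; rw [map_mul, mul_zpow] }
  refine ⟨β, ?_, ?_⟩
  · intro n
    show ν n ^ a = 1
    rw [hνN n, one_zpow]
  · intro g
    show (ν g ^ a) ^ d = ν g
    have h1 : ν g = ν g ^ ((d : ℤ) * a + (N.index : ℤ) * b) := by
      rw [← hab, zpow_one]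
    conv_rhs => rw [h1]
    rw [zpow_add, zpow_mul, zpow_mul, zpow_natCast, zpow_natCast, hνidx, one_zpow, mul_one,
      ← zpow_natCast, ← zpow_natCast, ← zpow_mul, ← zpow_mul, mul_comm]

end detext
section detunique
variable {G : Type u} [Group G] [Finite G]

/-- Two extensions of `ϑ` with the same determinantal character agree when `ϑ(1)` is coprime to
the index. -/
theorem extension_unique_of_detChar (N : Subgroup G) (hN : N.Normal) {ϑ : N → ℂ}
    (hϑ : IsIrrCharacter N ϑ) (d : ℕ) (hd : ϑ 1 = d) (hcop : Nat.Coprime N.index d)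
    {χ χ' : G → ℂ} (hχ : IsIrrCharacter G χ) (hχ' : IsIrrCharacter G χ')
    (hχres : ∀ n : N, χ n = ϑ n) (hχ'res : ∀ n : N, χ' n = ϑ n)
    (hdet : detChar χ' = detChar χ) : χ' = χ := by
  classical
  haveI := hN
  haveI : Fintype G := Fintype.ofFinite G
  haveI : Fintype N := Fintype.ofFinite N
  obtain ⟨β', hβ'N, hβ'⟩ := exists_hom_mul_eq_of_extensions N hN hχ hχ' hϑ
    (funext hχres) (funext hχ'res)
  obtain ⟨k, τ, hτ, rfl⟩ := hχ
  haveI := hτ
  have hk : k = d := by
    have h1 := hχres 1
    rw [hd] at h1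
    simp only [Subgroup.coe_one, Representation.char_one] at h1
    have : Module.finrank ℂ (Fin k → ℂ) = d := by exact_mod_cast h1
    simpa using this
  haveI : (twistRep β' τ).IsIrreducible := twistRep_isIrreducible β' τ
  have hχ'eq : χ' = (twistRep β' τ).character := by
    rw [hβ']
    ext g
    rw [twistRep_character]
    rfl
  have hpow : ∀ g, β' g ^ d = 1 := by
    intro g
    have h1 := congrFun hdet g
    rw [hχ'eq, detChar_eq_det, detChar_eq_det, det_twistRep] at h1
    have h2 : LinearMap.det (τ g) ≠ 0 := by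
      have h3 : LinearMap.det (τ g) * LinearMap.det (τ g⁻¹) = 1 := by
        rw [← map_mul, ← map_mul, mul_inv_cancel, map_one, map_one]
      intro h0
      rw [h0, zero_mul] at h3
      exact zero_ne_one h3
    have h4 : β' g ^ Module.finrank ℂ (Fin k → ℂ) = 1 := by
      have h5 : β' g ^ Module.finrank ℂ (Fin k → ℂ) * LinearMap.det (τ g) =
          1 * LinearMap.det (τ g) := by rw [h1, one_mul]
      exact mul_right_cancel₀ h2 h5
    simpa [hk] using h4
  have hβ'1 := hom_eq_one_of_pow β' N hβ'N d hcop hpow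
  rw [hβ']
  ext g
  simp only [Pi.mul_apply]
  rw [hβ'1 g, one_mul]

/-- Existence of an extension with prescribed determinantal character. -/
theorem exists_extension_with_detChar (N : Subgroup G) (hN : N.Normal) {ϑ : N → ℂ}
    (hϑ : IsIrrCharacter N ϑ) (d : ℕ) (hd : ϑ 1 = d) (hcop : Nat.Coprime N.index d)
    {η : G → ℂ} (hη : IsIrrCharacter G η) (hηres : ∀ n : N, η n = ϑ n)
    {μ : G → ℂ} (hμ : IsCharacter G μ) (hμ1 : μ 1 = 1) (hμN : ∀ n : N, μ n = detChar ϑ n) :
    ∃ χ : G → ℂ, IsIrrCharacter G χ ∧ (∀ n : N, χ n = ϑ n) ∧ detChar χ = μ := by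
  classical
  haveI := hN
  haveI : Fintype G := Fintype.ofFinite G
  haveI : Fintype N := Fintype.ofFinite N
  obtain ⟨k, σ, hσ, rfl⟩ := hη
  haveI := hσ
  have hk : k = d := by
    have h1 := hηres 1
    rw [hd] at h1
    simp only [Subgroup.coe_one, Representation.char_one] at h1
    have : Module.finrank ℂ (Fin k → ℂ) = d := by exact_mod_cast h1
    simpa using this
  have hϑeq : (fun n : N => σ.character n) = ϑ := funext hηres
  let μh : G →* ℂ := linHom hμ hμ1
  let detσ : G →* ℂ := (LinearMap.det : ((Fin k → ℂ) →ₗ[ℂ] (Fin k → ℂ)) →* ℂ).comp σ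
  let ν : G →* ℂˣ := μh.toHomUnits / detσ.toHomUnits
  have hνval : ∀ g, ((ν g : ℂˣ) : ℂ) * LinearMap.det (σ g) = μ g := by
    intro g
    show ((μh.toHomUnits g / detσ.toHomUnits g : ℂˣ) : ℂ) * LinearMap.det (σ g) = μ g
    rw [Units.val_div_eq_div_val, MonoidHom.coe_toHomUnits, MonoidHom.coe_toHomUnits]
    show μ g / LinearMap.det (σ g) * LinearMap.det (σ g) = μ g
    have h2 : LinearMap.det (σ g) ≠ 0 := monoidHom_ne_zero detσ g
    field_simp
  have hνN : ∀ n : N, ν n = 1 := by
    intro n
    have h1 := hνval n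
    have h2 : μ n = LinearMap.det (σ n) := by
      rw [hμN n, ← hϑeq]
      exact detChar_restrict N σ (by rw [hϑeq]; exact hϑ) n
    rw [h2] at h1
    have h3 : LinearMap.det (σ n) ≠ 0 := monoidHom_ne_zero detσ n
    have h4 : ((ν n : ℂˣ) : ℂ) = 1 := by
      have h5 : ((ν n : ℂˣ) : ℂ) * LinearMap.det (σ (n : G)) = 1 * LinearMap.det (σ (n : G)) := by
        rw [h1, one_mul]
      exact mul_right_cancel₀ h3 h5
    exact Units.ext h4
  obtain ⟨β, hβN, hβ⟩ := exists_hom_pow_eq ν N hνN d hcop
  let βh : G →* ℂ := (Units.coeHom ℂ).comp β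
  haveI : (twistRep βh σ).IsIrreducible := twistRep_isIrreducible βh σ
  refine ⟨(twistRep βh σ).character, isIrrCharacter_of_rep _, ?_, ?_⟩
  · intro n
    rw [twistRep_character]
    show ((β n : ℂˣ) : ℂ) * σ.character n = ϑ n
    rw [hβN n, hηres n]
    simp
  · ext g
    rw [detChar_eq_det, det_twistRep]
    show ((β g : ℂˣ) : ℂ) ^ Module.finrank ℂ (Fin k → ℂ) * LinearMap.det (σ g) = μ g
    have h1 : Module.finrank ℂ (Fin k → ℂ) = d := by simp [hk]
    rw [h1, ← Units.val_pow_eq_pow_val, hβ g]
    exact hνval g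

end detunique
end Cfsg.Agent.Helper81
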