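import Cfsg.Prelude.Def_DegreeGraph
import Cfsg.Agent.S4813

/-!
# DG2 (CR) for helper89's S4811 server: an irreducible character of degree prime to the index of a
normal subgroup with solvable quotient restricts irreducibly.
-/

set_option autoImplicit false
set_option linter.style.haveILetI false
set_option linter.unusedSectionVars false

namespace Cfsg.Agent.Helper81.DG2

open Cfsg Cfsg.Agent.Helper81

universe u

/-- the quotient of `N` by `K ∩ N` embeds in `G ⧸ K` -/
theorem solvable_subgroupOf_quotient {G : Type u} [Group G] (K N : Subgroup G) [K.Normal]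
    [Group.IsSolvable (G ⧸ K)] : Group.IsSolvable (N ⧸ K.subgroupOf N) := by
  let f : N ⧸ K.subgroupOf N →* G ⧸ K :=
    QuotientGroup.map (K.subgroupOf N) K N.subtype (fun x hx => hx)
  have hf : Function.Injective f := by
    intro a b
    induction a using QuotientGroup.induction_on with
    | H x =>
      induction b using QuotientGroup.induction_on with
      | H y =>
        intro h
        have h1 : ((x : G) : G ⧸ K) = ((y : G) : G ⧸ K) := h
        rw [QuotientGroup.eq] at h1 ⊢
        rw [Subgroup.mem_subgroupOf]
        simpa using h1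
  exact Group.isSolvable_of_isSolvable_injective hf

/-- restriction to a normal subgroup of prime index not dividing the degree is irreducible -/
theorem restrict_irr_prime_index {G : Type u} [Group G] [Fintype G] (N : Subgroup G) [Fintype N]
    (hN : N.Normal) (s : ℕ) (hs : s.Prime) (hidx : N.index = s) (χ : IrrCharacter G)
    (hnd : ¬ s ∣ charDegree (χ : G → ℂ)) :
    IsIrrCharacter N (fun n : N => (χ : G → ℂ) n) := by
  obtain ⟨θ, hθ, hne⟩ := Cfsg.Agent.S4813.exists_under N χ.2
  have hdeg : charDegree (χ : G → ℂ) = charDegree θ := by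
    rcases Cfsg.Agent.S4813.deg_restrict N hN s hs hidx χ.2 hθ hne with h | h
    · exact h
    · exact absurd ⟨_, h⟩ hnd
  obtain ⟨e, he1, he2⟩ := Cfsg.Agent.S4813.clifford_norm N hN χ.2 hθ hne
  have hθ0 := (Cfsg.Agent.Helper78.irr_charDegree hθ).2
  have hek : e * Nat.card (conjSet N hN θ) = 1 := by
    have h1 : e * Nat.card (conjSet N hN θ) * charDegree θ = 1 * charDegree θ := by
      rw [one_mul, mul_assoc, ← he1, hdeg]
    exact Nat.eq_of_mul_eq_mul_right hθ0 h1
  have he : e = 1 := Nat.eq_one_of_mul_eq_one_right hek
  have hk : Nat.card (conjSet N hN θ) = 1 := Nat.eq_one_of_mul_eq_one_left hek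
  rw [he, hk] at he2
  apply isIrrCharacter_of_classInner_self_eq_one
    (isCharacter_restrict N (IsIrrCharacter.isCharacter χ.2))
  rw [he2]; simp

theorem restrict_irr_aux : ∀ n : ℕ, ∀ (G : Type u) [Group G] [Finite G] (K : Subgroup G)
    [K.Normal] [Group.IsSolvable (G ⧸ K)] (χ : IrrCharacter G), K.index = n →
    Nat.Coprime (charDegree (χ : G → ℂ)) K.index →
    IsIrrCharacter K (fun k : K => (χ : G → ℂ) k) := by
  intro n
  induction n using Nat.strong_induction_on with
  | _ n ih =>
    intro G _ _ K _ _ χ hn hcop
    haveI := Fintype.ofFinite G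
    by_cases hK : K = ⊤
    · subst hK
      exact isIrrCharacter_comp_equiv (Subgroup.topEquiv : (⊤ : Subgroup G) ≃* G) χ.2
    · -- a normal subgroup of prime index containing `K`
      haveI : Nontrivial (G ⧸ K) := by
        rw [← not_subsingleton_iff_nontrivial]
        intro hsub
        exact hK (QuotientGroup.subsingleton_iff.mp hsub)
      obtain ⟨Nb, hNb, hNbs⟩ := Cfsg.Agent.Helper55.exists_normal_prime_index
        (X := G ⧸ K) inferInstance
      set N : Subgroup G := Nb.comap (QuotientGroup.mk' K) with hNdef
      have hNn : N.Normal := hNb.comap _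
      have hKN : K ≤ N := by
        intro k hk
        rw [hNdef, Subgroup.mem_comap]
        have : (QuotientGroup.mk' K) k = 1 := (QuotientGroup.eq_one_iff k).2 hk
        rw [this]; exact one_mem _
      have hNidx : N.index = Nb.index :=
        Subgroup.index_comap_of_surjective Nb (QuotientGroup.mk'_surjective K)
      set s := Nb.index with hsdef
      haveI : Fintype N := Fintype.ofFinite N
      have hsK : s ∣ K.index := by
        rw [← hNidx]; exact Subgroup.index_dvd_of_le hKN
      have hnd : ¬ s ∣ charDegree (χ : G → ℂ) := by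
        intro h
        have h1 : s ∣ Nat.gcd (charDegree (χ : G → ℂ)) K.index := Nat.dvd_gcd h hsK
        rw [hcop] at h1
        exact hNbs.one_lt.ne' (Nat.dvd_one.1 h1)
      have hirrN := restrict_irr_prime_index N hNn s hNbs hNidx χ hnd
      -- apply the induction hypothesis to `N`
      set K' : Subgroup N := K.subgroupOf N with hK'
      haveI : K'.Normal := Subgroup.Normal.subgroupOf inferInstance N
      haveI : Group.IsSolvable (N ⧸ K') := solvable_subgroupOf_quotient K N
      have hidx' : K'.index * N.index = K.index := Subgroup.relIndex_mul_index hKN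
      have hK0 : K.index ≠ 0 := Subgroup.index_ne_zero_of_finite
      have hlt : K'.index < n := by
        rw [← hn, ← hidx', hNidx]
        have h2 : 2 ≤ s := hNbs.two_le
        have h0 : 0 < K'.index := Nat.pos_of_ne_zero Subgroup.index_ne_zero_of_finite
        nlinarith
      have hdegeq : charDegree ((⟨fun n : N => (χ : G → ℂ) n, hirrN⟩ : IrrCharacter N) : N → ℂ) =
          charDegree (χ : G → ℂ) := rfl
      have hcop' : Nat.Coprime
          (charDegree ((⟨fun n : N => (χ : G → ℂ) n, hirrN⟩ : IrrCharacter N) : N → ℂ))
          K'.index := by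
        rw [hdegeq]
        exact Nat.Coprime.coprime_dvd_right ⟨N.index, hidx'.symm⟩ hcop
      have hres := ih K'.index hlt N K' ⟨fun n : N => (χ : G → ℂ) n, hirrN⟩ rfl hcop'
      have hfinal := isIrrCharacter_comp_equiv (Subgroup.subgroupOfEquivOfLe hKN).symm hres
      convert hfinal using 1
      funext x
      show (χ : G → ℂ) x = (χ : G → ℂ) (((Subgroup.subgroupOfEquivOfLe hKN).symm x : N) : G)
      rw [Subgroup.subgroupOfEquivOfLe_symm_apply_coe_coe]

/-- (CR) an irreducible character of degree prime to the index of a normal subgroup with solvable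
quotient restricts irreducibly. -/
theorem restrict_irr_of_coprime {G : Type u} [Group G] [Finite G] (K : Subgroup G) [K.Normal]
    [Group.IsSolvable (G ⧸ K)] (χ : IrrCharacter G)
    (hcop : Nat.Coprime (charDegree (χ : G → ℂ)) K.index) :
    IsIrrCharacter K (fun k : K => (χ : G → ℂ) k) :=
  restrict_irr_aux K.index G K χ rfl hcop

end Cfsg.Agent.Helper81.DG2
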