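import Cfsg.Agent.Lib.Helper81.CharDade
import Cfsg.Agent.Lib.Helper79.DegreeRatio
set_option autoImplicit false
set_option linter.style.haveILetI false
set_option linter.unusedSectionVars false
namespace Cfsg.Agent.Helper81
open Representation
open scoped ComplexConjugate
universe u v w

section commlinear

/-- An irreducible representation of a commutative group is one-dimensional. -/
theorem finrank_eq_one_of_comm {A : Type u} [Group A] (hA : ∀ a b : A, a * b = b * a)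
    {V : Type v} [AddCommGroup V] [Module ℂ V] [FiniteDimensional ℂ V]
    (ρ : Representation ℂ A V) [hρ : ρ.IsIrreducible] : Module.finrank ℂ V = 1 := by
  haveI := nontrivial_of_isIrreducible ρ
  obtain ⟨v, hv⟩ := exists_ne (0 : V)
  have hsc : ∀ a : A, ∃ c : ℂ, ρ a = c • LinearMap.id := by
    intro a
    apply schur_scalar ρ (ρ a)
    intro g
    have h1 : ρ a ∘ₗ ρ g = ρ (a * g) := by rw [map_mul]; rfl
    have h2 : ρ g ∘ₗ ρ a = ρ (g * a) := by rw [map_mul]; rfl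
    rw [h1, h2, hA a g]
  let U : Subrepresentation ρ :=
    { toSubmodule := Submodule.span ℂ {v}
      apply_mem_toSubmodule := by
        intro g w hw
        obtain ⟨c, hc⟩ := hsc g
        rw [hc]
        simp only [LinearMap.smul_apply, LinearMap.id_coe, id_eq]
        exact Submodule.smul_mem _ c hw }
  have hU : U ≠ ⊥ := by
    intro h
    have hvU : v ∈ U := Submodule.mem_span_singleton_self v
    rw [h] at hvU
    exact hv hvU
  have htop : U = ⊤ := (hρ.eq_bot_or_eq_top U).resolve_left hU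
  have h1 : Submodule.span ℂ {v} = ⊤ := by
    have := congrArg Subrepresentation.toSubmodule htop
    exact this
  rw [← finrank_top ℂ V, ← h1]
  exact finrank_span_singleton hv

/-- Irreducible characters of commutative groups are linear. -/
theorem irr_one_eq_one_of_comm {A : Type u} [Group A] (hA : ∀ a b : A, a * b = b * a)
    {φ : A → ℂ} (hφ : IsIrrCharacter A φ) : φ 1 = 1 := by
  obtain ⟨n, ρ, hρ, rfl⟩ := hφ
  haveI := hρ
  rw [Representation.char_one, finrank_eq_one_of_comm hA ρ]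
  simp

end commlinear

section glue

/-- Gluing homomorphisms on a normal subgroup `D` and a subgroup `Q` with `DQ = E`. -/
theorem exists_hom_glue {E : Type u} [Group E] (D Q : Subgroup E) [hD : D.Normal]
    (hDQ : D ⊔ Q = ⊤) {A : Type v} [CommMonoid A] (lam : D →* A) (mu : Q →* A)
    (hinv : ∀ (q : E) (_ : q ∈ Q) (d : D), lam ⟨q * d * q⁻¹, hD.conj_mem d d.2 q⟩ = lam d)
    (hag : ∀ (x : E) (hxD : x ∈ D) (hxQ : x ∈ Q), lam ⟨x, hxD⟩ = mu ⟨x, hxQ⟩) :
    ∃ ψ : E →* A, (∀ d : D, ψ d = lam d) ∧ ∀ q : Q, ψ q = mu q := by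
  have hdec : ∀ e : E, ∃ d ∈ D, ∃ q ∈ Q, d * q = e := by
    intro e
    have : e ∈ D ⊔ Q := hDQ ▸ Subgroup.mem_top e
    exact Subgroup.mem_sup_of_normal_left.mp this
  choose dd hdd qq hqq hdq using hdec
  let F : E → A := fun e => lam ⟨dd e, hdd e⟩ * mu ⟨qq e, hqq e⟩
  have key : ∀ (d : E) (hd : d ∈ D) (q : E) (hq : q ∈ Q),
      F (d * q) = lam ⟨d, hd⟩ * mu ⟨q, hq⟩ := by
    intro d hd q hq
    have h1 : dd (d * q) * qq (d * q) = d * q := hdq (d * q)
    set d' := dd (d * q) with hd'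
    set q' := qq (d * q) with hq'
    have hxD : d⁻¹ * d' ∈ D := D.mul_mem (D.inv_mem hd) (hdd _)
    have hxeq : d⁻¹ * d' = q * q'⁻¹ := by
      have : d' = d * q * q'⁻¹ := by rw [← h1]; group
      rw [this]; group
    have hxQ : d⁻¹ * d' ∈ Q := by rw [hxeq]; exact Q.mul_mem hq (Q.inv_mem (hqq _))
    have h2 : lam ⟨d', hdd _⟩ = lam ⟨d, hd⟩ * lam ⟨d⁻¹ * d', hxD⟩ := by
      rw [← map_mul]
      congr 1
      apply Subtype.ext
      simp
    have h3 : mu ⟨d⁻¹ * d', hxQ⟩ * mu ⟨q', hqq _⟩ = mu ⟨q, hq⟩ := by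
      rw [← map_mul]
      congr 1
      apply Subtype.ext
      show d⁻¹ * d' * q' = q
      rw [hxeq]; group
    show lam ⟨d', hdd _⟩ * mu ⟨q', hqq _⟩ = _
    rw [h2, hag _ hxD hxQ, mul_assoc, h3]
  have hF1 : F 1 = 1 := by
    have := key 1 D.one_mem 1 Q.one_mem
    rw [one_mul] at this
    rw [this]
    have e1 : (⟨1, D.one_mem⟩ : D) = 1 := rfl
    have e2 : (⟨1, Q.one_mem⟩ : Q) = 1 := rfl
    rw [e1, e2, map_one, map_one, one_mul]
  have hFmul : ∀ e e' : E, F (e * e') = F e * F e' := by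
    intro e e'
    have he : dd e * qq e = e := hdq e
    have he' : dd e' * qq e' = e' := hdq e'
    have hconj : qq e * dd e' * (qq e)⁻¹ ∈ D := hD.conj_mem _ (hdd e') _
    have h1 : e * e' = (dd e * (qq e * dd e' * (qq e)⁻¹)) * (qq e * qq e') := by
      conv_lhs => rw [← he, ← he']
      group
    rw [h1, key _ (D.mul_mem (hdd e) hconj) _ (Q.mul_mem (hqq e) (hqq e'))]
    have h2 : lam ⟨dd e * (qq e * dd e' * (qq e)⁻¹), D.mul_mem (hdd e) hconj⟩ =
        lam ⟨dd e, hdd e⟩ * lam ⟨dd e', hdd e'⟩ := by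
      rw [← hinv (qq e) (hqq e) ⟨dd e', hdd e'⟩, ← map_mul]
      rfl
    have h3 : mu ⟨qq e * qq e', Q.mul_mem (hqq e) (hqq e')⟩ =
        mu ⟨qq e, hqq e⟩ * mu ⟨qq e', hqq e'⟩ := by
      rw [← map_mul]
      rfl
    rw [h2, h3]
    show _ = (lam ⟨dd e, hdd e⟩ * mu ⟨qq e, hqq e⟩) * (lam ⟨dd e', hdd e'⟩ * mu ⟨qq e', hqq e'⟩)
    rw [mul_mul_mul_comm]
  refine ⟨⟨⟨F, hF1⟩, hFmul⟩, ?_, ?_⟩
  · intro d
    show F (d : E) = lam d
    have := key d d.2 1 Q.one_mem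
    rw [mul_one] at this
    rw [this]
    have e2 : (⟨1, Q.one_mem⟩ : Q) = 1 := rfl
    rw [e2, map_one, mul_one]
  · intro q
    show F (q : E) = mu q
    have := key 1 D.one_mem q q.2
    rw [one_mul] at this
    rw [this]
    have e1 : (⟨1, D.one_mem⟩ : D) = 1 := rfl
    rw [e1, map_one, one_mul]

end glue
section elemstruct
variable {E : Type u} [Group E] [Finite E]

/-- In an elementary group, elements of order prime to `p` are central. -/
theorem isElementary_center_of_coprime {p : ℕ} (hE : IsElementary p E) (x : E)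
    (hx : (orderOf x).Coprime p) : x ∈ Subgroup.center E := by
  obtain ⟨z, hz, _, k, hk⟩ := hE
  have hle : Subgroup.zpowers z ≤ Subgroup.center E := (Subgroup.zpowers_le).mpr hz
  haveI hCn : (Subgroup.zpowers z).Normal := by
    constructor
    intro c hc g
    have hcc : c ∈ Subgroup.center E := hle hc
    have : g * c * g⁻¹ = c := by
      rw [Subgroup.mem_center_iff] at hcc
      rw [hcc g, mul_inv_cancel_right]
    rw [this]
    exact hc
  have h1 : x ^ (p ^ k) ∈ Subgroup.zpowers z := hk ▸ Subgroup.pow_index_mem _ x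
  obtain ⟨m, hm⟩ := exists_pow_eq_self_of_coprime
    (Nat.Coprime.pow_left k (Nat.Coprime.symm hx) : (p ^ k).Coprime (orderOf x))
  rw [← hm]
  exact hle (Subgroup.pow_mem _ h1 m)

/-- In an elementary group, the Sylow `p`-subgroups are normal. -/
theorem isElementary_sylow_normal {p : ℕ} [hp : Fact p.Prime] (hE : IsElementary p E)
    (Q : Sylow p E) : (Q : Subgroup E).Normal := by
  obtain ⟨z, hz, _, k, hk⟩ := hE
  have hle : Subgroup.zpowers z ≤ Subgroup.normalizer ((Q : Subgroup E) : Set E) := by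
    rw [Subgroup.zpowers_le]
    rw [Subgroup.mem_normalizer_iff]
    intro h
    rw [Subgroup.mem_center_iff] at hz
    have : z * h * z⁻¹ = h := by rw [← hz h, mul_inv_cancel_right]
    rw [this]
  have h1 : (Subgroup.normalizer ((Q : Subgroup E) : Set E)).index ∣ p ^ k := hk ▸ Subgroup.index_dvd_of_le hle
  have h2 : (Subgroup.normalizer ((Q : Subgroup E) : Set E)).index ∣ (Q : Subgroup E).index :=
    Subgroup.index_dvd_of_le Subgroup.le_normalizer
  obtain ⟨j, _, hj'⟩ := (Nat.dvd_prime_pow hp.1).mp h1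
  have hj0 : j = 0 := by
    by_contra hj0
    have : p ∣ (Q : Subgroup E).index := (hj' ▸ dvd_pow_self p hj0 : p ∣ _).trans h2
    exact Q.not_dvd_index this
  have htop : Subgroup.normalizer ((Q : Subgroup E) : Set E) = ⊤ :=
    Subgroup.index_eq_one.mp (by rw [hj', hj0, pow_zero])
  exact Subgroup.normalizer_eq_top_iff.mp htop

/-- In an elementary group, `p`-elements lie in every Sylow `p`-subgroup. -/
theorem isElementary_mem_sylow {p : ℕ} [hp : Fact p.Prime] (hE : IsElementary p E)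
    (Q : Sylow p E) (x : E) (hx : ∃ j : ℕ, orderOf x = p ^ j) : x ∈ (Q : Subgroup E) := by
  obtain ⟨j, hj⟩ := hx
  have hpg : IsPGroup p (Subgroup.zpowers x) := IsPGroup.of_card (n := j) (by
    rw [Nat.card_zpowers, hj])
  obtain ⟨Q', hQ'⟩ := hpg.exists_le_sylow
  haveI := Sylow.unique_of_normal Q (isElementary_sylow_normal hE Q)
  have : Q' = Q := Subsingleton.elim _ _
  rw [← this]
  exact hQ' (Subgroup.mem_zpowers x)

end elemstruct

section ppart

/-- Decomposition of an element into its `p'`-part and `p`-part, as powers. -/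
theorem exists_zpow_parts {E : Type u} [Group E] [Finite E] (p : ℕ) [hp : Fact p.Prime] (x : E) :
    ∃ a b : ℤ, x = x ^ a * x ^ b ∧ (orderOf (x ^ a)).Coprime p ∧
      ∃ j : ℕ, orderOf (x ^ b) = p ^ j := by
  have hn : orderOf x ≠ 0 := (orderOf_pos x).ne'
  obtain ⟨e, m, hm, hnm⟩ := Nat.exists_eq_pow_mul_and_not_dvd hn p hp.1.ne_one
  have hcop : Nat.Coprime (p ^ e) m := Nat.Coprime.pow_left e ((Nat.Prime.coprime_iff_not_dvd hp.1).mpr hm)
  have hbez := Int.gcd_eq_gcd_ab ((p ^ e : ℕ) : ℤ) (m : ℤ)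
  rw [Int.gcd_natCast_natCast, hcop] at hbez
  set s := Int.gcdA ((p ^ e : ℕ) : ℤ) (m : ℤ) with hs
  set t := Int.gcdB ((p ^ e : ℕ) : ℤ) (m : ℤ) with ht
  refine ⟨((p ^ e : ℕ) : ℤ) * s, (m : ℤ) * t, ?_, ?_, ?_⟩
  · rw [← zpow_add, ← hbez]
    simp
  · have h1 : (x ^ (((p ^ e : ℕ) : ℤ) * s)) ^ m = 1 := by
      rw [← zpow_natCast, ← zpow_mul]
      have : ((p ^ e : ℕ) : ℤ) * s * (m : ℤ) = ((orderOf x : ℕ) : ℤ) * s := by
        rw [hnm]; push_cast; ring
      rw [this, zpow_mul, zpow_natCast, pow_orderOf_eq_one, one_zpow]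
    have h2 : orderOf (x ^ (((p ^ e : ℕ) : ℤ) * s)) ∣ m := orderOf_dvd_of_pow_eq_one h1
    exact Nat.Coprime.coprime_dvd_left h2 ((Nat.Prime.coprime_iff_not_dvd hp.1).mpr hm).symm
  · have h1 : (x ^ ((m : ℤ) * t)) ^ (p ^ e) = 1 := by
      rw [← zpow_natCast, ← zpow_mul]
      have : (m : ℤ) * t * ((p ^ e : ℕ) : ℤ) = ((orderOf x : ℕ) : ℤ) * t := by
        rw [hnm]; push_cast; ring
      rw [this, zpow_mul, zpow_natCast, pow_orderOf_eq_one, one_zpow]
    have h2 : orderOf (x ^ ((m : ℤ) * t)) ∣ p ^ e := orderOf_dvd_of_pow_eq_one h1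
    obtain ⟨j, _, hj⟩ := (Nat.dvd_prime_pow hp.1).mp h2
    exact ⟨j, hj⟩

end ppart

section sylowext
variable {G : Type u} [Group G] [Fintype G]

/-- The hypothesis of Isaacs 8.26 on a `p`-subgroup `P`: `P ∩ N` is central in `P` and its
linear characters extend to `P`. -/
def CentralLinExt (N P : Subgroup G) : Prop :=
  (∀ x ∈ P ⊓ N, ∀ y ∈ P, x * y = y * x) ∧
    ∀ lam : ↥(P ⊓ N) → ℂ, IsCharacter ↥(P ⊓ N) lam → lam 1 = 1 →
      ∃ μ : ↥P → ℂ, IsCharacter ↥P μ ∧ μ 1 = 1 ∧ ∀ x : ↥(P ⊓ N), μ ⟨(x : G), x.2.1⟩ = lam x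

theorem CentralLinExt.conj {N P : Subgroup G} [hN : N.Normal] (h : CentralLinExt N P) (g : G)
    (P₁ : Subgroup G) (hP₁ : ∀ x, x ∈ P₁ ↔ g⁻¹ * x * g ∈ P) : CentralLinExt N P₁ := by
  have hN' : ∀ x, x ∈ N → g⁻¹ * x * g ∈ N := by
    intro x hx
    have := hN.conj_mem x hx g⁻¹
    simpa using this
  refine ⟨?_, ?_⟩
  · intro x hx y hy
    have h1 := h.1 (g⁻¹ * x * g) ⟨(hP₁ x).mp hx.1, hN' x hx.2⟩ (g⁻¹ * y * g) ((hP₁ y).mp hy)
    have h2 : g⁻¹ * (x * y) * g = g⁻¹ * (y * x) * g := by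
      calc g⁻¹ * (x * y) * g = (g⁻¹ * x * g) * (g⁻¹ * y * g) := by group
        _ = (g⁻¹ * y * g) * (g⁻¹ * x * g) := h1
        _ = g⁻¹ * (y * x) * g := by group
    exact mul_left_cancel (mul_right_cancel h2)
  · intro lam₁ hlam₁ hlam₁1
    have hmem : ∀ x : ↥(P ⊓ N), g * (x : G) * g⁻¹ ∈ P₁ ⊓ N := by
      intro x
      refine ⟨(hP₁ _).mpr ?_, hN.conj_mem _ x.2.2 g⟩
      have : g⁻¹ * (g * (x : G) * g⁻¹) * g = x := by group
      rw [this]
      exact x.2.1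
    let c : ↥(P ⊓ N) →* ↥(P₁ ⊓ N) :=
      { toFun := fun x => ⟨g * (x : G) * g⁻¹, hmem x⟩
        map_one' := Subtype.ext (by simp)
        map_mul' := fun x y => Subtype.ext (by simp [mul_assoc]) }
    have hlam : IsCharacter ↥(P ⊓ N) (fun x => lam₁ (c x)) := isCharacter_comp_hom c hlam₁
    have hlam1 : (fun x => lam₁ (c x)) 1 = 1 := by
      show lam₁ (c 1) = 1
      rw [map_one, hlam₁1]
    obtain ⟨μ, hμ, hμ1, hμx⟩ := h.2 _ hlam hlam1
    let c' : ↥P₁ →* ↥P :=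
      { toFun := fun y => ⟨g⁻¹ * (y : G) * g, (hP₁ _).mp y.2⟩
        map_one' := Subtype.ext (by simp)
        map_mul' := fun x y => Subtype.ext (by simp [mul_assoc]) }
    refine ⟨fun y => μ (c' y), isCharacter_comp_hom c' hμ, ?_, ?_⟩
    · show μ (c' 1) = 1
      rw [map_one, hμ1]
    · intro x
      have h1 := hμx ⟨g⁻¹ * (x : G) * g, ⟨(hP₁ _).mp x.2.1, hN' _ x.2.2⟩⟩
      show μ (c' ⟨(x : G), x.2.1⟩) = lam₁ x
      have h2 : c' ⟨(x : G), x.2.1⟩ = ⟨g⁻¹ * (x : G) * g, (hP₁ _).mp x.2.1⟩ := rfl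
      rw [h2, h1]
      show lam₁ (c ⟨g⁻¹ * (x : G) * g, _⟩) = lam₁ x
      congr 1
      apply Subtype.ext
      show g * (g⁻¹ * (x : G) * g) * g⁻¹ = x
      group


/-- In an elementary group `E`, the subgroup `E ∩ N` is commutative when the `p`-elements of
`E` lie in a `p`-subgroup `P₁` with `P₁ ∩ N` central in `P₁`. -/
theorem inf_comm_of_elementary (p : ℕ) [hp : Fact p.Prime] (N P₁ E : Subgroup G)
    (hcent : ∀ x ∈ P₁ ⊓ N, ∀ y ∈ P₁, x * y = y * x) (hE : IsElementary p E) (Q₀ : Sylow p E)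
    (hQ : ∀ q : E, q ∈ (Q₀ : Subgroup E) → (q : G) ∈ P₁) (x y : ↥(E ⊓ N)) : x * y = y * x := by
  set x' : E := ⟨(x : G), x.2.1⟩ with hx'
  set y' : E := ⟨(y : G), y.2.1⟩ with hy'
  obtain ⟨a, b, hxab, hxa, hxb⟩ := exists_zpow_parts p x'
  obtain ⟨c, d, hycd, hyc, hyd⟩ := exists_zpow_parts p y'
  have hxac := isElementary_center_of_coprime hE _ hxa
  have hycc := isElementary_center_of_coprime hE _ hyc
  have hxbQ := isElementary_mem_sylow hE Q₀ _ hxb
  have hydQ := isElementary_mem_sylow hE Q₀ _ hyd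
  have hxbN : ((x' ^ b : E) : G) ∈ N := by
    have : ((x' ^ b : E) : G) = (x : G) ^ b := by simp [hx']
    rw [this]
    exact N.zpow_mem x.2.2 b
  have hcomm1 : Commute (x' ^ b) (y' ^ d) := by
    apply Subtype.ext
    exact hcent _ ⟨hQ _ hxbQ, hxbN⟩ _ (hQ _ hydQ)
  have hcomm2 : Commute (x' ^ b) (y' ^ c) := by
    rw [Subgroup.mem_center_iff] at hycc
    exact hycc (x' ^ b)
  have hcomm3 : Commute (x' ^ a) (y' ^ c * y' ^ d) := by
    rw [Subgroup.mem_center_iff] at hxac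
    exact (hxac _).symm
  have hcomm : Commute (x' ^ a * x' ^ b) (y' ^ c * y' ^ d) :=
    Commute.mul_left hcomm3 (Commute.mul_right hcomm2 hcomm1)
  rw [← hxab, ← hycd] at hcomm
  apply Subtype.ext
  exact congrArg (fun e : E => (e : G)) hcomm.eq


/-- Extension of an invariant irreducible character of `E ∩ N` to the elementary group `E`
(the local step in Isaacs 8.26). -/
theorem exists_extension_elementary_aux (p : ℕ) [hp : Fact p.Prime] (N : Subgroup G)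
    [hN : N.Normal] (hind : ∃ k : ℕ, N.index = p ^ k) (P₁ : Subgroup G)
    (hP₁ : CentralLinExt N P₁) (E : Subgroup G) (hE : IsElementary p E) (Q₀ : Sylow p E)
    (hQ : ∀ q : E, q ∈ (Q₀ : Subgroup E) → (q : G) ∈ P₁)
    (φ : ↥(E ⊓ N) → ℂ) (hφ : IsIrrCharacter ↥(E ⊓ N) φ)
    (hφinv : ∀ (g : G) (hg : g ∈ E) (x : ↥(E ⊓ N)),
        φ ⟨g * x * g⁻¹, ⟨(E.mul_mem (E.mul_mem hg x.2.1) (E.inv_mem hg)),
          hN.conj_mem (x : G) x.2.2 g⟩⟩ = φ x) :
    ∃ ψ : E → ℂ, IsCharacter E ψ ∧ ∀ x : ↥(E ⊓ N), ψ ⟨(x : G), x.2.1⟩ = φ x := by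
  classical
  letI hfin : ∀ H : Subgroup G, Fintype H := fun H => Fintype.ofFinite H
  have hDcomm := inf_comm_of_elementary p N P₁ E hP₁.1 hE Q₀ hQ
  have hφ1 : φ 1 = 1 := irr_one_eq_one_of_comm hDcomm hφ
  set lam : ↥(E ⊓ N) →* ℂ := linHom (IsIrrCharacter.isCharacter hφ) hφ1 with hlam
  -- the commutative group `P₁ ⊓ N`
  letI instA : CommGroup ↥(P₁ ⊓ N) :=
    { (inferInstance : Group ↥(P₁ ⊓ N)) with
      mul_comm := fun a b => Subtype.ext (hP₁.1 (a : G) a.2 (b : G) b.2.1) }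
  -- the subgroup of `P₁ ⊓ N` coming from `Q₀`
  let Q' : Subgroup G := (Q₀ : Subgroup E).map E.subtype
  have hQ'E : ∀ x : G, x ∈ Q' → x ∈ E := by
    rintro x ⟨q, _, rfl⟩
    exact q.2
  have hQ'Q : ∀ (x : G) (hx : x ∈ Q'), (⟨x, hQ'E x hx⟩ : E) ∈ (Q₀ : Subgroup E) := by
    rintro x ⟨q, hq, rfl⟩
    exact hq
  let B : Subgroup ↥(P₁ ⊓ N) := Q'.subgroupOf (P₁ ⊓ N)
  let ι : ↥B →* ↥(E ⊓ N) :=
    { toFun := fun b => ⟨((b : ↥(P₁ ⊓ N)) : G), ⟨hQ'E _ (Subgroup.mem_subgroupOf.mp b.2),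
        (b : ↥(P₁ ⊓ N)).2.2⟩⟩
      map_one' := rfl
      map_mul' := fun _ _ => rfl }
  obtain ⟨F, hF⟩ := MonoidHom.domRestrict_surjective (M := ℂ) B (lam.comp ι).toHomUnits
  have hFb : ∀ b : ↥B, ((F (b : ↥(P₁ ⊓ N)) : ℂˣ) : ℂ) = lam (ι b) := by
    intro b
    have := congrArg (fun f : ↥B →* ℂˣ => ((f b : ℂˣ) : ℂ)) hF
    exact this
  let lam₁ : ↥(P₁ ⊓ N) →* ℂ := (Units.coeHom ℂ).comp F
  have hlam₁ch : IsCharacter ↥(P₁ ⊓ N) (lam₁ : ↥(P₁ ⊓ N) → ℂ) :=
    IsIrrCharacter.isCharacter (isIrrCharacter_hom lam₁)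
  obtain ⟨μ₁, hμ₁, hμ₁1, hμ₁x⟩ := hP₁.2 (lam₁ : ↥(P₁ ⊓ N) → ℂ) hlam₁ch (map_one lam₁)
  -- gluing inside `E`
  haveI hDn : (N.subgroupOf E).Normal := hN.subgroupOf E
  have hDQ : N.subgroupOf E ⊔ (Q₀ : Subgroup E) = ⊤ := by
    rw [← Subgroup.index_eq_one]
    obtain ⟨k, hk⟩ := hind
    have h1 : (N.subgroupOf E ⊔ (Q₀ : Subgroup E)).index ∣ (Q₀ : Subgroup E).index :=
      Subgroup.index_dvd_of_le le_sup_right
    have h2 : (N.subgroupOf E ⊔ (Q₀ : Subgroup E)).index ∣ p ^ k := by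
      have h3 : (N.subgroupOf E).index ∣ p ^ k := by
        show N.relIndex E ∣ p ^ k
        rw [← hk]
        exact Subgroup.relIndex_dvd_index_of_normal N E
      exact (Subgroup.index_dvd_of_le le_sup_left).trans h3
    obtain ⟨j, _, hj'⟩ := (Nat.dvd_prime_pow hp.1).mp h2
    have hj0 : j = 0 := by
      by_contra hj0
      have : p ∣ (Q₀ : Subgroup E).index := (hj' ▸ dvd_pow_self p hj0 : p ∣ _).trans h1
      exact Q₀.not_dvd_index this
    rw [hj', hj0, pow_zero]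
  let ιD : ↥(N.subgroupOf E) →* ↥(E ⊓ N) :=
    { toFun := fun d => ⟨((d : E) : G), ⟨(d : E).2, Subgroup.mem_subgroupOf.mp d.2⟩⟩
      map_one' := rfl
      map_mul' := fun _ _ => rfl }
  let ιQ : ↥(Q₀ : Subgroup E) →* ↥P₁ :=
    { toFun := fun q => ⟨((q : E) : G), hQ _ q.2⟩
      map_one' := rfl
      map_mul' := fun _ _ => rfl }
  obtain ⟨ψ, hψD, _⟩ := exists_hom_glue (N.subgroupOf E) (Q₀ : Subgroup E) hDQ
    (lam.comp ιD) ((linHom hμ₁ hμ₁1).comp ιQ)
    (by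
      intro q hq d
      have := hφinv (q : G) q.2 (ιD d)
      exact this)
    (by
      intro x hxD hxQ
      show φ (ιD ⟨x, hxD⟩) = μ₁ (ιQ ⟨x, hxQ⟩)
      have hxN : (x : G) ∈ N := Subgroup.mem_subgroupOf.mp hxD
      have hxP : (x : G) ∈ P₁ := hQ x hxQ
      have h1 := hμ₁x ⟨(x : G), ⟨hxP, hxN⟩⟩
      have h2 : ιQ ⟨x, hxQ⟩ = ⟨(x : G), hxP⟩ := rfl
      rw [h2, h1]
      have hxQ' : (x : G) ∈ Q' := ⟨x, hxQ, rfl⟩
      have hb : (⟨(x : G), ⟨hxP, hxN⟩⟩ : ↥(P₁ ⊓ N)) ∈ B := Subgroup.mem_subgroupOf.mpr hxQ'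
      have h3 := hFb ⟨⟨(x : G), ⟨hxP, hxN⟩⟩, hb⟩
      show _ = ((F ⟨(x : G), ⟨hxP, hxN⟩⟩ : ℂˣ) : ℂ)
      rw [h3]
      rfl)
  refine ⟨(ψ : E → ℂ), IsIrrCharacter.isCharacter (isIrrCharacter_hom ψ), ?_⟩
  intro x
  have := hψD ⟨⟨(x : G), x.2.1⟩, Subgroup.mem_subgroupOf.mpr x.2.2⟩
  exact this


theorem indFun_eq_zero_of_not_mem (N : Subgroup G) [hN : N.Normal] (ϑ : N → ℂ) {g : G}
    (hg : g ∉ N) : indFun N ϑ g = 0 := by
  rw [indFun_apply]
  rw [Finset.sum_eq_zero, mul_zero]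
  intro x _
  apply extendByZero_apply_not_mem
  intro hcon
  apply hg
  have := hN.conj_mem _ hcon x
  simpa [mul_assoc] using this

theorem indFun_of_invariant (N : Subgroup G) [hN : N.Normal] (ϑ : N → ℂ)
    (hinv : ∀ (g : G) (n : N), ϑ ⟨g * n * g⁻¹, hN.conj_mem (n : G) n.2 g⟩ = ϑ n) (n : N) :
    indFun N ϑ (n : G) = (Nat.card N : ℂ)⁻¹ * (Nat.card G : ℂ) * ϑ n := by
  rw [indFun_apply_normal N hN, mul_assoc]
  congr 1
  rw [Finset.sum_congr rfl (fun x _ => (conjFun_apply N hN ϑ x n).trans (hinv x n)),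
    Finset.sum_const, Finset.card_univ, nsmul_eq_mul, Nat.card_eq_fintype_card]

/-- The counting step in Isaacs 8.26: if `EN = G`, `G/N` a `p`-group, `ϑ` invariant, and a
character `ψ` of `E` has `[ϑ_D, ψ_D]` prime to `p` (`D = E ∩ N`), then `ϑ` extends to `G`. -/
theorem exists_extension_of_local [hfin : ∀ H : Subgroup G, Fintype H] (p : ℕ)
    [hp : Fact p.Prime] (N : Subgroup G)
    [hN : N.Normal] (hind : ∃ k : ℕ, N.index = p ^ k) (ϑ : N → ℂ) (hϑ : IsIrrCharacter N ϑ)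
    (hinv : ∀ (g : G) (n : N), ϑ ⟨g * n * g⁻¹, hN.conj_mem (n : G) n.2 g⟩ = ϑ n)
    (E : Subgroup G) (hEN : E ⊔ N = ⊤) (m : ℕ) (hm : ¬ p ∣ m) (ψ : E → ℂ)
    (hψ : IsCharacter E ψ)
    (hmψ : classInner (fun x : ↥(E ⊓ N) => ϑ ⟨(x : G), x.2.2⟩)
      (fun x : ↥(E ⊓ N) => ψ ⟨(x : G), x.2.1⟩) = (m : ℂ)) :
    ∃ χ : G → ℂ, IsIrrCharacter G χ ∧ ∀ n : N, χ n = ϑ n := by
  classical
  haveI : Fintype (IrrCharacter G) := @Fintype.ofFinite _ irr_finite
  have hϑch := IsIrrCharacter.isCharacter hϑ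
  have hΘch : IsCharacter G (indFun N ϑ) := isCharacter_indFun N hϑch
  obtain ⟨b, hb⟩ := exists_nat_decomp hΘch
  have hbχ : ∀ χ : IrrCharacter G, classInner (indFun N ϑ) (χ : G → ℂ) = (b χ : ℂ) := by
    intro χ
    rw [hb]
    exact classInner_nat_decomp (fun χ' => (b χ' : ℂ)) χ
  -- first computation
  have h1 : classInner ψ (fun e : E => indFun N ϑ (e : G)) =
      ∑ χ : IrrCharacter G, ((b χ * natInner ψ (fun e : E => (χ : G → ℂ) (e : G)) : ℕ) : ℂ) := by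
    have hres : (fun e : E => indFun N ϑ (e : G)) =
        ∑ χ : IrrCharacter G, (b χ : ℂ) • (fun e : E => (χ : G → ℂ) (e : G)) := by
      funext e
      rw [hb]
      simp only [Finset.sum_apply, Pi.smul_apply]
    rw [hres, classInner_sum_right]
    apply Finset.sum_congr rfl
    intro χ _
    rw [classInner_smul_right, Complex.conj_natCast,
      natInner_spec hψ (isCharacter_restrict E (IsIrrCharacter.isCharacter χ.2))]
    push_cast
    rfl
  -- second computation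
  have h2 : classInner ψ (fun e : E => indFun N ϑ (e : G)) = (m : ℂ) := by
    have hE0 : (Nat.card E : ℂ) ≠ 0 := by exact_mod_cast (Nat.card_pos (α := E)).ne'
    have hN0 : (Nat.card N : ℂ) ≠ 0 := by exact_mod_cast (Nat.card_pos (α := N)).ne'
    have hD0 : (Nat.card ↥(E ⊓ N) : ℂ) ≠ 0 := by
      exact_mod_cast (Nat.card_pos (α := ↥(E ⊓ N))).ne'
    have hsum : ∑ e : E, ψ e * conj (indFun N ϑ (e : G)) =
        (Nat.card N : ℂ)⁻¹ * (Nat.card G : ℂ) *
          ∑ x : ↥(E ⊓ N), ψ ⟨(x : G), x.2.1⟩ * conj (ϑ ⟨(x : G), x.2.2⟩) := by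
      rw [← sum_extendByZero_mul E ψ (fun g => conj (indFun N ϑ g))]
      have h3 := sum_extendByZero_mul (E ⊓ N) (fun x : ↥(E ⊓ N) =>
        (Nat.card N : ℂ)⁻¹ * (Nat.card G : ℂ) *
          (ψ ⟨(x : G), x.2.1⟩ * conj (ϑ ⟨(x : G), x.2.2⟩))) (fun _ => (1 : ℂ))
      simp only [mul_one] at h3
      rw [Finset.mul_sum, ← h3]
      apply Finset.sum_congr rfl
      intro g _
      by_cases hgE : g ∈ E
      · by_cases hgN : g ∈ N
        · rw [extendByZero_apply_mem E _ hgE, extendByZero_apply_mem (E ⊓ N) _ ⟨hgE, hgN⟩]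
          have := indFun_of_invariant N ϑ hinv ⟨g, hgN⟩
          simp only at this
          rw [this]
          simp only [map_mul, map_inv₀, Complex.conj_natCast]
          ring
        · rw [indFun_eq_zero_of_not_mem N ϑ hgN, extendByZero_apply_not_mem (E ⊓ N) _
            (fun h => hgN h.2)]
          simp
      · rw [extendByZero_apply_not_mem E _ hgE, extendByZero_apply_not_mem (E ⊓ N) _
          (fun h => hgE h.1), zero_mul]
    have hm' : classInner (fun x : ↥(E ⊓ N) => ψ ⟨(x : G), x.2.1⟩)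
        (fun x : ↥(E ⊓ N) => ϑ ⟨(x : G), x.2.2⟩) = (m : ℂ) := by
      rw [classInner_conj_symm, hmψ, Complex.conj_natCast]
    have hsum2 : ∑ x : ↥(E ⊓ N), ψ ⟨(x : G), x.2.1⟩ * conj (ϑ ⟨(x : G), x.2.2⟩) =
        (Nat.card ↥(E ⊓ N) : ℂ) * (m : ℂ) := by
      rw [← hm']
      unfold classInner
      rw [← mul_assoc, mul_inv_cancel₀ hD0, one_mul]
    have harith := card_mul_card_inf N E
    rw [hEN, Subgroup.index_top, mul_one] at harith
    have harith' : (Nat.card G : ℂ) * (Nat.card ↥(E ⊓ N) : ℂ) =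
        (Nat.card N : ℂ) * (Nat.card E : ℂ) := by exact_mod_cast harith
    unfold classInner
    rw [hsum, hsum2]
    calc (Nat.card E : ℂ)⁻¹ * ((Nat.card N : ℂ)⁻¹ * (Nat.card G : ℂ) *
          ((Nat.card ↥(E ⊓ N) : ℂ) * (m : ℂ)))
        = (Nat.card E : ℂ)⁻¹ * (Nat.card N : ℂ)⁻¹ *
          ((Nat.card G : ℂ) * (Nat.card ↥(E ⊓ N) : ℂ)) * (m : ℂ) := by ring
      _ = (m : ℂ) := by
          rw [harith']
          field_simp
  have h3 : m = ∑ χ : IrrCharacter G, b χ * natInner ψ (fun e : E => (χ : G → ℂ) (e : G)) := by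
    have : (m : ℂ) = ((∑ χ : IrrCharacter G,
        b χ * natInner ψ (fun e : E => (χ : G → ℂ) (e : G)) : ℕ) : ℂ) := by
      rw [← h2, h1]
      push_cast
      rfl
    exact_mod_cast this
  obtain ⟨χ, -, hχ⟩ : ∃ χ ∈ (Finset.univ : Finset (IrrCharacter G)),
      ¬ p ∣ b χ * natInner ψ (fun e : E => (χ : G → ℂ) (e : G)) := by
    by_contra hcon
    push Not at hcon
    apply hm
    rw [h3]
    exact Finset.dvd_sum hcon
  have hbp : ¬ p ∣ b χ := fun h => hχ (Dvd.dvd.mul_right h _)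
  have hb0 : b χ ≠ 0 := by
    intro h
    apply hbp
    rw [h]
    exact dvd_zero p
  have hfr : classInner (indFun N ϑ) (χ : G → ℂ) = classInner ϑ (fun n : N => (χ : G → ℂ) n) :=
    frobenius_reciprocity N ϑ (isClassFunction_of_isCharacter (IsIrrCharacter.isCharacter χ.2))
  have hmult : classInner (fun n : N => (χ : G → ℂ) n) ϑ = (b χ : ℂ) := by
    rw [classInner_conj_symm, ← hfr, hbχ, Complex.conj_natCast]
  have hne : classInner (fun n : N => (χ : G → ℂ) n) ϑ ≠ 0 := by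
    rw [hmult]
    exact_mod_cast hb0
  have hinv' : ∀ g : G, conjFun N hN ϑ g = ϑ := fun g => funext fun n => hinv g n
  obtain ⟨e, he, hediv⟩ := Cfsg.Agent.Helper79.dvd_index_of_invariant N χ.2 hϑ hne hinv'
  have hres := restrict_eq_smul_of_invariant N hN χ.2 hϑ hne hinv'
  rw [hmult] at hres
  obtain ⟨d, hd0, hd⟩ := irr_one_pos hϑ
  have heb : e = b χ := by
    have h4 := congrFun hres 1
    simp only [Pi.smul_apply, smul_eq_mul] at h4
    have h5 : ((1 : N) : G) = 1 := rfl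
    rw [h5, he, hd] at h4
    have hd0' : (d : ℂ) ≠ 0 := by exact_mod_cast hd0.ne'
    have := mul_right_cancel₀ hd0' h4
    exact_mod_cast this
  obtain ⟨k, hk⟩ := hind
  rw [heb, hk] at hediv
  obtain ⟨j, _, hj'⟩ := (Nat.dvd_prime_pow hp.1).mp hediv
  have hj0 : j = 0 := by
    by_contra hj0
    exact hbp (hj' ▸ dvd_pow_self p hj0)
  rw [hj0, pow_zero] at hj'
  refine ⟨χ.1, χ.2, ?_⟩
  intro n
  have := congrFun hres n
  rw [hj'] at this
  simpa using this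

end sylowext
end Cfsg.Agent.Helper81
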