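import Cfsg.Agent.Lib.Helper81.PermChar
set_option autoImplicit false
set_option linter.style.haveILetI false
set_option linter.unusedSectionVars false
namespace Cfsg.Agent.Helper81
open Matrix
open scoped ComplexConjugate

section slmat
variable {F : Type*} [Field F] {ι : Type*} [Fintype ι] [DecidableEq ι]

/-- A matrix `1` with column `j` replaced by `v`, corrected on the diagonal at `k ≠ j`, as an
element of `SL`. -/
theorem exists_sl_col (j k : ι) (hjk : j ≠ k) (v : ι → F) (hv : v j ≠ 0) :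
    ∃ A : Matrix.SpecialLinearGroup ι F, A.1 *ᵥ Pi.single j 1 = v ∧
      ∀ l, l ≠ j → l ≠ k → A.1 *ᵥ Pi.single l 1 = Pi.single l 1 := by
  let M : Matrix ι ι F := (1 : Matrix ι ι F).updateCol j v
  let D : Matrix ι ι F := Matrix.diagonal (Function.update (fun _ => (1 : F)) k (v j)⁻¹)
  have hM : M.det = v j := by
    show ((1 : Matrix ι ι F).updateCol j v).det = v j
    rw [← Matrix.cramer_apply, Matrix.cramer_one]
    rfl
  have hD : D.det = (v j)⁻¹ := by
    show (Matrix.diagonal (Function.update (fun _ => (1 : F)) k (v j)⁻¹)).det = _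
    rw [Matrix.det_diagonal, Finset.prod_update_of_mem (Finset.mem_univ k)]
    simp
  have hdet : (M * D).det = 1 := by
    rw [Matrix.det_mul, hM, hD, mul_inv_cancel₀ hv]
  have hDl : ∀ l, l ≠ k → D *ᵥ Pi.single l 1 = Pi.single l 1 := by
    intro l hl
    show Matrix.diagonal (Function.update (fun _ => (1 : F)) k (v j)⁻¹) *ᵥ Pi.single l 1 = _
    rw [Matrix.mulVec_single_one]
    ext i
    simp only [Matrix.col_apply, Matrix.diagonal_apply, Pi.single_apply]
    by_cases hil : i = l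
    · subst hil
      simp [Function.update_of_ne hl]
    · simp [hil]
  refine ⟨⟨M * D, hdet⟩, ?_, ?_⟩
  · show (M * D) *ᵥ Pi.single j 1 = v
    rw [← Matrix.mulVec_mulVec, hDl j hjk, Matrix.mulVec_single_one]
    ext i
    simp [M]
  · intro l hlj hlk
    show (M * D) *ᵥ Pi.single l 1 = Pi.single l 1
    rw [← Matrix.mulVec_mulVec, hDl l hlk, Matrix.mulVec_single_one]
    ext i
    simp [M, hlj, Matrix.one_apply, Pi.single_apply]

theorem sl_smul_eq (A : Matrix.SpecialLinearGroup ι F) (v : ι → F) : A • v = A.1 *ᵥ v := rfl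

theorem transvection_smul_apply {i j : ι} (hij : i ≠ j) (b : F) (v : ι → F) (k : ι) :
    (Matrix.SpecialLinearGroup.transvection hij b • v) k = v k + if k = i then b * v j else 0 := by
  rw [sl_smul_eq, Matrix.SpecialLinearGroup.transvection_coe, Matrix.add_mulVec,
    Matrix.one_mulVec, Matrix.single_mulVec_eq]
  simp [Pi.single_apply]

/-- `SL` is transitive on nonzero vectors (at least two coordinates). -/
theorem exists_sl_smul_single (i0 i1 : ι) (h01 : i0 ≠ i1) (v : ι → F) (hv : v ≠ 0) :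
    ∃ A : Matrix.SpecialLinearGroup ι F, A • (Pi.single i0 1 : ι → F) = v := by
  by_cases h0 : v i0 ≠ 0
  · obtain ⟨A, hA, -⟩ := exists_sl_col i0 i1 h01 v h0
    exact ⟨A, hA⟩
  · push Not at h0
    obtain ⟨j, hj⟩ : ∃ j, v j ≠ 0 := by
      by_contra hcon
      push Not at hcon
      exact hv (funext hcon)
    have hj0 : i0 ≠ j := by
      rintro rfl
      exact hj h0
    set T := Matrix.SpecialLinearGroup.transvection hj0 (1 : F) with hT
    have hTv : (T • v) i0 ≠ 0 := by
      rw [transvection_smul_apply, if_pos rfl, h0, zero_add, one_mul]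
      exact hj
    obtain ⟨A', hA', -⟩ := exists_sl_col i0 i1 h01 (T • v) hTv
    refine ⟨T⁻¹ * A', ?_⟩
    rw [mul_smul, sl_smul_eq A', hA', inv_smul_smul]

/-- The stabilizer of `e₀` in `SL` is transitive on vectors outside the line of `e₀` (three
coordinates). -/
theorem exists_sl_fix_smul_single (i0 i1 i2 : ι) (h01 : i0 ≠ i1) (h02 : i0 ≠ i2) (h12 : i1 ≠ i2)
    (v : ι → F) (hv : ∃ j, j ≠ i0 ∧ v j ≠ 0) :
    ∃ A : Matrix.SpecialLinearGroup ι F, A • (Pi.single i0 1 : ι → F) = Pi.single i0 1 ∧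
      A • (Pi.single i1 1 : ι → F) = v := by
  by_cases h1 : v i1 ≠ 0
  · obtain ⟨A, hA, hA2⟩ := exists_sl_col i1 i2 h12 v h1
    exact ⟨A, hA2 i0 h01 h02, hA⟩
  · push Not at h1
    obtain ⟨j, hj0, hj⟩ := hv
    have hj1 : i1 ≠ j := by
      rintro rfl
      exact hj h1
    set T := Matrix.SpecialLinearGroup.transvection hj1 (1 : F) with hT
    have hTv : (T • v) i1 ≠ 0 := by
      rw [transvection_smul_apply, if_pos rfl, h1, zero_add, one_mul]
      exact hj
    have hTe : T • (Pi.single i0 1 : ι → F) = Pi.single i0 1 := by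
      ext k
      rw [transvection_smul_apply]
      simp [Pi.single_apply, hj0]
    obtain ⟨A', hA', hA'2⟩ := exists_sl_col i1 i2 h12 (T • v) hTv
    refine ⟨T⁻¹ * A', ?_, ?_⟩
    · rw [mul_smul, sl_smul_eq A', hA'2 i0 h01 h02, inv_smul_eq_iff, hTe]
    · rw [mul_smul, sl_smul_eq A', hA', inv_smul_smul]

end slmat

section slperm
variable (F : Type*) [Field F] (ι : Type*) [Fintype ι] [DecidableEq ι]

/-- Nonzero vectors. -/
def NZVec := {v : ι → F // v ≠ 0}

instance nzVecMulAction : MulAction (Matrix.SpecialLinearGroup ι F) (NZVec F ι) where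
  smul A v := ⟨A • v.1, (smul_ne_zero_iff_ne A).mpr v.2⟩
  one_smul v := Subtype.ext (one_smul _ v.1)
  mul_smul A B v := Subtype.ext (mul_smul A B v.1)

instance nzVecFinite [Finite F] : Finite (NZVec F ι) :=
  inferInstanceAs (Finite {v : ι → F // v ≠ 0})

variable {F ι}

/-- Constructor for `NZVec`. -/
def nzMk (v : ι → F) (hv : v ≠ 0) : NZVec F ι := ⟨v, hv⟩

theorem nzMk_val (v : ι → F) (hv : v ≠ 0) : (nzMk v hv).1 = v := rfl

theorem nzvec_smul_val (A : Matrix.SpecialLinearGroup ι F) (v : NZVec F ι) :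
    (A • v).1 = A • v.1 := rfl

theorem single_ne_zero' (i : ι) : (Pi.single i 1 : ι → F) ≠ 0 := by
  intro h
  have := congrFun h i
  simp at this

/-- The base point `e₀`. -/
def nzSingle (i : ι) : NZVec F ι := ⟨Pi.single i 1, single_ne_zero' i⟩

theorem nz_pretransitive (i0 i1 : ι) (h01 : i0 ≠ i1) :
    MulAction.IsPretransitive (Matrix.SpecialLinearGroup ι F) (NZVec F ι) := by
  constructor
  intro x y
  obtain ⟨A, hA⟩ := exists_sl_smul_single i0 i1 h01 x.1 x.2
  obtain ⟨B, hB⟩ := exists_sl_smul_single i0 i1 h01 y.1 y.2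
  refine ⟨B * A⁻¹, ?_⟩
  apply Subtype.ext
  rw [nzvec_smul_val, mul_smul, ← hA, inv_smul_smul, hB]

theorem mem_stabilizer_nzSingle (i0 : ι) (A : Matrix.SpecialLinearGroup ι F) :
    A ∈ MulAction.stabilizer (Matrix.SpecialLinearGroup ι F) (nzSingle (F := F) i0) ↔
      A • (Pi.single i0 1 : ι → F) = Pi.single i0 1 := by
  rw [MulAction.mem_stabilizer_iff]
  constructor
  · intro h
    exact congrArg Subtype.val h
  · intro h
    exact Subtype.ext h

/-- The stabilizer of the line through `e₀`. -/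
def lineStab (i0 : ι) : Subgroup (Matrix.SpecialLinearGroup ι F) where
  carrier := {A | ∃ c : Fˣ, A • (Pi.single i0 1 : ι → F) = (c : F) • Pi.single i0 1}
  one_mem' := ⟨1, by simp⟩
  mul_mem' := by
    rintro A B ⟨a, ha⟩ ⟨b, hb⟩
    refine ⟨a * b, ?_⟩
    rw [mul_smul, hb, smul_comm, ha, smul_smul, Units.val_mul, mul_comm]
  inv_mem' := by
    rintro A ⟨a, ha⟩
    refine ⟨a⁻¹, ?_⟩
    rw [inv_smul_eq_iff, smul_comm, ha, smul_smul, Units.val_inv_eq_inv_val,
      inv_mul_cancel₀ a.ne_zero, one_smul]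

theorem mem_lineStab (i0 : ι) (A : Matrix.SpecialLinearGroup ι F) :
    A ∈ lineStab (F := F) i0 ↔
      ∃ c : Fˣ, A • (Pi.single i0 1 : ι → F) = (c : F) • Pi.single i0 1 := Iff.rfl

theorem lineStab_eigen (i0 : ι) (A : lineStab (F := F) i0) :
    (A : Matrix.SpecialLinearGroup ι F) • (Pi.single i0 1 : ι → F) =
      (((A : Matrix.SpecialLinearGroup ι F) • (Pi.single i0 1 : ι → F)) i0) • Pi.single i0 1 := by
  obtain ⟨c, hc⟩ := A.2
  have h1 : ((A : Matrix.SpecialLinearGroup ι F) • (Pi.single i0 1 : ι → F)) i0 = (c : F) := by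
    rw [hc]; simp
  rw [h1, hc]

theorem lineStab_eigen_ne_zero (i0 : ι) (A : lineStab (F := F) i0) :
    ((A : Matrix.SpecialLinearGroup ι F) • (Pi.single i0 1 : ι → F)) i0 ≠ 0 := by
  obtain ⟨c, hc⟩ := A.2
  rw [hc]
  simp

/-- The eigenvalue character of the line stabilizer. -/
noncomputable def lineChar (i0 : ι) : lineStab (F := F) i0 →* Fˣ where
  toFun A := Units.mk0 _ (lineStab_eigen_ne_zero i0 A)
  map_one' := by
    apply Units.ext
    simp
  map_mul' := by
    intro A B
    apply Units.ext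
    simp only [Units.val_mk0, Units.val_mul, Subgroup.coe_mul]
    have hA := lineStab_eigen i0 A
    have hB := lineStab_eigen i0 B
    rw [mul_smul, hB, smul_comm, hA, smul_smul]
    simp [mul_comm]

theorem lineChar_val (i0 : ι) (A : lineStab (F := F) i0) :
    ((lineChar i0 A : Fˣ) : F) =
      ((A : Matrix.SpecialLinearGroup ι F) • (Pi.single i0 1 : ι → F)) i0 := rfl

theorem stabilizer_le_lineStab (i0 : ι) :
    MulAction.stabilizer (Matrix.SpecialLinearGroup ι F) (nzSingle (F := F) i0) ≤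
      lineStab i0 := by
  intro A hA
  rw [mem_stabilizer_nzSingle] at hA
  exact ⟨1, by rw [hA]; simp⟩

theorem lineChar_eq_one_iff (i0 : ι) (A : lineStab (F := F) i0) :
    lineChar i0 A = 1 ↔ (A : Matrix.SpecialLinearGroup ι F) ∈
      MulAction.stabilizer (Matrix.SpecialLinearGroup ι F) (nzSingle (F := F) i0) := by
  rw [mem_stabilizer_nzSingle]
  constructor
  · intro h
    have h1 := lineStab_eigen i0 A
    rw [← lineChar_val, h] at h1
    simpa using h1
  · intro h
    apply Units.ext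
    rw [lineChar_val, h]
    simp

theorem lineChar_surjective (i0 i1 : ι) (h01 : i0 ≠ i1) :
    Function.Surjective (lineChar (F := F) i0) := by
  intro c
  have hv : (c : F) • (Pi.single i0 1 : ι → F) ≠ 0 := by
    intro h
    have := congrFun h i0
    simp at this
  obtain ⟨A, hA⟩ := exists_sl_smul_single i0 i1 h01 _ hv
  refine ⟨⟨A, ⟨c, hA⟩⟩, ?_⟩
  apply Units.ext
  rw [lineChar_val]
  show (A • (Pi.single i0 1 : ι → F)) i0 = c
  rw [hA]
  simp

theorem lineStab_ne_top (i0 i1 : ι) (h01 : i0 ≠ i1) : lineStab (F := F) i0 ≠ ⊤ := by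
  intro htop
  obtain ⟨A, hA⟩ := exists_sl_smul_single i0 i1 h01 (Pi.single i1 1 : ι → F) (single_ne_zero' i1)
  have hmem : A ∈ lineStab (F := F) i0 := by rw [htop]; exact Subgroup.mem_top A
  obtain ⟨c, hc⟩ := hmem
  rw [hA] at hc
  have := congrFun hc i1
  simp [h01] at this

/-- The invariant separating the orbits of the stabilizer of `e₀` on nonzero vectors. -/
noncomputable def orbInv (i0 : ι) (x : NZVec F ι) : F :=
  haveI := Classical.propDecidable (x.1 = (x.1 i0) • (Pi.single i0 1 : ι → F))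
  if x.1 = (x.1 i0) • (Pi.single i0 1 : ι → F) then x.1 i0 else 0

theorem orbInv_of_eq (i0 : ι) (x : NZVec F ι)
    (h : x.1 = (x.1 i0) • (Pi.single i0 1 : ι → F)) : orbInv i0 x = x.1 i0 := by
  unfold orbInv
  rw [if_pos h]

theorem orbInv_of_ne (i0 : ι) (x : NZVec F ι)
    (h : x.1 ≠ (x.1 i0) • (Pi.single i0 1 : ι → F)) : orbInv i0 x = 0 := by
  unfold orbInv
  rw [if_neg h]

theorem orbInv_ne_zero_of_eq (i0 : ι) (x : NZVec F ι)
    (h : x.1 = (x.1 i0) • (Pi.single i0 1 : ι → F)) : orbInv i0 x ≠ 0 := by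
  rw [orbInv_of_eq i0 x h]
  intro h0
  apply x.2
  rw [h, h0, zero_smul]

theorem exists_ne_of_ne_smul_single (i0 : ι) (v : ι → F)
    (h : v ≠ (v i0) • (Pi.single i0 1 : ι → F)) : ∃ j, j ≠ i0 ∧ v j ≠ 0 := by
  by_contra hcon
  push Not at hcon
  apply h
  ext k
  by_cases hk : k = i0
  · subst hk; simp
  · rw [hcon k hk]; simp [hk]

theorem smul_line_of_fix (i0 : ι) (h : Matrix.SpecialLinearGroup ι F)
    (hh : h • (Pi.single i0 1 : ι → F) = Pi.single i0 1) (c : F) :
    h • (c • (Pi.single i0 1 : ι → F)) = c • (Pi.single i0 1 : ι → F) := by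
  rw [smul_comm, hh]

theorem online_iff (i0 : ι) (v : ι → F) :
    v = (v i0) • (Pi.single i0 1 : ι → F) ↔ ∃ c : F, v = c • (Pi.single i0 1 : ι → F) := by
  constructor
  · intro h
    exact ⟨_, h⟩
  · rintro ⟨c, hc⟩
    have : v i0 = c := by rw [hc]; simp
    rw [this]
    exact hc

theorem orbInv_eq_iff (i0 i1 i2 : ι) (h01 : i0 ≠ i1) (h02 : i0 ≠ i2) (h12 : i1 ≠ i2)
    (x y : NZVec F ι) :
    (∃ h : MulAction.stabilizer (Matrix.SpecialLinearGroup ι F) (nzSingle (F := F) i0),
      h • y = x) ↔ orbInv i0 x = orbInv i0 y := by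
  constructor
  · rintro ⟨⟨h, hh⟩, rfl⟩
    rw [mem_stabilizer_nzSingle] at hh
    have hval : ((⟨h, (mem_stabilizer_nzSingle i0 h).mpr hh⟩ :
        MulAction.stabilizer (Matrix.SpecialLinearGroup ι F)
        (nzSingle (F := F) i0)) • y).1 = h • y.1 := rfl
    by_cases hy : y.1 = (y.1 i0) • (Pi.single i0 1 : ι → F)
    · have hxy : h • y.1 = y.1 := by
        rw [hy]
        exact smul_line_of_fix i0 h hh _
      have hx : ((⟨h, (mem_stabilizer_nzSingle i0 h).mpr hh⟩ :
        MulAction.stabilizer (Matrix.SpecialLinearGroup ι F)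
        (nzSingle (F := F) i0)) • y) = y := Subtype.ext (hval.trans hxy)
      rw [hx]
    · rw [orbInv_of_ne i0 y hy, orbInv_of_ne]
      rw [hval]
      intro hcon
      apply hy
      rw [online_iff]
      refine ⟨(h • y.1) i0, ?_⟩
      have hinv : h⁻¹ • (Pi.single i0 1 : ι → F) = Pi.single i0 1 := by
        rw [inv_smul_eq_iff, hh]
      have h1 := smul_line_of_fix i0 h⁻¹ hinv ((h • y.1) i0)
      have h2 : h⁻¹ • (h • y.1) = h⁻¹ • (((h • y.1) i0) • (Pi.single i0 1 : ι → F)) :=
        congrArg (fun w => h⁻¹ • w) hcon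
      rw [inv_smul_smul] at h2
      exact h2.trans h1
  · intro hxy
    by_cases hx : x.1 = (x.1 i0) • (Pi.single i0 1 : ι → F)
    · by_cases hy : y.1 = (y.1 i0) • (Pi.single i0 1 : ι → F)
      · rw [orbInv_of_eq i0 x hx, orbInv_of_eq i0 y hy] at hxy
        refine ⟨1, ?_⟩
        rw [one_smul]
        apply Subtype.ext
        rw [hx, hy, hxy]
      · exfalso
        rw [orbInv_of_ne i0 y hy] at hxy
        exact orbInv_ne_zero_of_eq i0 x hx hxy
    · by_cases hy : y.1 = (y.1 i0) • (Pi.single i0 1 : ι → F)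
      · exfalso
        rw [orbInv_of_ne i0 x hx] at hxy
        exact orbInv_ne_zero_of_eq i0 y hy hxy.symm
      · obtain ⟨Ax, hAx0, hAx1⟩ := exists_sl_fix_smul_single i0 i1 i2 h01 h02 h12 x.1
          (exists_ne_of_ne_smul_single i0 x.1 hx)
        obtain ⟨Ay, hAy0, hAy1⟩ := exists_sl_fix_smul_single i0 i1 i2 h01 h02 h12 y.1
          (exists_ne_of_ne_smul_single i0 y.1 hy)
        have hmem : Ax * Ay⁻¹ ∈ MulAction.stabilizer (Matrix.SpecialLinearGroup ι F)
            (nzSingle (F := F) i0) := by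
          rw [mem_stabilizer_nzSingle, mul_smul, inv_smul_eq_iff.mpr hAy0.symm, hAx0]
        refine ⟨⟨Ax * Ay⁻¹, hmem⟩, ?_⟩
        apply Subtype.ext
        show (Ax * Ay⁻¹) • y.1 = x.1
        rw [mul_smul, ← hAy1, inv_smul_smul, hAx1]

theorem orbInv_nzSingle_ne (i0 i1 : ι) (h01 : i0 ≠ i1) :
    orbInv (F := F) i0 (nzSingle i1) = 0 := by
  apply orbInv_of_ne
  show (Pi.single i1 1 : ι → F) ≠ ((Pi.single i1 1 : ι → F) i0) • (Pi.single i0 1 : ι → F)
  intro h
  have := congrFun h i1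
  simp [h01] at this

theorem card_orbits_stabilizer [Finite F] (i0 i1 i2 : ι) (h01 : i0 ≠ i1) (h02 : i0 ≠ i2)
    (h12 : i1 ≠ i2) :
    Nat.card (Quotient (MulAction.orbitRel
      (MulAction.stabilizer (Matrix.SpecialLinearGroup ι F) (nzSingle (F := F) i0))
      (NZVec F ι))) = Nat.card F := by
  have hrel : ∀ a b : NZVec F ι, (MulAction.orbitRel
      (MulAction.stabilizer (Matrix.SpecialLinearGroup ι F) (nzSingle (F := F) i0))
      (NZVec F ι)) a b ↔ orbInv i0 a = orbInv i0 b := by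
    intro a b
    rw [MulAction.orbitRel_apply, MulAction.mem_orbit_iff]
    exact orbInv_eq_iff i0 i1 i2 h01 h02 h12 a b
  let f : Quotient (MulAction.orbitRel
      (MulAction.stabilizer (Matrix.SpecialLinearGroup ι F) (nzSingle (F := F) i0))
      (NZVec F ι)) → F :=
    Quotient.lift (orbInv i0) (fun a b hab => (hrel a b).mp hab)
  have hinj : Function.Injective f := by
    intro a b
    refine Quotient.inductionOn₂ a b ?_
    intro a b hab
    exact Quotient.sound ((hrel a b).mpr hab)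
  have hsurj : Function.Surjective f := by
    intro c
    by_cases hc : c = 0
    · refine ⟨Quotient.mk _ (nzSingle i1), ?_⟩
      show orbInv i0 (nzSingle i1) = c
      rw [hc]
      exact orbInv_nzSingle_ne i0 i1 h01
    · have hne : c • (Pi.single i0 1 : ι → F) ≠ 0 := by
        intro h
        have := congrFun h i0
        simp [hc] at this
      refine ⟨Quotient.mk _ (nzMk (c • (Pi.single i0 1 : ι → F)) hne), ?_⟩
      show orbInv i0 (nzMk (c • (Pi.single i0 1 : ι → F)) hne) = c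
      have hval : (c • (Pi.single i0 1 : ι → F)) i0 = c := by simp
      rw [orbInv_of_eq]
      · rw [nzMk_val]
        exact hval
      · rw [nzMk_val, hval]
  exact Nat.card_congr (Equiv.ofBijective f ⟨hinj, hsurj⟩)

theorem nat_card_fixed_eq (g : Matrix.SpecialLinearGroup ι F) :
    Nat.card {v : ι → F // v ≠ 0 ∧ g.1 *ᵥ v = v} = Nat.card {x : NZVec F ι // g • x = x} := by
  refine Nat.card_congr ?_
  refine ⟨fun v => ⟨⟨v.1, v.2.1⟩, Subtype.ext v.2.2⟩, fun x => ⟨x.1.1, x.1.2, congrArg Subtype.val x.2⟩,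
    ?_, ?_⟩
  · intro v; rfl
  · intro x; rfl

/-- The permutation character of `SL` on nonzero vectors, at least three coordinates. -/
theorem exists_sl_perm_char_decomp [Fintype F] [DecidableEq F] (i0 i1 i2 : ι) (h01 : i0 ≠ i1)
    (h02 : i0 ≠ i2) (h12 : i1 ≠ i2) :
    ∃ χ : AddChar (Additive Fˣ) ℂ → (Matrix.SpecialLinearGroup ι F → ℂ),
      (∀ ψ, IsIrrCharacter (Matrix.SpecialLinearGroup ι F) (χ ψ)) ∧ Function.Injective χ ∧
      ∀ g : Matrix.SpecialLinearGroup ι F,
        (Nat.card {v : ι → F // v ≠ 0 ∧ g.1 *ᵥ v = v} : ℂ) = 1 + ∑ ψ, χ ψ g := by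
  classical
  haveI : Fintype (NZVec F ι) := Fintype.ofFinite _
  haveI := nz_pretransitive (F := F) i0 i1 h01
  have hrank := classInner_indFun_stabilizer_one (G := Matrix.SpecialLinearGroup ι F)
    (nzSingle (F := F) i0)
  rw [card_orbits_stabilizer i0 i1 i2 h01 h02 h12] at hrank
  have hcard : Nat.card F = Nat.card Fˣ + 1 := by
    rw [Nat.card_eq_fintype_card, Nat.card_eq_fintype_card, Fintype.card_units]
    have := Fintype.card_pos (α := F)
    omega
  rw [hcard] at hrank
  obtain ⟨χ, hirr, hinj, hsum⟩ := exists_perm_char_decomp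
    (MulAction.stabilizer (Matrix.SpecialLinearGroup ι F) (nzSingle (F := F) i0))
    (lineStab i0) (stabilizer_le_lineStab i0) (lineChar i0) (lineChar_surjective i0 i1 h01)
    (lineChar_eq_one_iff i0) (lineStab_ne_top i0 i1 h01) hrank
  refine ⟨χ, hirr, hinj, ?_⟩
  intro g
  rw [nat_card_fixed_eq, Nat.card_eq_fintype_card, ← indFun_stabilizer_one (nzSingle (F := F) i0) g,
    hsum]
  simp

end slperm
end Cfsg.Agent.Helper81
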