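import Mathlib
import Cfsg.Agent.Lib.Helper79.CharBasic
import Cfsg.Agent.Lib.Helper79.Inflation

/-!
# O5760 (A0): nontrivial irreducible characters of a simple group are faithful
-/

set_option autoImplicit false

namespace Cfsg.Agent.Helper81.O5760

open Cfsg

universe u

/-- (A0) -/
theorem irr_faithful {G : Type u} [Group G] [Fintype G] [IsSimpleGroup G] (χ : IrrCharacter G)
    (hχ : (χ : G → ℂ) ≠ fun _ => 1) (g : G) (hg : (χ : G → ℂ) g = (χ : G → ℂ) 1) : g = 1 := by
  have hmem : g ∈ Helper79.irrKer χ := (Helper79.mem_irrKer χ g).2 hg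
  rcases (Helper79.irrKer_normal χ).eq_bot_or_eq_top with h | h
  · rw [h] at hmem; exact Subgroup.mem_bot.1 hmem
  · exfalso
    have hall : ∀ k : G, (χ : G → ℂ) k = (χ : G → ℂ) 1 := fun k => by
      have : k ∈ Helper79.irrKer χ := by rw [h]; trivial
      exact (Helper79.mem_irrKer χ k).1 this
    have h1 := Helper79.irr_orthonormal χ χ
    rw [if_pos rfl] at h1
    unfold Helper79.pair at h1
    simp only [hall] at h1
    rw [Finset.sum_const, Finset.card_univ, nsmul_eq_mul, ← Nat.card_eq_fintype_card] at h1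
    have hne := Helper79.card_ne_zero_complex (G := G)
    rw [← mul_assoc, inv_mul_cancel₀ hne, one_mul] at h1
    obtain ⟨hd, hpos⟩ := Helper79.irr_one_eq χ
    rw [hd] at h1
    have h2 : charDegree (χ : G → ℂ) * charDegree (χ : G → ℂ) = 1 := by exact_mod_cast h1
    have h3 : charDegree (χ : G → ℂ) = 1 := Nat.eq_one_of_mul_eq_one_left h2
    apply hχ
    funext k
    rw [hall k, hd, h3]; simp

end Cfsg.Agent.Helper81.O5760
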