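import Mathlib
import Cfsg.Agent.Lib.Helper32.N5Defs

/-!
# N5 piece (Sd) `card_ge_32_of_commutator_four` (helper81, for helper32's S1904 server)
plus class-2 commutator infrastructure shared with (Sc).
-/

set_option autoImplicit false

namespace Cfsg.Agent.Helper81.N5

open Cfsg Cfsg.Agent.Helper32.N5
open scoped commutatorElement

universe u

variable {X : Type u} [Group X]

/-- In a group where all commutators are central, `g ↦ ⁅x, g⁆` is multiplicative. -/
theorem comm_mul_right (hcen : ∀ a b : X, ⁅a, b⁆ ∈ Subgroup.center X) (x g h : X) :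
    ⁅x, g * h⁆ = ⁅x, g⁆ * ⁅x, h⁆ := by
  have hc : g⁻¹ * ⁅x, h⁆ = ⁅x, h⁆ * g⁻¹ := Subgroup.mem_center_iff.1 (hcen x h) g⁻¹
  have : ⁅x, g⁆ * ⁅x, h⁆ = x * g * x⁻¹ * (g⁻¹ * ⁅x, h⁆) := by
    rw [commutatorElement_def x g]; simp only [mul_assoc]
  rw [this, hc, commutatorElement_def, commutatorElement_def]
  group

/-- the commutator hom `g ↦ ⁅x, g⁆` -/
noncomputable def commHom (hcen : ∀ a b : X, ⁅a, b⁆ ∈ Subgroup.center X) (x : X) : X →* X :=
  MonoidHom.mk' (fun g => ⁅x, g⁆) (fun g h => comm_mul_right hcen x g h)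

theorem commHom_apply (hcen : ∀ a b : X, ⁅a, b⁆ ∈ Subgroup.center X) (x g : X) :
    commHom hcen x g = ⁅x, g⁆ := rfl

theorem comm_eq_one_iff (x g : X) : ⁅x, g⁆ = 1 ↔ g * x = x * g := by
  rw [commutatorElement_eq_one_iff_mul_comm]
  exact eq_comm

theorem commHom_ker (hcen : ∀ a b : X, ⁅a, b⁆ ∈ Subgroup.center X) (x : X) :
    (commHom hcen x).ker = Subgroup.centralizer ({x} : Set X) := by
  ext g
  rw [MonoidHom.mem_ker, commHom_apply, Subgroup.mem_centralizer_iff, commutatorElement_eq_one_iff_mul_comm]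
  constructor
  · intro h y hy
    rw [Set.mem_singleton_iff] at hy
    subst hy; exact h
  · intro h
    exact h x (Set.mem_singleton x)

theorem comm_symm' (x g : X) : ⁅g, x⁆ = ⁅x, g⁆⁻¹ := (commutatorElement_inv x g).symm

theorem comm_mul_left (hcen : ∀ a b : X, ⁅a, b⁆ ∈ Subgroup.center X) (g h x : X) :
    ⁅g * h, x⁆ = ⁅g, x⁆ * ⁅h, x⁆ := by
  rw [comm_symm' x (g * h), comm_mul_right hcen, mul_inv_rev, comm_symm' x g, comm_symm' x h]
  exact (Subgroup.mem_center_iff.1 (Subgroup.inv_mem _ (hcen x g)) _)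

theorem comm_self' (x : X) : ⁅x, x⁆ = 1 := commutatorElement_self x

theorem comm_central_left {z : X} (hz : z ∈ Subgroup.center X) (g : X) : ⁅z, g⁆ = 1 := by
  rw [commutatorElement_eq_one_iff_mul_comm]
  exact (Subgroup.mem_center_iff.1 hz g).symm

theorem comm_central_right {z : X} (hz : z ∈ Subgroup.center X) (g : X) : ⁅g, z⁆ = 1 := by
  rw [commutatorElement_eq_one_iff_mul_comm]
  exact (Subgroup.mem_center_iff.1 hz g)

variable [Finite X]

/-- strict inclusion of subgroups at least doubles the order -/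
theorem two_mul_card_le_of_lt {H K : Subgroup X} (h : H < K) : 2 * Nat.card H ≤ Nat.card K := by
  have hdvd : Nat.card H ∣ Nat.card K := Subgroup.card_dvd_of_le h.le
  obtain ⟨k, hk⟩ := hdvd
  have hKpos : 0 < Nat.card K := Nat.card_pos
  have hne : Nat.card H ≠ Nat.card K := by
    intro he
    exact h.ne (Subgroup.eq_of_le_of_card_ge h.le he.ge)
  have hk0 : k ≠ 0 := by
    rintro rfl; omega
  have hk1 : k ≠ 1 := by
    rintro rfl; omega
  have : 2 ≤ k := by omega
  calc 2 * Nat.card H = Nat.card H * 2 := by ring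
    _ ≤ Nat.card H * k := Nat.mul_le_mul_left _ this
    _ = Nat.card K := hk.symm

theorem card_ge_32_of_commutator_four (Z : Subgroup X) (hd : SpData Z) (hZ4 : Nat.card Z = 4)
    (hcomm : commutator X = Z) : 32 ≤ Nat.card X := by
  by_contra hlt
  push Not at hlt
  have hZc := hd.eqc
  have hcen : ∀ a b : X, ⁅a, b⁆ ∈ Subgroup.center X := fun a b => hZc ▸ hd.comm a b
  have : Z.Normal := by rw [hZc]; infer_instance
  have : Fact (Nat.Prime 2) := ⟨Nat.prime_two⟩
  have hP : IsPGroup 2 (X ⧸ Z) := by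
    intro g
    refine ⟨1, ?_⟩
    induction g using QuotientGroup.induction_on with
    | H g =>
      rw [pow_one, ← QuotientGroup.mk_pow, QuotientGroup.eq_one_iff]
      exact hd.sq g
  obtain ⟨n, hn⟩ := hP.exists_card_eq
  have hidx : Z.index = 2 ^ n := by rw [Subgroup.index_eq_card]; exact hn
  have hcard : Nat.card X = 4 * 2 ^ n := by rw [← Subgroup.card_mul_index Z, hZ4, hidx]
  have hn2 : n ≤ 2 := by
    by_contra h; push Not at h
    have : 2 ^ 3 ≤ 2 ^ n := Nat.pow_le_pow_right (by norm_num) h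
    omega
  -- x ∉ Z
  have hex : ∃ x : X, x ∉ Z := by
    by_contra h; push Not at h
    have htop : Subgroup.center X = ⊤ := by
      rw [← hZc]; exact (Subgroup.eq_top_iff' Z).2 h
    have hbot : commutator X = ⊥ := (commutator_eq_bot_iff_center_eq_top X).2 htop
    rw [hcomm] at hbot
    rw [hbot, Subgroup.card_bot] at hZ4
    omega
  obtain ⟨x, hx⟩ := hex
  set M : Subgroup X := Subgroup.centralizer ({x} : Set X) with hM
  have hZM : Z ≤ M := by
    rw [hZc]; exact Subgroup.center_le_centralizer _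
  have hxM : x ∈ M := by
    rw [hM, Subgroup.mem_centralizer_iff]
    intro y hy; rw [Set.mem_singleton_iff] at hy; subst hy; rfl
  have hMtop : M ≠ ⊤ := by
    intro h
    apply hx
    rw [hZc, Subgroup.mem_center_iff]
    intro g
    have hg : g ∈ M := by rw [h]; trivial
    rw [hM, Subgroup.mem_centralizer_iff] at hg
    exact (hg x (Set.mem_singleton x)).symm
  have h1 : Z.relIndex M * M.index = Z.index := Subgroup.relIndex_mul_index hZM
  have h2 : 2 ≤ Z.relIndex M := by
    have h0 : Z.relIndex M ≠ 0 := by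
      unfold Subgroup.relIndex; exact Subgroup.index_ne_zero_of_finite
    have h1' : Z.relIndex M ≠ 1 := by
      intro h; rw [Subgroup.relIndex_eq_one] at h; exact hx (h hxM)
    omega
  have h3 : 2 ≤ M.index := by
    have h0 : M.index ≠ 0 := Subgroup.index_ne_zero_of_finite
    have h1' : M.index ≠ 1 := by
      intro h; rw [Subgroup.index_eq_one] at h; exact hMtop h
    omega
  have hMidx : M.index = 2 ∧ Z.relIndex M = 2 := by
    rw [hidx] at h1
    have h4 : 2 ^ n ≤ 4 := by
      calc 2 ^ n ≤ 2 ^ 2 := Nat.pow_le_pow_right (by norm_num) hn2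
        _ = 4 := by norm_num
    have h5 : Z.relIndex M * M.index ≤ 4 := h1 ▸ h4
    have h6 : Z.relIndex M ≤ 2 := by nlinarith
    have h7 : M.index ≤ 2 := by nlinarith
    omega
  obtain ⟨hMi, hZMi⟩ := hMidx
  -- the commutator hom
  set φ := commHom hcen x with hφ
  have hker : φ.ker = M := commHom_ker hcen x
  have hrange : Nat.card φ.range = 2 := by
    rw [← Subgroup.index_ker, hker, hMi]
  -- elements of M have commutators in the range
  have hZsub : (Z.subgroupOf M).index = 2 := hZMi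
  have hMcomm : ∀ m ∈ M, ∀ b : X, ⁅m, b⁆ ∈ φ.range := by
    intro m hm b
    by_cases hmZ : m ∈ Z
    · rw [comm_central_left (hZc ▸ hmZ) b]; exact Subgroup.one_mem _
    · have hmx : m * x ∈ Z := by
        have := (Subgroup.mul_mem_iff_of_index_two hZsub (a := ⟨m, hm⟩) (b := ⟨x, hxM⟩))
        simp only [Subgroup.mem_subgroupOf, Subgroup.coe_mul] at this
        exact this.2 ⟨fun h => absurd h hmZ, fun h => absurd h hx⟩
      -- m = z * x⁻¹
      have e : m = (m * x) * x⁻¹ := by group
      rw [e, comm_mul_left hcen, comm_central_left (hZc ▸ hmx) b, one_mul]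
      -- ⁅x⁻¹, b⁆ ∈ range: ⁅x⁻¹,b⁆ * ⁅x,b⁆ = ⁅x⁻¹ * x, b⁆ = 1
      have h8 : ⁅x⁻¹, b⁆ * ⁅x, b⁆ = 1 := by
        rw [← comm_mul_left hcen, inv_mul_cancel]
        exact comm_central_left (Subgroup.one_mem _) b
      have h9 : ⁅x⁻¹, b⁆ = (φ b)⁻¹ := by
        rw [hφ, commHom_apply]; exact eq_inv_of_mul_eq_one_left h8
      rw [h9]; exact Subgroup.inv_mem _ ⟨b, rfl⟩
  have hall : ∀ a b : X, ⁅a, b⁆ ∈ φ.range := by
    intro a b
    by_cases ha : a ∈ M
    · exact hMcomm a ha b
    · by_cases hb : b ∈ M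
      · rw [comm_symm' b a]; exact Subgroup.inv_mem _ (hMcomm b hb a)
      · have hab : a * b ∈ M :=
          (Subgroup.mul_mem_iff_of_index_two hMi).2 ⟨fun h => absurd h ha, fun h => absurd h hb⟩
        have e : ⁅a, b⁆ = ⁅a, a * b⁆ := by
          rw [comm_mul_right hcen, comm_self', one_mul]
        rw [e, comm_symm' (a * b) a]
        exact Subgroup.inv_mem _ (hMcomm _ hab a)
  have hle : commutator X ≤ φ.range := by
    rw [commutator_eq_closure, Subgroup.closure_le]
    rintro g ⟨a, b, rfl⟩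
    exact hall a b
  have := Subgroup.card_le_of_le hle
  rw [hcomm, hZ4, hrange] at this
  omega

end Cfsg.Agent.Helper81.N5
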