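import Mathlib
import Cfsg.Agent.Lib.Helper32.N5Defs
import Cfsg.Agent.Lib.Helper81.N5Sd

/-!
# N5 piece (Sc) `existsUnique_abelian_index_two` (helper81, for helper32's S1904 server)
-/

set_option autoImplicit false

namespace Cfsg.Agent.Helper81.N5

open Cfsg Cfsg.Agent.Helper32.N5
open scoped commutatorElement

universe u

variable {X : Type u} [Group X] [Finite X]

omit [Finite X] in
/-- powers of an involution -/
theorem mem_zpowers_invol {u v : X} (hu : u ^ 2 = 1) (hv : v ∈ Subgroup.zpowers u) : v = 1 ∨ v = u := by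
  obtain ⟨k, rfl⟩ := Subgroup.mem_zpowers_iff.1 hv
  rcases Int.even_or_odd' k with ⟨m, rfl | rfl⟩
  · left
    rw [zpow_mul, zpow_two, ← pow_two, hu, one_zpow]
  · right
    rw [zpow_add, zpow_mul, zpow_two, ← pow_two, hu, one_zpow, one_mul, zpow_one]

/-- Lemma G: a noncentral element with centralizer of order `≥ 16` gives an abelian subgroup of index 2 -/
theorem sc_lemmaG (Z : Subgroup X) (hd : SpData Z) (hZ4 : Nat.card Z = 4) (h32 : Nat.card X = 32)
    (x : X) (hx : x ∉ Z) (h16 : 16 ≤ Nat.card (Subgroup.centralizer ({x} : Set X))) :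
    (Subgroup.centralizer ({x} : Set X)).index = 2 ∧ Ab (Subgroup.centralizer ({x} : Set X)) := by
  have hZc := hd.eqc
  set M : Subgroup X := Subgroup.centralizer ({x} : Set X) with hM
  have hZM : Z ≤ M := by
    rw [hZc]; exact Subgroup.center_le_centralizer _
  have hxM : x ∈ M := by
    rw [hM, Subgroup.mem_centralizer_iff]
    intro y hy; rw [Set.mem_singleton_iff] at hy; subst hy; rfl
  have hMtop : M ≠ ⊤ := by
    intro h
    apply hx
    rw [hZc, Subgroup.mem_center_iff]
    intro g
    have hg : g ∈ M := by rw [h]; trivial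
    rw [hM, Subgroup.mem_centralizer_iff] at hg
    exact (hg x (Set.mem_singleton x)).symm
  have hci : Nat.card M * M.index = 32 := by rw [Subgroup.card_mul_index, h32]
  have hi1 : M.index ≠ 1 := by
    intro h; rw [Subgroup.index_eq_one] at h; exact hMtop h
  have hi0 : M.index ≠ 0 := Subgroup.index_ne_zero_of_finite
  have hMcard : Nat.card M = 16 ∧ M.index = 2 := by
    have h2 : 2 ≤ M.index := by omega
    have h3 : M.index ≤ 2 := by
      by_contra h; push Not at h
      have : 16 * 3 ≤ Nat.card M * M.index := Nat.mul_le_mul h16 h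
      omega
    have h4 : M.index = 2 := by omega
    rw [h4] at hci
    exact ⟨by omega, h4⟩
  obtain ⟨hM16, hMi⟩ := hMcard
  refine ⟨hMi, ?_⟩
  -- center of ↥M
  set Cm : Subgroup M := Subgroup.center M with hCm
  have hZsub : Z.subgroupOf M ≤ Cm := by
    intro m hm
    rw [Subgroup.mem_subgroupOf] at hm
    rw [hCm, Subgroup.mem_center_iff]
    intro g
    have hz : (m : X) ∈ Subgroup.center X := by rw [← hZc]; exact hm
    apply Subtype.ext
    simp only [Subgroup.coe_mul]
    exact Subgroup.mem_center_iff.1 hz g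
  have hxC : (⟨x, hxM⟩ : M) ∈ Cm := by
    rw [hCm, Subgroup.mem_center_iff]
    intro g
    apply Subtype.ext
    simp only [Subgroup.coe_mul]
    have hg := Subgroup.mem_centralizer_iff.1 g.2
    exact (hg x (Set.mem_singleton x)).symm
  have hlt : Z.subgroupOf M < Cm := by
    refine lt_of_le_of_ne hZsub ?_
    intro h
    have : (⟨x, hxM⟩ : M) ∈ Z.subgroupOf M := h ▸ hxC
    rw [Subgroup.mem_subgroupOf] at this
    exact hx this
  have hZsubcard : Nat.card (Z.subgroupOf M) = 4 := by
    rw [Nat.card_congr (Subgroup.subgroupOfEquivOfLe hZM).toEquiv, hZ4]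
  have hC8 : 8 ≤ Nat.card Cm := by
    have := two_mul_card_le_of_lt hlt
    omega
  have hCi : Nat.card Cm * Cm.index = 16 := by rw [Subgroup.card_mul_index, hM16]
  have hCi2 : Cm.index ≤ 2 := by
    by_contra h; push Not at h
    have : 8 * 3 ≤ Nat.card Cm * Cm.index := Nat.mul_le_mul hC8 h
    omega
  intro a ha b hb
  by_cases haC : (⟨a, ha⟩ : M) ∈ Cm
  · have := Subgroup.mem_center_iff.1 haC ⟨b, hb⟩
    exact (congrArg Subtype.val this).symm
  · by_cases hbC : (⟨b, hb⟩ : M) ∈ Cm
    · have := Subgroup.mem_center_iff.1 hbC ⟨a, ha⟩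
      exact congrArg Subtype.val this
    · have hC1 : Cm.index ≠ 1 := by
        intro h; rw [Subgroup.index_eq_one] at h
        apply haC; rw [h]; trivial
      have hC0 : Cm.index ≠ 0 := Subgroup.index_ne_zero_of_finite
      have hC2 : Cm.index = 2 := by omega
      have hab : (⟨a, ha⟩ : M) * ⟨b, hb⟩ ∈ Cm :=
        (Subgroup.mul_mem_iff_of_index_two hC2).2 ⟨fun h => absurd h haC, fun h => absurd h hbC⟩
      have := Subgroup.mem_center_iff.1 hab ⟨a, ha⟩
      have h2 : a * (a * b) = (a * b) * a := congrArg Subtype.val this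
      have h3 : a * (a * b) = a * (b * a) := by rw [h2]; simp only [mul_assoc]
      exact mul_left_cancel h3

/-- Lemma H: certificate for a big centralizer -/
theorem sc_lemmaH (Z : Subgroup X) (hd : SpData Z) (hZ4 : Nat.card Z = 4)
    (a x y : X) (hu : ⁅a, x⁆ ≠ 1) (hv1 : ⁅a, y⁆ ≠ 1) (hvu : ⁅a, y⁆ ≠ ⁅a, x⁆) (hxy : y * x = x * y) :
    x ∉ Z ∧ 16 ≤ Nat.card (Subgroup.centralizer ({x} : Set X)) := by
  have hZc := hd.eqc
  have hcen : ∀ a b : X, ⁅a, b⁆ ∈ Subgroup.center X := fun a b => hZc ▸ hd.comm a b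
  have hxZ : x ∉ Z := by
    intro h
    have h' : x ∈ Subgroup.center X := by rw [← hZc]; exact h
    exact hu (comm_central_right h' a)
  refine ⟨hxZ, ?_⟩
  set M : Subgroup X := Subgroup.centralizer ({x} : Set X) with hM
  set K : Subgroup X := Z ⊔ Subgroup.zpowers x with hK
  have hxM : x ∈ M := by
    rw [hM, Subgroup.mem_centralizer_iff]
    intro y hy; rw [Set.mem_singleton_iff] at hy; subst hy; rfl
  have hZM : Z ≤ M := by
    rw [hZc]; exact Subgroup.center_le_centralizer _
  have hKM : K ≤ M := sup_le hZM ((Subgroup.zpowers_le).2 hxM)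
  have hyM : y ∈ M := by
    rw [hM, Subgroup.mem_centralizer_iff]
    intro z hz; rw [Set.mem_singleton_iff] at hz; subst hz; exact hxy.symm
  set φ := commHom hcen a with hφ
  have hu2 : ⁅a, x⁆ ^ 2 = 1 := hd.el _ (hd.comm a x)
  have hKle : K ≤ (Subgroup.zpowers ⁅a, x⁆).comap φ := by
    refine sup_le ?_ ?_
    · intro z hz
      have hz' : z ∈ Subgroup.center X := by rw [← hZc]; exact hz
      rw [Subgroup.mem_comap, hφ, commHom_apply, comm_central_right hz' a]
      exact Subgroup.one_mem _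
    · rw [Subgroup.zpowers_le, Subgroup.mem_comap, hφ, commHom_apply]
      exact Subgroup.mem_zpowers _
  have hyK : y ∉ K := by
    intro h
    have := hKle h
    rw [Subgroup.mem_comap, hφ, commHom_apply] at this
    rcases mem_zpowers_invol hu2 this with h1 | h1
    · exact hv1 h1
    · exact hvu h1
  have hZK : Z < K := by
    refine lt_of_le_of_ne le_sup_left ?_
    intro h
    apply hxZ
    rw [h]
    exact (le_sup_right : Subgroup.zpowers x ≤ K) (Subgroup.mem_zpowers x)
  have hKM' : K < M := by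
    refine lt_of_le_of_ne hKM ?_
    intro h
    exact hyK (h ▸ hyM)
  have h1 := two_mul_card_le_of_lt hZK
  have h2 := two_mul_card_le_of_lt hKM'
  omega

theorem existsUnique_abelian_index_two (Z : Subgroup X) (hd : SpData Z) (hZ4 : Nat.card Z = 4)
    (h32 : Nat.card X = 32) : ∃! M : Subgroup X, M.index = 2 ∧ Ab M := by
  have hZc := hd.eqc
  have hcen : ∀ a b : X, ⁅a, b⁆ ∈ Subgroup.center X := fun a b => hZc ▸ hd.comm a b
  -- existence of a noncentral element with big centralizer
  have hex : ∃ x : X, x ∉ Z ∧ 16 ≤ Nat.card (Subgroup.centralizer ({x} : Set X)) := by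
    -- a ∉ Z
    have hexa : ∃ a : X, a ∉ Z := by
      by_contra h; push Not at h
      have : Z = ⊤ := (Subgroup.eq_top_iff' Z).2 h
      rw [this, Subgroup.card_top, h32] at hZ4
      omega
    obtain ⟨a, ha⟩ := hexa
    by_cases h16 : 16 ≤ Nat.card (Subgroup.centralizer ({a} : Set X))
    · exact ⟨a, ha, h16⟩
    · push Not at h16
      set φ := commHom hcen a with hφ
      have hker : φ.ker = Subgroup.centralizer ({a} : Set X) := commHom_ker hcen a
      have hrZ : φ.range ≤ Z := by
        rintro _ ⟨g, rfl⟩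
        rw [hφ, commHom_apply]; exact hd.comm a g
      have hcr : Nat.card φ.ker * Nat.card φ.range = 32 := by
        rw [← Subgroup.index_ker, Subgroup.card_mul_index, h32]
      have hr4 : Nat.card φ.range ≤ 4 := hZ4 ▸ Subgroup.card_le_of_le hrZ
      rw [← hker] at h16
      have hr : Nat.card φ.range = 4 := by
        have h3 : 3 ≤ Nat.card φ.range := by
          by_contra h; push Not at h
          have : Nat.card φ.ker * Nat.card φ.range ≤ 15 * 2 :=
            Nat.mul_le_mul (by omega) (by omega)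
          omega
        have h3' : Nat.card φ.range ≠ 3 := by
          intro h; rw [h] at hcr; omega
        omega
      have hrange : φ.range = Z := Subgroup.eq_of_le_of_card_ge hrZ (by rw [hr, hZ4])
      -- z₁, z₂
      have hexz1 : ∃ z₁ : X, z₁ ∈ Z ∧ z₁ ≠ 1 := by
        by_contra h; push Not at h
        have : Z = ⊥ := (Subgroup.eq_bot_iff_forall Z).2 h
        rw [this, Subgroup.card_bot] at hZ4; omega
      obtain ⟨z₁, hz₁, hz₁1⟩ := hexz1
      have hz₁2 : z₁ ^ 2 = 1 := hd.el z₁ hz₁
      set Z₀ : Subgroup X := Subgroup.zpowers z₁ with hZ₀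
      have hZ₀Z : Z₀ ≤ Z := (Subgroup.zpowers_le).2 hz₁
      have hZ₀card : Nat.card Z₀ = 2 := by
        rw [hZ₀, Nat.card_zpowers]
        exact orderOf_eq_prime hz₁2 hz₁1
      have hexz2 : ∃ z₂ : X, z₂ ∈ Z ∧ z₂ ∉ Z₀ := by
        by_contra h; push Not at h
        have : Z ≤ Z₀ := h
        have := Subgroup.card_le_of_le this
        omega
      obtain ⟨z₂, hz₂, hz₂0⟩ := hexz2
      have hz₂2 : z₂ ^ 2 = 1 := hd.el z₂ hz₂
      have hz₂1 : z₂ ≠ 1 := fun h => hz₂0 (h ▸ Subgroup.one_mem _)
      have hz₂z₁ : z₂ ≠ z₁ := fun h => hz₂0 (h ▸ Subgroup.mem_zpowers z₁)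
      have hZ₀idx : (Z₀.subgroupOf Z).index = 2 := by
        have h1 : Nat.card (Z₀.subgroupOf Z) * (Z₀.subgroupOf Z).index = Nat.card Z :=
          Subgroup.card_mul_index _
        rw [Nat.card_congr (Subgroup.subgroupOfEquivOfLe hZ₀Z).toEquiv, hZ₀card, hZ4] at h1
        omega
      -- b, c
      obtain ⟨b, hb⟩ : ∃ b, φ b = z₁ := by
        have : z₁ ∈ φ.range := hrange ▸ hz₁
        exact this
      obtain ⟨c, hc⟩ : ∃ c, φ c = z₂ := by
        have : z₂ ∈ φ.range := hrange ▸ hz₂
        exact this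
      rw [hφ, commHom_apply] at hb hc
      have hw : ⁅b, c⁆ ∈ Z := hd.comm b c
      have hba : ⁅b, a⁆ = z₁⁻¹ := by rw [comm_symm' a b, hb]
      have hca : ⁅c, a⁆ = z₂⁻¹ := by rw [comm_symm' a c, hc]
      have hcb : ⁅c, b⁆ = ⁅b, c⁆⁻¹ := comm_symm' b c
      have haab : ⁅a, a * b⁆ = z₁ := by rw [comm_mul_right hcen, comm_self', one_mul, hb]
      have haac : ⁅a, a * c⁆ = z₂ := by rw [comm_mul_right hcen, comm_self', one_mul, hc]
      by_cases hw1 : ⁅b, c⁆ = 1
      · -- x = b, y = c
        have hcomm : c * b = b * c := (comm_eq_one_iff b c).1 hw1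
        exact ⟨b, sc_lemmaH Z hd hZ4 a b c (by rw [hb]; exact hz₁1) (by rw [hc]; exact hz₂1)
          (by rw [hb, hc]; exact hz₂z₁) hcomm⟩
      · by_cases hw2 : ⁅b, c⁆ = z₁
        · -- x = b, y = a * c
          have h1 : ⁅b, a * c⁆ = 1 := by
            rw [comm_mul_right hcen, hba, hw2, inv_mul_cancel]
          have hcomm : (a * c) * b = b * (a * c) := (comm_eq_one_iff b (a * c)).1 h1
          exact ⟨b, sc_lemmaH Z hd hZ4 a b (a * c) (by rw [hb]; exact hz₁1) (by rw [haac]; exact hz₂1)
            (by rw [hb, haac]; exact hz₂z₁) hcomm⟩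
        · by_cases hw3 : ⁅b, c⁆ = z₂
          · -- x = c, y = a * b
            have h1 : ⁅c, a * b⁆ = 1 := by
              rw [comm_mul_right hcen, hca, hcb, hw3, ← mul_inv_rev, ← pow_two, hz₂2, inv_one]
            have hcomm : (a * b) * c = c * (a * b) := (comm_eq_one_iff c (a * b)).1 h1
            exact ⟨c, sc_lemmaH Z hd hZ4 a c (a * b) (by rw [hc]; exact hz₂1) (by rw [haab]; exact hz₁1)
              (by rw [hc, haab]; exact fun h => hz₂z₁ h.symm) hcomm⟩
          · -- w = z₁ * z₂ ; x = a * b, y = a * c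
            have hw0 : ⁅b, c⁆ ∉ Z₀ := by
              intro h
              rcases mem_zpowers_invol hz₁2 h with h | h
              · exact hw1 h
              · exact hw2 h
            have hwz : ⁅b, c⁆ * z₂ ∈ Z₀ := by
              have := (Subgroup.mul_mem_iff_of_index_two hZ₀idx (a := ⟨⁅b, c⁆, hw⟩) (b := ⟨z₂, hz₂⟩))
              simp only [Subgroup.mem_subgroupOf, Subgroup.coe_mul] at this
              exact this.2 ⟨fun h => absurd h hw0, fun h => absurd h hz₂0⟩
            have hweq : ⁅b, c⁆ = z₁ * z₂ := by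
              have hz₂inv : z₂⁻¹ = z₂ := by
                rw [inv_eq_iff_mul_eq_one, ← pow_two, hz₂2]
              rcases mem_zpowers_invol hz₁2 hwz with h | h
              · exfalso
                apply hw3
                rw [← hz₂inv]; exact eq_inv_of_mul_eq_one_left h
              · rw [← h, mul_assoc, ← pow_two, hz₂2, mul_one]
            have h1 : ⁅a * b, a * c⁆ = 1 := by
              rw [comm_mul_left hcen, haac, comm_mul_right hcen, hba, hweq, ← mul_assoc z₁⁻¹,
                inv_mul_cancel, one_mul, ← pow_two, hz₂2]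
            have hcomm : (a * c) * (a * b) = (a * b) * (a * c) := (comm_eq_one_iff (a * b) (a * c)).1 h1
            exact ⟨a * b, sc_lemmaH Z hd hZ4 a (a * b) (a * c) (by rw [haab]; exact hz₁1)
              (by rw [haac]; exact hz₂1) (by rw [haab, haac]; exact hz₂z₁) hcomm⟩
  obtain ⟨x, hx, h16⟩ := hex
  obtain ⟨hMi, hMab⟩ := sc_lemmaG Z hd hZ4 h32 x hx h16
  refine ⟨Subgroup.centralizer ({x} : Set X), ⟨hMi, hMab⟩, ?_⟩
  -- uniqueness
  have huniq : ∀ M1 M2 : Subgroup X, M1.index = 2 ∧ Ab M1 → M2.index = 2 ∧ Ab M2 → M2 ≤ M1 := by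
    rintro M1 M2 ⟨h1i, h1a⟩ ⟨h2i, h2a⟩
    by_contra hnot
    obtain ⟨m₂, hm₂, hm₂1⟩ := SetLike.not_le_iff_exists.1 hnot
    have hD : M1 ⊓ M2 ≤ Z := by
      intro g hg
      rw [hZc, Subgroup.mem_center_iff]
      intro h
      by_cases hh : h ∈ M1
      · exact h1a h hh g hg.1
      · have hhm : h * m₂ ∈ M1 :=
          (Subgroup.mul_mem_iff_of_index_two h1i).2 ⟨fun h' => absurd h' hh, fun h' => absurd h' hm₂1⟩
        have e1 : (h * m₂) * g = g * (h * m₂) := h1a _ hhm g hg.1
        have e2 : m₂ * g = g * m₂ := h2a _ hm₂ g hg.2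
        have : h * g * m₂ = g * h * m₂ := by
          calc h * g * m₂ = h * (g * m₂) := by rw [mul_assoc]
            _ = h * (m₂ * g) := by rw [e2]
            _ = (h * m₂) * g := by rw [mul_assoc]
            _ = g * (h * m₂) := e1
            _ = g * h * m₂ := by rw [mul_assoc]
        exact mul_right_cancel this
    have hDi : (M1 ⊓ M2).index ≤ 4 := by
      have := Subgroup.index_inf_le (H := M1) (K := M2)
      rw [h1i, h2i] at this
      exact this
    have hDc : Nat.card (M1 ⊓ M2 : Subgroup X) * (M1 ⊓ M2).index = 32 := by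
      rw [Subgroup.card_mul_index, h32]
    have hD4 : Nat.card (M1 ⊓ M2 : Subgroup X) ≤ 4 := hZ4 ▸ Subgroup.card_le_of_le hD
    have : Nat.card (M1 ⊓ M2 : Subgroup X) * (M1 ⊓ M2).index ≤ 4 * 4 := Nat.mul_le_mul hD4 hDi
    omega
  intro M' hM'
  exact le_antisymm (huniq _ M' ⟨hMi, hMab⟩ hM') (huniq M' _ hM' ⟨hMi, hMab⟩)

end Cfsg.Agent.Helper81.N5
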