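import Cfsg.Agent.Lib.Helper81.CharSylInd
import Cfsg.Agent.Lib.Helper81.CharRam

/-!
# Isaacs--Passman (S4463) helper lemmas (helper81)

* `restrict_eq_of_max_degree` : if `ψ ∈ Irr(H)` has the largest degree `b(G)` of `G`, every
  irreducible constituent of `ψ^G` restricts to `ψ`.
* `vanish_off_core` : such a `ψ` vanishes off the normal core of `H`.
-/

set_option autoImplicit false
set_option linter.style.haveILetI false
set_option linter.unusedSectionVars false

namespace Cfsg.Agent.Helper81.IP

open Cfsg Cfsg.Agent.Helper81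
open scoped ComplexConjugate

universe u

section core
variable {G : Type u} [Group G] [Fintype G]

/-- FACT E: a character of a subgroup whose degree is at least every irreducible degree of `G` is
the restriction of each irreducible constituent of the induced character. -/
theorem restrict_eq_of_max_degree (H : Subgroup G) [Fintype H] {b : ℕ}
    (hb : ∀ χ : G → ℂ, IsIrrCharacter G χ → ∀ d : ℕ, χ 1 = d → d ≤ b)
    {ψ : H → ℂ} (hψ : IsIrrCharacter H ψ) (hψb : ψ 1 = b)
    {χ : G → ℂ} (hχ : IsIrrCharacter G χ) (hne : classInner (indFun H ψ) χ ≠ 0) :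
    (fun h : H => χ h) = ψ := by
  have hχc := isClassFunction_of_isCharacter (IsIrrCharacter.isCharacter hχ)
  rw [frobenius_reciprocity H ψ hχc] at hne
  have hne' : classInner (fun h : H => χ h) ψ ≠ 0 := by
    rw [classInner_conj_symm]
    intro h0
    apply hne
    have := congrArg conj h0
    simpa using this
  obtain ⟨d, hd, -, -⟩ := irr_degree_dvd_card hχ
  exact eq_of_constituent_of_degree_le (isCharacter_restrict H (IsIrrCharacter.isCharacter hχ))
    hψ hne' d b (by simpa using hd) hψb (hb χ hχ d hd)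

/-- Lemma A': an irreducible character of `H` of degree `b(G)` vanishes off the normal core of
`H`. -/
theorem vanish_off_core (H : Subgroup G) [Fintype H] {b : ℕ}
    (hb : ∀ χ : G → ℂ, IsIrrCharacter G χ → ∀ d : ℕ, χ 1 = d → d ≤ b)
    {ψ : H → ℂ} (hψ : IsIrrCharacter H ψ) (hψb : ψ 1 = b) (h : H)
    (hh : (h : G) ∉ H.normalCore) : ψ h = 0 := by
  classical
  haveI : Fintype (IrrCharacter G) := @Fintype.ofFinite _ irr_finite
  by_contra hne0
  apply hh
  have hΨ : IsCharacter G (indFun H ψ) := isCharacter_indFun H (IsIrrCharacter.isCharacter hψ)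
  obtain ⟨m, hm⟩ := exists_nat_decomp hΨ
  -- constituents restrict to `ψ`
  have hres : ∀ χ : IrrCharacter G, m χ ≠ 0 → (fun k : H => (χ : G → ℂ) k) = ψ := by
    intro χ hχ
    apply restrict_eq_of_max_degree H hb hψ hψb χ.2
    rw [hm, classInner_nat_decomp (fun χ' => (m χ' : ℂ)) χ]
    exact_mod_cast hχ
  -- the restriction of the induced character is a multiple of `ψ`
  have hmult : ∀ k : H, indFun H ψ k = (∑ χ : IrrCharacter G, (m χ : ℂ)) * ψ k := by
    intro k
    conv_lhs => rw [hm]
    rw [Finset.sum_apply, Finset.sum_mul]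
    apply Finset.sum_congr rfl
    intro χ _
    simp only [Pi.smul_apply, smul_eq_mul]
    by_cases hχ : m χ = 0
    · rw [hχ]; simp
    · rw [← hres χ hχ]
  have hψ1 : ψ 1 ≠ 0 := by
    obtain ⟨d, hd, -, hpos⟩ := irr_degree_dvd_card hψ
    rw [hd]
    exact_mod_cast hpos.ne'
  have hHne : (Nat.card H : ℂ) ≠ 0 := by exact_mod_cast (Nat.card_pos (α := H)).ne'
  -- the multiple is `|G| / |H|`
  have hM : (∑ χ : IrrCharacter G, (m χ : ℂ)) = (Nat.card H : ℂ)⁻¹ * (Nat.card G : ℂ) := by
    have h1 := hmult 1
    rw [indFun_apply] at h1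
    have h2 : ∀ x : G, extendByZero H ψ (x⁻¹ * ((1 : H) : G) * x) = ψ 1 := by
      intro x
      have : x⁻¹ * ((1 : H) : G) * x = ((1 : H) : G) := by simp
      rw [this, extendByZero_apply_coe]
    rw [Finset.sum_congr rfl (fun x _ => h2 x), Finset.sum_const, Finset.card_univ,
      nsmul_eq_mul, ← Nat.card_eq_fintype_card, ← mul_assoc] at h1
    exact (mul_right_cancel₀ hψ1 h1).symm
  -- a constituent
  have hΨ0 : indFun H ψ ≠ 0 := by
    intro h0
    have := hmult 1
    rw [h0, hM] at this
    simp only [Pi.zero_apply] at this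
    have hG : (Nat.card G : ℂ) ≠ 0 := by exact_mod_cast (Nat.card_pos (α := G)).ne'
    exact mul_ne_zero (mul_ne_zero (inv_ne_zero hHne) hG) hψ1 this.symm
  obtain ⟨χ, hχ, hχne⟩ := exists_irr_constituent hΨ hΨ0
  have hχres := restrict_eq_of_max_degree H hb hψ hψb hχ hχne
  have hχc := isClassFunction_of_isCharacter (IsIrrCharacter.isCharacter hχ)
  -- compute the induced character at `h`
  have h3 : ∀ x : G, extendByZero H ψ (x⁻¹ * (h : G) * x) =
      if x⁻¹ * (h : G) * x ∈ H then ψ h else 0 := by
    intro x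
    by_cases hx : x⁻¹ * (h : G) * x ∈ H
    · rw [if_pos hx, extendByZero_apply_mem H ψ hx]
      have e1 := congrFun hχres ⟨_, hx⟩
      have e2 := congrFun hχres h
      simp only at e1 e2
      rw [← e1, ← e2]
      have := hχc (h : G) x⁻¹
      rw [inv_inv] at this
      exact this
    · rw [if_neg hx, extendByZero_apply_not_mem H ψ hx]
  have h4 := hmult h
  rw [indFun_apply, Finset.sum_congr rfl (fun x _ => h3 x), ← Finset.sum_filter,
    Finset.sum_const, nsmul_eq_mul, hM, ← mul_assoc] at h4
  have h5 := mul_right_cancel₀ hne0 h4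
  have h6 := mul_left_cancel₀ (inv_ne_zero hHne) h5
  have h7 : (Finset.univ.filter (fun x : G => x⁻¹ * (h : G) * x ∈ H)).card = Nat.card G := by
    exact_mod_cast h6
  rw [Nat.card_eq_fintype_card, ← Finset.card_univ] at h7
  have h8 := Finset.eq_of_subset_of_card_le (Finset.subset_univ _) (le_of_eq h7.symm)
  show ∀ x : G, x * (h : G) * x⁻¹ ∈ H
  intro x
  have : x⁻¹ ∈ Finset.univ.filter (fun x : G => x⁻¹ * (h : G) * x ∈ H) := by
    rw [h8]; exact Finset.mem_univ _
  simpa using this

end core

end Cfsg.Agent.Helper81.IP
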