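import Cfsg.Agent.Lib.Helper81.CharSylowExt
set_option autoImplicit false
set_option linter.style.haveILetI false
set_option linter.unusedSectionVars false
namespace Cfsg.Agent.Helper81
open Representation
open scoped ComplexConjugate
universe u v w

section linext
variable {G : Type u} [Group G] [Finite G]

/-- An invariant homomorphism `ν : N → A` into a commutative group has `ν ^ [G:N]` extendible
to `G` (transfer). -/
theorem exists_hom_extension_pow_index {A : Type v} [CommGroup A] (N : Subgroup G)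
    (hN : N.Normal) (ν : N →* A)
    (hinv : ∀ (g : G) (n : N), ν ⟨g * n * g⁻¹, hN.conj_mem n n.2 g⟩ = ν n) :
    ∃ μ : G →* A, ∀ n : N, μ n = ν n ^ N.index := by
  classical
  have hcen : ∀ m : A, m ∈ Subgroup.center A := fun m =>
    Subgroup.mem_center_iff.mpr (fun x => mul_comm x m)
  obtain ⟨τ, hτ1, hτ2⟩ := exists_transfer_hom N hN ν (⊤ : Subgroup (G × A))
    (fun g => ⟨1, Subgroup.mem_top _⟩) (fun m _ => hcen m) (fun n => Subgroup.mem_top _)
    (fun γ _ n => by rw [hinv, mul_comm, inv_mul_cancel_left])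
    N le_rfl ν (fun x => Subgroup.mem_top _) (fun n => rfl)
  let j : G →* (⊤ : Subgroup (G × A)) :=
    (MonoidHom.inl G A).codRestrict ⊤ (fun g => Subgroup.mem_top _)
  let μ₀ : G →* A := ((Subgroup.center A).subtype.comp (τ.comp j))⁻¹
  refine ⟨μ₀, fun n => ?_⟩
  have h1 := hτ2 n
  have h2 := hτ1 (ν n) (hcen _) (Subgroup.mem_top _)
  have h3 : (⟨((n : G), ν n), Subgroup.mem_top _⟩ : (⊤ : Subgroup (G × A))) =
      j n * ⟨((1 : G), ν n), Subgroup.mem_top _⟩ := by
    apply Subtype.ext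
    show ((n : G), ν n) = ((n : G), (1 : A)) * ((1 : G), ν n)
    simp
  rw [h3, map_mul] at h1
  have h4 : ((τ (j n) : Subgroup.center A) : A) * ν n ^ N.index = 1 := by
    rw [← h2, ← Subgroup.coe_mul, h1]
    rfl
  show (((τ (j n) : Subgroup.center A) : A))⁻¹ = ν n ^ N.index
  exact inv_eq_of_mul_eq_one_right h4

/-- An invariant homomorphism `ν : N → A` into a commutative group with `ν ^ e = 1`, `e` coprime
to the index of `N`, extends to a homomorphism `μ` of `G` with `μ ^ e = 1`. -/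
theorem exists_hom_extension_coprime {A : Type v} [CommGroup A] (N : Subgroup G)
    (hN : N.Normal) (ν : N →* A)
    (hinv : ∀ (g : G) (n : N), ν ⟨g * n * g⁻¹, hN.conj_mem n n.2 g⟩ = ν n)
    (e : ℕ) (he : ∀ n : N, ν n ^ e = 1) (hcop : Nat.Coprime N.index e) :
    ∃ μ : G →* A, (∀ n : N, μ n = ν n) ∧ ∀ g, μ g ^ e = 1 := by
  classical
  haveI := hN
  obtain ⟨μ₀, hμ₀⟩ := exists_hom_extension_pow_index N hN ν hinv
  have hbez := Nat.gcd_eq_gcd_ab N.index e
  rw [hcop, Nat.cast_one] at hbez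
  let a : ℤ := Nat.gcdA N.index e
  let b : ℤ := Nat.gcdB N.index e
  have hab : (1 : ℤ) = N.index * a + e * b := hbez
  have hνpow : ∀ n : N, ν n ^ ((N.index : ℤ) * a) = ν n := by
    intro n
    have h1 : (N.index : ℤ) * a = 1 - e * b := by linarith
    rw [h1, zpow_sub, zpow_one, zpow_mul, zpow_natCast, he, one_zpow]
    simp
  let μ : G →* A := μ₀ ^ (a * ((N.index : ℤ) * a))
  have hμ : ∀ g, μ g = μ₀ g ^ (a * ((N.index : ℤ) * a)) := fun g => rfl
  refine ⟨μ, ?_, ?_⟩
  · intro n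
    rw [hμ, hμ₀, ← zpow_natCast, ← zpow_mul, ← mul_assoc, zpow_mul, hνpow, hνpow]
  · intro g
    have h1 : μ₀ g ^ (N.index * e) = 1 := by
      rw [pow_mul, ← map_pow]
      have h2 := hμ₀ ⟨g ^ N.index, Subgroup.pow_index_mem N g⟩
      simp only at h2
      rw [h2, ← pow_mul, mul_comm, pow_mul, he, one_pow]
    rw [hμ, ← zpow_natCast, ← zpow_mul]
    have h3 : a * ((N.index : ℤ) * a) * (e : ℤ) = ((N.index * e : ℕ) : ℤ) * (a * a) := by
      push_cast; ring
    rw [h3, zpow_mul, zpow_natCast, h1, one_zpow]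

end linext

section canon
variable {G : Type u} [Group G] [Finite G]

/-- Gallagher (Isaacs 6.26): an invariant irreducible character of degree coprime to the index
extends as soon as its determinantal character does (no solvability needed). -/
theorem exists_extension_of_det (N : Subgroup G) (hN : N.Normal) {ϑ : N → ℂ}
    (hϑ : IsIrrCharacter N ϑ)
    (hinv : ∀ (g : G) (n : N), ϑ ⟨g * n * g⁻¹, hN.conj_mem n n.2 g⟩ = ϑ n)
    (d : ℕ) (hd : ϑ 1 = d) (hcop : Nat.Coprime N.index d)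
    {μ : G → ℂ} (hμ : IsCharacter G μ) (hμ1 : μ 1 = 1) (hμN : ∀ n : N, μ n = detChar ϑ n) :
    ∃ χ : G → ℂ, IsIrrCharacter G χ ∧ ∀ n : N, χ n = ϑ n := by
  classical
  haveI := hN
  apply exists_extension_of_sylow N hN hϑ hinv
  intro p hp
  haveI : Fact p.Prime := ⟨hp⟩
  let S : Sylow p (G ⧸ N) := default
  let P : Subgroup G := (S : Subgroup (G ⧸ N)).comap (QuotientGroup.mk' N)
  have hNP : N ≤ P := by
    intro n hn
    show QuotientGroup.mk' N n ∈ (S : Subgroup (G ⧸ N))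
    rw [QuotientGroup.mk'_apply, (QuotientGroup.eq_one_iff n).mpr hn]
    exact Subgroup.one_mem _
  have hPidx : P.index = (S : Subgroup (G ⧸ N)).index :=
    Subgroup.index_comap_of_surjective _ (QuotientGroup.mk'_surjective N)
  have hcopP : Nat.Coprime P.index p := by
    rw [hPidx, Nat.coprime_comm]
    exact (Nat.Prime.coprime_iff_not_dvd hp).mpr S.not_dvd_index
  haveI hN' : (N.subgroupOf P).Normal := Subgroup.normal_subgroupOf
  have hpg : IsPGroup p (P ⧸ N.subgroupOf P) := by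
    intro q
    induction q using QuotientGroup.induction_on with
    | H x =>
      obtain ⟨k, hk⟩ := S.isPGroup' ⟨QuotientGroup.mk' N (x : G), x.2⟩
      refine ⟨k, ?_⟩
      rw [← QuotientGroup.mk_pow, QuotientGroup.eq_one_iff, Subgroup.mem_subgroupOf]
      have h1 : (QuotientGroup.mk' N (x : G)) ^ p ^ k = 1 := by
        have := congrArg Subtype.val hk
        simpa using this
      rw [← map_pow, QuotientGroup.mk'_apply, QuotientGroup.eq_one_iff] at h1
      simpa using h1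
  haveI : Group.IsNilpotent (P ⧸ N.subgroupOf P) := hpg.isNilpotent
  have hsolvP : Group.IsSolvable (P ⧸ N.subgroupOf P) := inferInstance
  let iso : N.subgroupOf P ≃* N := Subgroup.subgroupOfEquivOfLe hNP
  let ϑ' : N.subgroupOf P → ℂ := fun x => ϑ (iso x)
  have hϑ' : IsIrrCharacter (N.subgroupOf P) ϑ' := isIrrCharacter_comp_equiv iso hϑ
  have hinv' : ∀ (g : P) (n : N.subgroupOf P),
      ϑ' ⟨g * n * g⁻¹, hN'.conj_mem n n.2 g⟩ = ϑ' n := by
    intro g n
    exact hinv (g : G) (iso n)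
  have hd' : ϑ' 1 = d := by
    show ϑ (iso 1) = d
    rw [map_one]; exact hd
  have hcop' : Nat.Coprime (N.subgroupOf P).index d := by
    apply Nat.Coprime.coprime_dvd_left _ hcop
    exact Dvd.intro _ (Subgroup.relIndex_mul_index hNP)
  let μ' : P → ℂ := fun x => μ x
  have hμ' : IsCharacter P μ' := isCharacter_restrict P hμ
  have hμ'1 : μ' 1 = 1 := hμ1
  have hμ'N : ∀ n : N.subgroupOf P, μ' n = detChar ϑ' n := by
    intro n
    have h1 := detChar_comp_hom iso.toMonoidHom iso.surjective hϑ n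
    show μ' n = detChar ϑ' n
    rw [show detChar ϑ' n = detChar ϑ (iso n) from h1]
    exact hμN (iso n)
  obtain ⟨η, hη, hηres⟩ := exists_extension_of_det_aux (Nat.card P) P rfl
    (N.subgroupOf P) hsolvP ϑ' hϑ' hinv' d hd' hcop' μ' hμ' hμ'1 hμ'N
  refine ⟨P, hNP, η, hcopP, hη, ?_⟩
  intro n
  exact hηres ⟨⟨n, hNP n.2⟩, Subgroup.mem_subgroupOf.mpr n.2⟩

/-- The determinantal character of an irreducible character is a homomorphism to `ℂˣ`. -/
theorem exists_detHom {K : Type u} [Group K] [Finite K] {θ : K → ℂ} (hθ : IsIrrCharacter K θ) :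
    ∃ ν : K →* ℂˣ, ∀ x, ((ν x : ℂˣ) : ℂ) = detChar θ x := by
  obtain ⟨k, ρ, hρ, rfl⟩ := hθ
  haveI := hρ
  let detρ : K →* ℂ := (LinearMap.det : ((Fin k → ℂ) →ₗ[ℂ] (Fin k → ℂ)) →* ℂ).comp ρ
  refine ⟨detρ.toHomUnits, fun x => ?_⟩
  rw [detChar_eq_det, MonoidHom.coe_toHomUnits]
  rfl

/-- The determinantal character of an invariant irreducible character is invariant. -/
theorem detChar_conj_invariant (N : Subgroup G) (hN : N.Normal) {ϑ : N → ℂ}
    (hϑ : IsIrrCharacter N ϑ)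
    (hinv : ∀ (g : G) (n : N), ϑ ⟨g * n * g⁻¹, hN.conj_mem n n.2 g⟩ = ϑ n) (g : G) (n : N) :
    detChar ϑ ⟨g * n * g⁻¹, hN.conj_mem n n.2 g⟩ = detChar ϑ n := by
  haveI := hN
  let cg : N ≃* N := MulAut.conjNormal g
  have hcg : ∀ y : N, cg y = ⟨g * y * g⁻¹, hN.conj_mem y y.2 g⟩ := fun y =>
    Subtype.ext (by simp [cg, MulAut.conjNormal_apply])
  have h1 := detChar_comp_hom cg.toMonoidHom cg.surjective hϑ n
  have h2 : (fun y : N => ϑ (cg.toMonoidHom y)) = ϑ := by
    funext y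
    show ϑ (cg y) = ϑ y
    rw [hcg]
    exact hinv g y
  rw [h2] at h1
  rw [← hcg]
  exact h1.symm

/-- Isaacs 6.28 / 8.16: an invariant irreducible character `ϑ` of `N ⊴ G` with `[G:N]` coprime to
`o(ϑ) ϑ(1)` has a canonical extension `χ`: `o(χ) = o(ϑ)`, and `χ` is the only extension with
determinantal order coprime to `[G:N]`. -/
theorem exists_canonical_extension (N : Subgroup G) (hN : N.Normal) {ϑ : N → ℂ}
    (hϑ : IsIrrCharacter N ϑ)
    (hinv : ∀ (g : G) (n : N), ϑ ⟨g * n * g⁻¹, hN.conj_mem n n.2 g⟩ = ϑ n)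
    (d : ℕ) (hd : ϑ 1 = d) (hcop : Nat.Coprime N.index (detOrder ϑ * d)) :
    ∃ χ : G → ℂ, (IsIrrCharacter G χ ∧ (∀ n : N, χ n = ϑ n) ∧ detOrder χ = detOrder ϑ) ∧
      ∀ χ' : G → ℂ, IsIrrCharacter G χ' → (∀ n : N, χ' n = ϑ n) →
        Nat.Coprime N.index (detOrder χ') → χ' = χ := by
  classical
  haveI := hN
  haveI : Fintype G := Fintype.ofFinite G
  have hcopd : Nat.Coprime N.index d := Nat.Coprime.coprime_mul_left_right hcop
  have hcope : Nat.Coprime N.index (detOrder ϑ) := Nat.Coprime.coprime_mul_right_right hcop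
  obtain ⟨ν, hν⟩ := exists_detHom hϑ
  have hνinv : ∀ (g : G) (n : N), ν ⟨g * n * g⁻¹, hN.conj_mem n n.2 g⟩ = ν n := by
    intro g n
    apply Units.ext
    rw [hν, hν]
    exact detChar_conj_invariant N hN hϑ hinv g n
  have hνe : ∀ n : N, ν n ^ detOrder ϑ = 1 := by
    intro n
    apply Units.ext
    rw [Units.val_pow_eq_pow_val, hν]
    have h1 : detChar ϑ ^ detOrder ϑ = 1 := pow_orderOf_eq_one _
    have h2 := congrFun h1 n
    simpa using h2
  obtain ⟨μu, hμuN, hμue⟩ := exists_hom_extension_coprime N hN ν hνinv (detOrder ϑ) hνe hcope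
  let μh : G →* ℂ := (Units.coeHom ℂ).comp μu
  let μ : G → ℂ := fun g => ((μu g : ℂˣ) : ℂ)
  have hμirr : IsIrrCharacter G μ := isIrrCharacter_hom μh
  have hμ1 : μ 1 = 1 := by
    show ((μu 1 : ℂˣ) : ℂ) = 1
    rw [map_one]; rfl
  have hμN : ∀ n : N, μ n = detChar ϑ n := by
    intro n
    show ((μu n : ℂˣ) : ℂ) = detChar ϑ n
    rw [hμuN, hν]
  obtain ⟨η, hη, hηres⟩ := exists_extension_of_det N hN hϑ hinv d hd hcopd (IsIrrCharacter.isCharacter hμirr)
    hμ1 hμN
  obtain ⟨χ, hχ, hχres, hχdet⟩ := exists_extension_with_detChar N hN hϑ d hd hcopd hη hηres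
    (IsIrrCharacter.isCharacter hμirr) hμ1 hμN
  have hμpow : μ ^ detOrder ϑ = 1 := by
    funext g
    show ((μu g : ℂˣ) : ℂ) ^ detOrder ϑ = 1
    rw [← Units.val_pow_eq_pow_val, hμue]; rfl
  refine ⟨χ, ⟨hχ, hχres, ?_⟩, ?_⟩
  · unfold detOrder
    rw [hχdet]
    apply Nat.dvd_antisymm
    · exact orderOf_dvd_of_pow_eq_one hμpow
    · apply orderOf_dvd_of_pow_eq_one
      funext n
      have h1 : μ ^ orderOf μ = 1 := pow_orderOf_eq_one _
      have h2 := congrFun h1 (n : G)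
      simp only [Pi.pow_apply, Pi.one_apply] at h2 ⊢
      rw [← hμN]
      exact h2
  · intro χ' hχ' hχ'res hcop'
    apply extension_unique_of_detChar N hN hϑ d hd hcopd hχ hχ' hχres hχ'res
    rw [hχdet]
    obtain ⟨ν', hν'⟩ := exists_detHom hχ'
    have hν'N : ∀ n : N, ν' n = ν n := by
      intro n
      apply Units.ext
      rw [hν', hν]
      obtain ⟨k', σ', hσ', rfl⟩ := hχ'
      haveI := hσ'
      have hϑeq : (fun n : N => σ'.character n) = ϑ := funext hχ'res
      rw [detChar_eq_det, ← hϑeq]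
      exact (detChar_restrict N σ' (by rw [hϑeq]; exact hϑ) n).symm
    let β : G →* ℂˣ := ν' / μu
    let βh : G →* ℂ := (Units.coeHom ℂ).comp β
    have hβN : ∀ n : N, βh n = 1 := by
      intro n
      show ((ν' n / μu n : ℂˣ) : ℂ) = 1
      rw [hν'N, hμuN, div_self']; rfl
    have hν'pow : ∀ g, ν' g ^ detOrder χ' = 1 := by
      intro g
      apply Units.ext
      rw [Units.val_pow_eq_pow_val, hν']
      have h1 : detChar χ' ^ detOrder χ' = 1 := pow_orderOf_eq_one _
      have h2 := congrFun h1 g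
      simpa using h2
    have hβpow : ∀ g, βh g ^ (detOrder χ' * detOrder ϑ) = 1 := by
      intro g
      show ((ν' g / μu g : ℂˣ) : ℂ) ^ (detOrder χ' * detOrder ϑ) = 1
      rw [← Units.val_pow_eq_pow_val, div_pow, pow_mul, hν'pow, one_pow, mul_comm, pow_mul,
        hμue, one_pow, div_one]
      rfl
    have hβ1 := hom_eq_one_of_pow βh N hβN (detOrder χ' * detOrder ϑ)
      (Nat.Coprime.mul_right hcop' hcope) hβpow
    funext g
    have h1 : ((ν' g / μu g : ℂˣ) : ℂ) = 1 := hβ1 g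
    have h2 : ν' g / μu g = 1 := Units.ext h1
    rw [div_eq_one] at h2
    rw [← hν', h2]

/-- The canonical extension when `G / N` is a `p`-group: if `p ∤ o(ϑ) ϑ(1)` then the invariant
irreducible character `ϑ` has a unique extension `χ` with `p ∤ o(χ)`, and `o(χ) = o(ϑ)`. -/
theorem exists_canonical_extension_pgroup (N : Subgroup G) (hN : N.Normal) {ϑ : N → ℂ}
    (hϑ : IsIrrCharacter N ϑ)
    (hinv : ∀ (g : G) (n : N), ϑ ⟨g * n * g⁻¹, hN.conj_mem n n.2 g⟩ = ϑ n)
    (p : ℕ) (hp : p.Prime) (k : ℕ) (hidx : N.index = p ^ k)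
    (d : ℕ) (hd : ϑ 1 = d) (hpd : ¬ p ∣ detOrder ϑ * d) :
    ∃ χ : G → ℂ, (IsIrrCharacter G χ ∧ (∀ n : N, χ n = ϑ n) ∧ detOrder χ = detOrder ϑ) ∧
      ∀ χ' : G → ℂ, IsIrrCharacter G χ' → (∀ n : N, χ' n = ϑ n) →
        ¬ p ∣ detOrder χ' → χ' = χ := by
  have hcop : Nat.Coprime N.index (detOrder ϑ * d) := by
    rw [hidx]
    exact Nat.Coprime.pow_left k ((Nat.Prime.coprime_iff_not_dvd hp).mpr hpd)
  obtain ⟨χ, h1, h2⟩ := exists_canonical_extension N hN hϑ hinv d hd hcop
  refine ⟨χ, h1, fun χ' hχ' hres hp' => h2 χ' hχ' hres ?_⟩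
  rw [hidx]
  exact Nat.Coprime.pow_left k ((Nat.Prime.coprime_iff_not_dvd hp).mpr hp')

end canon
end Cfsg.Agent.Helper81
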