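import Mathlib
import Cfsg.Prelude.Def_Characters
import Cfsg.Prelude.Def_Blocks
import Cfsg.Agent.Lib.Helper80.RMKDefs
import Cfsg.Agent.Lib.Helper80.RMKBasic
import Cfsg.Agent.Lib.Helper81.CharCorr

/-!
# RMK server (S4581), piece OVER1 (helper81)
-/

set_option autoImplicit false
set_option linter.style.haveILetI false

namespace Cfsg.Agent.Helper81.RMK

open Cfsg Cfsg.Agent.Helper80 Cfsg.Agent.Helper80.RMK Cfsg.Agent.Helper81
open scoped ComplexConjugate

universe u

/-- `Over` in terms of `classInner` of the restriction. -/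
theorem over_iff_classInner {G : Type u} [Group G] [Fintype G] {M H : Subgroup G} [Fintype ↥M]
    (hMH : M ≤ H) (ψ : IrrCharacter ↥H) (θ : IrrCharacter ↥M) :
    Over hMH ψ θ ↔ classInner (resTo hMH (ψ : ↥H → ℂ)) (θ : ↥M → ℂ) ≠ 0 := by
  unfold Over classInner
  rw [finsum_eq_sum_of_fintype]
  have hc : ((Nat.card ↥M : ℂ))⁻¹ ≠ 0 := by
    apply inv_ne_zero
    exact_mod_cast Nat.card_pos.ne'
  constructor
  · intro h
    exact mul_ne_zero hc h
  · intro h h0
    apply h
    have : ∑ g : ↥M, resTo hMH (ψ : ↥H → ℂ) g * conj ((θ : ↥M → ℂ) g) = 0 := h0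
    rw [this, mul_zero]

/-- (OVER1) lying over the trivial character of the normal subgroup `M` means having `M` in the
kernel -/
theorem over_trivial_iff {G : Type u} [Group G] [Finite G] (M : Subgroup G) [hM : M.Normal]
    (H : Subgroup G) (hMH : M ≤ H) (ψ : IrrCharacter ↥H) :
    Over hMH ψ (trivialIrr ↥M) ↔
      ∀ m : ↥M, (ψ : ↥H → ℂ) (Subgroup.inclusion hMH m) = (ψ : ↥H → ℂ) 1 := by
  classical
  haveI : Fintype G := Fintype.ofFinite G
  haveI : Fintype ↥M := Fintype.ofFinite _
  haveI : Fintype ↥H := Fintype.ofFinite _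
  rw [over_iff_classInner]
  constructor
  · intro h
    haveI : Fintype (IrrCharacter ↥M) := @Fintype.ofFinite _ irr_finite
    have hres : IsCharacter ↥M (resTo hMH (ψ : ↥H → ℂ)) :=
      isCharacter_resTo hMH (IsIrrCharacter.isCharacter ψ.2)
    have hexp := class_function_expansion (isClassFunction_of_isCharacter hres)
    have hzero : ∀ φ : IrrCharacter ↥M, φ ≠ trivialIrr ↥M →
        classInner (resTo hMH (ψ : ↥H → ℂ)) (φ : ↥M → ℂ) = 0 := by
      intro φ hφ
      refine clifford_inertia M H hM hMH (trivialIrr ↥M).2 (fun t _ => ?_) ψ.2 h φ.2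
        (fun h' => hφ (Subtype.ext h'))
      funext n
      rfl
    rw [Finset.sum_eq_single (trivialIrr ↥M)] at hexp
    · intro m
      have h1 := congrFun hexp m
      have h2 := congrFun hexp 1
      simp only [Pi.smul_apply, smul_eq_mul, trivialIrr_apply, mul_one] at h1 h2
      have e1 : (ψ : ↥H → ℂ) (Subgroup.inclusion hMH m) = resTo hMH (ψ : ↥H → ℂ) m := rfl
      have e2 : (ψ : ↥H → ℂ) 1 = resTo hMH (ψ : ↥H → ℂ) 1 := rfl
      rw [e1, e2, h1, ← h2]
    · intro φ _ hφ
      rw [hzero φ hφ, zero_smul]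
    · intro h'
      exact absurd (Finset.mem_univ _) h'
  · intro h
    have hval : classInner (resTo hMH (ψ : ↥H → ℂ)) ((trivialIrr ↥M : IrrCharacter ↥M) : ↥M → ℂ) =
        (ψ : ↥H → ℂ) 1 := by
      unfold classInner
      have : ∀ g : ↥M, resTo hMH (ψ : ↥H → ℂ) g * conj ((trivialIrr ↥M : ↥M → ℂ) g) =
          (ψ : ↥H → ℂ) 1 := by
        intro g
        rw [trivialIrr_apply, map_one, mul_one]
        exact h g
      rw [Finset.sum_congr rfl (fun g _ => this g), Finset.sum_const, Finset.card_univ,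
        nsmul_eq_mul, ← Nat.card_eq_fintype_card, ← mul_assoc, inv_mul_cancel₀, one_mul]
      exact_mod_cast Nat.card_pos.ne'
    rw [hval]
    exact irr_one_ne_zero ψ

end Cfsg.Agent.Helper81.RMK
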