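import Mathlib
import Cfsg.Prelude.Def_Characters
import Cfsg.Prelude.Def_Blocks
import Cfsg.Agent.Lib.Helper80.RMKDefs
import Cfsg.Agent.Lib.Helper80.RMKBasic
import Cfsg.Agent.Lib.Helper81.RMKOVER1

/-!
# RMK server (S4581), piece PAR2 (helper81)
-/

set_option autoImplicit false
set_option linter.style.haveILetI false

namespace Cfsg.Agent.Helper81.RMK

open Cfsg Cfsg.Agent.Helper80 Cfsg.Agent.Helper80.RMK Cfsg.Agent.Helper81
open scoped ComplexConjugate

universe u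

/-- (PAR2) a linear constituent on `P` of a character of `T` over the `T`-invariant `θ`
restricts to `θ` on `M` -/
theorem linear_constituent_restrict {G : Type u} [Group G] [Finite G] (M : Subgroup G)
    [hM : M.Normal] (P T : Subgroup G) (hMP : M ≤ P) (hPT : P ≤ T) (θ : IrrCharacter ↥M)
    (hT : T ≤ stab M θ) (ψ : IrrCharacter ↥T) (hover : Over (le_trans hMP hPT) ψ θ)
    (μ : ↥P →* ℂˣ)
    (hμ : ∑ᶠ x : ↥P, (ψ : ↥T → ℂ) (Subgroup.inclusion hPT x) * conj (((μ x : ℂˣ) : ℂ)) ≠ 0) :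
    ∀ (m : G) (hm : m ∈ M), ((μ ⟨m, hMP hm⟩ : ℂˣ) : ℂ) = (θ : ↥M → ℂ) ⟨m, hm⟩ := by
  classical
  haveI : Fintype G := Fintype.ofFinite G
  haveI : Fintype ↥M := Fintype.ofFinite _
  haveI : Fintype ↥P := Fintype.ofFinite _
  haveI : Fintype ↥T := Fintype.ofFinite _
  rw [over_iff_classInner] at hover
  -- the linear character of `P`
  set μc : IrrCharacter ↥P := Cfsg.Agent.Helper79.linChar μ with hμc
  -- its restriction to `M`
  set μM : IrrCharacter ↥M := Cfsg.Agent.Helper79.linChar (μ.comp (Subgroup.inclusion hMP)) with hμM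
  have hμMfun : (μM : ↥M → ℂ) = resTo hMP (μc : ↥P → ℂ) := by
    funext n
    rfl
  -- `μ` is a constituent of `ψ_P`
  have hne : classInner (resTo hPT (ψ : ↥T → ℂ)) (μc : ↥P → ℂ) ≠ 0 := by
    unfold classInner
    rw [finsum_eq_sum_of_fintype] at hμ
    apply mul_ne_zero
    · apply inv_ne_zero
      exact_mod_cast Nat.card_pos.ne'
    · exact hμ
  have hresP : IsCharacter ↥P (resTo hPT (ψ : ↥T → ℂ)) :=
    isCharacter_resTo hPT (IsIrrCharacter.isCharacter ψ.2)
  obtain ⟨α, hα, hdec⟩ := exists_add_of_classInner_ne_zero hresP μc.2 hne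
  -- restrict to `M`
  have hresM : resTo (le_trans hMP hPT) (ψ : ↥T → ℂ) =
      (μM : ↥M → ℂ) + resTo hMP α := by
    have h1 : resTo (le_trans hMP hPT) (ψ : ↥T → ℂ) = resTo hMP (resTo hPT (ψ : ↥T → ℂ)) := rfl
    rw [h1, hdec, resTo_add, hμMfun]
  -- the multiplicity of `μ_M` in `ψ_M` is nonzero
  have hne2 : classInner (resTo (le_trans hMP hPT) (ψ : ↥T → ℂ)) (μM : ↥M → ℂ) ≠ 0 := by
    rw [hresM, classInner_add_left, irr_orthonormal μM.2 μM.2, if_pos rfl]
    obtain ⟨k, hk⟩ := exists_nat_classInner (isCharacter_resTo hMP hα) μM.2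
    rw [hk]
    have : ((1 : ℕ) : ℂ) + (k : ℂ) ≠ 0 := by
      rw [← Nat.cast_add]
      exact_mod_cast (by omega : 1 + k ≠ 0)
    simpa using this
  -- Clifford
  have hinv : ∀ t ∈ T, conjFun M hM (θ : ↥M → ℂ) t = (θ : ↥M → ℂ) := by
    intro t ht
    have h1 := (mem_stab_iff M θ t).mp (hT ht)
    funext n
    rw [conjFun_apply]
    exact h1 n ⟨t * n * t⁻¹, hM.conj_mem n n.2 t⟩ rfl
  have heq : (μM : ↥M → ℂ) = (θ : ↥M → ℂ) := by
    by_contra hcon
    exact hne2 (clifford_inertia M T hM (le_trans hMP hPT) θ.2 hinv ψ.2 hover μM.2 hcon)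
  intro m hm
  have := congrFun heq ⟨m, hm⟩
  rw [← this]
  rfl

end Cfsg.Agent.Helper81.RMK
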