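import Mathlib

/-!
# O5760 (A5): a central involution of a Sylow 2-subgroup in a group of order 5760
-/

set_option autoImplicit false

namespace Cfsg.Agent.Helper81.O5760

universe u

/-- (A5) -/
theorem exists_central_invol {G : Type u} [Group G] [Finite G] (hG : Nat.card G = 5760) :
    ∃ u : G, orderOf u = 2 ∧ 128 ∣ Nat.card (Subgroup.centralizer ({u} : Set G)) := by
  have : Fact (Nat.Prime 2) := ⟨Nat.prime_two⟩
  obtain ⟨S⟩ : Nonempty (Sylow 2 G) := inferInstance
  have hS : Nat.card (S : Subgroup G) = 2 ^ 7 := by
    have hm : ¬ 2 ∣ 45 := by norm_num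
    have hG' : Nat.card G = 2 ^ 7 * 45 := by rw [hG]; norm_num
    rw [S.card_eq_multiplicity, hG', Nat.factorization_mul (by norm_num) (by norm_num),
      Finsupp.add_apply, Nat.prime_two.factorization_pow, Finsupp.single_eq_same,
      Nat.factorization_eq_zero_of_not_dvd hm, add_zero]
  have hP : IsPGroup 2 (S : Subgroup G) := S.isPGroup'
  have : Nontrivial (S : Subgroup G) := by
    rw [← Finite.one_lt_card_iff_nontrivial, hS]; norm_num
  have := hP.center_nontrivial
  have hPc : IsPGroup 2 (Subgroup.center (S : Subgroup G)) := hP.to_subgroup _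
  have h2 : 2 ∣ Nat.card (Subgroup.center (S : Subgroup G)) := by
    rcases hPc.card_eq_or_dvd with h | h
    · exfalso
      have := Finite.one_lt_card_iff_nontrivial.2 (inferInstance : Nontrivial (Subgroup.center (S : Subgroup G)))
      omega
    · exact h
  obtain ⟨z, hz⟩ := exists_prime_orderOf_dvd_card' 2 h2
  refine ⟨((z : (S : Subgroup G)) : G), ?_, ?_⟩
  · rw [Subgroup.orderOf_coe, Subgroup.orderOf_coe]; exact hz
  · have hle : (S : Subgroup G) ≤ Subgroup.centralizer ({((z : (S : Subgroup G)) : G)} : Set G) := by
      intro s hs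
      rw [Subgroup.mem_centralizer_iff]
      intro y hy
      rw [Set.mem_singleton_iff] at hy
      subst hy
      have hz' := z.2
      rw [Subgroup.mem_center_iff] at hz'
      have := hz' ⟨s, hs⟩
      have h3 := congrArg (fun t : (S : Subgroup G) => (t : G)) this
      simp only [Subgroup.coe_mul] at h3
      exact h3.symm
    have := Subgroup.card_dvd_of_le hle
    rw [hS] at this
    norm_num at this ⊢
    exact this

end Cfsg.Agent.Helper81.O5760
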