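import Cfsg.Agent.Lib.Helper81.PrincNPC
import Cfsg.Agent.Lib.Helper48.TransferInv

set_option autoImplicit false
set_option linter.unusedSectionVars false
set_option linter.style.haveILetI false

namespace Cfsg.Agent.Helper81

open Cfsg
open scoped ComplexConjugate
open scoped commutatorElement

universe u

section

variable {G : Type u} [Group G] [Fintype G] {p : ℕ} {M : Ideal AlgInt}

open Cfsg.Agent.Helper77 in
open scoped Classical in
/-- A `p`-regular element `g` with class of `p'`-size such that, for every linear character `μ`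
of a Sylow `p`-subgroup `P`, the sum of `conj (χ g) * [χ_P, μ]` over the principal block lies
outside the local ideal. -/
theorem exists_defect_elt_principal [Fact p.Prime] (hM : IsPModular p M) (P : Sylow p G) :
    ∃ g : G, ¬ p ∣ orderOf g ∧ ¬ p ∣ (Subgroup.centralizer ({g} : Set G)).index ∧
      ∀ μ : P →* ℂˣ, ¬ MemLocalIdeal M
        (∑ χ ∈ (Set.toFinite (principalBlock M G)).toFinset, conj ((χ : G → ℂ) g) *
          classInner (fun u : P => (χ : G → ℂ) u) (fun u : P => ((μ u : ℂˣ) : ℂ))) := by
  classical
  have hprime := isPrime_of_isPModular hM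
  have hp : p.Prime := Fact.out
  obtain ⟨B, hBdef⟩ : ∃ B, B = principalBlock M G := ⟨_, rfl⟩
  have hB : IsPBlock M B := hBdef ▸ isPBlock_principalBlock M
  obtain ⟨g, hg1, hg2, hg3⟩ := exists_isDefectClass hB
  have hgidx : ¬ p ∣ (Subgroup.centralizer ({g} : Set G)).index := by
    intro hd
    apply hg3 (trivIrr G) (hBdef ▸ trivIrr_mem_principalBlock M)
    have : centralChar ((trivIrr G : IrrCharacter G) : G → ℂ) g =
        (((Subgroup.centralizer ({g} : Set G)).index : ℕ) : ℂ) := by
      unfold centralChar
      rw [trivIrr_apply, trivIrr_apply]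
      simp
    rw [this]
    exact (memLocalIdeal_natCast_iff hM _).2 hd
  have hgreg : ¬ p ∣ orderOf g := by
    intro hd
    apply hg2
    rw [Cfsg.Agent.Helper16.blockCoeff_eq_zero_of_singular hM hB g hd]
    exact memLocalIdeal_zero hprime.ne_top
  refine ⟨g, hgreg, hgidx, fun μ => ?_⟩
  rw [← hBdef]
  set μf : P → ℂ := fun u => ((μ u : ℂˣ) : ℂ) with hμf
  have hcardP : (Nat.card P : ℂ) ≠ 0 := by
    exact_mod_cast (Nat.card_pos (α := P)).ne'
  have hcardG : (Nat.card G : ℂ) ≠ 0 := by
    exact_mod_cast (Nat.card_pos (α := G)).ne'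
  have hsumP : ∀ χ : IrrCharacter G, ∑ u : P, (χ : G → ℂ) u * conj (μf u) =
      (Nat.card P : ℂ) * classInner (fun u : P => (χ : G → ℂ) u) μf := by
    intro χ
    unfold classInner
    field_simp
    exact mul_comm _ _
  have hkey : ∑ χ ∈ (Set.toFinite B).toFinset,
      conj ((χ : G → ℂ) g) * ((Nat.card P : ℂ) *
        classInner (fun u : P => (χ : G → ℂ) u) μf) =
      (Nat.card G : ℂ) * blockCoeff B g := by
    calc ∑ χ ∈ (Set.toFinite B).toFinset, conj ((χ : G → ℂ) g) * ((Nat.card P : ℂ) *
          classInner (fun u : P => (χ : G → ℂ) u) μf)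
        = ∑ χ ∈ (Set.toFinite B).toFinset, ∑ u : P,
            conj (μf u) * (conj ((χ : G → ℂ) g) * (χ : G → ℂ) u) := by
          refine Finset.sum_congr rfl fun χ _ => ?_
          rw [← hsumP χ, Finset.mul_sum]
          refine Finset.sum_congr rfl fun u _ => ?_
          ring
      _ = ∑ u : P, conj (μf u) * ∑ χ ∈ (Set.toFinite B).toFinset,
            (conj ((χ : G → ℂ) g) * (χ : G → ℂ) u) := by
          rw [Finset.sum_comm]
          refine Finset.sum_congr rfl fun u _ => ?_
          rw [Finset.mul_sum]
      _ = conj (μf 1) * ∑ χ ∈ (Set.toFinite B).toFinset,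
            (conj ((χ : G → ℂ) g) * (χ : G → ℂ) ((1 : P) : G)) := by
          refine Finset.sum_eq_single (1 : P) ?_ (fun h => absurd (Finset.mem_univ _) h)
          intro u _ hu
          have hpu : p ∣ orderOf (u : G) := by
            obtain ⟨k, hk⟩ := (IsPGroup.iff_orderOf.1 P.2) u
            rw [Subgroup.orderOf_coe, hk]
            cases k with
            | zero =>
              exfalso
              rw [pow_zero, orderOf_eq_one_iff] at hk
              exact hu hk
            | succ k => exact dvd_pow_self p (Nat.succ_ne_zero k)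
          have hw := Cfsg.Agent.Helper16.weak_block_orthogonality hM hB g (u : G) hgreg hpu
          have hw2 : ∑ χ ∈ (Set.toFinite B).toFinset,
              (conj ((χ : G → ℂ) g) * (χ : G → ℂ) (u : G)) = 0 := by
            have := congrArg conj hw
            rw [map_sum, map_zero] at this
            rw [← this]
            refine Finset.sum_congr rfl fun χ _ => ?_
            rw [map_mul, Complex.conj_conj]
          rw [hw2, mul_zero]
      _ = (Nat.card G : ℂ) * blockCoeff B g := by
          rw [blockCoeff_eq_sum]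
          have h1 : μf 1 = 1 := by rw [hμf]; simp
          rw [h1, map_one, one_mul, ← mul_assoc, mul_inv_cancel₀ hcardG, one_mul]
          refine Finset.sum_congr rfl fun χ _ => ?_
          rw [Subgroup.coe_one]
          ring
  intro hS
  apply hg2
  have hidxP : ¬ p ∣ (P : Subgroup G).index := P.not_dvd_index
  have hci : (Nat.card G : ℂ) = (Nat.card P : ℂ) * (((P : Subgroup G).index : ℕ) : ℂ) := by
    rw [← (P : Subgroup G).card_mul_index]
    push_cast
    rfl
  have hidx0 : ¬ MemLocalIdeal M ((((P : Subgroup G).index : ℕ) : ℂ)) := fun h =>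
    hidxP ((memLocalIdeal_natCast_iff hM _).1 h)
  have hidxne : ((((P : Subgroup G).index : ℕ) : ℂ)) ≠ 0 := by
    intro h0
    apply hidx0
    rw [h0]
    exact memLocalIdeal_zero hprime.ne_top
  have hfin : blockCoeff B g = (∑ χ ∈ (Set.toFinite B).toFinset,
      conj ((χ : G → ℂ) g) * classInner (fun u : P => (χ : G → ℂ) u) μf) *
      ((((P : Subgroup G).index : ℕ) : ℂ))⁻¹ := by
    have h1 : (Nat.card P : ℂ) * ∑ χ ∈ (Set.toFinite B).toFinset,
        conj ((χ : G → ℂ) g) * classInner (fun u : P => (χ : G → ℂ) u) μf =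
        (Nat.card G : ℂ) * blockCoeff B g := by
      rw [← hkey, Finset.mul_sum]
      refine Finset.sum_congr rfl fun χ _ => ?_
      ring
    rw [hci] at h1
    field_simp
    have h2 := mul_left_cancel₀ hcardP (by rw [h1]; ring :
      (Nat.card P : ℂ) * ∑ χ ∈ (Set.toFinite B).toFinset,
        conj ((χ : G → ℂ) g) * classInner (fun u : P => (χ : G → ℂ) u) μf =
      (Nat.card P : ℂ) * ((((P : Subgroup G).index : ℕ) : ℂ) * blockCoeff B g))
    rw [h2]
    ring
  rw [hfin]
  exact memLocalIdeal_mul_right hS
    (memLocalRing_inv (memLocalRing_natCast _) hidx0)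

end

section fixed

variable {p : ℕ} {M : Ideal AlgInt}

open Cfsg.Agent.Helper77 in
/-- Sum of an invariant local-ring valued function over a finite set with a permutation of
`p`-power order: if the values at the fixed points lie in the local ideal, so does the sum. -/
theorem memLocalIdeal_sum_of_fixedPoints [Fact p.Prime] (hM : IsPModular p M)
    {X : Type*} [Fintype X] [DecidableEq X] (f : Function.End X) (N : ℕ) (hf : f ^ p ^ N = 1)
    (F : X → ℂ) (hFR : ∀ x, MemLocalRing M (F x)) (hinv : ∀ x, F (f x) = F x)
    (hfix : ∀ x, f x = x → MemLocalIdeal M (F x)) : MemLocalIdeal M (∑ x, F x) := by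
  classical
  have hprime := isPrime_of_isPModular hM
  have h1 := Finset.sum_comp (s := (Finset.univ : Finset X)) (fun v : ℂ => v) F
  rw [h1]
  apply memLocalIdeal_sum
  intro v hv
  obtain ⟨x₀, -, hx₀⟩ := Finset.mem_image.1 hv
  have hvR : MemLocalRing M v := hx₀ ▸ hFR x₀
  rw [nsmul_eq_mul]
  by_cases hvI : MemLocalIdeal M v
  · exact memLocalIdeal_mul_left (memLocalRing_natCast _) hvI
  · apply memLocalIdeal_mul_right _ hvR
    rw [memLocalIdeal_natCast_iff hM]
    -- the fibre has no fixed points
    let Xv := {x : X // F x = v}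
    let fv : Function.End Xv := fun x => ⟨f x.1, (hinv x.1).trans x.2⟩
    have hiter : ∀ (j : ℕ) (x : Xv), (((fv ^ j) x : Xv) : X) = (f ^ j) x.1 := by
      intro j
      induction j with
      | zero => intro x; rfl
      | succ j ih =>
        intro x
        rw [pow_succ', pow_succ']
        change f (((fv ^ j) x : Xv) : X) = f ((f ^ j) x.1)
        rw [ih]
    have hfv : fv ^ p ^ N = 1 := by
      funext x
      apply Subtype.ext
      rw [hiter, hf]
      rfl
    have hmod := Equiv.Perm.card_fixedPoints_modEq (p := p) (n := N) hfv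
    have hempty : Fintype.card (Function.fixedPoints fv) = 0 := by
      rw [Fintype.card_eq_zero_iff]
      constructor
      rintro ⟨x, hx⟩
      apply hvI
      have h2 : f x.1 = x.1 := congrArg Subtype.val hx
      have := hfix x.1 h2
      rw [x.2] at this
      exact this
    rw [hempty] at hmod
    have hcard : Fintype.card Xv = (Finset.univ.filter (fun a : X => F a = v)).card :=
      Fintype.card_subtype _
    rw [← hcard]
    exact (Nat.modEq_zero_iff_dvd).1 hmod

end fixed

section extend

open Cfsg.Agent.Helper77 in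
/-- If every linear character of exponent `p` of a Sylow `p`-subgroup `P` extends to a linear
character of `G`, then `G` has a normal `p`-complement (focal subgroup inside the Frattini
subgroup, Tate). -/
theorem hasNormalPComplement_of_hom_extends {G : Type*} [Group G] [Finite G] {p : ℕ}
    [Fact p.Prime] (P : Sylow p G)
    (h : ∀ μ : P →* ℂˣ, (∀ u, μ u ^ p = 1) → ∃ lam : G →* ℂˣ, ∀ u : P, lam (u : G) = μ u) :
    HasNormalPComplement p G := by
  classical
  have hp : p.Prime := Fact.out
  apply Cfsg.Agent.Helper50.hasNormalPComplement_of_focal_le_frattini P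
  rw [← Subgroup.map_focalSubgroupOf]
  apply Subgroup.map_mono
  rw [Subgroup.focalSubgroupOf_eq_closure, Subgroup.closure_le]
  rintro y ⟨x, hx, u, hy⟩
  show y ∈ frattini P
  unfold frattini Order.radical
  simp only [Subgroup.mem_iInf]
  intro K hK
  by_contra hyK
  have hKc : IsCoatom K := hK
  have hidx := Cfsg.Agent.Helper48.index_of_isCoatom_of_isPGroup P.2 hKc
  haveI : Group.IsNilpotent P := P.2.isNilpotent
  haveI hKn : K.Normal :=
    Subgroup.NormalizerCondition.normal_of_coatom (H := K)
      Group.normalizerCondition_of_isNilpotent hKc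
  have hcardQ : Nat.card (P ⧸ K) = p := by
    rw [← Subgroup.index_eq_card]
    exact hidx
  haveI : IsCyclic (P ⧸ K) := isCyclic_of_prime_card hcardQ
  letI : CommGroup (P ⧸ K) := IsCyclic.commGroup
  have hne : (QuotientGroup.mk y : P ⧸ K) ≠ 1 := fun h1 =>
    hyK ((QuotientGroup.eq_one_iff y).1 h1)
  obtain ⟨φ, hφ⟩ := CommGroup.exists_apply_ne_one_of_hasEnoughRootsOfUnity (P ⧸ K) ℂ hne
  obtain ⟨lam, hlam⟩ := h (φ.comp (QuotientGroup.mk' K)) (by
    intro v
    rw [MonoidHom.comp_apply, ← map_pow]
    have : ((QuotientGroup.mk' K) v) ^ p = 1 := by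
      have h2 := pow_card_eq_one' (G := P ⧸ K) (x := (QuotientGroup.mk' K) v)
      rwa [hcardQ] at h2
    rw [this, map_one])
  apply hφ
  have h1 := hlam y
  rw [hy, map_commutatorElement] at h1
  rw [commutatorElement_eq_one_iff_commute.2 (Commute.all _ _)] at h1
  exact h1.symm

end extend

end Cfsg.Agent.Helper81
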