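import Cfsg.Agent.Lib.Helper81.CharDetSolv
set_option autoImplicit false
set_option linter.style.haveILetI false
set_option linter.unusedSectionVars false
namespace Cfsg.Agent.Helper81
open Representation
open scoped ComplexConjugate
open scoped IsMulCommutative
universe u v w

section transfersplit
variable {G : Type u} [Group G] {M : Type v} [Group M]

theorem exists_transfer_hom (N : Subgroup G) (hN : N.Normal) (ν : N →* M)
    (Γ : Subgroup (G × M))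
    (hΓ1 : ∀ g : G, ∃ m : M, (g, m) ∈ Γ)
    (hΓ3 : ∀ m : M, ((1 : G), m) ∈ Γ → m ∈ Subgroup.center M)
    (hΓN : ∀ n : N, ((n : G), ν n) ∈ Γ)
    (hΓconj : ∀ γ ∈ Γ, ∀ n : N,
      γ.2 * ν n * γ.2⁻¹ = ν ⟨γ.1 * n * γ.1⁻¹, hN.conj_mem n n.2 γ.1⟩)
    (P : Subgroup G) [hPfin : P.FiniteIndex] (hNP : N ≤ P) (σ : P →* M)
    (hσΓ : ∀ x : P, ((x : G), σ x) ∈ Γ) (hσN : ∀ n : N, σ ⟨n, hNP n.2⟩ = ν n) :
    ∃ τ : Γ →* Subgroup.center M,
      (∀ (z : M) (_ : z ∈ Subgroup.center M) (hmem : ((1 : G), z) ∈ Γ),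
        ((τ ⟨(1, z), hmem⟩ : Subgroup.center M) : M) = z ^ P.index) ∧
      (∀ n : N, τ ⟨((n : G), ν n), hΓN n⟩ = 1) := by
  classical
  let π : Γ →* G := (MonoidHom.fst G M).comp Γ.subtype
  have hπ : Function.Surjective π := by
    intro g
    obtain ⟨m, hm⟩ := hΓ1 g
    exact ⟨⟨(g, m), hm⟩, rfl⟩
  let H : Subgroup Γ := Subgroup.comap π P
  have hHidx : H.index = P.index := Subgroup.index_comap_of_surjective P hπ
  haveI : H.FiniteIndex := ⟨by rw [hHidx]; exact hPfin.index_ne_zero⟩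
  -- the homomorphism ϕ
  have hcentral : ∀ γ : H, (γ : Γ).1.2 * (σ ⟨(γ : Γ).1.1, γ.2⟩)⁻¹ ∈ Subgroup.center M := by
    intro γ
    apply hΓ3
    have h1 : ((γ : Γ) : G × M) ∈ Γ := (γ : Γ).2
    have h2 := hσΓ ⟨(γ : Γ).1.1, γ.2⟩
    have h3 := Γ.mul_mem h1 (Γ.inv_mem h2)
    have h4 : ((γ : Γ) : G × M) * ((((⟨(γ : Γ).1.1, γ.2⟩ : P) : G), σ ⟨(γ : Γ).1.1, γ.2⟩))⁻¹ =
        ((1 : G), (γ : Γ).1.2 * (σ ⟨(γ : Γ).1.1, γ.2⟩)⁻¹) := by
      ext
      · simp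
      · simp
    rwa [h4] at h3
  let ϕ : H →* Subgroup.center M :=
    { toFun := fun γ => ⟨(γ : Γ).1.2 * (σ ⟨(γ : Γ).1.1, γ.2⟩)⁻¹, hcentral γ⟩
      map_one' := by
        apply Subtype.ext
        show (1 : M) * (σ ⟨(1 : G), _⟩)⁻¹ = 1
        have : (⟨(1 : G), P.one_mem⟩ : P) = 1 := rfl
        rw [this, map_one]
        simp
      map_mul' := by
        intro γ γ'
        apply Subtype.ext
        have hc := hcentral γ'
        show ((γ : Γ).1.2 * (γ' : Γ).1.2) * (σ ⟨(γ : Γ).1.1 * (γ' : Γ).1.1, _⟩)⁻¹ =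
          ((γ : Γ).1.2 * (σ ⟨(γ : Γ).1.1, γ.2⟩)⁻¹) * ((γ' : Γ).1.2 * (σ ⟨(γ' : Γ).1.1, γ'.2⟩)⁻¹)
        have h1 : (⟨(γ : Γ).1.1 * (γ' : Γ).1.1, P.mul_mem γ.2 γ'.2⟩ : P) =
            ⟨(γ : Γ).1.1, γ.2⟩ * ⟨(γ' : Γ).1.1, γ'.2⟩ := rfl
        rw [h1, map_mul, mul_inv_rev]
        rw [Subgroup.mem_center_iff] at hc
        have h2 := hc ((σ ⟨(γ : Γ).1.1, γ.2⟩)⁻¹)
        calc (γ : Γ).1.2 * (γ' : Γ).1.2 * ((σ ⟨(γ' : Γ).1.1, γ'.2⟩)⁻¹ * (σ ⟨(γ : Γ).1.1, γ.2⟩)⁻¹)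
            = (γ : Γ).1.2 * (((γ' : Γ).1.2 * (σ ⟨(γ' : Γ).1.1, γ'.2⟩)⁻¹) *
                (σ ⟨(γ : Γ).1.1, γ.2⟩)⁻¹) := by simp only [mul_assoc]
          _ = (γ : Γ).1.2 * ((σ ⟨(γ : Γ).1.1, γ.2⟩)⁻¹ *
                ((γ' : Γ).1.2 * (σ ⟨(γ' : Γ).1.1, γ'.2⟩)⁻¹)) := by rw [h2]
          _ = _ := by simp only [mul_assoc] }
  have hϕ : ∀ γ : H, ((ϕ γ : Subgroup.center M) : M) =
      (γ : Γ).1.2 * (σ ⟨(γ : Γ).1.1, γ.2⟩)⁻¹ := fun γ => rfl
  refine ⟨MonoidHom.transfer ϕ, ?_, ?_⟩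
  · intro z hz hmem
    have hzc := Subgroup.mem_center_iff.mp hz
    have hcomm : ∀ γ : Γ, γ * ⟨(1, z), hmem⟩ = ⟨(1, z), hmem⟩ * γ := by
      intro γ
      apply Subtype.ext
      ext
      · simp
      · show (γ : G × M).2 * z = z * (γ : G × M).2
        exact hzc _
    have key : ∀ (k : ℕ) (g₀ : Γ), g₀⁻¹ * (⟨(1, z), hmem⟩ : Γ) ^ k * g₀ ∈ H →
        g₀⁻¹ * (⟨(1, z), hmem⟩ : Γ) ^ k * g₀ = (⟨(1, z), hmem⟩ : Γ) ^ k := by
      intro k g₀ _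
      have h1 : Commute g₀ ((⟨(1, z), hmem⟩ : Γ) ^ k) := Commute.pow_right (hcomm g₀) k
      rw [mul_assoc, ← h1.eq, inv_mul_cancel_left]
    have hϕ1 : ∀ γ : H, (γ : Γ).1.1 = 1 → ((ϕ γ : Subgroup.center M) : M) = (γ : Γ).1.2 := by
      intro γ h1
      rw [hϕ]
      have h2 : (⟨(γ : Γ).1.1, γ.2⟩ : P) = 1 := Subtype.ext h1
      rw [h2, map_one, inv_one, mul_one]
    rw [MonoidHom.transfer_eq_pow ϕ _ key, hϕ1]
    · show (((⟨(1, z), hmem⟩ : Γ) ^ H.index : Γ) : G × M).2 = z ^ P.index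
      rw [hHidx]
      simp
    · show (((⟨(1, z), hmem⟩ : Γ) ^ H.index : Γ) : G × M).1 = 1
      simp
  · intro n
    have hϕN : ∀ (γ : H) (n' : N), (((γ : Γ) : G × M)) = ((n' : G), ν n') → ϕ γ = 1 := by
      intro γ n' heq
      apply Subtype.ext
      rw [hϕ]
      have h1 : (γ : Γ).1.1 = n' := congrArg Prod.fst heq
      have h2 : (γ : Γ).1.2 = ν n' := congrArg Prod.snd heq
      have h3 : (⟨(γ : Γ).1.1, γ.2⟩ : P) = ⟨n', hNP n'.2⟩ := Subtype.ext h1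
      rw [h3, hσN, h2]
      simp
    haveI : Finite (Γ ⧸ H) := Subgroup.finite_quotient_of_finiteIndex
    haveI : Fintype (Quotient (MulAction.orbitRel
        (Subgroup.zpowers (⟨((n : G), ν n), hΓN n⟩ : Γ)) (Γ ⧸ H))) := Fintype.ofFinite _
    rw [MonoidHom.transfer_eq_prod_quotient_orbitRel_zpowers_quot]
    apply Finset.prod_eq_one
    intro q _
    set γ₀ : Γ := q.out.out with hγ₀
    set k := Function.minimalPeriod ((⟨((n : G), ν n), hΓN n⟩ : Γ) • ·) q.out with hk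
    have hmemN : (γ₀ : G × M).1⁻¹ * ((n ^ k : N) : G) * ((γ₀ : G × M).1⁻¹)⁻¹ ∈ N :=
      hN.conj_mem _ (n ^ k : N).2 _
    apply hϕN _ ⟨_, hmemN⟩
    have hconj := hΓconj (γ₀⁻¹ : Γ).1 (γ₀⁻¹ : Γ).2 (n ^ k)
    ext
    · show (γ₀ : G × M).1⁻¹ * ((n : G)) ^ k * (γ₀ : G × M).1 = _
      simp
    · show (γ₀ : G × M).2⁻¹ * (ν n) ^ k * (γ₀ : G × M).2 = ν ⟨_, hmemN⟩
      have h5 : ((γ₀⁻¹ : Γ) : G × M).2 = (γ₀ : G × M).2⁻¹ := rfl
      have h6 : ((γ₀⁻¹ : Γ) : G × M).1 = (γ₀ : G × M).1⁻¹ := rfl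
      rw [h5, inv_inv, map_pow] at hconj
      rw [hconj]
      congr 1

theorem prod_zpow_const_base {A : Type*} [CommGroup A] {ι : Type*} (s : Finset ι) (c : A)
    (e : ι → ℤ) : ∏ i ∈ s, c ^ e i = c ^ ∑ i ∈ s, e i := by
  classical
  induction s using Finset.induction_on with
  | empty => simp
  | insert i s hi ih => rw [Finset.prod_insert hi, Finset.sum_insert hi, ih, zpow_add]

theorem exists_hom_of_local_homs (N : Subgroup G) (hN : N.Normal) (ν : N →* M)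
    (Γ : Subgroup (G × M))
    (hΓ1 : ∀ g : G, ∃ m : M, (g, m) ∈ Γ)
    (hΓ2 : ∀ z ∈ Subgroup.center M, ((1 : G), z) ∈ Γ)
    (hΓ3 : ∀ m : M, ((1 : G), m) ∈ Γ → m ∈ Subgroup.center M)
    (hΓN : ∀ n : N, ((n : G), ν n) ∈ Γ)
    (hΓconj : ∀ γ ∈ Γ, ∀ n : N,
      γ.2 * ν n * γ.2⁻¹ = ν ⟨γ.1 * n * γ.1⁻¹, hN.conj_mem n n.2 γ.1⟩)
    {ι : Type w} (s : Finset ι) (P : ι → Subgroup G) (hPfin : ∀ i ∈ s, (P i).FiniteIndex)
    (hNP : ∀ i ∈ s, N ≤ P i) (σ : ∀ i, P i →* M)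
    (hσΓ : ∀ i ∈ s, ∀ x : P i, ((x : G), σ i x) ∈ Γ)
    (hσN : ∀ i ∈ s, ∀ (n : N) (h : (n : G) ∈ P i), σ i ⟨n, h⟩ = ν n)
    (a : ι → ℤ) (ha : ∑ i ∈ s, ((P i).index : ℤ) * a i = 1) :
    ∃ σG : G →* M, (∀ n : N, σG n = ν n) ∧ ∀ g, (g, σG g) ∈ Γ := by
  classical
  have hτ : ∀ i, ∃ τ : Γ →* Subgroup.center M, i ∈ s →
      ((∀ (z : M) (_ : z ∈ Subgroup.center M) (hmem : ((1 : G), z) ∈ Γ),
        ((τ ⟨(1, z), hmem⟩ : Subgroup.center M) : M) = z ^ (P i).index) ∧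
      (∀ n : N, τ ⟨((n : G), ν n), hΓN n⟩ = 1)) := by
    intro i
    by_cases hi : i ∈ s
    · haveI := hPfin i hi
      obtain ⟨τ, h1, h2⟩ := exists_transfer_hom N hN ν Γ hΓ1 hΓ3 hΓN hΓconj (P i) (hNP i hi) (σ i)
        (hσΓ i hi) (fun n => hσN i hi n _)
      exact ⟨τ, fun _ => ⟨h1, h2⟩⟩
    · exact ⟨1, fun h => absurd h hi⟩
  choose τ hτ using hτ
  let τtot : Γ →* Subgroup.center M :=
    { toFun := fun γ => ∏ i ∈ s, (τ i γ) ^ (a i)
      map_one' := by simp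
      map_mul' := by
        intro x y
        simp only [map_mul, mul_zpow, Finset.prod_mul_distrib] }
  have hτtot : ∀ γ, τtot γ = ∏ i ∈ s, (τ i γ) ^ (a i) := fun γ => rfl
  have hτz : ∀ (z : M) (hz : z ∈ Subgroup.center M) (hmem : ((1 : G), z) ∈ Γ),
      τtot ⟨(1, z), hmem⟩ = ⟨z, hz⟩ := by
    intro z hz hmem
    rw [hτtot]
    have h1 : ∀ i ∈ s, (τ i ⟨(1, z), hmem⟩) ^ (a i) =
        (⟨z, hz⟩ : Subgroup.center M) ^ (((P i).index : ℤ) * a i) := by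
      intro i hi
      have h2 : τ i ⟨(1, z), hmem⟩ = (⟨z, hz⟩ : Subgroup.center M) ^ (P i).index := by
        apply Subtype.ext
        rw [(hτ i hi).1 z hz hmem]
        simp
      rw [h2, zpow_mul, zpow_natCast]
    rw [Finset.prod_congr rfl h1, prod_zpow_const_base, ha, zpow_one]
  have hτN : ∀ n : N, τtot ⟨((n : G), ν n), hΓN n⟩ = 1 := by
    intro n
    rw [hτtot]
    apply Finset.prod_eq_one
    intro i hi
    rw [(hτ i hi).2 n, one_zpow]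
  choose mm hmm using hΓ1
  let F : G → M := fun g => mm g * ((τtot ⟨(g, mm g), hmm g⟩ : Subgroup.center M) : M)⁻¹
  have hcent : ∀ (c : Subgroup.center M) (x : M), x * (c : M) = (c : M) * x := fun c x =>
    Subgroup.mem_center_iff.mp c.2 x
  have key : ∀ (g : G) (m : M) (h : (g, m) ∈ Γ),
      m * ((τtot ⟨(g, m), h⟩ : Subgroup.center M) : M)⁻¹ = F g := by
    intro g m h
    have hz : ((1 : G), (mm g)⁻¹ * m) ∈ Γ := by
      have h1 := Γ.mul_mem (Γ.inv_mem (hmm g)) h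
      have h2 : ((g, mm g) : G × M)⁻¹ * (g, m) = ((1 : G), (mm g)⁻¹ * m) := by
        ext <;> simp
      rwa [h2] at h1
    have hzc := hΓ3 _ hz
    have h3 : (⟨(g, m), h⟩ : Γ) = ⟨(g, mm g), hmm g⟩ * ⟨(1, (mm g)⁻¹ * m), hz⟩ := by
      apply Subtype.ext
      ext <;> simp
    rw [h3, map_mul, hτz _ hzc hz]
    show m * (((τtot ⟨(g, mm g), hmm g⟩ : Subgroup.center M) : M) * ((mm g)⁻¹ * m))⁻¹ = F g
    rw [mul_inv_rev, mul_inv_rev, inv_inv]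
    simp only [← mul_assoc]
    rw [mul_inv_cancel, one_mul]
  refine ⟨{ toFun := F, map_one' := ?_, map_mul' := ?_ }, ?_, ?_⟩
  · have h1 := key 1 1 Γ.one_mem
    rw [← h1]
    have : (⟨((1 : G), (1 : M)), Γ.one_mem⟩ : Γ) = 1 := rfl
    rw [this, map_one]
    simp
  · intro g g'
    have hmem : (g * g', mm g * mm g') ∈ Γ := Γ.mul_mem (hmm g) (hmm g')
    have h1 := key (g * g') (mm g * mm g') hmem
    rw [← h1]
    have h2 : (⟨(g * g', mm g * mm g'), hmem⟩ : Γ) =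
        ⟨(g, mm g), hmm g⟩ * ⟨(g', mm g'), hmm g'⟩ := rfl
    rw [h2, map_mul]
    show mm g * mm g' * (((τtot ⟨(g, mm g), hmm g⟩ : Subgroup.center M) : M) *
      ((τtot ⟨(g', mm g'), hmm g'⟩ : Subgroup.center M) : M))⁻¹ = F g * F g'
    rw [mul_inv_rev]
    show _ = mm g * ((τtot ⟨(g, mm g), hmm g⟩ : Subgroup.center M) : M)⁻¹ *
      (mm g' * ((τtot ⟨(g', mm g'), hmm g'⟩ : Subgroup.center M) : M)⁻¹)
    have hc := hcent (τtot ⟨(g, mm g), hmm g⟩)⁻¹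
    have hc' : ∀ x : M, x * ((τtot ⟨(g, mm g), hmm g⟩ : Subgroup.center M) : M)⁻¹ =
        ((τtot ⟨(g, mm g), hmm g⟩ : Subgroup.center M) : M)⁻¹ * x := by
      intro x
      have := hc x
      simpa using this
    calc mm g * mm g' * ((((τtot ⟨(g', mm g'), hmm g'⟩ : Subgroup.center M) : M))⁻¹ *
          (((τtot ⟨(g, mm g), hmm g⟩ : Subgroup.center M) : M))⁻¹)
        = mm g * ((mm g' * (((τtot ⟨(g', mm g'), hmm g'⟩ : Subgroup.center M) : M))⁻¹) *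
          (((τtot ⟨(g, mm g), hmm g⟩ : Subgroup.center M) : M))⁻¹) := by simp only [mul_assoc]
      _ = mm g * ((((τtot ⟨(g, mm g), hmm g⟩ : Subgroup.center M) : M))⁻¹ *
          (mm g' * (((τtot ⟨(g', mm g'), hmm g'⟩ : Subgroup.center M) : M))⁻¹)) := by
          rw [hc' (mm g' * _)]
      _ = _ := by simp only [mul_assoc]
  · intro n
    show F n = ν n
    rw [← key n (ν n) (hΓN n), hτN n]
    simp
  · intro g
    show (g, F g) ∈ Γ
    have h1 := hΓ2 _ ((τtot ⟨(g, mm g), hmm g⟩)⁻¹ : Subgroup.center M).2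
    have h2 := Γ.mul_mem (hmm g) h1
    have h3 : ((g, mm g) : G × M) * ((1 : G), (((τtot ⟨(g, mm g), hmm g⟩)⁻¹ :
        Subgroup.center M) : M)) = (g, F g) := by
      ext
      · simp
      · show mm g * (((τtot ⟨(g, mm g), hmm g⟩)⁻¹ : Subgroup.center M) : M) = F g
        simp [F]
    rwa [h3] at h2

end transfersplit
section sylowext
variable {G : Type u} [Group G] [Finite G]

/-- An invariant irreducible representation of a normal subgroup is conjugated by a linear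
automorphism for every group element. -/
theorem exists_conj_unit (N : Subgroup G) (hN : N.Normal) {V : Type v} [AddCommGroup V]
    [Module ℂ V] [FiniteDimensional ℂ V] (ρ : Representation ℂ N V) [hρ : ρ.IsIrreducible]
    (hinv : ∀ (g : G) (n : N),
      ρ.character ⟨g * n * g⁻¹, hN.conj_mem n n.2 g⟩ = ρ.character n) (g : G) :
    ∃ b : (V →ₗ[ℂ] V)ˣ, ∀ n : N,
      b * MonoidHom.toHomUnits ρ n * b⁻¹ =
        MonoidHom.toHomUnits ρ ⟨g * n * g⁻¹, hN.conj_mem n n.2 g⟩ := by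
  classical
  haveI := hN
  haveI : Fintype N := Fintype.ofFinite N
  let c : N →* N := (MulAut.conjNormal g : MulAut N).toMonoidHom
  have hc : ∀ n : N, c n = ⟨g * n * g⁻¹, hN.conj_mem n n.2 g⟩ := fun n =>
    Subtype.ext (by simp [c, MulAut.conjNormal_apply])
  let ρ' : Representation ℂ N V := ρ.comp c
  haveI hρ' : ρ'.IsIrreducible :=
    isIrreducible_comp_of_surjective ρ c (MulAut.conjNormal g : MulAut N).surjective
  have hchar : ρ'.character = ρ.character := by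
    ext n
    have := hinv g n
    show ρ.character (c n) = _
    rw [hc]
    exact this
  have hE : Nonempty (ρ'.Equiv ρ) := by
    have h1 := classInner_rep_eq ρ ρ'
    have h2 := classInner_rep_eq ρ ρ
    rw [if_pos ⟨Representation.Equiv.refl ρ⟩] at h2
    rw [hchar, h2] at h1
    by_contra hne
    rw [if_neg hne] at h1
    exact one_ne_zero h1
  obtain ⟨E⟩ := hE
  let e : V ≃ₗ[ℂ] V := E.toLinearEquiv
  have hE2 : ∀ n v, e (ρ (c n) v) = ρ n (e v) := fun n v =>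
    IntertwiningMap.isIntertwining _ _ E.toIntertwiningMap n v
  let b₀ : (V →ₗ[ℂ] V)ˣ :=
    ⟨e.symm.toLinearMap, e.toLinearMap, by ext v; simp, by ext v; simp⟩
  refine ⟨b₀, fun n => ?_⟩
  apply Units.ext
  rw [← hc]
  ext v
  show e.symm (ρ n (e v)) = ρ (c n) v
  rw [← hE2, e.symm_apply_apply]

/-- An irreducible character of `P ≥ N` extending the character of `ρ` yields a homomorphism
`P → GL(V)` extending `ρ` on the same space. -/
theorem exists_hom_of_extension_char (N P : Subgroup G) (hNP : N ≤ P) {V : Type v}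
    [AddCommGroup V] [Module ℂ V] [FiniteDimensional ℂ V] (ρ : Representation ℂ N V)
    [hρ : ρ.IsIrreducible] {η : P → ℂ} (hη : IsIrrCharacter P η)
    (hηres : ∀ n : N, η ⟨n, hNP n.2⟩ = ρ.character n) :
    ∃ σ : P →* (V →ₗ[ℂ] V)ˣ, ∀ n : N, σ ⟨n, hNP n.2⟩ = MonoidHom.toHomUnits ρ n := by
  classical
  haveI : Fintype N := Fintype.ofFinite N
  obtain ⟨k, τ, hτ, rfl⟩ := hη
  let τN : Representation ℂ N (Fin k → ℂ) := τ.comp (Subgroup.inclusion hNP)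
  have hchar : τN.character = ρ.character := by
    ext n
    exact hηres n
  haveI : τN.IsIrreducible := by
    apply isIrreducible_of_character_irr
    rw [hchar]
    exact isIrrCharacter_of_rep ρ
  have hE : Nonempty (τN.Equiv ρ) := by
    have h1 := classInner_rep_eq ρ τN
    have h2 := classInner_rep_eq ρ ρ
    rw [if_pos ⟨Representation.Equiv.refl ρ⟩] at h2
    rw [hchar, h2] at h1
    by_contra hne
    rw [if_neg hne] at h1
    exact one_ne_zero h1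
  obtain ⟨E⟩ := hE
  let e : (Fin k → ℂ) ≃ₗ[ℂ] V := E.toLinearEquiv
  have hE2 : ∀ n v, e (τN n v) = ρ n (e v) := fun n v =>
    IntertwiningMap.isIntertwining _ _ E.toIntertwiningMap n v
  refine ⟨MonoidHom.toHomUnits (conjRep τ e), fun n => ?_⟩
  apply Units.ext
  ext v
  show (conjRep τ e ⟨n, hNP n.2⟩) v = ρ n v
  rw [conjRep_apply, LinearEquiv.conj_apply]
  show e (τN n (e.symm v)) = ρ n v
  rw [hE2, e.apply_symm_apply]

/-- An invariant irreducible character that extends to a subgroup of index prime to `p` for every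
prime `p` extends to the whole group. -/
theorem exists_extension_of_sylow (N : Subgroup G) (hN : N.Normal) {ϑ : N → ℂ}
    (hϑ : IsIrrCharacter N ϑ)
    (hinv : ∀ (g : G) (n : N), ϑ ⟨g * n * g⁻¹, hN.conj_mem n n.2 g⟩ = ϑ n)
    (hsyl : ∀ p : ℕ, p.Prime → ∃ (P : Subgroup G) (hNP : N ≤ P) (η : P → ℂ),
      Nat.Coprime P.index p ∧ IsIrrCharacter P η ∧ ∀ n : N, η ⟨(n : G), hNP n.2⟩ = ϑ n) :
    ∃ χ : G → ℂ, IsIrrCharacter G χ ∧ ∀ n : N, χ n = ϑ n := by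
  classical
  haveI := hN
  by_cases hNtop : N = ⊤
  · subst hNtop
    let e : G ≃* (⊤ : Subgroup G) := Subgroup.topEquiv.symm
    refine ⟨fun g => ϑ (e g), isIrrCharacter_comp_equiv e hϑ, ?_⟩
    intro n
    congr 1
  obtain ⟨k, ρ, hρ, rfl⟩ := hϑ
  haveI := hρ
  haveI := nontrivial_of_isIrreducible ρ
  let ν : N →* ((Fin k → ℂ) →ₗ[ℂ] (Fin k → ℂ))ˣ := MonoidHom.toHomUnits ρ
  have hν : ∀ n : N, ((ν n : ((Fin k → ℂ) →ₗ[ℂ] (Fin k → ℂ))ˣ) :
      (Fin k → ℂ) →ₗ[ℂ] (Fin k → ℂ)) = ρ n := fun n => rfl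
  let Γ : Subgroup (G × ((Fin k → ℂ) →ₗ[ℂ] (Fin k → ℂ))ˣ) :=
    { carrier := {p | ∀ n : N, p.2 * ν n * p.2⁻¹ = ν ⟨p.1 * n * p.1⁻¹, hN.conj_mem n n.2 p.1⟩}
      one_mem' := fun n => by simp
      mul_mem' := by
        rintro ⟨x, y⟩ ⟨x', y'⟩ hy hy' n
        have h1 := hy ⟨x' * n * x'⁻¹, hN.conj_mem n n.2 x'⟩
        rw [← hy' n] at h1
        have h2 : (⟨x * x' * n * (x * x')⁻¹, hN.conj_mem n n.2 (x * x')⟩ : N) =
            ⟨x * (x' * n * x'⁻¹) * x⁻¹, hN.conj_mem _ (hN.conj_mem n n.2 x') x⟩ := by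
          apply Subtype.ext
          simp [mul_assoc]
        show y * y' * ν n * (y * y')⁻¹ = ν ⟨x * x' * n * (x * x')⁻¹, _⟩
        rw [h2, ← h1]
        simp [mul_assoc]
      inv_mem' := by
        rintro ⟨x, y⟩ hy n
        have h1 := hy ⟨x⁻¹ * n * x⁻¹⁻¹, hN.conj_mem n n.2 x⁻¹⟩
        have h2 : (⟨x * (x⁻¹ * n * x⁻¹⁻¹) * x⁻¹, hN.conj_mem _ (hN.conj_mem n n.2 x⁻¹) x⟩ : N)
            = n := by
          apply Subtype.ext
          simp [mul_assoc]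
        rw [h2] at h1
        show y⁻¹ * ν n * y⁻¹⁻¹ = ν ⟨x⁻¹ * n * x⁻¹⁻¹, _⟩
        rw [← h1]
        simp [mul_assoc] }
  have hΓmem : ∀ p : G × ((Fin k → ℂ) →ₗ[ℂ] (Fin k → ℂ))ˣ, p ∈ Γ ↔
      ∀ n : N, p.2 * ν n * p.2⁻¹ = ν ⟨p.1 * n * p.1⁻¹, hN.conj_mem n n.2 p.1⟩ := fun p => Iff.rfl
  have hΓ1 : ∀ g : G, ∃ m, (g, m) ∈ Γ := by
    intro g
    obtain ⟨b, hb⟩ := exists_conj_unit N hN ρ hinv g
    exact ⟨b, (hΓmem _).mpr hb⟩
  have hΓ2 : ∀ z ∈ Subgroup.center ((Fin k → ℂ) →ₗ[ℂ] (Fin k → ℂ))ˣ, ((1 : G), z) ∈ Γ := by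
    intro z hz
    rw [hΓmem]
    intro n
    have hzc := Subgroup.mem_center_iff.mp hz (ν n)
    show z * ν n * z⁻¹ = ν ⟨1 * n * 1⁻¹, _⟩
    have h1 : (⟨1 * (n : G) * 1⁻¹, hN.conj_mem n n.2 1⟩ : N) = n := Subtype.ext (by simp)
    rw [h1, ← hzc, mul_inv_cancel_right]
  have hΓ3 : ∀ m, ((1 : G), m) ∈ Γ →
      m ∈ Subgroup.center ((Fin k → ℂ) →ₗ[ℂ] (Fin k → ℂ))ˣ := by
    intro m hm
    rw [hΓmem] at hm
    have hcomm : ∀ n : N, m * ν n = ν n * m := by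
      intro n
      have h1 := hm n
      have h2 : (⟨1 * (n : G) * 1⁻¹, hN.conj_mem n n.2 1⟩ : N) = n := Subtype.ext (by simp)
      simp only [h2] at h1
      calc m * ν n = m * ν n * m⁻¹ * m := by simp
        _ = ν n * m := by rw [h1]
    obtain ⟨c, hc⟩ := schur_scalar ρ (m : (Fin k → ℂ) →ₗ[ℂ] (Fin k → ℂ)) (fun n => by
      have := congrArg Units.val (hcomm n)
      exact this)
    rw [Subgroup.mem_center_iff]
    intro x
    apply Units.ext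
    rw [Units.val_mul, Units.val_mul, hc]
    ext v
    simp
  have hΓN : ∀ n : N, ((n : G), ν n) ∈ Γ := by
    intro n
    rw [hΓmem]
    intro n'
    show ν n * ν n' * (ν n)⁻¹ = ν ⟨n * n' * (n : G)⁻¹, _⟩
    rw [← map_mul, ← map_inv, ← map_mul]
    rfl
  have hΓconj : ∀ γ ∈ Γ, ∀ n : N,
      γ.2 * ν n * γ.2⁻¹ = ν ⟨γ.1 * n * γ.1⁻¹, hN.conj_mem n n.2 γ.1⟩ := fun γ hγ => hγ
  -- the local extensions
  have hloc : ∀ p : ℕ, ∃ (P : Subgroup G) (σ : P →* ((Fin k → ℂ) →ₗ[ℂ] (Fin k → ℂ))ˣ),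
      p.Prime → (N ≤ P ∧ Nat.Coprime P.index p ∧ (∀ x : P, ((x : G), σ x) ∈ Γ) ∧
        ∀ (n : N) (h : (n : G) ∈ P), σ ⟨n, h⟩ = ν n) := by
    intro p
    by_cases hp : p.Prime
    · obtain ⟨P, hNP, η, hcop, hη, hηres⟩ := hsyl p hp
      obtain ⟨σ, hσ⟩ := exists_hom_of_extension_char N P hNP ρ hη hηres
      refine ⟨P, σ, fun _ => ⟨hNP, hcop, ?_, fun n h => hσ n⟩⟩
      intro x
      rw [hΓmem]
      intro n
      show σ x * ν n * (σ x)⁻¹ = ν ⟨x * n * (x : G)⁻¹, _⟩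
      have hmemN : (x : G) * n * (x : G)⁻¹ ∈ N := hN.conj_mem n n.2 x
      have h1 := hσ ⟨(x : G) * n * (x : G)⁻¹, hmemN⟩
      rw [← hσ n, ← map_inv, ← map_mul, ← map_mul]
      rw [← h1]
      rfl
    · exact ⟨⊤, 1, fun h => absurd h hp⟩
  choose P σ hPσ using hloc
  -- Bezout
  let s : Finset ℕ := N.index.primeFactors
  have hidx0 : N.index ≠ 0 := Subgroup.index_ne_zero_of_finite
  have hidx1 : N.index ≠ 1 := fun h => hNtop (Subgroup.index_eq_one.mp h)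
  have hsprime : ∀ p ∈ s, p.Prime := fun p hp => Nat.prime_of_mem_primeFactors hp
  obtain ⟨gco, hgco⟩ := Finset.gcd_eq_sum_mul s (fun p => ((P p).index : ℤ))
  have hd1 : (s.gcd (fun p => ((P p).index : ℤ))).natAbs = 1 := by
    by_contra hne
    obtain ⟨r, hr, hrd⟩ := Nat.exists_prime_and_dvd hne
    have hrall : ∀ p ∈ s, r ∣ (P p).index := by
      intro p hp
      have h1 : s.gcd (fun p => ((P p).index : ℤ)) ∣ ((P p).index : ℤ) := Finset.gcd_dvd hp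
      have h2 : (r : ℤ) ∣ s.gcd (fun p => ((P p).index : ℤ)) := Int.natCast_dvd.mpr hrd
      exact Int.natCast_dvd_natCast.mp (h2.trans h1)
    obtain ⟨p₀, hp₀, hp₀d⟩ := Nat.exists_prime_and_dvd hidx1
    have hp₀s : p₀ ∈ s := Nat.mem_primeFactors.mpr ⟨hp₀, hp₀d, hidx0⟩
    have hrN : r ∣ N.index :=
      (hrall p₀ hp₀s).trans (Subgroup.index_dvd_of_le (hPσ p₀ hp₀).1)
    have hrs : r ∈ s := Nat.mem_primeFactors.mpr ⟨hr, hrN, hidx0⟩
    have h3 := hrall r hrs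
    have h4 := (hPσ r hr).2.1
    have h5 : r ∣ 1 := by
      have := Nat.dvd_gcd h3 (dvd_refl r)
      rwa [h4] at this
    exact hr.one_lt.ne' (Nat.dvd_one.mp h5)
  have hbez : ∃ a : ℕ → ℤ, ∑ p ∈ s, ((P p).index : ℤ) * a p = 1 := by
    rcases Int.natAbs_eq (s.gcd (fun p => ((P p).index : ℤ))) with h | h
    · refine ⟨gco, ?_⟩
      rw [← hgco, h, hd1]; rfl
    · refine ⟨fun p => - gco p, ?_⟩
      have : ∑ p ∈ s, ((P p).index : ℤ) * -gco p = - ∑ p ∈ s, ((P p).index : ℤ) * gco p := by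
        rw [← Finset.sum_neg_distrib]
        apply Finset.sum_congr rfl
        intro p _
        ring
      rw [this, ← hgco, h, hd1]
      simp
  obtain ⟨a, ha⟩ := hbez
  obtain ⟨σG, hσGN, -⟩ := exists_hom_of_local_homs N hN ν Γ hΓ1 hΓ2 hΓ3 hΓN hΓconj s P
    (fun p _ => inferInstance) (fun p hp => (hPσ p (hsprime p hp)).1) σ
    (fun p hp => (hPσ p (hsprime p hp)).2.2.1) (fun p hp => (hPσ p (hsprime p hp)).2.2.2) a ha
  let σrep : Representation ℂ G (Fin k → ℂ) :=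
    (Units.coeHom ((Fin k → ℂ) →ₗ[ℂ] (Fin k → ℂ))).comp σG
  have hσrep : ∀ n : N, σrep (n : G) = ρ n := by
    intro n
    show ((σG (n : G) : ((Fin k → ℂ) →ₗ[ℂ] (Fin k → ℂ))ˣ) :
      (Fin k → ℂ) →ₗ[ℂ] (Fin k → ℂ)) = ρ n
    rw [hσGN n, hν]
  haveI : σrep.IsIrreducible := by
    apply isIrreducible_of_restrict σrep N
    have h1 : (σrep.comp N.subtype : Representation ℂ N (Fin k → ℂ)) = ρ := MonoidHom.ext hσrep
    rw [h1]
    exact hρ
  refine ⟨σrep.character, isIrrCharacter_of_rep σrep, ?_⟩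
  intro n
  show LinearMap.trace ℂ _ (σrep (n : G)) = LinearMap.trace ℂ _ (ρ n)
  rw [hσrep n]

end sylowext
end Cfsg.Agent.Helper81
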