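import Cfsg.Agent.Lib.Helper80.OddIndexReal
import Cfsg.Agent.Lib.Helper75.GaloisTwistChar
import Cfsg.Agent.Lib.Helper81.CharDetSolv
import Cfsg.Agent.Lib.Helper81.CharSylowExt
import Cfsg.Agent.Lib.Helper79.DegreeRatio
import Cfsg.Agent.Lib.Helper79.LinearChars
set_option autoImplicit false
set_option linter.style.haveILetI false
set_option linter.unusedSectionVars false
set_option maxHeartbeats 1000000
namespace Cfsg.Agent.Helper81
open scoped ComplexConjugate
open Cfsg.Agent.Helper80
universe u v w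

section galpow

/-- Hypotheses on the exponent `k` of a Galois power map of `2`-power order that inverts the
odd-order elements. -/
structure GalPow (G : Type u) [Group G] (k e : ℕ) : Prop where
  cop : Nat.Coprime k (Nat.card G)
  per : ∀ g : G, g ^ (k ^ 2 ^ e) = g
  inv : ∀ g : G, Odd (orderOf g) → g ^ k = g⁻¹

theorem GalPow.subgroup {G : Type u} [Group G] [Finite G] {k e : ℕ} (h : GalPow G k e)
    (H : Subgroup G) : GalPow H k e := by
  refine ⟨Nat.Coprime.coprime_dvd_right (Subgroup.card_subgroup_dvd_card H) h.cop, ?_, ?_⟩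
  · intro g
    apply Subtype.ext
    rw [Subgroup.coe_pow]
    exact h.per g
  · intro g hg
    apply Subtype.ext
    rw [Subgroup.coe_pow, Subgroup.coe_inv]
    apply h.inv
    rwa [Subgroup.orderOf_coe]

theorem GalPow.of_modEq {G : Type u} [Group G] [Finite G] {k e : ℕ}
    (hk : Nat.Coprime k (Nat.card G)) (hke : k ^ (2 ^ e) ≡ 1 [MOD Nat.card G])
    (hk₂ : ∀ g : G, Odd (orderOf g) → g ^ k = g⁻¹) : GalPow G k e := by
  refine ⟨hk, ?_, hk₂⟩
  intro g
  conv_rhs => rw [← pow_one g]
  rw [pow_eq_pow_iff_modEq]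
  exact hke.of_dvd (orderOf_dvd_natCard g)

/-- In a quotient of odd order the power map is inversion. -/
theorem GalPow.quot_pow {G : Type u} [Group G] [Finite G] {k e : ℕ} (h : GalPow G k e)
    (N : Subgroup G) [N.Normal] (hodd : Odd N.index) (g : G) :
    ((g : G ⧸ N)) ^ k = ((g : G ⧸ N))⁻¹ := by
  have hn0 : orderOf g ≠ 0 := (orderOf_pos g).ne'
  obtain ⟨a, m, hm, hnm⟩ := Nat.exists_eq_two_pow_mul_odd hn0
  have h1 : Odd (orderOf (g ^ 2 ^ a)) := by
    apply Odd.of_dvd_nat hm
    apply orderOf_dvd_of_pow_eq_one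
    rw [← pow_mul, ← hnm, pow_orderOf_eq_one]
  have h2 := h.inv _ h1
  set x : G ⧸ N := (g : G ⧸ N) with hx
  have h3 : x ^ (2 ^ a * (k + 1)) = 1 := by
    have : (g ^ 2 ^ a) ^ k * (g ^ 2 ^ a) = 1 := by rw [h2, inv_mul_cancel]
    have h4 : g ^ (2 ^ a * (k + 1)) = 1 := by
      rw [mul_add, mul_one, pow_add, pow_mul]
      exact this
    rw [hx, ← QuotientGroup.mk_pow, h4]
    rfl
  have h5 : orderOf x ∣ 2 ^ a * (k + 1) := orderOf_dvd_of_pow_eq_one h3
  have h6 : Odd (orderOf x) := by
    apply Odd.of_dvd_nat hodd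
    rw [Subgroup.index_eq_card]
    exact orderOf_dvd_natCard x
  have h7 : Nat.Coprime (orderOf x) (2 ^ a) := by
    apply Nat.Coprime.pow_right
    exact (Nat.coprime_two_right).mpr h6
  have h8 : orderOf x ∣ k + 1 := h7.dvd_of_dvd_mul_left h5
  have h9 : x ^ (k + 1) = 1 := orderOf_dvd_iff_pow_eq_one.mp h8
  rw [pow_succ] at h9
  exact eq_inv_of_mul_eq_one_left h9

end galpow

section twist

/-- The Galois twist of a function by the `k`-th power map. -/
def tw {H : Type u} [Monoid H] (k : ℕ) (φ : H → ℂ) : H → ℂ := fun h => φ (h ^ k)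

theorem tw_apply {H : Type u} [Monoid H] (k : ℕ) (φ : H → ℂ) (h : H) : tw k φ h = φ (h ^ k) := rfl

variable {G : Type u} [Group G]

theorem tw_irr [Finite G] {k : ℕ} (hk : Nat.Coprime k (Nat.card G)) {χ : G → ℂ}
    (hχ : IsIrrCharacter G χ) : IsIrrCharacter G (tw k χ) :=
  Cfsg.Agent.Helper75.galois_twist_irr ⟨χ, hχ⟩ k hk

theorem tw_char [Finite G] {k : ℕ} (hk : Nat.Coprime k (Nat.card G)) {χ : G → ℂ}
    (hχ : IsCharacter G χ) : IsCharacter G (tw k χ) :=
  Cfsg.Agent.Helper75.galois_twist_char hχ k hk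

theorem classInner_tw [Fintype G] {k : ℕ} (hk : Nat.Coprime k (Nat.card G)) (a b : G → ℂ) :
    classInner (tw k a) (tw k b) = classInner a b := by
  unfold classInner
  congr 1
  rw [← Equiv.sum_comp (powCoprime hk.symm) (fun m : G => a m * conj (b m))]
  rfl

theorem tw_restrict (N : Subgroup G) (k : ℕ) (χ : G → ℂ) :
    (fun n : N => tw k χ n) = tw k (fun n : N => χ n) := by
  funext n
  simp only [tw_apply, Subgroup.coe_pow]

theorem tw_conjFun (N : Subgroup G) (hN : N.Normal) (k : ℕ) (θ : N → ℂ) (g : G) :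
    conjFun N hN (tw k θ) g = tw k (conjFun N hN θ g) := by
  funext n
  simp only [tw_apply, conjFun_apply]
  congr 1
  apply Subtype.ext
  simp only [Subgroup.coe_pow]
  rw [conj_pow]

theorem tw_mul {H : Type u} [Monoid H] (k : ℕ) (a b : H → ℂ) : tw k (a * b) = tw k a * tw k b := rfl

theorem tw_iterate {H : Type u} [Monoid H] (k : ℕ) (j : ℕ) (φ : H → ℂ) :
    (tw k)^[j] φ = fun h => φ (h ^ (k ^ j)) := by
  induction j generalizing φ with
  | zero => funext h; simp
  | succ j ih =>
    rw [Function.iterate_succ_apply, ih]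
    funext h
    rw [tw_apply, ← pow_mul, pow_succ]

theorem tw_iterate_per {k e : ℕ} (hG : GalPow G k e) (φ : G → ℂ) : (tw k)^[2 ^ e] φ = φ := by
  rw [tw_iterate]
  funext h
  rw [hG.per]

end twist

section parity
variable {G : Type u} [Group G] [Fintype G] (N : Subgroup G) [hN : N.Normal] [Fintype N]

open Classical in
/-- General parity lemma: for a character `P` whose multiplicities over `G/N` (of odd order) are
invariant under complex conjugation of `Irr(G/N)`, the average of `P` over `N` is congruent mod 2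
to the multiplicity of the trivial character. -/
theorem restrict_avg_parity (hodd : Odd N.index) {P : G → ℂ} (hPch : IsCharacter G P)
    (hsym : ∀ β : IrrCharacter (G ⧸ N),
      classInner P (Helper79.inflate N (cconjIrr β) : G → ℂ) =
        classInner P (Helper79.inflate N β : G → ℂ)) :
    ∃ a t : ℕ, (Nat.card N : ℂ)⁻¹ * ∑ n : N, P n = (a : ℂ) ∧
      classInner P (fun _ => (1 : ℂ)) = (t : ℂ) ∧ (a : ZMod 2) = (t : ZMod 2) := by
  have := Fintype.ofFinite (IrrCharacter (G ⧸ N))
  have hoddQ : Odd (Nat.card (G ⧸ N)) := by rw [← Subgroup.index_eq_card]; exact hodd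
  have hex : ∀ β : IrrCharacter (G ⧸ N), ∃ k : ℕ,
      classInner P (Helper79.inflate N β : G → ℂ) = (k : ℂ) := fun β =>
    exists_nat_classInner_char hPch (isCharacter_of_irr (Helper79.inflate N β).2)
  choose m hm using hex
  have hmconj : ∀ β : IrrCharacter (G ⧸ N), m (cconjIrr β) = m β := by
    intro β
    have h1 := hsym β
    rw [hm, hm] at h1
    exact_mod_cast h1
  have hmtriv : classInner P (fun _ => (1 : ℂ)) = (m (trivialIrr (G ⧸ N)) : ℂ) := by
    rw [← hm]
    rfl
  refine ⟨∑ β : IrrCharacter (G ⧸ N), charDegree (β : G ⧸ N → ℂ) * m β,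
    m (trivialIrr (G ⧸ N)), ?_, hmtriv, ?_⟩
  · have h0 := restrict_avg_eq_sum_inflate N P
    rw [h0]
    push_cast
    apply Finset.sum_congr rfl
    intro β _
    rw [irr_one, ← hm β]
  · push_cast
    rw [← Finset.add_sum_erase Finset.univ _ (Finset.mem_univ (trivialIrr (G ⧸ N)))]
    have hz : ∑ β ∈ Finset.univ.erase (trivialIrr (G ⧸ N)),
        ((charDegree (β : G ⧸ N → ℂ) : ZMod 2) * (m β : ZMod 2)) = 0 := by
      refine Finset.sum_involution (fun β _ => cconjIrr β) ?_ ?_ ?_ (fun β _ => cconjIrr_cconjIrr β)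
      · intro β _
        rw [charDegree_cconjIrr, hmconj]
        exact CharTwo.add_self_eq_zero _
      · intro β hβ _ heq
        have hne := Finset.ne_of_mem_erase hβ
        exact hne (irr_trivial_of_real_of_odd hoddQ β ((cconjIrr_eq_self_iff β).1 heq))
      · intro β hβ
        have hne := Finset.ne_of_mem_erase hβ
        refine Finset.mem_erase.2 ⟨?_, Finset.mem_univ _⟩
        intro h
        apply hne
        have h2 := congrArg cconjIrr h
        rw [cconjIrr_cconjIrr] at h2
        rw [h2]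
        apply Subtype.ext
        funext q
        simp [trivialIrr_apply]
    rw [hz, add_zero]
    have hd1 : charDegree (trivialIrr (G ⧸ N) : G ⧸ N → ℂ) = 1 := by
      unfold charDegree
      simp [trivialIrr_apply]
    rw [hd1]
    simp

/-- The symmetry hypothesis of `restrict_avg_parity` holds for characters fixed by the twist. -/
theorem classInner_inflate_cconj_of_tw {k e : ℕ} (hG : GalPow G k e) (hodd : Odd N.index)
    {P : G → ℂ} (hP : tw k P = P) (β : IrrCharacter (G ⧸ N)) :
    classInner P (Helper79.inflate N (cconjIrr β) : G → ℂ) =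
      classInner P (Helper79.inflate N β : G → ℂ) := by
  have h1 : tw k (Helper79.inflate N β : G → ℂ) = (Helper79.inflate N (cconjIrr β) : G → ℂ) := by
    funext g
    rw [tw_apply, Helper79.inflate_apply, Helper79.inflate_apply, cconjIrr_apply,
      QuotientGroup.mk_pow, hG.quot_pow N hodd g]
    obtain ⟨d, ρ, hρ, hρβ⟩ := β.2
    rw [← hρβ]
    exact char_inv ρ _
  rw [← h1]
  conv_lhs => rw [← hP]
  exact classInner_tw hG.cop _ _

/-- Parity of the inner product of the restrictions of two twist-fixed irreducible characters. -/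
theorem restrict_inner_parity_tw {k e : ℕ} (hG : GalPow G k e) (hodd : Odd N.index)
    {χ₁ χ₂ : G → ℂ} (h₁ : IsIrrCharacter G χ₁) (h₂ : IsIrrCharacter G χ₂)
    (ht₁ : tw k χ₁ = χ₁) (ht₂ : tw k χ₂ = χ₂) [Decidable (χ₁ = χ₂)] :
    ∃ a : ℕ, classInner (fun n : N => χ₁ n) (fun n : N => χ₂ n) = (a : ℂ) ∧
      (a : ZMod 2) = if χ₁ = χ₂ then 1 else 0 := by
  set P : G → ℂ := fun g => χ₁ g * conj (χ₂ g) with hP
  have hPch : IsCharacter G P :=
    Helper3.isCharacter_mul (IsIrrCharacter.isCharacter h₁)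
      (Helper3.isCharacter_conj (IsIrrCharacter.isCharacter h₂))
  have hPtw : tw k P = P := by
    funext g
    have e1 := congrFun ht₁ g
    have e2 := congrFun ht₂ g
    rw [tw_apply] at e1 e2
    rw [tw_apply, hP]
    simp only [e1, e2]
  obtain ⟨a, t, ha, ht, hat⟩ := restrict_avg_parity N hodd hPch
    (classInner_inflate_cconj_of_tw N hG hodd hPtw)
  refine ⟨a, ?_, ?_⟩
  · rw [← ha]
    rfl
  · rw [hat]
    have h3 : classInner P (fun _ => (1 : ℂ)) = classInner χ₁ χ₂ := by
      unfold classInner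
      congr 1
      apply Finset.sum_congr rfl
      intro g _
      rw [map_one, mul_one]
    rw [h3, irr_orthonormal h₁ h₂] at ht
    split_ifs at ht ⊢ with hc
    · have : t = 1 := by exact_mod_cast ht.symm
      rw [this]; simp
    · have : t = 0 := by exact_mod_cast ht.symm
      rw [this]; simp

/-- For `N` of odd index, at most one twist-fixed irreducible character of `G` lies over a given
irreducible character of `N`. -/
theorem tw_over_unique {k e : ℕ} (hG : GalPow G k e) (hodd : Odd N.index)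
    {φ : N → ℂ} (hφ : IsIrrCharacter N φ)
    {χ₁ χ₂ : G → ℂ} (h₁ : IsIrrCharacter G χ₁) (h₂ : IsIrrCharacter G χ₂)
    (ht₁ : tw k χ₁ = χ₁) (ht₂ : tw k χ₂ = χ₂)
    (hne₁ : classInner (fun n : N => χ₁ n) φ ≠ 0)
    (hne₂ : classInner (fun n : N => χ₂ n) φ ≠ 0) : χ₁ = χ₂ := by
  classical
  set S : N → ℂ := ∑ᶠ ψ ∈ conjSet N hN φ, ψ with hS
  have hcl₁ := clifford N hN h₁ hφ hne₁
  have hcl₂ := clifford N hN h₂ hφ hne₂
  rw [← hS] at hcl₁ hcl₂
  have hSch : IsCharacter N S := by
    have hfin := conjSet_finite N hN φ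
    rw [hS, finsum_mem_eq_finite_toFinset_sum _ hfin]
    apply isCharacter_sum
    intro ψ hψ
    rw [Set.Finite.mem_toFinset] at hψ
    obtain ⟨g, rfl⟩ := hψ
    exact IsIrrCharacter.isCharacter (conjFun_isIrrCharacter N hN hφ g)
  obtain ⟨c, hc⟩ := exists_nat_classInner_char hSch hSch
  obtain ⟨k₁, hk₁⟩ := exists_nat_classInner
    (isCharacter_restrict N (IsIrrCharacter.isCharacter h₁)) hφ
  obtain ⟨k₂, hk₂⟩ := exists_nat_classInner
    (isCharacter_restrict N (IsIrrCharacter.isCharacter h₂)) hφ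
  rw [hk₁] at hcl₁
  rw [hk₂] at hcl₂
  have havg : ∀ (ψ₁ ψ₂ : G → ℂ) (j₁ j₂ : ℕ)
      (_ : (fun n : N => ψ₁ n) = (j₁ : ℂ) • S)
      (_ : (fun n : N => ψ₂ n) = (j₂ : ℂ) • S),
      classInner (fun n : N => ψ₁ n) (fun n : N => ψ₂ n) = ((j₁ * j₂ * c : ℕ) : ℂ) := by
    intro ψ₁ ψ₂ j₁ j₂ e₁ e₂
    rw [e₁, e₂, classInner_smul_left, classInner_smul_right, hc, Complex.conj_natCast]
    push_cast
    ring
  obtain ⟨a₁, ha₁, hp₁⟩ := restrict_inner_parity_tw N hG hodd h₁ h₁ ht₁ ht₁
  obtain ⟨a₂, ha₂, hp₂⟩ := restrict_inner_parity_tw N hG hodd h₂ h₂ ht₂ ht₂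
  obtain ⟨a₃, ha₃, hp₃⟩ := restrict_inner_parity_tw N hG hodd h₁ h₂ ht₁ ht₂
  rw [havg χ₁ χ₁ k₁ k₁ hcl₁ hcl₁] at ha₁
  rw [havg χ₂ χ₂ k₂ k₂ hcl₂ hcl₂] at ha₂
  rw [havg χ₁ χ₂ k₁ k₂ hcl₁ hcl₂] at ha₃
  have e₁ : k₁ * k₁ * c = a₁ := by exact_mod_cast ha₁
  have e₂ : k₂ * k₂ * c = a₂ := by exact_mod_cast ha₂
  have e₃ : k₁ * k₂ * c = a₃ := by exact_mod_cast ha₃
  rw [← e₁, if_pos rfl] at hp₁
  rw [← e₂, if_pos rfl] at hp₂
  rw [← e₃] at hp₃
  by_contra hne
  rw [if_neg hne] at hp₃
  push_cast at hp₁ hp₂ hp₃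
  have h5 : ((k₁ : ZMod 2) * k₁ * c) * ((k₂ : ZMod 2) * k₂ * c) =
      ((k₁ : ZMod 2) * k₂ * c) * ((k₁ : ZMod 2) * k₂ * c) := by ring
  rw [hp₁, hp₂, hp₃] at h5
  simp at h5

end parity

section fixedpt

theorem exists_fixed_of_odd_card {α : Type*} [Fintype α] (f : α → α) (e : ℕ)
    (hf : ∀ a, f^[2 ^ e] a = a) (hodd : Odd (Fintype.card α)) : ∃ a, f a = a := by
  classical
  haveI : Fact (Nat.Prime 2) := ⟨Nat.prime_two⟩
  let F : Function.End α := f
  have hf' : F ^ 2 ^ e = 1 := by
    have h1 : ∀ n : ℕ, (F ^ n : Function.End α) = f^[n] := by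
      intro n
      induction n with
      | zero => rfl
      | succ n ih =>
        rw [pow_succ, ih, Function.iterate_succ]
        rfl
    rw [h1]
    funext a
    exact hf a
  have h2 := Equiv.Perm.card_fixedPoints_modEq (p := 2) (n := e) hf'
  have h3 : Fintype.card (Function.fixedPoints F) ≠ 0 := by
    intro h0
    rw [h0] at h2
    have : Fintype.card α % 2 = 0 := h2
    rcases hodd with ⟨j, hj⟩
    omega
  obtain ⟨⟨a, ha⟩⟩ := Fintype.card_pos_iff.mp (Nat.pos_of_ne_zero h3)
  exact ⟨a, ha⟩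

end fixedpt

section exist
variable {G : Type u} [Group G] [Fintype G] (N : Subgroup G) [hN : N.Normal] [Fintype N]

theorem classInner_indFun_self {θ : N → ℂ} (hθ : IsIrrCharacter N θ) :
    classInner (indFun N θ) (indFun N θ) = (N.relIndex (Helper79.inertiaGrp N hN θ) : ℂ) := by
  classical
  set T := Helper79.inertiaGrp N hN θ with hT
  have hNT : N ≤ T :=
    Helper79.le_inertiaGrp N hN (isClassFunction_of_isCharacter (IsIrrCharacter.isCharacter hθ))
  rw [frobenius_reciprocity N θ (indFun_isClassFunction N θ), indFun_restrict_normal N hN θ,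
    classInner_smul_right, classInner_sum_right]
  have h1 : ∀ x : G, classInner θ (conjFun N hN θ x) = if x ∈ T then 1 else 0 := by
    intro x
    rw [irr_orthonormal hθ (conjFun_isIrrCharacter N hN hθ x)]
    by_cases hx : x ∈ T
    · rw [if_pos hx, if_pos ((Helper79.mem_inertiaGrp N hN θ x).mp hx).symm]
    · rw [if_neg hx, if_neg]
      intro h
      exact hx ((Helper79.mem_inertiaGrp N hN θ x).mpr h.symm)
  simp only [h1]
  rw [Finset.sum_boole]
  have h0 : (Finset.univ.filter (fun x : G => x ∈ T)).card = Nat.card T := by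
    rw [Nat.card_eq_fintype_card, Fintype.card_subtype]
  rw [h0]
  have hN0 : (Nat.card N : ℂ) ≠ 0 := by exact_mod_cast (Nat.card_pos (α := N)).ne'
  have h2 : Nat.card T = N.relIndex T * Nat.card N := by
    have := Subgroup.index_mul_card (N.subgroupOf T)
    rw [Nat.card_congr (Subgroup.subgroupOfEquivOfLe hNT).toEquiv] at this
    exact this.symm
  rw [h2]
  simp only [map_inv₀, map_natCast]
  push_cast
  field_simp

/-- Existence of a twist-fixed irreducible character over a twist-fixed irreducible character of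
a normal subgroup of odd index. -/
theorem exists_tw_fixed_over {k e : ℕ} (hG : GalPow G k e) (hodd : Odd N.index)
    {θ : N → ℂ} (hθ : IsIrrCharacter N θ) (hθtw : tw k θ = θ) :
    ∃ χ : G → ℂ, IsIrrCharacter G χ ∧ tw k χ = χ ∧ classInner (fun n : N => χ n) θ ≠ 0 := by
  classical
  haveI : Fintype (IrrCharacter G) := @Fintype.ofFinite _ irr_finite
  have hGN : GalPow N k e := hG.subgroup N
  set T := Helper79.inertiaGrp N hN θ with hT
  have hNT : N ≤ T :=
    Helper79.le_inertiaGrp N hN (isClassFunction_of_isCharacter (IsIrrCharacter.isCharacter hθ))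
  have hrodd : Odd (N.relIndex T) := by
    apply Odd.of_dvd_nat hodd
    exact Dvd.intro _ (Subgroup.relIndex_mul_index hNT)
  obtain ⟨m, hm⟩ := exists_nat_decomp (isCharacter_indFun N (IsIrrCharacter.isCharacter hθ))
  -- multiplicities
  have hmχ : ∀ χ : IrrCharacter G, classInner θ (fun n : N => (χ : G → ℂ) n) = (m χ : ℂ) := by
    intro χ
    rw [← frobenius_reciprocity N θ (isClassFunction_of_isCharacter (IsIrrCharacter.isCharacter χ.2)),
      hm, classInner_nat_decomp (fun χ' => (m χ' : ℂ)) χ]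
  let twI : IrrCharacter G → IrrCharacter G := fun χ => ⟨tw k (χ : G → ℂ), tw_irr hG.cop χ.2⟩
  have hmtw : ∀ χ : IrrCharacter G, m (twI χ) = m χ := by
    intro χ
    have h1 := hmχ (twI χ)
    have h2 : (fun n : N => ((twI χ : IrrCharacter G) : G → ℂ) n) =
        tw k (fun n : N => (χ : G → ℂ) n) := tw_restrict N k (χ : G → ℂ)
    rw [h2] at h1
    conv at h1 => lhs; arg 1; rw [← hθtw]
    rw [classInner_tw hGN.cop, hmχ χ] at h1
    exact_mod_cast h1.symm
  -- sum of squares is odd
  have hsq : ∑ χ : IrrCharacter G, (m χ) ^ 2 = N.relIndex T := by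
    have h1 := classInner_indFun_self N hθ
    conv at h1 => lhs; rw [hm]
    rw [classInner_sum_left] at h1
    have h2 : ∀ β : IrrCharacter G, classInner ((m β : ℂ) • (β : G → ℂ))
        (∑ γ, (m γ : ℂ) • (γ : G → ℂ)) = ((m β ^ 2 : ℕ) : ℂ) := by
      intro β
      rw [classInner_smul_left, classInner_conj_symm,
        classInner_nat_decomp (fun γ => (m γ : ℂ)) β]
      simp only [Complex.conj_natCast]
      push_cast
      ring
    simp only [h2] at h1
    exact_mod_cast h1
  -- the set of characters with odd multiplicity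
  let A := {χ : IrrCharacter G // Odd (m χ)}
  have hAodd : Odd (Fintype.card A) := by
    have h1 : ((∑ χ : IrrCharacter G, (m χ) ^ 2 : ℕ) : ZMod 2) = (Fintype.card A : ZMod 2) := by
      rw [Fintype.card_subtype]
      push_cast
      rw [Finset.card_filter]
      push_cast
      apply Finset.sum_congr rfl
      intro χ _
      by_cases ho : Odd (m χ)
      · rw [if_pos ho]
        have : ((m χ : ℕ) : ZMod 2) = 1 := (ZMod.natCast_eq_one_iff_odd).mpr ho
        rw [this]; simp
      · rw [if_neg ho]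
        have : ((m χ : ℕ) : ZMod 2) = 0 := (ZMod.natCast_eq_zero_iff_even).mpr (Nat.not_odd_iff_even.mp ho)
        rw [this]; simp
    rw [hsq] at h1
    have h2 : ((N.relIndex T : ℕ) : ZMod 2) = 1 := (ZMod.natCast_eq_one_iff_odd).mpr hrodd
    rw [h2] at h1
    exact (ZMod.natCast_eq_one_iff_odd).mp h1.symm
  let f : A → A := fun χ => ⟨twI χ.1, by rw [hmtw]; exact χ.2⟩
  have hfiter : ∀ (j : ℕ) (a : A), (((f^[j] a : A) : IrrCharacter G) : G → ℂ) =
      (tw k)^[j] ((a : IrrCharacter G) : G → ℂ) := by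
    intro j
    induction j with
    | zero => intro a; rfl
    | succ j ih =>
      intro a
      rw [Function.iterate_succ_apply, ih (f a), Function.iterate_succ_apply]
  have hf : ∀ a : A, f^[2 ^ e] a = a := by
    intro a
    apply Subtype.ext
    apply Subtype.ext
    rw [hfiter, tw_iterate_per hG]
  obtain ⟨a, ha⟩ := exists_fixed_of_odd_card f e hf hAodd
  refine ⟨(a : IrrCharacter G), a.1.2, ?_, ?_⟩
  · have := congrArg (fun b : A => ((b : IrrCharacter G) : G → ℂ)) ha
    exact this
  · intro h0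
    have h1 := hmχ a.1
    rw [classInner_conj_symm, h0, map_zero] at h1
    have : m a.1 = 0 := by exact_mod_cast h1.symm
    have h2 := a.2
    rw [this] at h2
    exact (Nat.not_odd_iff_even.mpr (by decide)) h2

end exist

section cycstep
variable {G : Type u} [Group G] [Fintype G]

/-- If an irreducible character of a normal subgroup with abelian quotient extends, every
irreducible character lying over it is an extension. -/
theorem restrict_eq_of_over_of_extension (N : Subgroup G) [Fintype N] (hN : N.Normal)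
    {A : Type v} [CommGroup A] [Finite A] (π : G →* A) (hπ : Function.Surjective π)
    (hker : ∀ g : G, π g = 1 ↔ g ∈ N) {θ : N → ℂ} (hθ : IsIrrCharacter N θ)
    {χ₀ : G → ℂ} (hχ₀ : IsIrrCharacter G χ₀) (hres₀ : (fun n : N => χ₀ n) = θ)
    {χ : G → ℂ} (hχ : IsIrrCharacter G χ) (hne : classInner (fun n : N => χ n) θ ≠ 0) :
    (fun n : N => χ n) = θ := by
  classical
  have hχ₀cf := isClassFunction_of_isCharacter (IsIrrCharacter.isCharacter hχ₀)
  have hχcf := isClassFunction_of_isCharacter (IsIrrCharacter.isCharacter hχ)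
  have hkey := smul_indFun_eq_sum_linChar N hN π hπ hker (θ := θ) hχ₀cf 1
    (by rw [one_smul]; exact hres₀)
  rw [one_smul] at hkey
  have h1 : classInner (indFun N θ) χ ≠ 0 := by
    rw [frobenius_reciprocity N θ hχcf, classInner_conj_symm]
    intro h
    apply hne
    have := congrArg conj h
    simpa using this
  rw [hkey, classInner_sum_left] at h1
  obtain ⟨ψ, _, hψ⟩ := Finset.exists_ne_zero_of_sum_ne_zero h1
  have h2 := (eq_of_classInner_ne_zero (isIrrCharacter_linChar_mul π ψ hχ₀) hχ hψ).symm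
  funext n
  rw [h2, Pi.mul_apply, linChar_ker π ψ ((hker _).mpr n.2), one_mul]
  exact congrFun hres₀ n

end cycstep

section solv

theorem exists_tw_fixed_extension_solv : ∀ (c : ℕ) (G : Type u) [Group G] [Finite G],
    Nat.card G = c →
    ∀ (N : Subgroup G) [hN : N.Normal], Group.IsSolvable (G ⧸ N) → Odd N.index →
    ∀ (k e : ℕ), GalPow G k e →
    ∀ (ϑ : N → ℂ), IsIrrCharacter N ϑ →
    (∀ (g : G) (n : N), ϑ ⟨g * n * g⁻¹, hN.conj_mem n n.2 g⟩ = ϑ n) → tw k ϑ = ϑ →
    ∃ χ : G → ℂ, IsIrrCharacter G χ ∧ tw k χ = χ ∧ ∀ n : N, χ n = ϑ n := by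
  intro c
  induction c using Nat.strong_induction_on with
  | _ c ih =>
    intro G _ _ hc N hN hsolv hodd k e hG ϑ hϑ hinv hϑtw
    classical
    haveI : Fintype G := Fintype.ofFinite G
    by_cases hNtop : N = ⊤
    · subst hNtop
      let e' : G ≃* (⊤ : Subgroup G) := Subgroup.topEquiv.symm
      refine ⟨fun g => ϑ (e' g), isIrrCharacter_comp_equiv e' hϑ, ?_, ?_⟩
      · funext g
        rw [tw_apply, map_pow]
        exact congrFun hϑtw (e' g)
      · intro n
        congr 1
    · haveI : Nontrivial (G ⧸ N) := by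
        have hx : ∃ x : G, x ∉ N := by
          by_contra hcon
          push Not at hcon
          exact hNtop ((Subgroup.eq_top_iff' N).mpr hcon)
        obtain ⟨x, hx⟩ := hx
        refine ⟨⟨(x : G ⧸ N), 1, ?_⟩⟩
        intro h
        exact hx ((QuotientGroup.eq_one_iff x).mp h)
      haveI := hsolv
      obtain ⟨m, hm, f, hf⟩ := exists_surj_cyclic (G ⧸ N)
      let F : G →* Multiplicative (ZMod m) := f.comp (QuotientGroup.mk' N)
      have hF : Function.Surjective F := hf.comp (QuotientGroup.mk'_surjective N)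
      let M : Subgroup G := F.ker
      have hM : M.Normal := inferInstance
      have hNM : N ≤ M := by
        intro n hn
        rw [MonoidHom.mem_ker]
        show f (QuotientGroup.mk' N n) = 1
        rw [QuotientGroup.mk'_apply, (QuotientGroup.eq_one_iff n).mpr hn, map_one]
      haveI : NeZero m := ⟨by omega⟩
      have hcyc : IsCyclic (G ⧸ M) := by
        have e := QuotientGroup.quotientKerEquivOfSurjective F hF
        exact isCyclic_of_surjective e.symm e.symm.surjective
      have hidx : M.index = m := by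
        rw [Subgroup.index_ker, MonoidHom.range_eq_top.mpr hF,
          Nat.card_congr Subgroup.topEquiv.toEquiv]
        simp
      have hcardM : Nat.card M < c := by
        have h1 := Subgroup.index_mul_card M
        rw [hidx, hc] at h1
        have h2 : 0 < Nat.card M := Nat.card_pos
        nlinarith
      haveI hN' : (N.subgroupOf M).Normal := Subgroup.normal_subgroupOf
      let iso : N.subgroupOf M ≃* N := Subgroup.subgroupOfEquivOfLe hNM
      let ϑ' : N.subgroupOf M → ℂ := fun x => ϑ (iso x)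
      have hϑ' : IsIrrCharacter (N.subgroupOf M) ϑ' := isIrrCharacter_comp_equiv iso hϑ
      have hinv' : ∀ (g : M) (n : N.subgroupOf M),
          ϑ' ⟨g * n * g⁻¹, hN'.conj_mem n n.2 g⟩ = ϑ' n := by
        intro g n
        exact hinv (g : G) (iso n)
      have hϑ'tw : tw k ϑ' = ϑ' := by
        funext x
        rw [tw_apply]
        show ϑ (iso (x ^ k)) = ϑ (iso x)
        rw [map_pow]
        exact congrFun hϑtw (iso x)
      have hodd' : Odd (N.subgroupOf M).index := by
        apply Odd.of_dvd_nat hodd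
        exact Dvd.intro _ (Subgroup.relIndex_mul_index hNM)
      have hoddM : Odd M.index := by
        apply Odd.of_dvd_nat hodd
        exact Subgroup.index_dvd_of_le hNM
      have hGM : GalPow M k e := hG.subgroup M
      obtain ⟨ψ, hψ, hψtw, hψres⟩ := ih (Nat.card M) hcardM M rfl (N.subgroupOf M)
        (isSolvable_quotient_subgroupOf N M hsolv) hodd' k e hGM ϑ' hϑ' hinv' hϑ'tw
      haveI : Fintype M := Fintype.ofFinite M
      haveI : Fintype (N.subgroupOf M) := Fintype.ofFinite _
      have hψresf : (fun n : N.subgroupOf M => ψ n) = ϑ' := funext hψres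
      have hψne : classInner (fun n : N.subgroupOf M => ψ n) ϑ' ≠ 0 := by
        rw [hψresf, irr_orthonormal hϑ' hϑ', if_pos rfl]
        exact one_ne_zero
      have hψinv : ∀ (g : G) (x : M), ψ ⟨g * x * g⁻¹, hM.conj_mem x x.2 g⟩ = ψ x := by
        intro g x
        let cg : M ≃* M := MulAut.conjNormal g
        have hcg : ∀ y : M, cg y = ⟨g * y * g⁻¹, hM.conj_mem y y.2 g⟩ := fun y =>
          Subtype.ext (by simp [cg, MulAut.conjNormal_apply])
        let ψg : M → ℂ := fun y => ψ (cg y)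
        have hψg : IsIrrCharacter M ψg := isIrrCharacter_comp_equiv cg hψ
        have hψgres : ∀ n : N.subgroupOf M, ψg n = ϑ' n := by
          intro n
          show ψ (cg (n : M)) = ϑ' n
          have hmem : cg (n : M) ∈ N.subgroupOf M := by
            rw [hcg, Subgroup.mem_subgroupOf]
            exact hN.conj_mem _ (Subgroup.mem_subgroupOf.mp n.2) g
          have h1 := hψres ⟨cg (n : M), hmem⟩
          rw [h1]
          show ϑ (iso ⟨cg (n : M), hmem⟩) = ϑ (iso n)
          have h2 := hinv g (iso n)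
          rw [← h2]
          congr 1
        have hψgtw : tw k ψg = ψg := by
          funext y
          rw [tw_apply]
          show ψ (cg (y ^ k)) = ψ (cg y)
          rw [map_pow]
          exact congrFun hψtw (cg y)
        have hψgne : classInner (fun n : N.subgroupOf M => ψg n) ϑ' ≠ 0 := by
          rw [show (fun n : N.subgroupOf M => ψg n) = ϑ' from funext hψgres,
            irr_orthonormal hϑ' hϑ', if_pos rfl]
          exact one_ne_zero
        have h3 := tw_over_unique (N.subgroupOf M) hGM hodd' hϑ' hψg hψ hψgtw hψtw hψgne hψne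
        have h4 := congrFun h3 x
        rw [← hcg]
        exact h4
      obtain ⟨d, τ, hτ, rfl⟩ := hψ
      have hψ : IsIrrCharacter M τ.character := ⟨d, τ, hτ, rfl⟩
      haveI := hτ
      obtain ⟨σ, hσ, hστ⟩ := exists_rep_extension_cyclic M hM hcyc τ hψinv
      have hχ₀ : IsIrrCharacter G σ.character := isIrrCharacter_of_rep σ
      have hχ₀res : (fun x : M => σ.character x) = τ.character := by
        funext x
        show LinearMap.trace ℂ _ (σ (x : G)) = _
        rw [hστ x]
        rfl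
      obtain ⟨χ, hχ, hχtw, hχne⟩ := exists_tw_fixed_over M hG hoddM hψ hψtw
      have hχres := restrict_eq_of_over_of_extension M hM F hF (fun g => MonoidHom.mem_ker.symm)
        hψ hχ₀ hχ₀res hχ hχne
      refine ⟨χ, hχ, hχtw, ?_⟩
      intro n
      have h4 := congrFun hχres ⟨n, hNM n.2⟩
      have h5 := hψres ⟨⟨n, hNM n.2⟩, Subgroup.mem_subgroupOf.mpr n.2⟩
      exact h4.trans h5

end solv

section twoext
variable {G : Type u} [Group G] [Fintype G] (N : Subgroup G) [hN : N.Normal] [Fintype N]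

/-- Two extensions of an irreducible character of a normal subgroup differ by a linear character
of the quotient. -/
theorem exists_linear_of_two_extensions {θ : N → ℂ} (hθ : IsIrrCharacter N θ) {χ₀ χ₁ : G → ℂ}
    (h₀ : IsIrrCharacter G χ₀) (h₁ : IsIrrCharacter G χ₁) (hres₀ : (fun n : N => χ₀ n) = θ)
    (hres₁ : (fun n : N => χ₁ n) = θ) :
    ∃ β : (G ⧸ N) → ℂ, β 1 = 1 ∧ (∀ x y, β (x * y) = β x * β y) ∧
      (∀ x, β x * conj (β x) = 1) ∧ χ₁ = fun g : G => β (QuotientGroup.mk g : G ⧸ N) * χ₀ g := by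
  classical
  haveI : Fintype (IrrCharacter (G ⧸ N)) := Fintype.ofFinite _
  set F : G → ℂ := fun g => χ₁ g * conj (χ₀ g) with hF
  have h0 := restrict_avg_eq_sum_inflate N F
  have hl : (Nat.card N : ℂ)⁻¹ * ∑ n : N, F n = 1 := by
    have : (Nat.card N : ℂ)⁻¹ * ∑ n : N, F n =
        classInner (fun n : N => χ₁ n) (fun n : N => χ₀ n) := rfl
    rw [this, hres₀, hres₁, irr_orthonormal hθ hθ, if_pos rfl]
  rw [hl] at h0
  have hinner : ∀ β : IrrCharacter (G ⧸ N), classInner F (Helper79.inflate N β : G → ℂ) =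
      classInner χ₁ ((Helper79.inflate N β : G → ℂ) * χ₀) := by
    intro β
    unfold classInner
    congr 1
    apply Finset.sum_congr rfl
    intro g _
    simp only [hF, Pi.mul_apply, map_mul]
    ring
  have hex : ∀ β : IrrCharacter (G ⧸ N), ∃ j : ℕ,
      classInner χ₁ ((Helper79.inflate N β : G → ℂ) * χ₀) = (j : ℂ) := fun β =>
    exists_nat_classInner_char (IsIrrCharacter.isCharacter h₁)
      (isCharacter_mul (IsIrrCharacter.isCharacter (Helper79.inflate N β).2)
        (IsIrrCharacter.isCharacter h₀))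
  choose m hm using hex
  have hsum : ∑ β : IrrCharacter (G ⧸ N), charDegree (β : G ⧸ N → ℂ) * m β = 1 := by
    have : ((∑ β : IrrCharacter (G ⧸ N), charDegree (β : G ⧸ N → ℂ) * m β : ℕ) : ℂ) = 1 := by
      rw [h0]
      push_cast
      apply Finset.sum_congr rfl
      intro β _
      rw [irr_one, hinner, hm]
    exact_mod_cast this
  obtain ⟨β, hβ⟩ : ∃ β : IrrCharacter (G ⧸ N), charDegree (β : G ⧸ N → ℂ) * m β ≠ 0 := by
    by_contra hcon
    push Not at hcon
    rw [Finset.sum_eq_zero (fun β _ => hcon β)] at hsum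
    exact zero_ne_one hsum
  have hle : charDegree (β : G ⧸ N → ℂ) * m β ≤ 1 := by
    rw [← hsum]
    exact Finset.single_le_sum (f := fun β : IrrCharacter (G ⧸ N) =>
      charDegree (β : G ⧸ N → ℂ) * m β) (fun _ _ => Nat.zero_le _) (Finset.mem_univ β)
  have h1 : charDegree (β : G ⧸ N → ℂ) * m β = 1 := by omega
  have hdeg : charDegree (β : G ⧸ N → ℂ) = 1 := Nat.eq_one_of_mul_eq_one_right h1
  have hmβ : m β = 1 := Nat.eq_one_of_mul_eq_one_left h1
  have hmul := Helper79.irr_mul_of_degree_one β hdeg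
  have hβ1 : (β : G ⧸ N → ℂ) 1 = 1 := by rw [irr_one, hdeg]; simp
  refine ⟨(β : G ⧸ N → ℂ), hβ1, fun x y => (hmul x y).1, fun x => (hmul x 1).2, ?_⟩
  set l : G → ℂ := (Helper79.inflate N β : G → ℂ) with hl'
  have hlirr : IsIrrCharacter G (l * χ₀) := by
    apply isIrrCharacter_mul_linear _ _ _ h₀
    · show (β : G ⧸ N → ℂ) ((1 : G) : G ⧸ N) = 1
      exact hβ1
    · intro g h
      show (β : G ⧸ N → ℂ) ((g * h : G) : G ⧸ N) = _
      rw [QuotientGroup.mk_mul]
      exact (hmul _ _).1
    · intro g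
      exact (hmul (g : G ⧸ N) 1).2
  have hne : classInner χ₁ (l * χ₀) ≠ 0 := by
    rw [hm, hmβ]; simp
  have := eq_of_classInner_ne_zero h₁ hlirr hne
  rw [this]
  rfl

/-- An invariant twist-fixed irreducible character of a normal subgroup of odd index has a
twist-fixed extension. -/
theorem exists_tw_fixed_extension {k e : ℕ} (hG : GalPow G k e) (hodd : Odd N.index)
    {θ : N → ℂ} (hθ : IsIrrCharacter N θ)
    (hinv : ∀ (g : G) (n : N), θ ⟨g * n * g⁻¹, hN.conj_mem n n.2 g⟩ = θ n)
    (hθtw : tw k θ = θ) :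
    ∃ χ : G → ℂ, IsIrrCharacter G χ ∧ tw k χ = χ ∧ ∀ n : N, χ n = θ n := by
  classical
  -- Step 1: an extension exists
  obtain ⟨χ₀, h₀, hres₀'⟩ : ∃ χ : G → ℂ, IsIrrCharacter G χ ∧ ∀ n : N, χ n = θ n := by
    apply exists_extension_of_sylow N hN hθ hinv
    intro p hp
    haveI : Fact p.Prime := ⟨hp⟩
    let S : Sylow p (G ⧸ N) := default
    let P : Subgroup G := (S : Subgroup (G ⧸ N)).comap (QuotientGroup.mk' N)
    have hNP : N ≤ P := by
      intro n hn
      show QuotientGroup.mk' N n ∈ (S : Subgroup (G ⧸ N))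
      rw [QuotientGroup.mk'_apply, (QuotientGroup.eq_one_iff n).mpr hn]
      exact Subgroup.one_mem _
    have hPidx : P.index = (S : Subgroup (G ⧸ N)).index :=
      Subgroup.index_comap_of_surjective _ (QuotientGroup.mk'_surjective N)
    have hcopP : Nat.Coprime P.index p := by
      rw [hPidx, Nat.coprime_comm]
      exact (Nat.Prime.coprime_iff_not_dvd hp).mpr S.not_dvd_index
    haveI hN' : (N.subgroupOf P).Normal := Subgroup.normal_subgroupOf
    have hpg : IsPGroup p (P ⧸ N.subgroupOf P) := by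
      intro q
      induction q using QuotientGroup.induction_on with
      | H x =>
        obtain ⟨j, hj⟩ := S.isPGroup' ⟨QuotientGroup.mk' N (x : G), x.2⟩
        refine ⟨j, ?_⟩
        rw [← QuotientGroup.mk_pow, QuotientGroup.eq_one_iff, Subgroup.mem_subgroupOf]
        have h1 : (QuotientGroup.mk' N (x : G)) ^ p ^ j = 1 := by
          have := congrArg Subtype.val hj
          simpa using this
        rw [← map_pow, QuotientGroup.mk'_apply, QuotientGroup.eq_one_iff] at h1
        simpa using h1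
    haveI : Group.IsNilpotent (P ⧸ N.subgroupOf P) := hpg.isNilpotent
    have hsolvP : Group.IsSolvable (P ⧸ N.subgroupOf P) := inferInstance
    let iso : N.subgroupOf P ≃* N := Subgroup.subgroupOfEquivOfLe hNP
    let ϑ' : N.subgroupOf P → ℂ := fun x => θ (iso x)
    have hϑ' : IsIrrCharacter (N.subgroupOf P) ϑ' := isIrrCharacter_comp_equiv iso hθ
    have hinv' : ∀ (g : P) (n : N.subgroupOf P),
        ϑ' ⟨g * n * g⁻¹, hN'.conj_mem n n.2 g⟩ = ϑ' n := by
      intro g n
      exact hinv (g : G) (iso n)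
    have hϑ'tw : tw k ϑ' = ϑ' := by
      funext x
      rw [tw_apply]
      show θ (iso (x ^ k)) = θ (iso x)
      rw [map_pow]
      exact congrFun hθtw (iso x)
    have hodd' : Odd (N.subgroupOf P).index := by
      apply Odd.of_dvd_nat hodd
      exact Dvd.intro _ (Subgroup.relIndex_mul_index hNP)
    obtain ⟨η, hη, _, hηres⟩ := exists_tw_fixed_extension_solv (Nat.card P) P rfl
      (N.subgroupOf P) hsolvP hodd' k e (hG.subgroup P) ϑ' hϑ' hinv' hϑ'tw
    refine ⟨P, hNP, η, hcopP, hη, ?_⟩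
    intro n
    exact hηres ⟨⟨n, hNP n.2⟩, Subgroup.mem_subgroupOf.mpr n.2⟩
  have hres₀ : (fun n : N => χ₀ n) = θ := funext hres₀'
  -- Step 2: the twist of the extension
  have h₁ : IsIrrCharacter G (tw k χ₀) := tw_irr hG.cop h₀
  have hres₁ : (fun n : N => tw k χ₀ n) = θ := by
    rw [tw_restrict, hres₀, hθtw]
  obtain ⟨β, hβ1, hβmul, hβnorm, hχ₁⟩ := exists_linear_of_two_extensions N hθ h₀ h₁ hres₀ hres₁
  -- Step 3: the square root
  obtain ⟨s, hs⟩ := hodd
  let βh : (G ⧸ N) →* ℂ := { toFun := β, map_one' := hβ1, map_mul' := hβmul }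
  have hβh : ∀ x, βh x = β x := fun x => rfl
  have hβpow : ∀ x : G ⧸ N, β x ^ (2 * s + 1) = 1 := by
    intro x
    rw [← hβh, ← map_pow, ← hs, Subgroup.index_eq_card, pow_card_eq_one', map_one]
  have hβinv : ∀ x : G ⧸ N, β x⁻¹ = (β x)⁻¹ := by
    intro x
    apply eq_inv_of_mul_eq_one_right
    rw [← hβmul, mul_inv_cancel, hβ1]
  have hβne : ∀ x : G ⧸ N, β x ≠ 0 := by
    intro x h0
    have := hβnorm x
    rw [h0, zero_mul] at this
    exact zero_ne_one this
  set μ : G → ℂ := fun g => β (QuotientGroup.mk g : G ⧸ N) ^ (s + 1) with hμ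
  have hμ1 : μ 1 = 1 := by
    show β ((1 : G) : G ⧸ N) ^ (s + 1) = 1
    rw [QuotientGroup.mk_one, hβ1, one_pow]
  have hμmul : ∀ g h, μ (g * h) = μ g * μ h := by
    intro g h
    show β ((g * h : G) : G ⧸ N) ^ (s + 1) = _
    rw [QuotientGroup.mk_mul, hβmul, mul_pow]
  have hμnorm : ∀ g, μ g * conj (μ g) = 1 := by
    intro g
    show β _ ^ (s + 1) * conj (β _ ^ (s + 1)) = 1
    rw [map_pow, ← mul_pow, hβnorm, one_pow]
  have hμne : ∀ g, μ g ≠ 0 := fun g => pow_ne_zero _ (hβne _)
  have hμsq : ∀ g : G, μ g * μ g = β (QuotientGroup.mk g : G ⧸ N) := by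
    intro g
    show β _ ^ (s + 1) * β _ ^ (s + 1) = β _
    have := hβpow (QuotientGroup.mk g : G ⧸ N)
    calc β (QuotientGroup.mk g : G ⧸ N) ^ (s + 1) * β (QuotientGroup.mk g : G ⧸ N) ^ (s + 1)
        = β (QuotientGroup.mk g : G ⧸ N) ^ (2 * s + 1) * β (QuotientGroup.mk g : G ⧸ N) := by ring
      _ = β (QuotientGroup.mk g : G ⧸ N) := by rw [this, one_mul]
  have hμtw : ∀ g : G, μ (g ^ k) = (μ g)⁻¹ := by
    intro g
    show β ((g ^ k : G) : G ⧸ N) ^ (s + 1) = (β _ ^ (s + 1))⁻¹
    rw [QuotientGroup.mk_pow, hG.quot_pow N ⟨s, hs⟩ g, hβinv, inv_pow]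
  refine ⟨μ * χ₀, isIrrCharacter_mul_linear hμ1 hμmul hμnorm h₀, ?_, ?_⟩
  · funext g
    rw [tw_apply, Pi.mul_apply, Pi.mul_apply, hμtw]
    have h2 := congrFun hχ₁ g
    rw [tw_apply] at h2
    rw [h2, ← hμsq g]
    field_simp [hμne g]
  · intro n
    rw [Pi.mul_apply, hres₀' n]
    have : μ (n : G) = 1 := by
      show β ((n : G) : G ⧸ N) ^ (s + 1) = 1
      rw [(QuotientGroup.eq_one_iff (n : G)).mpr n.2, hβ1, one_pow]
    rw [this, one_mul]

end twoext

section mainthm
variable {G : Type u} [Group G] [Fintype G] (N : Subgroup G) [hN : N.Normal] [Fintype N]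

/-- `N ⊴ G` of odd index, the twist of 2-power order inverting odd-order elements: a twist-fixed
`θ ∈ Irr(N)` lies under exactly one twist-fixed `χ ∈ Irr(G)`, which extends `θ` when `θ` is
invariant. -/
theorem exists_unique_tw_fixed_over {k e : ℕ} (hG : GalPow G k e) (hodd : Odd N.index)
    {θ : N → ℂ} (hθ : IsIrrCharacter N θ) (hθtw : tw k θ = θ) :
    ∃ χ : G → ℂ, IsIrrCharacter G χ ∧ classInner (fun n : N => χ n) θ ≠ 0 ∧ tw k χ = χ ∧
      ((∀ (g : G) (n : N), θ ⟨g * n * g⁻¹, hN.conj_mem n n.2 g⟩ = θ n) → ∀ n : N, χ n = θ n) ∧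
      ∀ χ' : G → ℂ, IsIrrCharacter G χ' → classInner (fun n : N => χ' n) θ ≠ 0 → tw k χ' = χ' →
        χ' = χ := by
  obtain ⟨χ, hχ, hχtw, hχne⟩ := exists_tw_fixed_over N hG hodd hθ hθtw
  refine ⟨χ, hχ, hχne, hχtw, ?_, ?_⟩
  · intro hinv
    obtain ⟨χe, hχe, hχetw, hχeres⟩ := exists_tw_fixed_extension N hG hodd hθ hinv hθtw
    have hne_e : classInner (fun n : N => χe n) θ ≠ 0 := by
      rw [show (fun n : N => χe n) = θ from funext hχeres, irr_orthonormal hθ hθ, if_pos rfl]
      exact one_ne_zero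
    have := tw_over_unique N hG hodd hθ hχe hχ hχetw hχtw hne_e hχne
    intro n
    rw [← this]
    exact hχeres n
  · intro χ' hχ' hne' htw'
    exact tw_over_unique N hG hodd hθ hχ' hχ htw' hχtw hne' hχne

end mainthm

end Cfsg.Agent.Helper81
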