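import Mathlib
import Cfsg.Agent.Lib.Helper76.RuZDefs

/-!
# RUZ piece (RAD) `central_mod` (helper81, for helper76's S3174 server)
-/

set_option autoImplicit false
set_option linter.unusedSectionVars false

namespace Cfsg.Agent.Helper81.RuZ

open Cfsg.Agent.Helper76.RuZ

variable {T : Type*} [Group T]

/-- elements of `T` central modulo `Z2` relative to `W` -/
def cenMod (W Z2 : Subgroup T) (hZ : Z2.Normal) : Subgroup T where
  carrier := {u | ∀ a ∈ W, u * a * u⁻¹ * a⁻¹ ∈ Z2}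
  one_mem' := by
    intro a _
    have : (1 : T) * a * 1⁻¹ * a⁻¹ = 1 := by group
    rw [this]; exact Z2.one_mem
  mul_mem' := by
    intro u v hu hv a ha
    have e : u * v * a * (u * v)⁻¹ * a⁻¹ =
        u * (v * a * v⁻¹ * a⁻¹) * u⁻¹ * (u * a * u⁻¹ * a⁻¹) := by group
    rw [e]; exact Z2.mul_mem (hZ.conj_mem _ (hv a ha) u) (hu a ha)
  inv_mem' := by
    intro u hu a ha
    have e : u⁻¹ * a * u⁻¹⁻¹ * a⁻¹ = u⁻¹ * (u * a * u⁻¹ * a⁻¹)⁻¹ * u⁻¹⁻¹ := by group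
    rw [e]; exact hZ.conj_mem _ (Z2.inv_mem (hu a ha)) u⁻¹

theorem mem_cenMod (W Z2 : Subgroup T) (hZ : Z2.Normal) (u : T) :
    u ∈ cenMod W Z2 hZ ↔ ∀ a ∈ W, u * a * u⁻¹ * a⁻¹ ∈ Z2 := Iff.rfl

/-- the centralizer of `d` modulo `Z2` -/
def cenElt (Z2 : Subgroup T) (hZ : Z2.Normal) (d : T) : Subgroup T where
  carrier := {a | d * a * d⁻¹ * a⁻¹ ∈ Z2}
  one_mem' := by
    have : d * 1 * d⁻¹ * 1⁻¹ = 1 := by group
    show d * 1 * d⁻¹ * 1⁻¹ ∈ Z2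
    rw [this]; exact Z2.one_mem
  mul_mem' := by
    intro a b ha hb
    have e : d * (a * b) * d⁻¹ * (a * b)⁻¹ = (d * a * d⁻¹ * a⁻¹) * (a * (d * b * d⁻¹ * b⁻¹) * a⁻¹) := by
      group
    show d * (a * b) * d⁻¹ * (a * b)⁻¹ ∈ Z2
    rw [e]; exact Z2.mul_mem ha (hZ.conj_mem _ hb a)
  inv_mem' := by
    intro a ha
    have e : d * a⁻¹ * d⁻¹ * a⁻¹⁻¹ = a⁻¹ * (d * a * d⁻¹ * a⁻¹)⁻¹ * a⁻¹⁻¹ := by group
    show d * a⁻¹ * d⁻¹ * a⁻¹⁻¹ ∈ Z2
    rw [e]; exact hZ.conj_mem _ (Z2.inv_mem ha) a⁻¹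

theorem mem_cenElt (Z2 : Subgroup T) (hZ : Z2.Normal) (d a : T) :
    a ∈ cenElt Z2 hZ d ↔ d * a * d⁻¹ * a⁻¹ ∈ Z2 := Iff.rfl

/-- `normalClosure {w} ≤ K` as soon as `K` contains all conjugates of `w` -/
theorem normalClosure_singleton_le (K : Subgroup T) (w : T) (h : ∀ t : T, t * w * t⁻¹ ∈ K) :
    Subgroup.normalClosure {w} ≤ K := by
  show Subgroup.closure (Group.conjugatesOfSet {w}) ≤ K
  rw [Subgroup.closure_le]
  intro g hg
  rw [Group.mem_conjugatesOfSet_iff] at hg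
  obtain ⟨b, hb, hconj⟩ := hg
  rw [Set.mem_singleton_iff] at hb
  subst hb
  obtain ⟨c, hc⟩ := isConj_iff.1 hconj
  rw [← hc]; exact h c

/-- `d * d ∈ Z2` for `d = w * w^z` -/
theorem dz_sq_mem (W F Z2 : Subgroup T) (x y z : T) (hc : Cfg W F Z2) (hg : Gens W F Z2 x y z)
    (w : T) (hw : w ∈ W) : dz z w * dz z w ∈ Z2 := by
  have hnW := hc.nW
  have hnF := hc.nF
  set w' : T := z * w * z⁻¹ with hw'
  have hw'W : w' ∈ W := hnW.conj_mem w hw z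
  set f : T := w * w with hf
  have hfF : f ∈ F := hc.sq w hw
  set f' : T := w' * w' with hf'
  have hf'e : f' = z * f * z⁻¹ := by rw [hf', hw', hf]; group
  have hf'F : f' ∈ F := hf'e ▸ hnF.conj_mem f hfF z
  set k' : T := w' * w * w'⁻¹ * w⁻¹ with hk'
  have hk'F : k' ∈ F := hc.comm w' hw'W w hw
  -- d * d = k' * (f * f')
  have e1 : w' * w = k' * w * w' := by rw [hk']; group
  have e2 : w * k' = k' * w := (hc.cen k' hk'F w hw).symm
  have hdd : dz z w * dz z w = k' * (f * f') := by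
    show w * w' * (w * w') = k' * (f * f')
    calc w * w' * (w * w') = w * (w' * w) * w' := by group
      _ = w * (k' * w * w') * w' := by rw [e1]
      _ = (w * k') * w * w' * w' := by group
      _ = (k' * w) * w * w' * w' := by rw [e2]
      _ = k' * (f * f') := by rw [hf, hf']; group
  -- f * f' ∈ Z2
  have hfinv : f⁻¹ = f := inv_eq_of_mul_eq_one_right (hc.fsq f hfF)
  have hff' : f * f' ∈ Z2 := by
    have h1 := hc.act f hfF z
    rw [hfinv, ← hf'e] at h1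
    have h2 : f * f' = f' * f := hc.cen f hfF f' (hc.FW hf'F)
    rw [h2]; exact h1
  -- k' ∈ Z2
  have hk'inv : k'⁻¹ = k' := inv_eq_of_mul_eq_one_right (hc.fsq k' hk'F)
  have hk'Z : k' ∈ Z2 := by
    apply hg.fixz k' hk'F
    -- z * k' * z⁻¹ = k'
    set g : T := z * z with hgdef
    have hgW : g ∈ W := hg.zsq
    set c : T := g * w * g⁻¹ * w⁻¹ with hcdef
    have hcF : c ∈ F := hc.comm g hgW w hw
    set m : T := w * w' * w⁻¹ with hm
    have hmW : m ∈ W := W.mul_mem (W.mul_mem hw hw'W) (W.inv_mem hw)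
    have hcm : c * m = m * c := hc.cen c hcF m hmW
    have h1 : z * k' * z⁻¹ = c * m * c⁻¹ * w'⁻¹ := by
      rw [hk', hcdef, hm, hgdef, hw']; group
    have h2 : c * m * c⁻¹ * w'⁻¹ = k'⁻¹ := by
      rw [hcm, hk', hm]; group
    have h3 : z * k' * z⁻¹ = k' := by rw [h1, h2, hk'inv]
    calc z * k' = (z * k' * z⁻¹) * z := by group
      _ = k' * z := by rw [h3]
  rw [hdd]; exact Z2.mul_mem hk'Z hff'

variable [Finite T]

theorem central_mod (W F Z2 : Subgroup T) (x y z : T) (hc : Cfg W F Z2) (hg : Gens W F Z2 x y z)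
    (w : T) (hw : w ∈ W) (hcyc : W ≤ Subgroup.normalClosure {w} ⊔ F)
    (hcomm : ∀ t : T, dz z w * (t * w * t⁻¹) * (dz z w)⁻¹ * (t * w * t⁻¹)⁻¹ ∈ Z2) :
    Subgroup.normalClosure {dz z w} ⊔ F ≤ W ∧
      (∀ u ∈ Subgroup.normalClosure {dz z w} ⊔ F, ∀ a ∈ W, u * a * u⁻¹ * a⁻¹ ∈ Z2) ∧
      (∀ u ∈ Subgroup.normalClosure {dz z w} ⊔ F, u * u ∈ Z2) := by
  have hnW := hc.nW
  have hnF := hc.nF
  have hnZ := hc.nZ
  set d : T := dz z w with hd
  have hdW : d ∈ W := W.mul_mem hw (hnW.conj_mem w hw z)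
  have hconjW : ∀ t : T, t * d * t⁻¹ ∈ W := fun t => hnW.conj_mem d hdW t
  -- Step 1
  have h1 : Subgroup.normalClosure {d} ⊔ F ≤ W :=
    sup_le (normalClosure_singleton_le W d hconjW) hc.FW
  -- Step 2: W ≤ cenElt d
  have hWA : W ≤ cenElt Z2 hnZ d := by
    refine hcyc.trans (sup_le (normalClosure_singleton_le _ w ?_) ?_)
    · intro t
      rw [mem_cenElt]; exact hcomm t
    · intro f hf
      rw [mem_cenElt]
      have : d * f * d⁻¹ * f⁻¹ = 1 := by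
        have e := hc.cen f hf d hdW
        calc d * f * d⁻¹ * f⁻¹ = (f * d) * d⁻¹ * f⁻¹ := by rw [e]
          _ = 1 := by group
      rw [this]; exact Z2.one_mem
  -- Step 3: conjugates of d and F lie in cenMod
  have hconjC : ∀ t : T, t * d * t⁻¹ ∈ cenMod W Z2 hnZ := by
    intro t
    rw [mem_cenMod]
    intro a ha
    have ha' : t⁻¹ * a * t⁻¹⁻¹ ∈ W := hnW.conj_mem a ha t⁻¹
    have hmem := (mem_cenElt Z2 hnZ d _).1 (hWA ha')
    have e : t * d * t⁻¹ * a * (t * d * t⁻¹)⁻¹ * a⁻¹ =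
        t * (d * (t⁻¹ * a * t⁻¹⁻¹) * d⁻¹ * (t⁻¹ * a * t⁻¹⁻¹)⁻¹) * t⁻¹ := by group
    rw [e]; exact hnZ.conj_mem _ hmem t
  have hFC : F ≤ cenMod W Z2 hnZ := by
    intro f hf
    rw [mem_cenMod]
    intro a ha
    have e := hc.cen f hf a ha
    have : f * a * f⁻¹ * a⁻¹ = 1 := by
      calc f * a * f⁻¹ * a⁻¹ = (a * f) * f⁻¹ * a⁻¹ := by rw [e]
        _ = 1 := by group
    rw [this]; exact Z2.one_mem
  have h2 : Subgroup.normalClosure {d} ⊔ F ≤ cenMod W Z2 hnZ :=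
    sup_le (normalClosure_singleton_le _ d hconjC) hFC
  -- Step 4: squares
  have hdd : d * d ∈ Z2 := dz_sq_mem W F Z2 x y z hc hg w hw
  let Sq : Subgroup T :=
    { carrier := {u | u ∈ W ∧ u ∈ cenMod W Z2 hnZ ∧ u * u ∈ Z2}
      one_mem' := ⟨W.one_mem, (cenMod W Z2 hnZ).one_mem, by rw [mul_one]; exact Z2.one_mem⟩
      mul_mem' := by
        rintro u v ⟨huW, huC, hu2⟩ ⟨hvW, hvC, hv2⟩
        refine ⟨W.mul_mem huW hvW, (cenMod W Z2 hnZ).mul_mem huC hvC, ?_⟩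
        have hk : u⁻¹ * v * u⁻¹⁻¹ * v⁻¹ ∈ Z2 :=
          (mem_cenMod W Z2 hnZ _).1 ((cenMod W Z2 hnZ).inv_mem huC) v hvW
        have e : u * v * (u * v) = (u * u) * (u⁻¹ * v * u⁻¹⁻¹ * v⁻¹) * (v * v) := by group
        rw [e]; exact Z2.mul_mem (Z2.mul_mem hu2 hk) hv2
      inv_mem' := by
        rintro u ⟨huW, huC, hu2⟩
        refine ⟨W.inv_mem huW, (cenMod W Z2 hnZ).inv_mem huC, ?_⟩
        have e : u⁻¹ * u⁻¹ = (u * u)⁻¹ := by group
        rw [e]; exact Z2.inv_mem hu2 }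
  have hSqmem : ∀ u, u ∈ Sq ↔ (u ∈ W ∧ u ∈ cenMod W Z2 hnZ ∧ u * u ∈ Z2) := fun u => Iff.rfl
  have h3 : Subgroup.normalClosure {d} ⊔ F ≤ Sq := by
    refine sup_le (normalClosure_singleton_le _ d ?_) ?_
    · intro t
      rw [hSqmem]
      refine ⟨hconjW t, hconjC t, ?_⟩
      have e : t * d * t⁻¹ * (t * d * t⁻¹) = t * (d * d) * t⁻¹ := by group
      rw [e]; exact hnZ.conj_mem _ hdd t
    · intro f hf
      rw [hSqmem]
      refine ⟨hc.FW hf, hFC hf, ?_⟩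
      rw [hc.fsq f hf]; exact Z2.one_mem
  refine ⟨h1, ?_, ?_⟩
  · intro u hu a ha
    exact (mem_cenMod W Z2 hnZ u).1 (h2 hu) a ha
  · intro u hu
    exact ((hSqmem u).1 (h3 hu)).2.2

end Cfsg.Agent.Helper81.RuZ
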