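import Cfsg.Agent.Lib.Helper81.CharAbel
set_option autoImplicit false
set_option linter.style.haveILetI false
set_option linter.unusedSectionVars false
namespace Cfsg.Agent.Helper81
open Representation
open scoped ComplexConjugate
universe u v w

section cyclicext
variable {G : Type u} [Group G]

/-- Iterating a conjugation relation. -/
theorem conj_zpow_of_conj (N : Subgroup G) (hN : N.Normal) (g₀ : G) {M : Type v} [Group M]
    (f : N →* M) (b : M)
    (hconj : ∀ n : N, f ⟨g₀ * n * g₀⁻¹, hN.conj_mem n n.2 g₀⟩ = b * f n * b⁻¹) (i : ℤ) (n : N) :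
    f ⟨g₀ ^ i * n * (g₀ ^ i)⁻¹, hN.conj_mem n n.2 (g₀ ^ i)⟩ = b ^ i * f n * (b ^ i)⁻¹ := by
  let S : Subgroup (G × M) :=
    { carrier := {p | ∀ n : N, f ⟨p.1 * n * p.1⁻¹, hN.conj_mem n n.2 p.1⟩ = p.2 * f n * p.2⁻¹}
      one_mem' := fun n => by simp
      mul_mem' := by
        rintro ⟨x, y⟩ ⟨x', y'⟩ hy hy' n
        have h1 := hy ⟨x' * n * x'⁻¹, hN.conj_mem n n.2 x'⟩
        rw [hy' n] at h1
        have h2 : (⟨x * x' * n * (x * x')⁻¹, hN.conj_mem n n.2 (x * x')⟩ : N) =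
            ⟨x * (x' * n * x'⁻¹) * x⁻¹, hN.conj_mem _ (hN.conj_mem n n.2 x') x⟩ := by
          apply Subtype.ext
          simp [mul_assoc]
        show f ⟨x * x' * n * (x * x')⁻¹, _⟩ = y * y' * f n * (y * y')⁻¹
        rw [h2, h1]
        simp [mul_assoc]
      inv_mem' := by
        rintro ⟨x, y⟩ hy n
        have h1 := hy ⟨x⁻¹ * n * x⁻¹⁻¹, hN.conj_mem n n.2 x⁻¹⟩
        have h2 : (⟨x * (x⁻¹ * n * x⁻¹⁻¹) * x⁻¹, hN.conj_mem _ (hN.conj_mem n n.2 x⁻¹) x⟩ : N)
            = n := by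
          apply Subtype.ext
          simp [mul_assoc]
        rw [h2] at h1
        show f ⟨x⁻¹ * n * x⁻¹⁻¹, _⟩ = y⁻¹ * f n * y⁻¹⁻¹
        rw [h1]
        simp [mul_assoc] }
  have hmem : ((g₀, b) : G × M) ∈ S := hconj
  have h := S.zpow_mem hmem i
  have h' := h n
  simpa using h'

/-- Extending a homomorphism from a normal subgroup with cyclic quotient. -/
theorem exists_hom_extension_cyclic (N : Subgroup G) (hN : N.Normal) (g₀ : G)
    (hgen : ∀ x : G, ∃ i : ℤ, x * g₀ ^ (-i) ∈ N)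
    {M : Type v} [Group M] (f : N →* M) (b : M)
    (hconj : ∀ n : N, f ⟨g₀ * n * g₀⁻¹, hN.conj_mem n n.2 g₀⟩ = b * f n * b⁻¹)
    (hpow : ∀ (i : ℤ) (hi : g₀ ^ i ∈ N), f ⟨g₀ ^ i, hi⟩ = b ^ i) :
    ∃ F : G →* M, (∀ n : N, F n = f n) ∧ F g₀ = b := by
  haveI := hN
  let φ : Multiplicative ℤ →* MulAut N :=
    (MulAut.conjNormal : G →* MulAut N).comp (zpowersHom G g₀)
  have hφ : ∀ (z : Multiplicative ℤ) (n : N), ((φ z n : N) : G) =
      g₀ ^ (Multiplicative.toAdd z) * n * (g₀ ^ (Multiplicative.toAdd z))⁻¹ := by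
    intro z n
    show ((MulAut.conjNormal (zpowersHom G g₀ z) n : N) : G) = _
    rw [MulAut.conjNormal_apply, zpowersHom_apply]
  let π : N ⋊[φ] Multiplicative ℤ →* G :=
    SemidirectProduct.lift N.subtype (zpowersHom G g₀) (by
      intro z
      ext n
      show ((φ z n : N) : G) = MulAut.conj (zpowersHom G g₀ z) n
      rw [hφ, zpowersHom_apply, MulAut.conj_apply])
  have hcompat : ∀ z : Multiplicative ℤ, f.comp (φ z).toMonoidHom =
      (MulAut.conj ((zpowersHom M b) z)).toMonoidHom.comp f := by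
    intro z
    ext n
    have h1 := conj_zpow_of_conj N hN g₀ f b hconj (Multiplicative.toAdd z) n
    have h2 : φ z n = ⟨g₀ ^ (Multiplicative.toAdd z) * n * (g₀ ^ (Multiplicative.toAdd z))⁻¹,
        hN.conj_mem n n.2 _⟩ := Subtype.ext (hφ z n)
    simp only [MonoidHom.comp_apply, MulEquiv.coe_toMonoidHom, MulAut.conj_apply]
    rw [h2, h1]
    simp
  let R : N ⋊[φ] Multiplicative ℤ →* M := SemidirectProduct.lift f (zpowersHom M b) hcompat
  have hπ : ∀ s : N ⋊[φ] Multiplicative ℤ, π s = (s.left : G) * g₀ ^ (Multiplicative.toAdd s.right) := by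
    intro s
    simp [π, SemidirectProduct.lift]
  have hR : ∀ s : N ⋊[φ] Multiplicative ℤ, R s = f s.left * b ^ (Multiplicative.toAdd s.right) := by
    intro s
    simp [R, SemidirectProduct.lift]
  have hsurj : Function.Surjective π := by
    intro x
    obtain ⟨i, hi⟩ := hgen x
    refine ⟨⟨⟨x * g₀ ^ (-i), hi⟩, Multiplicative.ofAdd i⟩, ?_⟩
    rw [hπ]
    simp
  have hker : π.ker ≤ R.ker := by
    intro s hs
    rw [MonoidHom.mem_ker] at hs ⊢
    rw [hπ] at hs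
    rw [hR]
    have h1 : (s.left : G) = g₀ ^ (-(Multiplicative.toAdd s.right)) := by
      rw [zpow_neg]
      exact eq_inv_of_mul_eq_one_left hs
    have hi : g₀ ^ (-(Multiplicative.toAdd s.right)) ∈ N := h1 ▸ s.left.2
    have h2 : s.left = ⟨g₀ ^ (-(Multiplicative.toAdd s.right)), hi⟩ := Subtype.ext h1
    rw [h2, hpow, ← zpow_add, neg_add_cancel, zpow_zero]
  refine ⟨(π.liftOfSurjective hsurj) ⟨R, hker⟩, ?_, ?_⟩
  · intro n
    have h1 : (n : G) = π (SemidirectProduct.inl n) := by rw [hπ]; simp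
    rw [h1, MonoidHom.liftOfRightInverse_comp_apply, hR]
    simp
  · have h1 : g₀ = π (SemidirectProduct.inr (Multiplicative.ofAdd 1)) := by rw [hπ]; simp
    conv_lhs => rw [h1]
    rw [MonoidHom.liftOfRightInverse_comp_apply, hR]
    simp

end cyclicext
section cyclicrep
variable {G : Type u} [Group G]

/-- A representation whose restriction to a subgroup is irreducible is irreducible. -/
theorem isIrreducible_of_restrict {V : Type v} [AddCommGroup V] [Module ℂ V]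
    (σ : Representation ℂ G V) (H : Subgroup G)
    (h : Representation.IsIrreducible (σ.comp H.subtype : Representation ℂ H V)) :
    σ.IsIrreducible := by
  haveI := h
  have key : ∀ U : Subrepresentation σ,
      ∃ U' : Subrepresentation (σ.comp H.subtype : Representation ℂ H V),
        U'.toSubmodule = U.toSubmodule := by
    intro U
    exact ⟨⟨U.toSubmodule, fun g v hv => U.apply_mem_toSubmodule (g : G) hv⟩, rfl⟩
  refine { exists_pair_ne := ⟨⊥, ⊤, ?_⟩, eq_bot_or_eq_top := ?_ }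
  · intro hbt
    have h1 : (⊥ : Subrepresentation (σ.comp H.subtype : Representation ℂ H V)) ≠ ⊤ := bot_ne_top
    apply h1
    apply Subrepresentation.toSubmodule_injective
    have h2 := congrArg Subrepresentation.toSubmodule hbt
    exact h2
  · intro U
    obtain ⟨U', hU'⟩ := key U
    rcases h.eq_bot_or_eq_top U' with h' | h'
    · left
      apply Subrepresentation.toSubmodule_injective
      rw [← hU', h']; rfl
    · right
      apply Subrepresentation.toSubmodule_injective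
      rw [← hU', h']; rfl

variable [Finite G]

/-- An invariant irreducible representation of a normal subgroup with cyclic quotient extends. -/
theorem exists_rep_extension_cyclic (N : Subgroup G) (hN : N.Normal) (hcyc : IsCyclic (G ⧸ N))
    {V : Type v} [AddCommGroup V] [Module ℂ V] [FiniteDimensional ℂ V]
    (ρ : Representation ℂ N V) [hρ : ρ.IsIrreducible]
    (hinv : ∀ (g : G) (n : N),
      ρ.character ⟨g * n * g⁻¹, hN.conj_mem n n.2 g⟩ = ρ.character n) :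
    ∃ σ : Representation ℂ G V, σ.IsIrreducible ∧ ∀ n : N, σ (n : G) = ρ n := by
  classical
  haveI := hN
  haveI : Fintype N := Fintype.ofFinite N
  haveI := nontrivial_of_isIrreducible ρ
  obtain ⟨q, hq⟩ := IsCyclic.exists_generator (α := G ⧸ N)
  obtain ⟨g₀, rfl⟩ := QuotientGroup.mk_surjective q
  have hgen : ∀ x : G, ∃ i : ℤ, x * g₀ ^ (-i) ∈ N := by
    intro x
    obtain ⟨i, hi⟩ := Subgroup.mem_zpowers_iff.mp (hq (x : G ⧸ N))
    refine ⟨i, ?_⟩
    rw [← QuotientGroup.eq_one_iff, QuotientGroup.mk_mul, QuotientGroup.mk_zpow, ← hi,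
      ← zpow_add, add_neg_cancel, zpow_zero]
  set m := Nat.card (G ⧸ N) with hm
  have hm0 : 0 < m := Nat.card_pos
  have hord : orderOf (g₀ : G ⧸ N) = m := orderOf_eq_card_of_forall_mem_zpowers hq
  have hdvd : ∀ i : ℤ, g₀ ^ i ∈ N → (m : ℤ) ∣ i := by
    intro i hi
    rw [← hord]
    apply orderOf_dvd_iff_zpow_eq_one.mpr
    rw [← QuotientGroup.mk_zpow]
    exact (QuotientGroup.eq_one_iff _).mpr hi
  have hmN : g₀ ^ m ∈ N := by
    rw [← QuotientGroup.eq_one_iff, QuotientGroup.mk_pow, ← hord, pow_orderOf_eq_one]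
  -- the conjugated representation
  let c : N →* N := (MulAut.conjNormal g₀ : MulAut N).toMonoidHom
  have hc : ∀ n : N, c n = ⟨g₀ * n * g₀⁻¹, hN.conj_mem n n.2 g₀⟩ := fun n =>
    Subtype.ext (by simp [c, MulAut.conjNormal_apply])
  let ρ' : Representation ℂ N V := ρ.comp c
  haveI hρ' : ρ'.IsIrreducible :=
    isIrreducible_comp_of_surjective ρ c (MulAut.conjNormal g₀ : MulAut N).surjective
  have hchar : ρ'.character = ρ.character := by
    ext n
    have := hinv g₀ n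
    show ρ.character (c n) = _
    rw [hc]
    exact this
  have hE : Nonempty (ρ'.Equiv ρ) := by
    have h1 := classInner_rep_eq ρ ρ'
    have h2 := classInner_rep_eq ρ ρ
    rw [if_pos ⟨Representation.Equiv.refl ρ⟩] at h2
    rw [hchar, h2] at h1
    by_contra hne
    rw [if_neg hne] at h1
    exact one_ne_zero h1
  obtain ⟨E⟩ := hE
  let e : V ≃ₗ[ℂ] V := E.toLinearEquiv
  have hE2 : ∀ n v, e (ρ (c n) v) = ρ n (e v) := fun n v =>
    IntertwiningMap.isIntertwining _ _ E.toIntertwiningMap n v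
  let b₀ : (V →ₗ[ℂ] V)ˣ :=
    ⟨e.symm.toLinearMap, e.toLinearMap, by ext v; simp, by ext v; simp⟩
  let f : N →* (V →ₗ[ℂ] V)ˣ := MonoidHom.toHomUnits ρ
  have hf : ∀ n : N, ((f n : (V →ₗ[ℂ] V)ˣ) : V →ₗ[ℂ] V) = ρ n := fun n => rfl
  have hconj₀ : ∀ n : N, f ⟨g₀ * n * g₀⁻¹, hN.conj_mem n n.2 g₀⟩ = b₀ * f n * b₀⁻¹ := by
    intro n
    apply Units.ext
    rw [← hc]
    ext v
    show ρ (c n) v = e.symm (ρ n (e v))
    rw [← hE2, e.symm_apply_apply]
  -- the scalar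
  let z₀ : N := ⟨g₀ ^ m, hmN⟩
  have hpowconj := conj_zpow_of_conj N hN g₀ f b₀ hconj₀ (m : ℤ)
  let t : (V →ₗ[ℂ] V)ˣ := (f z₀)⁻¹ * b₀ ^ m
  have hcomm : ∀ n : N, t * f n = f n * t := by
    intro n
    have h1 := hpowconj n
    have h2 : (⟨g₀ ^ (m : ℤ) * n * (g₀ ^ (m : ℤ))⁻¹, hN.conj_mem n n.2 _⟩ : N) =
        z₀ * n * z₀⁻¹ := Subtype.ext (by simp [z₀])
    rw [h2, map_mul, map_mul, map_inv, zpow_natCast] at h1
    calc t * f n = (f z₀)⁻¹ * (b₀ ^ m * f n * (b₀ ^ m)⁻¹) * b₀ ^ m := by simp [t, mul_assoc]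
      _ = (f z₀)⁻¹ * (f z₀ * f n * (f z₀)⁻¹) * b₀ ^ m := by rw [h1]
      _ = f n * t := by simp [t, mul_assoc]
  obtain ⟨c₀, hc₀⟩ := schur_scalar ρ (t : V →ₗ[ℂ] V) (fun n => by
    have := congrArg Units.val (hcomm n)
    exact this)
  have hc₀ne : c₀ ≠ 0 := by
    rintro rfl
    have h0 : (t : V →ₗ[ℂ] V) = 0 := by rw [hc₀, zero_smul]
    have h1 : (1 : V →ₗ[ℂ] V) = 0 := by
      rw [← Units.inv_mul t, h0, mul_zero]
    exact one_ne_zero h1
  obtain ⟨d, hd⟩ := IsAlgClosed.exists_pow_nat_eq c₀ hm0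
  have hd0 : d ≠ 0 := by
    rintro rfl
    rw [zero_pow hm0.ne'] at hd
    exact hc₀ne hd.symm
  let du : (V →ₗ[ℂ] V)ˣ :=
    Units.map (algebraMap ℂ (V →ₗ[ℂ] V)).toMonoidHom (Units.mk0 d hd0)
  have hdu : ((du : (V →ₗ[ℂ] V)ˣ) : V →ₗ[ℂ] V) = algebraMap ℂ (V →ₗ[ℂ] V) d := rfl
  have hdu_comm : ∀ x : (V →ₗ[ℂ] V)ˣ, du * x = x * du := by
    intro x
    apply Units.ext
    rw [Units.val_mul, Units.val_mul, hdu]
    exact Algebra.commutes d (x : V →ₗ[ℂ] V)
  have hdu_pow : du ^ m = t := by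
    apply Units.ext
    rw [Units.val_pow_eq_pow_val, hdu, ← map_pow, hd, hc₀, Algebra.algebraMap_eq_smul_one]
    rfl
  have ht_comm : ∀ x : (V →ₗ[ℂ] V)ˣ, t * x = x * t := by
    intro x
    rw [← hdu_pow]
    exact (Commute.pow_left (hdu_comm x) m)
  let b : (V →ₗ[ℂ] V)ˣ := du⁻¹ * b₀
  have hconj : ∀ n : N, f ⟨g₀ * n * g₀⁻¹, hN.conj_mem n n.2 g₀⟩ = b * f n * b⁻¹ := by
    intro n
    rw [hconj₀ n]
    calc b₀ * f n * b₀⁻¹ = du⁻¹ * (du * (b₀ * f n * b₀⁻¹)) := by simp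
      _ = du⁻¹ * ((b₀ * f n * b₀⁻¹) * du) := by rw [hdu_comm]
      _ = b * f n * b⁻¹ := by simp [b, mul_assoc]
  have hb₀m : b₀ ^ m = f z₀ * t := by simp [t]
  have hbm : b ^ m = f z₀ := by
    have hcm : Commute du⁻¹ b₀ := Commute.inv_left (hdu_comm b₀)
    calc b ^ m = (du⁻¹) ^ m * b₀ ^ m := hcm.mul_pow m
      _ = t⁻¹ * (f z₀ * t) := by rw [inv_pow, hdu_pow, hb₀m]
      _ = t⁻¹ * (t * f z₀) := by rw [ht_comm]
      _ = f z₀ := by simp
  have hpow : ∀ (i : ℤ) (hi : g₀ ^ i ∈ N), f ⟨g₀ ^ i, hi⟩ = b ^ i := by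
    intro i hi
    obtain ⟨j, rfl⟩ := hdvd i hi
    have h1 : (⟨g₀ ^ ((m : ℤ) * j), hi⟩ : N) = z₀ ^ j :=
      Subtype.ext (by simp [z₀, zpow_mul])
    rw [h1, map_zpow, ← hbm, zpow_mul, zpow_natCast]
  obtain ⟨F, hF, -⟩ := exists_hom_extension_cyclic N hN g₀ hgen f b hconj hpow
  let σ : Representation ℂ G V := (Units.coeHom (V →ₗ[ℂ] V)).comp F
  have hσ : ∀ n : N, σ (n : G) = ρ n := by
    intro n
    show ((F (n : G) : (V →ₗ[ℂ] V)ˣ) : V →ₗ[ℂ] V) = ρ n
    rw [hF n, hf]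
  refine ⟨σ, ?_, hσ⟩
  apply isIrreducible_of_restrict σ N
  have h1 : (σ.comp N.subtype : Representation ℂ N V) = ρ := MonoidHom.ext hσ
  rw [h1]
  exact hρ

end cyclicrep
end Cfsg.Agent.Helper81
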