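import Mathlib
import Cfsg.Prelude.Def_OddOrderLocal
import Cfsg.Agent.Lib.Helper81.BGTypeDefs
import Cfsg.Agent.Lib.Helper55.BGDecomp2
import Cfsg.Agent.Lib.Helper25.BGNat
import Cfsg.Agent.Lib.Helper45.FittingHall
import Cfsg.Agent.Lib.Helper24.SZInternal
import Cfsg.Agent.Lib.Helper79.BG10.Alpha

/-!
# Auxiliary lemmas for the B–G type theorems (S1382, S1383, S1390; helper81)

Pure group theory around `IsComplIn`, relative Sylow subgroups (`IsSylowIn`), the Frattini argument,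
type-P data and `κ(M)`, and conjugation of σ-decompositions.  No `Sxxxx` module is imported.
-/

set_option autoImplicit false
set_option linter.unusedVariables false
set_option linter.style.haveILetI false
set_option linter.unusedSectionVars false

namespace Cfsg.Agent.Helper81.BGType

open Subgroup Cfsg
open Cfsg.Agent.Helper16
open Cfsg.Agent.Helper79.BG10

variable {G : Type*} [Group G]

/-! ### `IsComplIn` -/

theorem isComplIn_symm {A B M : Subgroup G} (h : Cfsg.IsComplIn A B M) : Cfsg.IsComplIn B A M := by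
  refine ⟨h.2.1, h.1, by rw [inf_comm]; exact h.2.2.1, ?_⟩
  intro m hm
  obtain ⟨a, ha, b, hb, e⟩ := h.2.2.2 m⁻¹ (inv_mem hm)
  refine ⟨b⁻¹, inv_mem hb, a⁻¹, inv_mem ha, ?_⟩
  rw [← mul_inv_rev, ← e, inv_inv]

theorem isComplIn_sup {A B M : Subgroup G} (h : Cfsg.IsComplIn A B M) : A ⊔ B = M := by
  apply le_antisymm (sup_le h.1 h.2.1)
  intro m hm
  obtain ⟨a, ha, b, hb, e⟩ := h.2.2.2 m hm
  rw [e]; exact mul_mem (mem_sup_left ha) (mem_sup_right hb)

theorem isComplIn_cj {A B M : Subgroup G} (h : Cfsg.IsComplIn A B M) (g : G) :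
    Cfsg.IsComplIn (cj g A) (cj g B) (cj g M) := by
  refine ⟨cj_mono g h.1, cj_mono g h.2.1, ?_, ?_⟩
  · rw [eq_bot_iff]
    intro x hx
    have h1 : g⁻¹ * x * g ∈ A := mem_cj.mp hx.1
    have h2 : g⁻¹ * x * g ∈ B := mem_cj.mp hx.2
    have h3 : g⁻¹ * x * g ∈ A ⊓ B := ⟨h1, h2⟩
    rw [h.2.2.1, mem_bot] at h3
    rw [mem_bot]
    have : x = g * (g⁻¹ * x * g) * g⁻¹ := by group
    rw [this, h3]; group
  · intro m hm
    obtain ⟨a, ha, b, hb, e⟩ := h.2.2.2 (g⁻¹ * m * g) (mem_cj.mp hm)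
    refine ⟨g * a * g⁻¹, conj_mem_cj ha, g * b * g⁻¹, conj_mem_cj hb, ?_⟩
    have : m = g * (g⁻¹ * m * g) * g⁻¹ := by group
    rw [this, e]; group

/-- A complement in `M` of the normal subgroup `N` of `M`, written in the other order of factors. -/
theorem isComplIn_mul_of_normal {A N M : Subgroup G} (h : Cfsg.IsComplIn A N M)
    (hn : M ≤ normalizer (N : Set G)) :
    ∀ m ∈ M, ∃ b ∈ N, ∃ a ∈ A, m = b * a := by
  intro m hm
  obtain ⟨a, ha, b, hb, e⟩ := h.2.2.2 m hm
  refine ⟨a * b * a⁻¹, ?_, a, ha, by rw [e]; group⟩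
  exact (mem_normalizer_iff.mp (hn (h.1 ha)) b).mp hb

/-- Schur–Zassenhaus existence: a normal Hall subgroup `N` of `M` has a complement in `M`. -/
theorem exists_complIn_of_normal_hall [Finite G] {M N : Subgroup G} (hNM : N ≤ M)
    (hn : M ≤ normalizer (N : Set G)) (hcop : (Nat.card N).Coprime (N.relIndex M)) :
    ∃ E : Subgroup G, Cfsg.IsComplIn E N M := by
  haveI hnorm : (N.subgroupOf M).Normal := (Subgroup.normal_subgroupOf_iff_le_normalizer hNM).mpr hn
  have hcard : Nat.card (N.subgroupOf M) = Nat.card N :=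
    Nat.card_congr (Subgroup.subgroupOfEquivOfLe hNM).toEquiv
  have hcop' : (Nat.card (N.subgroupOf M)).Coprime (N.subgroupOf M).index := by
    rw [hcard]; exact hcop
  obtain ⟨H, hH⟩ := Subgroup.exists_left_complement'_of_coprime hcop'
  refine ⟨H.map M.subtype, Subgroup.map_subtype_le _, hNM, ?_, ?_⟩
  · rw [eq_bot_iff]
    rintro x ⟨⟨h, hh, rfl⟩, hx2⟩
    have : h ∈ H ⊓ N.subgroupOf M := ⟨hh, Subgroup.mem_subgroupOf.mpr hx2⟩
    rw [hH.disjoint.eq_bot, Subgroup.mem_bot] at this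
    rw [Subgroup.mem_bot, this]; rfl
  · intro m hm
    obtain ⟨⟨⟨h, hh⟩, ⟨n, hn'⟩⟩, hmul, -⟩ := hH.existsUnique (⟨m, hm⟩ : M)
    refine ⟨(h : G), ⟨h, hh, rfl⟩, (n : G), Subgroup.mem_subgroupOf.mp hn', ?_⟩
    have := congrArg Subtype.val hmul
    simpa using this.symm

/-! ### The Frattini argument with `IsSylowIn` -/

theorem normalizer_le_of_sylowIn [Finite G] {p : ℕ} [Fact p.Prime] {M V P : Subgroup G}
    (hVM : V ≤ M) (hP : IsSylowIn p V P) (hN : normalizer (P : Set G) ≤ M) :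
    normalizer (V : Set G) ≤ M := by
  intro g hg
  have hgV : cj g V = V := cj_eq_self_of_mem_normalizer hg
  have h1 : IsSylowIn p V (cj g P) := by
    have := isSylowIn_cj hP g
    rwa [hgV] at this
  obtain ⟨z, hz, hzP⟩ := exists_cj_eq_of_isSylowIn hP h1
  have h2 : cj (z⁻¹ * g) P = P := by rw [cj_mul, hzP, cj_inv_cj]
  have h3 : z⁻¹ * g ∈ M := hN (mem_normalizer_of_cj_eq h2)
  have : g = z * (z⁻¹ * g) := by group
  rw [this]; exact mul_mem (hVM hz) h3

theorem factorization_eq_of_mul {p a b c : ℕ} (hp : p.Prime) (h : a * b = c) (hc : c ≠ 0)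
    (hb : ¬ p ∣ b) : a.factorization p = c.factorization p := by
  have ha : a ≠ 0 := by rintro rfl; simp at h; exact hc h.symm
  have hb0 : b ≠ 0 := by rintro rfl; simp at h; exact hc h.symm
  rw [← h, Nat.factorization_mul ha hb0, Finsupp.add_apply, Nat.factorization_eq_zero_of_not_dvd hb,
    add_zero]

/-- A nontrivial Hall subgroup `V` of `M_σ` has `N_G(V) ≤ M`. -/
theorem normalizer_le_of_hall_sigmaCore [Finite G] {M V : Subgroup G}
    (hHall : IsPiHallOf (sigma M) (sigmaCore M) M) (hV : V ≤ sigmaCore M) (hV1 : V ≠ ⊥)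
    (hcop : (Nat.card V).Coprime (V.relIndex (sigmaCore M))) : normalizer (V : Set G) ≤ M := by
  have hMs : sigmaCore M ≤ M := Cfsg.Agent.Helper55.BGB.sigmaCore_le M
  have hc1 : Nat.card V ≠ 1 := fun h => hV1 (Subgroup.card_eq_one.mp h)
  obtain ⟨p, hp, hpV⟩ := Nat.exists_prime_and_dvd hc1
  haveI := Fact.mk hp
  have hpσ : p ∈ sigma M :=
    Cfsg.Agent.Helper55.BGB.isPi_sigmaCore M p hp (hpV.trans (Subgroup.card_dvd_of_le hV))
  obtain ⟨P, -, hP⟩ := exists_isSylowIn_ge (p := p) (K := V) (X := ⊥) IsPGroup.of_bot bot_le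
  have hPM : IsSylowIn p M P := by
    rw [isSylowIn_iff_card]
    refine ⟨hP.le.trans (hV.trans hMs), ?_⟩
    rw [hP.card]
    congr 1
    have e1 : Nat.card V * V.relIndex (sigmaCore M) = Nat.card (sigmaCore M) :=
      Cfsg.Agent.Helper55.BGB.card_mul_relIndex hV
    have e2 : Nat.card (sigmaCore M) * (sigmaCore M).relIndex M = Nat.card M :=
      Cfsg.Agent.Helper55.BGB.card_mul_relIndex hMs
    have hn1 : ¬ p ∣ V.relIndex (sigmaCore M) := fun h =>
      hp.one_lt.ne' (Nat.eq_one_of_dvd_coprimes hcop hpV h)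
    have hn2 : ¬ p ∣ (sigmaCore M).relIndex M := hHall.2.2 p hp hpσ
    rw [factorization_eq_of_mul hp e1 Nat.card_pos.ne' hn1,
      factorization_eq_of_mul hp e2 Nat.card_pos.ne' hn2]
  exact normalizer_le_of_sylowIn (hV.trans hMs) hP (normalizer_le_of_sigma hpσ hPM)

/-! ### `κ(M)` and Hall `κ(M)`-subgroups -/

theorem K_ne_bot_of_kappa_nonempty [Finite G] {M K : Subgroup G}
    (hK : IsPiHallOf (kappa M) K M) (h : (kappa M).Nonempty) : K ≠ ⊥ := by
  rintro rfl
  obtain ⟨p, hp⟩ := h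
  have h1 := hK.2.2 p hp.1 hp
  rw [Subgroup.relIndex_bot_left] at h1
  exact h1 hp.2.1

theorem kappa_nonempty_of_K_ne_bot [Finite G] {M K : Subgroup G}
    (hK : IsPiHallOf (kappa M) K M) (h : K ≠ ⊥) : (kappa M).Nonempty := by
  have hc1 : Nat.card K ≠ 1 := fun h' => h (Subgroup.card_eq_one.mp h')
  obtain ⟨p, hp, hpK⟩ := Nat.exists_prime_and_dvd hc1
  exact ⟨p, hK.2.1 p hp hpK⟩

theorem kappa_eq_empty_of_K_eq_bot [Finite G] {M K : Subgroup G}
    (hK : IsPiHallOf (kappa M) K M) (h : K = ⊥) : kappa M = ∅ := by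
  by_contra hne
  exact K_ne_bot_of_kappa_nonempty hK (Set.nonempty_iff_ne_empty.mpr hne) h

/-! ### Products with a normalized subgroup -/

theorem mem_sup_of_le_normalizer {A N : Subgroup G} (hA : A ≤ normalizer (N : Set G)) {x : G}
    (hx : x ∈ A ⊔ N) : ∃ a ∈ A, ∃ n ∈ N, x = a * n := by
  let S : Subgroup G :=
    { carrier := {x | ∃ a ∈ A, ∃ n ∈ N, x = a * n}
      one_mem' := ⟨1, one_mem _, 1, one_mem _, by simp⟩
      mul_mem' := by
        rintro _ _ ⟨a, ha, n, hn, rfl⟩ ⟨a', ha', n', hn', rfl⟩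
        refine ⟨a * a', mul_mem ha ha', (a'⁻¹ * n * a') * n', mul_mem ?_ hn', by group⟩
        have := (mem_normalizer_iff.mp (hA (inv_mem ha')) n).mp hn
        simpa using this
      inv_mem' := by
        rintro _ ⟨a, ha, n, hn, rfl⟩
        refine ⟨a⁻¹, inv_mem ha, a * n⁻¹ * a⁻¹, ?_, by group⟩
        exact (mem_normalizer_iff.mp (hA ha) n⁻¹).mp (inv_mem hn) }
  have hle : A ⊔ N ≤ S := by
    apply sup_le
    · intro a ha; exact ⟨a, ha, 1, one_mem _, by simp⟩
    · intro n hn; exact ⟨1, one_mem _, n, hn, by simp⟩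
  exact hle hx

theorem isComplIn_sup_of_le_normalizer {A N : Subgroup G} (hA : A ≤ normalizer (N : Set G))
    (hdisj : A ⊓ N = ⊥) : Cfsg.IsComplIn A N (A ⊔ N) :=
  ⟨le_sup_left, le_sup_right, hdisj, fun m hm => mem_sup_of_le_normalizer hA hm⟩

/-! ### Cyclic subgroups -/

theorem isCyclic_of_le {A B : Subgroup G} (h : A ≤ B) (hB : IsCyclic B) : IsCyclic A := by
  haveI := hB
  let e : A.subgroupOf B ≃* A := Subgroup.subgroupOfEquivOfLe h
  exact isCyclic_of_surjective e.toMonoidHom e.surjective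

theorem isCyclic_cj {A : Subgroup G} (hA : IsCyclic A) (g : G) : IsCyclic (cj g A) := by
  haveI := hA
  exact isCyclic_of_surjective ((MulAut.conj g).toMonoidHom.subgroupMap A)
    (MonoidHom.subgroupMap_surjective _ _)

theorem isPGroup_zpowers_of_orderOf {p : ℕ} [Fact p.Prime] {x : G} (h : orderOf x = p) :
    IsPGroup p (zpowers x) := by
  apply IsPGroup.of_card (n := 1)
  rw [Nat.card_zpowers, h, pow_one]

theorem conj_eq_one_iff {z x : G} : z * x * z⁻¹ = 1 ↔ x = 1 := by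
  constructor
  · intro h
    have : x = z⁻¹ * (z * x * z⁻¹) * z := by group
    rw [this, h]; group
  · rintro rfl; group

/-! ### Type-P data force `κ(M) ≠ ∅` -/

theorem kappa_nonempty_of_typeP [Finite G] {M W₁ U W₂ : Subgroup G}
    (hHall : IsPiHallOf (sigma M) (sigmaCore M) M)
    (hFσ : fittingHallOf M ≤ sigmaCore M) (hσM' : sigmaCore M ≤ ⁅M, M⁆)
    (h : IsTypePWith M W₁ U W₂) : (kappa M).Nonempty := by
  have hW₁M : W₁ ≤ M := h.W₁_compl.2.1
  have hc1 : Nat.card W₁ ≠ 1 := fun h' => h.W₁_ne (Subgroup.card_eq_one.mp h')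
  obtain ⟨p, hp, hpW⟩ := Nat.exists_prime_and_dvd hc1
  haveI := Fact.mk hp
  obtain ⟨⟨x, hxW⟩, hxo⟩ := exists_prime_orderOf_dvd_card' (G := W₁) p hpW
  have hxo' : orderOf x = p := by
    rw [← hxo]; exact (Subgroup.orderOf_mk x hxW).symm
  have hx1 : x ≠ 1 := by
    rintro rfl
    rw [orderOf_one] at hxo'
    exact hp.one_lt.ne hxo'
  have hW₂ : W₂ ≠ ⊥ := h.selfNormalizing.2.1
  obtain ⟨y, hyW, hy1⟩ := (Subgroup.ne_bot_iff_exists_ne_one.mp hW₂ |> fun ⟨⟨y, hy⟩, hy1⟩ =>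
    (⟨y, hy, fun e => hy1 (Subtype.ext e)⟩ : ∃ y ∈ W₂, y ≠ 1))
  have hyc : y ∈ ⁅M, M⁆ ⊓ centralizer ({x} : Set G) := by
    rw [h.W₂_centralizer x hxW hx1]; exact hyW
  have hxy : x * y = y * x := (mem_centralizer_iff.mp hyc.2) x rfl
  have hyσ : y ∈ sigmaCore M := hFσ (h.W₂_le hyW).1
  have hzp : IsPGroup p (zpowers x) := isPGroup_zpowers_of_orderOf hxo'
  refine ⟨p, hp, ?_, ?_, ?_⟩
  · have : orderOf (⟨x, hW₁M hxW⟩ : M) = p := by
      rw [← hxo']; exact (Subgroup.orderOf_coe (⟨x, hW₁M hxW⟩ : M)).symm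
    rw [← this]; exact orderOf_dvd_natCard _
  · intro hpσ
    have hz : zpowers x ≤ sigmaCore M :=
      Cfsg.Agent.Helper55.BGB.le_sigmaCore_of_isPGroup hp hHall hpσ
        (zpowers_le.mpr (hW₁M hxW)) hzp
    have hx' : x ∈ ⁅M, M⁆ ⊓ W₁ := ⟨hσM' (hz (mem_zpowers x)), hxW⟩
    rw [h.W₁_compl.2.2.1, mem_bot] at hx'
    exact hx1 hx'
  · intro P
    obtain ⟨T, hxT, hT⟩ := exists_isSylowIn_ge (p := p) (K := W₁) (X := zpowers x) hzp
      (zpowers_le.mpr hxW)
    have hTM : IsSylowIn p M T := by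
      rw [isSylowIn_iff_card]
      refine ⟨hT.le.trans hW₁M, ?_⟩
      rw [hT.card]; congr 1
      have e1 : Nat.card W₁ * W₁.relIndex M = Nat.card M :=
        Cfsg.Agent.Helper55.BGB.card_mul_relIndex hW₁M
      have hn1 : ¬ p ∣ W₁.relIndex M := fun h' =>
        hp.one_lt.ne' (Nat.eq_one_of_dvd_coprimes h.W₁_hall hpW h')
      exact factorization_eq_of_mul hp e1 Nat.card_pos.ne' hn1
    have hPG : IsSylowIn p M ((P : Subgroup M).map M.subtype) := ⟨P, rfl⟩
    obtain ⟨z, hzM, hzP⟩ := exists_cj_eq_of_isSylowIn hTM hPG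
    have hTc : IsCyclic T := isCyclic_of_le hT.le h.W₁_cyclic
    have hPGc : IsCyclic ((P : Subgroup M).map M.subtype) := by rw [hzP]; exact isCyclic_cj hTc z
    constructor
    · haveI := hPGc
      exact isCyclic_of_surjective
        ((P : Subgroup M).equivMapOfInjective M.subtype M.subtype_injective).symm.toMonoidHom
        (MulEquiv.surjective _)
    · have hzx : z * x * z⁻¹ ∈ (P : Subgroup M).map M.subtype := by
        rw [hzP]; exact conj_mem_cj (hxT (mem_zpowers x))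
      obtain ⟨x', hx'P, hx'e⟩ := hzx
      have hx'e' : (x' : G) = z * x * z⁻¹ := hx'e
      refine ⟨x', hx'P, ?_, z * y * z⁻¹, ?_, ?_, ?_⟩
      · rintro rfl
        apply hx1
        have : z * x * z⁻¹ = 1 := by rw [← hx'e']; rfl
        exact conj_eq_one_iff.mp this
      · exact (mem_normalizer_iff.mp
          (Cfsg.Agent.Helper55.BGB.le_normalizer_sigmaCore M hzM) y).mp hyσ
      · intro h'; exact hy1 (conj_eq_one_iff.mp h')
      · rw [hx'e']
        calc z * x * z⁻¹ * (z * y * z⁻¹) = z * (x * y) * z⁻¹ := by group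
          _ = z * (y * x) * z⁻¹ := by rw [hxy]
          _ = z * y * z⁻¹ * (z * x * z⁻¹) := by group

/-! ### Conjugating a σ-decomposition by an element of `M` -/

theorem isSigmaDecomposition_cj [Finite G] {M K U : Subgroup G}
    (h : IsSigmaDecomposition M K U) {n : G} (hn : n ∈ M) :
    IsSigmaDecomposition M (cj n K) (cj n U) := by
  have hM : cj n M = M := cj_eq_self_of_mem hn
  have hMs : cj n (sigmaCore M) = sigmaCore M :=
    cj_eq_self_of_mem_normalizer (Cfsg.Agent.Helper55.BGB.le_normalizer_sigmaCore M hn)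
  have hKM : cj n K ≤ M := by rw [← hM]; exact cj_mono n h.hall.1
  refine ⟨isCyclic_cj h.cyclic n, ?_, ?_, ?_⟩
  · obtain ⟨h1, h2, h3⟩ := h.hall
    refine ⟨hKM, fun p hp hd => h2 p hp (by rwa [card_cj] at hd), fun p hp hpk hd => h3 p hp hpk ?_⟩
    have e1 := Cfsg.Agent.Helper55.BGB.card_mul_relIndex h1
    have e2 := Cfsg.Agent.Helper55.BGB.card_mul_relIndex hKM
    rw [card_cj] at e2
    have : (cj n K).relIndex M = K.relIndex M :=
      Nat.eq_of_mul_eq_mul_left Nat.card_pos (e2.trans e1.symm)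
    rwa [this] at hd
  · have := isComplIn_cj h.compl n
    rw [hM] at this
    have e : cj n (K ⊔ sigmaCore M) = cj n K ⊔ sigmaCore M := by
      show (K ⊔ sigmaCore M).map _ = _
      rw [Subgroup.map_sup]
      show cj n K ⊔ cj n (sigmaCore M) = _
      rw [hMs]
    rwa [e] at this
  · have := cj_mono n h.normal
    rwa [← normalizer_cj] at this

end Cfsg.Agent.Helper81.BGType
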