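import Mathlib
import Cfsg.Agent.Lib.Helper81.BGTypeAux
import Cfsg.Agent.Lib.Helper22.BG11W2
import Cfsg.Agent.Lib.Helper23.FittingHall

/-!
# S1382 (Type III/IV iff `K ≠ 1`, `U = 1`, `M_F ≠ M_σ`) from the earlier rows (helper81)

Everything is parametrised by the statements `Txxxx G` of the earlier rows, so no `Sxxxx` is imported.
-/

set_option autoImplicit false
set_option linter.unusedVariables false
set_option linter.style.haveILetI false
set_option linter.unusedSectionVars false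
set_option maxHeartbeats 800000

namespace Cfsg.Agent.Helper81.BGType

open Subgroup Cfsg
open Cfsg.Agent.Helper16
open Cfsg.Agent.Helper79.BG10

variable {G : Type*} [Group G] [Finite G]

/-- `M_F` is a normal Hall subgroup of `M` (coprimality in relative form). -/
theorem fittingHallOf_coprime_relIndex (M : Subgroup G) :
    (Nat.card (fittingHallOf M)).Coprime ((fittingHallOf M).relIndex M) := by
  have h := Cfsg.Agent.Helper23.fittingHall_coprime (↥M)
  rw [← Cfsg.Agent.Helper23.card_fittingHallOf M] at h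
  have e : (fittingHallOf M).relIndex M = (fittingHall ↥M).index := by
    unfold fittingHallOf
    exact Cfsg.Agent.Helper79.BG10.relIndex_map_subtype' _
  rw [e]; exact h

theorem commute_of_mem_isCyclic {Z : Subgroup G} (hcyc : IsCyclic Z) {x y : G} (hx : x ∈ Z)
    (hy : y ∈ Z) : x * y = y * x := by
  haveI := hcyc
  have h := (IsCyclic.commGroup (α := Z)).mul_comm ⟨x, hx⟩ ⟨y, hy⟩
  exact congrArg Subtype.val h

/-- With `U = 1` in the σ-decomposition, `M = K M_σ`. -/
theorem mem_K_mul_sigmaCore_of_U_bot {M K : Subgroup G} (hKU : IsSigmaDecomposition M K ⊥) :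
    ∀ m ∈ M, ∃ k ∈ K, ∃ s ∈ sigmaCore M, m = k * s := by
  intro m hm
  obtain ⟨a, ha, b, hb, e⟩ := hKU.compl.2.2.2 m hm
  rw [mem_bot] at ha
  subst ha
  rw [one_mul] at e
  subst e
  have hKn : K ≤ normalizer ((sigmaCore M : Subgroup G) : Set G) :=
    hKU.hall.1.trans (Cfsg.Agent.Helper55.BGB.le_normalizer_sigmaCore M)
  exact mem_sup_of_le_normalizer hKn hb

/-- The type-P data `(K, U', K*)` for a σ-decomposition `(K, 1)` with `M' = M_σ`: all clauses except
those about the complement `U'` of `M_F` in `M'` come from the earlier rows. -/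
theorem isTypePWith_of_U_bot (hG : IsMinSimpleOddOrder G)
    (t1355 : T1355 G) (t1356 : T1356 G) (t1364 : T1364 G) (t1365 : T1365 G) (t1366 : T1366 G)
    (t1368 : T1368 G) (t1370 : T1370 G) (t1430 : T1430 G)
    (M : Subgroup G) (hM : IsCoatom M) (K : Subgroup G) (hKU : IsSigmaDecomposition M K ⊥)
    (hK1 : K ≠ ⊥) (U' : Subgroup G) (hU'nil : Group.IsNilpotent U')
    (hU'n : K ≤ normalizer (U' : Set G))
    (hU'c : IsComplIn (fittingHallOf M) U' ⁅M, M⁆) :
    IsTypePWith M K U' (sigmaCore M ⊓ centralizer (K : Set G)) := by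
  obtain ⟨hH1, hHσ, hσM', hM'lt, hnil⟩ := t1355 M hM
  obtain ⟨h56a, h56b, h56c⟩ := t1356 M hM
  obtain ⟨h64a, h64b, h64c, h64d⟩ := t1364 M hM K ⊥ hKU hK1
  obtain ⟨h65a, h65b⟩ := t1365 M hM K ⊥ hKU hK1
  have hM'σ : ⁅M, M⁆ = sigmaCore M := by rw [h65a, bot_sup_eq]
  have hκ : (kappa M).Nonempty := kappa_nonempty_of_K_ne_bot hKU.hall hK1
  have hKσ : K ⊓ sigmaCore M = ⊥ := Cfsg.Agent.Helper55.BGB.K_inf_sigmaCore hKU
  have hMsM : sigmaCore M ≤ M := Cfsg.Agent.Helper55.BGB.sigmaCore_le M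
  have hMn : M ≤ normalizer ((sigmaCore M : Subgroup G) : Set G) :=
    Cfsg.Agent.Helper55.BGB.le_normalizer_sigmaCore M
  obtain ⟨Mstar, ⟨hMst, hKst, hKstH⟩, -⟩ := t1366 M hM K ⊥ hKU hK1
  obtain ⟨h68a, h68b⟩ := t1368 M hM K ⊥ hKU hK1 Mstar hMst hKst hKstH
  obtain ⟨h70a, h70b⟩ := t1370 M hM K ⊥ hKU hK1
  refine
    { W₁_ne := hK1
      W₁_cyclic := hKU.cyclic
      W₁_hall := ?_
      W₁_compl := ?_
      U_nilpotent := hU'nil
      U_normal := hU'n
      U_compl := hU'c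
      H_not_cyclic := h64d
      derived_two_le := by rw [sup_comm, ← h56b]; exact h56a
      fitting_eq := by rw [sup_comm]; exact h56b.symm
      fitting_le := h56c hκ
      W₂_le := le_inf h64c h65b
      W₂_centralizer := ?_
      selfNormalizing := ?_ }
  · -- Hall
    apply Nat.coprime_of_dvd
    intro p hp h1 h2
    exact hKU.hall.2.2 p hp (hKU.hall.2.1 p hp h1) h2
  · -- M' complement of K
    rw [hM'σ]
    refine ⟨hMsM, hKU.hall.1, by rw [inf_comm]; exact hKσ, ?_⟩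
    intro m hm
    obtain ⟨k, hk, s, hs, e⟩ := mem_K_mul_sigmaCore_of_U_bot hKU m hm
    refine ⟨k * s * k⁻¹, ?_, k, hk, by rw [e]; group⟩
    exact (mem_normalizer_iff.mp (hMn (hKU.hall.1 hk)) s).mp hs
  · intro x hx hx1
    rw [hM'σ]
    exact (t1430 M hM K hKU.hall hK1).1 x hx hx1
  · refine ⟨hK1, h64b, ?_, ?_, h68b, ?_⟩
    · rw [eq_bot_iff]
      intro z hz
      have : z ∈ K ⊓ sigmaCore M := ⟨hz.1, hz.2.1⟩
      rwa [hKσ] at this
    · intro a ha b hb
      exact (mem_centralizer_iff.mp hb.2) a ha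
    · intro X hX hXne
      apply le_antisymm
      · intro g hg
        obtain ⟨x, hx⟩ := hXne
        have hxZ := hX hx
        have hgx : g * x * g⁻¹ ∈ X := (Subgroup.mem_set_normalizer_iff.mp hg x).mp hx
        by_contra hgZ
        have hgN : g ∉ normalizer
            ((↑(K ⊔ (sigmaCore M ⊓ centralizer (K : Set G))) : Set G) \
              ((K : Set G) ∪ ↑(sigmaCore M ⊓ centralizer (K : Set G)))) := by
          rw [h70b]; exact hgZ
        have hx1 := h70a g hgN x hxZ (hX hgx)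
        apply hxZ.2
        left
        rw [hx1]; exact one_mem K
      · intro g hg
        rw [Subgroup.mem_set_normalizer_iff]
        intro x
        have hcomm : ∀ y ∈ X, g * y * g⁻¹ = y := by
          intro y hy
          have hyZ : y ∈ K ⊔ (sigmaCore M ⊓ centralizer (K : Set G)) := (hX hy).1
          have := commute_of_mem_isCyclic h68b hg hyZ
          rw [this]; group
        constructor
        · intro hx; rw [hcomm x hx]; exact hx
        · intro hx
          -- g x g⁻¹ ∈ X ⊆ Z, so x ∈ Z and commutes with g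
          have hgxZ : g * x * g⁻¹ ∈ K ⊔ (sigmaCore M ⊓ centralizer (K : Set G)) := (hX hx).1
          have hxZ : x ∈ K ⊔ (sigmaCore M ⊓ centralizer (K : Set G)) := by
            have : x = g⁻¹ * (g * x * g⁻¹) * g := by group
            rw [this]; exact mul_mem (mul_mem (inv_mem hg) hgxZ) hg
          have := commute_of_mem_isCyclic h68b hg hxZ
          have e : g * x * g⁻¹ = x := by rw [this]; group
          rwa [e] at hx


/-- A subgroup of `M'` meeting `M_F` trivially embeds in `M'/M_F`, hence is nilpotent. -/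
theorem nilpotent_of_disjoint_fittingHallOf (M U' : Subgroup G)
    (hnil : Group.IsNilpotent ↥((commutator ↥M).map (QuotientGroup.mk' (fittingHall ↥M))))
    (hU'M' : U' ≤ ⁅M, M⁆) (hdisj : fittingHallOf M ⊓ U' = ⊥) : Group.IsNilpotent U' := by
  have hM'M : ⁅M, M⁆ ≤ M := Subgroup.commutator_le_self M
  have hU'M : U' ≤ M := hU'M'.trans hM'M
  let φ : ↥U' →* ↥M ⧸ fittingHall ↥M :=
    (QuotientGroup.mk' (fittingHall ↥M)).comp (Subgroup.inclusion hU'M)
  have hrange : ∀ u : ↥U', φ u ∈ (commutator ↥M).map (QuotientGroup.mk' (fittingHall ↥M)) := by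
    intro u
    have hu : (u : G) ∈ ⁅M, M⁆ := hU'M' u.2
    rw [← Subgroup.map_subtype_commutator] at hu
    obtain ⟨c, hc, hcu⟩ := hu
    refine ⟨c, hc, ?_⟩
    have : c = Subgroup.inclusion hU'M u := Subtype.ext (by rw [Subgroup.coe_inclusion]; exact hcu)
    rw [this]; rfl
  let ψ : ↥U' →* ↥((commutator ↥M).map (QuotientGroup.mk' (fittingHall ↥M))) :=
    φ.codRestrict _ hrange
  haveI := hnil
  apply Subgroup.isNilpotent_of_ker_le_center ψ
  have hker : ψ.ker = ⊥ := by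
    rw [eq_bot_iff]
    intro u hu
    rw [MonoidHom.mem_ker] at hu
    have h1 : φ u = 1 := by
      have := congrArg Subtype.val hu
      exact this
    have h2 : Subgroup.inclusion hU'M u ∈ fittingHall ↥M := by
      rwa [MonoidHom.comp_apply, QuotientGroup.mk'_apply, QuotientGroup.eq_one_iff] at h1
    have h3 : (u : G) ∈ fittingHallOf M := ⟨_, h2, rfl⟩
    have h4 : (u : G) ∈ fittingHallOf M ⊓ U' := ⟨h3, u.2⟩
    rw [hdisj, mem_bot] at h4
    rw [mem_bot]; exact Subtype.ext h4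
  rw [hker]; exact bot_le

/-- A subgroup of `M` meeting the normal Hall subgroup `M_F` trivially has order coprime to
`|M_F|`. -/
theorem coprime_card_of_disjoint_fittingHallOf {M V : Subgroup G} (hVM : V ≤ M)
    (hdisj : fittingHallOf M ⊓ V = ⊥) :
    (Nat.card V).Coprime (Nat.card (fittingHallOf M)) := by
  have hMnH := Cfsg.Agent.Helper55.BGB.le_normalizer_fittingHallOf M
  have hHM : fittingHallOf M ≤ M := Cfsg.Agent.Helper23.fittingHallOf_le M
  have hcopH := fittingHallOf_coprime_relIndex M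
  have hc : IsComplIn V (fittingHallOf M) (V ⊔ fittingHallOf M) :=
    isComplIn_sup_of_le_normalizer (hVM.trans hMnH) (by rw [inf_comm]; exact hdisj)
  have e1 := Cfsg.Agent.Helper23.card_of_isComplIn hc
  have h3 := Cfsg.Agent.Helper55.BGB.card_mul_relIndex hHM
  have hle : V ⊔ fittingHallOf M ≤ M := sup_le hVM hHM
  have hdvd : Nat.card V * Nat.card (fittingHallOf M) ∣
      (fittingHallOf M).relIndex M * Nat.card (fittingHallOf M) := by
    rw [← e1, mul_comm ((fittingHallOf M).relIndex M), h3]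
    exact Subgroup.card_dvd_of_le hle
  have hposH : 0 < Nat.card (fittingHallOf M) := Nat.card_pos
  have h5 : Nat.card V ∣ (fittingHallOf M).relIndex M := Nat.dvd_of_mul_dvd_mul_right hposH hdvd
  exact (Nat.Coprime.coprime_dvd_right h5 hcopH).symm

/-- A nontrivial complement of `M_F` in `M_σ` has its normalizer in `M`. -/
theorem normalizer_le_of_compl_in_sigmaCore {M V : Subgroup G}
    (hHall : IsPiHallOf (sigma M) (sigmaCore M) M)
    (hc : IsComplIn (fittingHallOf M) V (sigmaCore M)) (hV1 : V ≠ ⊥) :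
    normalizer (V : Set G) ≤ M := by
  have hMsM : sigmaCore M ≤ M := Cfsg.Agent.Helper55.BGB.sigmaCore_le M
  have hcardσ := Cfsg.Agent.Helper23.card_of_isComplIn hc
  have h1 := Cfsg.Agent.Helper55.BGB.card_mul_relIndex (A := V) (M := sigmaCore M) hc.2.1
  have hpos : 0 < Nat.card V := Nat.card_pos
  have h2 : V.relIndex (sigmaCore M) = Nat.card (fittingHallOf M) := by
    apply Nat.eq_of_mul_eq_mul_left hpos
    rw [h1, hcardσ, mul_comm]
  apply normalizer_le_of_hall_sigmaCore hHall hc.2.1 hV1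
  rw [h2]
  exact coprime_card_of_disjoint_fittingHallOf (hc.2.1.trans hMsM) hc.2.2.1

/-- Two complements of `M_σ` in `U₀ M_σ` (one of them `U₀` from a σ-decomposition) are conjugate
under `M_σ`. -/
theorem exists_cj_eq_of_compl_sigmaCore (hG : IsMinSimpleOddOrder G) {M K U₀ U : Subgroup G}
    (hM : IsCoatom M) (hHall : IsPiHallOf (sigma M) (sigmaCore M) M)
    (hKU₀ : IsSigmaDecomposition M K U₀)
    (hc : IsComplIn (sigmaCore M) U (U₀ ⊔ sigmaCore M)) :
    ∃ n ∈ sigmaCore M, U = cj n U₀ := by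
  have hMsM : sigmaCore M ≤ M := Cfsg.Agent.Helper55.BGB.sigmaCore_le M
  have hMnσ := Cfsg.Agent.Helper55.BGB.le_normalizer_sigmaCore M
  have hUM : U₀ ≤ M := hKU₀.compl.1
  have hUn : U₀ ≤ normalizer ((sigmaCore M : Subgroup G) : Set G) := hUM.trans hMnσ
  have hUσ : U₀ ⊓ sigmaCore M = ⊥ := by
    rw [eq_bot_iff, ← hKU₀.compl.2.2.1]
    exact le_inf inf_le_left (inf_le_right.trans le_sup_right)
  have hc2 : IsComplIn U₀ (sigmaCore M) (U₀ ⊔ sigmaCore M) :=
    isComplIn_sup_of_le_normalizer hUn hUσ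
  have e1 := Cfsg.Agent.Helper23.card_of_isComplIn hc
  have e2 := Cfsg.Agent.Helper23.card_of_isComplIn hc2
  have hpos : 0 < Nat.card (sigmaCore M) := Nat.card_pos
  have hcard : Nat.card U = Nat.card U₀ := by
    have : Nat.card (sigmaCore M) * Nat.card U = Nat.card (sigmaCore M) * Nat.card U₀ := by
      rw [← e1, e2, mul_comm]
    exact Nat.eq_of_mul_eq_mul_left hpos this
  have hcop : (Nat.card (sigmaCore M)).Coprime (Nat.card U₀) := by
    apply Nat.Coprime.symm
    apply Nat.coprime_of_dvd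
    intro q hq hqU hqσ
    exact (Cfsg.Agent.Helper55.BGB.U_prime_not_mem hKU₀ hHall hq hqU).2
      (Cfsg.Agent.Helper55.BGB.isPi_sigmaCore M q hq hqσ)
  have hB : U ≤ sigmaCore M ⊔ U₀ := by rw [sup_comm]; exact hc.2.1
  have hsolv : Group.IsSolvable (sigmaCore M) :=
    hG.2.2.2 _ (fun h => hM.1 (top_le_iff.mp (h ▸ hMsM)))
  obtain ⟨n, hn, hUeq⟩ := Cfsg.Agent.Helper24.sz_conj_internal (sigmaCore M) U₀ U hUn
    hsolv hcop hcard hB
  exact ⟨n, hn, hUeq⟩

/-- **S1382, forward direction, from the earlier rows.** -/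
theorem S1382_mp (hG : IsMinSimpleOddOrder G)
    (t1350 : T1350 G) (t1355 : T1355 G) (t1363 : T1363 G) (t1365 : T1365 G) (t1437 : T1437 G)
    (M : Subgroup G) (hM : IsCoatom M) (K U : Subgroup G) (hKU : IsSigmaDecomposition M K U)
    (h : IsOfTypeIII M ∨ IsOfTypeIV M) :
    K ≠ ⊥ ∧ U = ⊥ ∧ fittingHallOf M ≠ sigmaCore M := by
  obtain ⟨hH1, hHσ, hσM', hM'lt, hnil⟩ := t1355 M hM
  obtain ⟨hHall, -, -⟩ := t1350 M hM
  have hMsM : sigmaCore M ≤ M := Cfsg.Agent.Helper55.BGB.sigmaCore_le M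
  have key : ∃ W₁ U' W₂ : Subgroup G, IsTypePWith M W₁ U' W₂ ∧ U' ≠ ⊥ ∧
      normalizer (U' : Set G) ≤ M := by
    rcases h with ⟨W₁, U', W₂, hP, hU'1, -, -, -, hN⟩ | ⟨W₁, U', W₂, hP, hU'1, -, -, -, hN⟩
    · exact ⟨W₁, U', W₂, hP, hU'1, hN⟩
    · exact ⟨W₁, U', W₂, hP, hU'1, hN⟩
  obtain ⟨W₁, U', W₂, hP, hU'1, hN⟩ := key
  have hκ : (kappa M).Nonempty := kappa_nonempty_of_typeP hHall hHσ hσM' hP
  have hK1 : K ≠ ⊥ := K_ne_bot_of_kappa_nonempty hKU.hall hκ
  obtain ⟨h65a, -⟩ := t1365 M hM K U hKU hK1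
  obtain ⟨-, h63⟩ := t1363 M hM K U hKU hK1
  have hne : fittingHallOf M ≠ sigmaCore M := by
    intro heq
    have hc := hP.U_compl
    rw [heq, h65a] at hc
    obtain ⟨n, hn, hU'eq⟩ := exists_cj_eq_of_compl_sigmaCore hG hM hHall hKU hc
    apply h63
    intro g hg
    have h1 : n * g * n⁻¹ ∈ normalizer ((U' : Subgroup G) : Set G) := by
      rw [hU'eq, normalizer_cj]; exact conj_mem_cj hg
    have h2 := hN h1
    have hnM : n ∈ M := hMsM hn
    have : g = n⁻¹ * (n * g * n⁻¹) * n := by group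
    rw [this]; exact mul_mem (mul_mem (inv_mem hnM) h2) hnM
  exact ⟨hK1, (t1437 M hM K U hKU hne).1, hne⟩

/-- **S1382, backward direction, from the earlier rows.** -/
theorem S1382_mpr (hG : IsMinSimpleOddOrder G)
    (t1350 : T1350 G) (t1355 : T1355 G) (t1356 : T1356 G) (t1357 : T1357 G)
    (t1364 : T1364 G) (t1365 : T1365 G) (t1366 : T1366 G) (t1368 : T1368 G) (t1370 : T1370 G)
    (t1430 : T1430 G) (t1437 : T1437 G)
    (M : Subgroup G) (hM : IsCoatom M) (K : Subgroup G) (hKU : IsSigmaDecomposition M K ⊥)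
    (hK1 : K ≠ ⊥) (hne : fittingHallOf M ≠ sigmaCore M) :
    IsOfTypeIII M ∨ IsOfTypeIV M := by
  obtain ⟨hH1, hHσ, hσM', hM'lt, hnil⟩ := t1355 M hM
  obtain ⟨hHall, -, -⟩ := t1350 M hM
  have hMsM : sigmaCore M ≤ M := Cfsg.Agent.Helper55.BGB.sigmaCore_le M
  have hMnσ := Cfsg.Agent.Helper55.BGB.le_normalizer_sigmaCore M
  have hMnH := Cfsg.Agent.Helper55.BGB.le_normalizer_fittingHallOf M
  have hHM : fittingHallOf M ≤ M := Cfsg.Agent.Helper23.fittingHallOf_le M
  have hsolv : ∀ X : Subgroup G, X ≤ M → Group.IsSolvable X := fun X hX =>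
    hG.2.2.2 X (fun h => hM.1 (top_le_iff.mp (h ▸ hX)))
  obtain ⟨-, hσeq, hKp, -⟩ := t1437 M hM K ⊥ hKU hne
  obtain ⟨-, hTI, -⟩ := t1357 M hM K ⊥ hKU hne
  have hcopH := fittingHallOf_coprime_relIndex M
  obtain ⟨E₀, hE₀⟩ := exists_complIn_of_normal_hall hHM hMnH hcopH
  have hKM : K ≤ M := hKU.hall.1
  have hcopHK : (Nat.card (fittingHallOf M)).Coprime (Nat.card K) := by
    apply Nat.coprime_of_dvd
    intro q hq h1 h2
    have hqσ : q ∈ sigma M :=
      Cfsg.Agent.Helper55.BGB.isPi_sigmaCore M q hq (h1.trans (Subgroup.card_dvd_of_le hHσ))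
    exact (hKU.hall.2.1 q hq h2).2.2.1 hqσ
  obtain ⟨E', hE', hKE'⟩ := Cfsg.Agent.Helper22.BG11.exists_compl_ge E₀ hE₀ hMnH hKM
    (Or.inl (hsolv _ hHM)) hcopHK
  have hdisj : fittingHallOf M ⊓ (E' ⊓ sigmaCore M) = ⊥ := by
    rw [eq_bot_iff, ← hE'.2.2.1]
    exact le_inf (inf_le_right.trans inf_le_left) inf_le_left
  have hc : IsComplIn (fittingHallOf M) (E' ⊓ sigmaCore M) (sigmaCore M) := by
    refine ⟨hHσ, inf_le_right, hdisj, ?_⟩
    intro m hm
    obtain ⟨b, hb, a, ha, e⟩ := isComplIn_mul_of_normal hE' hMnH m (hMsM hm)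
    refine ⟨b, hb, a, ⟨ha, ?_⟩, e⟩
    have : a = b⁻¹ * m := by rw [e]; group
    rw [this]; exact (sigmaCore M).mul_mem ((sigmaCore M).inv_mem (hHσ hb)) hm
  have hU'1 : E' ⊓ sigmaCore M ≠ ⊥ := by
    intro h0
    apply hne
    have := isComplIn_sup hc
    rw [h0, sup_bot_eq] at this
    exact this
  have hU'n : K ≤ normalizer ((E' ⊓ sigmaCore M : Subgroup G) : Set G) := by
    intro k hk
    have h1 : k ∈ normalizer ((E' : Subgroup G) : Set G) := le_normalizer (hKE' hk)
    have h2 : k ∈ normalizer ((sigmaCore M : Subgroup G) : Set G) := hMnσ (hKM hk)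
    rw [mem_normalizer_iff] at h1 h2 ⊢
    intro x
    rw [mem_inf, mem_inf, ← h1 x, ← h2 x]
  have hU'nil : Group.IsNilpotent ↥(E' ⊓ sigmaCore M) :=
    nilpotent_of_disjoint_fittingHallOf M _ hnil (inf_le_right.trans hσM') hdisj
  have hNU' : normalizer ((E' ⊓ sigmaCore M : Subgroup G) : Set G) ≤ M :=
    normalizer_le_of_compl_in_sigmaCore hHall hc hU'1
  have hc' : IsComplIn (fittingHallOf M) (E' ⊓ sigmaCore M) ⁅M, M⁆ := by rw [← hσeq]; exact hc
  have hP := isTypePWith_of_U_bot hG t1355 t1356 t1364 t1365 t1366 t1368 t1370 t1430 M hM K hKU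
    hK1 _ hU'nil hU'n hc'
  by_cases hab : IsMulCommutative ↥(E' ⊓ sigmaCore M)
  · left; exact ⟨K, _, _, hP, hU'1, hKp, hTI, hab, hNU'⟩
  · right; exact ⟨K, _, _, hP, hU'1, hKp, hTI, hab, hNU'⟩

/-- **S1382 from the earlier rows.** -/
theorem S1382_of (hG : IsMinSimpleOddOrder G)
    (t1350 : T1350 G) (t1355 : T1355 G) (t1356 : T1356 G) (t1357 : T1357 G) (t1363 : T1363 G)
    (t1364 : T1364 G) (t1365 : T1365 G) (t1366 : T1366 G) (t1368 : T1368 G) (t1370 : T1370 G)
    (t1430 : T1430 G) (t1437 : T1437 G)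
    (M : Subgroup G) (hM : IsCoatom M) (K U : Subgroup G) (hKU : IsSigmaDecomposition M K U) :
    (IsOfTypeIII M ∨ IsOfTypeIV M) ↔ (K ≠ ⊥ ∧ U = ⊥ ∧ fittingHallOf M ≠ sigmaCore M) := by
  constructor
  · exact S1382_mp hG t1350 t1355 t1363 t1365 t1437 M hM K U hKU
  · rintro ⟨hK1, rfl, hne⟩
    exact S1382_mpr hG t1350 t1355 t1356 t1357 t1364 t1365 t1366 t1368 t1370 t1430 t1437 M hM K
      hKU hK1 hne

end Cfsg.Agent.Helper81.BGType
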