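import Mathlib
import Cfsg.Agent.Lib.Helper81.BGTypeIII

/-!
# S1390 (properties of the complement `U` for maximal subgroups of Types I and II) from the earlier
rows (helper81)

Everything is parametrised by the statements `Txxxx G` of the earlier rows, so no `Sxxxx` is imported.
-/

set_option autoImplicit false
set_option linter.unusedVariables false
set_option linter.style.haveILetI false
set_option linter.unusedSectionVars false
set_option maxHeartbeats 800000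

namespace Cfsg.Agent.Helper81.BGType

open Subgroup Cfsg
open Cfsg.Agent.Helper16
open Cfsg.Agent.Helper79.BG10

variable {G : Type*} [Group G] [Finite G]

/-- A `p`-subgroup of `M` is `M`-conjugate into a subgroup `K` of `M` of index prime to `p`. -/
theorem exists_cj_le_of_hall {p : ℕ} [Fact p.Prime] {M K X : Subgroup G} (hKM : K ≤ M)
    (hp : ¬ p ∣ K.relIndex M) (hX : IsPGroup p X) (hXM : X ≤ M) :
    ∃ m ∈ M, cj m X ≤ K := by
  obtain ⟨T, -, hT⟩ := exists_isSylowIn_ge (p := p) (K := K) (X := ⊥) IsPGroup.of_bot bot_le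
  have hTM : IsSylowIn p M T := by
    rw [isSylowIn_iff_card] at hT ⊢
    refine ⟨hT.1.trans hKM, ?_⟩
    rw [hT.2]
    congr 1
    exact factorization_eq_of_mul Fact.out (Cfsg.Agent.Helper55.BGB.card_mul_relIndex hKM)
      Nat.card_pos.ne' hp
  obtain ⟨P, hXP, hP⟩ := exists_isSylowIn_ge hX hXM
  obtain ⟨z, hz, hPz⟩ := exists_cj_eq_of_isSylowIn hP hTM
  refine ⟨z, hz, ?_⟩
  have h1 : cj z X ≤ cj z P := cj_mono z hXP
  rw [← hPz] at h1
  rw [isSylowIn_iff_card] at hT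
  exact h1.trans hT.1

/-- A maximal subgroup of Frobenius type has `κ(M) = ∅`. -/
theorem kappa_eq_empty_of_typeF (hG : IsMinSimpleOddOrder G)
    (t1350 : T1350 G) (t1351 : T1351 G) (t1352 : T1352 G) (t1355 : T1355 G) (t1364 : T1364 G)
    (M : Subgroup G) (hM : IsCoatom M) (hF : IsOfTypeF ↥M) : kappa M = ∅ := by
  by_contra hne
  obtain ⟨p, hpκ⟩ := Set.nonempty_iff_ne_empty.mpr hne
  have hp : p.Prime := hpκ.1
  haveI := Fact.mk hp
  obtain ⟨hH1, hHσ, hσM', hM'lt, hnil⟩ := t1355 M hM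
  obtain ⟨hHall, -, -⟩ := t1350 M hM
  have hMnH := Cfsg.Agent.Helper55.BGB.le_normalizer_fittingHallOf M
  obtain ⟨⟨K, hK⟩, hcyc⟩ := t1351 M hM
  have hKc := hcyc K hK
  have hK1 : K ≠ ⊥ := K_ne_bot_of_kappa_nonempty hK ⟨p, hpκ⟩
  obtain ⟨⟨U', hKU'⟩, -⟩ := t1352 M hM K hKc hK
  obtain ⟨-, hKs1, hKsH, -⟩ := t1364 M hM K U' hKU' hK1
  obtain ⟨-, -, -, -, U₁, hU₁1, hcompl, -, U₀, hU₀U₁, hexp, hfrob⟩ := hF
  have hcardM : Nat.card (fittingHall ↥M) * Nat.card U₁ = Nat.card ↥M := hcompl.card_mul_card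
  have hpM : p ∣ Nat.card ↥M := hpκ.2.1
  have hpH : ¬ p ∣ Nat.card (fittingHall ↥M) := by
    intro h
    rw [← Cfsg.Agent.Helper23.card_fittingHallOf M] at h
    exact hpκ.2.2.1 (Cfsg.Agent.Helper55.BGB.isPi_sigmaCore M p hp
      (h.trans (Subgroup.card_dvd_of_le hHσ)))
  have hpU₁ : p ∣ Nat.card U₁ := by
    rw [← hcardM] at hpM
    exact (hp.dvd_mul.mp hpM).resolve_left hpH
  obtain ⟨v, hv⟩ := exists_prime_orderOf_dvd_card' p hpU₁
  have hpe : p ∣ Monoid.exponent ↥U₁ := by rw [← hv]; exact Monoid.order_dvd_exponent v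
  rw [← hexp] at hpe
  have hpU₀ : p ∣ Nat.card U₀ := hpe.trans Group.exponent_dvd_nat_card
  obtain ⟨u, hu⟩ := exists_prime_orderOf_dvd_card' p hpU₀
  have hu' : orderOf ((u : ↥M) : G) = p := by
    rw [Subgroup.orderOf_coe, Subgroup.orderOf_coe]; exact hu
  have hu1 : (u : ↥M) ≠ 1 := by
    intro h
    have : orderOf (u : ↥M) = 1 := by rw [h, orderOf_one]
    rw [Subgroup.orderOf_coe, hu] at this
    exact hp.one_lt.ne' this
  have hXp : IsPGroup p (zpowers (((u : ↥M) : G))) := isPGroup_zpowers_of_orderOf hu'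
  have hXM : zpowers (((u : ↥M) : G)) ≤ M := by rw [zpowers_le]; exact (u : ↥M).2
  obtain ⟨m, hm, hmK⟩ := exists_cj_le_of_hall hK.1 (hK.2.2 p hp hpκ) hXp hXM
  have hk : m * ((u : ↥M) : G) * m⁻¹ ∈ K := hmK (conj_mem_cj (mem_zpowers _))
  have hex : ∃ z ∈ sigmaCore M ⊓ centralizer (K : Set G), z ≠ 1 := by
    by_contra hcon
    push Not at hcon
    exact hKs1 ((Subgroup.eq_bot_iff_forall _).mpr hcon)
  obtain ⟨z, hz, hz1⟩ := hex
  have hcomm : (m * ((u : ↥M) : G) * m⁻¹) * z = z * (m * ((u : ↥M) : G) * m⁻¹) :=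
    (mem_centralizer_iff.mp hz.2) _ hk
  have hzH : z ∈ fittingHallOf M := hKsH hz
  have hyH : m⁻¹ * z * m ∈ fittingHallOf M := by
    have := (mem_normalizer_iff.mp (hMnH (inv_mem hm)) z).mp hzH
    rwa [inv_inv] at this
  obtain ⟨y', hy', hyy'⟩ := hyH
  have hyy'' : (y' : G) = m⁻¹ * z * m := hyy'
  have hcomm' : (u : ↥M) * y' = y' * (u : ↥M) := by
    apply Subtype.ext
    show ((u : ↥M) : G) * (y' : G) = (y' : G) * ((u : ↥M) : G)
    rw [hyy'']
    calc ((u : ↥M) : G) * (m⁻¹ * z * m)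
        = m⁻¹ * ((m * ((u : ↥M) : G) * m⁻¹) * z) * m := by group
      _ = m⁻¹ * (z * (m * ((u : ↥M) : G) * m⁻¹)) * m := by rw [hcomm]
      _ = (m⁻¹ * z * m) * ((u : ↥M) : G) := by group
  have hy1 : y' = 1 := hfrob (u : ↥M) u.2 hu1 y' hy' hcomm'
  apply hz1
  have h1 : m⁻¹ * z * m = 1 := by rw [← hyy'', hy1]; rfl
  have : z = m * (m⁻¹ * z * m) * m⁻¹ := by group
  rw [this, h1]; group

/-- If `κ(M) = ∅` then `M_F = M_σ`. -/
theorem fittingHallOf_eq_sigmaCore_of_kappa_empty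
    (t1351 : T1351 G) (t1352 : T1352 G) (t1437 : T1437 G)
    (M : Subgroup G) (hM : IsCoatom M) (hκ : kappa M = ∅) : fittingHallOf M = sigmaCore M := by
  by_contra hne
  obtain ⟨⟨K, hK⟩, hcyc⟩ := t1351 M hM
  have hK0 : K = ⊥ := by
    by_contra h
    obtain ⟨q, hq⟩ := kappa_nonempty_of_K_ne_bot hK h
    rw [hκ] at hq; exact hq
  obtain ⟨⟨U', hKU'⟩, -⟩ := t1352 M hM K (hcyc K hK) hK
  obtain ⟨-, -, hKp, -⟩ := t1437 M hM K U' hKU' hne
  rw [hK0, Subgroup.card_bot] at hKp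
  exact Nat.not_prime_one hKp

/-- If `κ(M) = ∅` and `M_F = M_σ`, any complement of `M_F` in `M` gives a σ-decomposition
with `K = 1`. -/
theorem isSigmaDecomposition_bot_of_kappa_empty (t1351 : T1351 G)
    (M : Subgroup G) (hM : IsCoatom M) (hκ : kappa M = ∅)
    (hHσ : fittingHallOf M = sigmaCore M) (U : Subgroup G)
    (hU : IsComplIn (fittingHallOf M) U M) : IsSigmaDecomposition M ⊥ U := by
  obtain ⟨⟨K, hK⟩, hcyc⟩ := t1351 M hM
  have hK0 : K = ⊥ := by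
    by_contra h
    obtain ⟨q, hq⟩ := kappa_nonempty_of_K_ne_bot hK h
    rw [hκ] at hq; exact hq
  subst hK0
  exact
    { cyclic := hcyc _ hK
      hall := hK
      compl := by rw [bot_sup_eq, ← hHσ]; exact isComplIn_symm hU
      normal := bot_le }

/-- For `M` of Type II and any complement `U` of `M_F` in `M'`: `M_F = M_σ` and `U` occurs in a
σ-decomposition `(K, U)` with `K ≠ 1`. -/
theorem typeII_decomp (hG : IsMinSimpleOddOrder G)
    (t1350 : T1350 G) (t1351 : T1351 G) (t1352 : T1352 G) (t1355 : T1355 G) (t1365 : T1365 G)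
    (t1437 : T1437 G)
    (M : Subgroup G) (hM : IsCoatom M) (hII : IsOfTypeII M) (U : Subgroup G)
    (hU : IsComplIn (fittingHallOf M) U ⁅M, M⁆) :
    fittingHallOf M = sigmaCore M ∧ ∃ K : Subgroup G, IsSigmaDecomposition M K U ∧ K ≠ ⊥ := by
  obtain ⟨W₁, U₂, W₂, hP, hU₂1, hW₁p, hTI, hU₂ab, hNU₂, hF', hHH'⟩ := hII
  obtain ⟨hH1, hHσ, hσM', hM'lt, hnil⟩ := t1355 M hM
  obtain ⟨hHall, -, -⟩ := t1350 M hM
  have hMsM : sigmaCore M ≤ M := Cfsg.Agent.Helper55.BGB.sigmaCore_le M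
  have hκ := kappa_nonempty_of_typeP hHall hHσ hσM' hP
  obtain ⟨⟨K₀, hK₀⟩, hcyc⟩ := t1351 M hM
  have hK₀1 := K_ne_bot_of_kappa_nonempty hK₀ hκ
  obtain ⟨⟨U₀, hKU₀⟩, -⟩ := t1352 M hM K₀ (hcyc K₀ hK₀) hK₀
  obtain ⟨h65a, -⟩ := t1365 M hM K₀ U₀ hKU₀ hK₀1
  have hHeq : fittingHallOf M = sigmaCore M := by
    by_contra hne
    obtain ⟨hU₀0, hσeq, -⟩ := t1437 M hM K₀ U₀ hKU₀ hne
    apply hNU₂
    have hc : IsComplIn (fittingHallOf M) U₂ (sigmaCore M) := by rw [hσeq]; exact hP.U_compl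
    exact normalizer_le_of_compl_in_sigmaCore hHall hc hU₂1
  refine ⟨hHeq, ?_⟩
  have hc : IsComplIn (sigmaCore M) U (U₀ ⊔ sigmaCore M) := by rw [← h65a, ← hHeq]; exact hU
  obtain ⟨n, hn, hUeq⟩ := exists_cj_eq_of_compl_sigmaCore hG hM hHall hKU₀ hc
  have hdec := isSigmaDecomposition_cj hKU₀ (hMsM hn)
  rw [← hUeq] at hdec
  refine ⟨cj n K₀, hdec, ?_⟩
  intro h
  apply hK₀1
  have hcard := card_cj n K₀
  rw [h, Subgroup.card_bot] at hcard
  exact Subgroup.card_eq_one.mp hcard.symm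

/-- The second conclusion of S1390 from S1361. -/
theorem centralizer_of_subset (t1361 : T1361 G)
    (M : Subgroup G) (hM : IsCoatom M) (K U : Subgroup G) (hKU : IsSigmaDecomposition M K U)
    (hHσ : fittingHallOf M = sigmaCore M) :
    ∀ X : Set G, X ⊆ (U : Set G) \ {1} → X.Nonempty →
      fittingHallOf M ⊓ Subgroup.centralizer X ≠ ⊥ →
      Subgroup.centralizer X ≤ M ∧
        ∀ L : Subgroup G, IsCoatom L → Subgroup.centralizer X ≤ L → L = M := by
  intro X hXU hXne hcent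
  have hcl : closure X ≤ U := (closure_le U).mpr (fun x hx => (hXU hx).1)
  have hne : closure X ≠ ⊥ := by
    obtain ⟨x, hx⟩ := hXne
    intro h0
    have hxc : x ∈ closure X := subset_closure hx
    rw [h0, mem_bot] at hxc
    exact (hXU hx).2 (Set.mem_singleton_iff.mpr hxc)
  have hcc : centralizer ((closure X : Subgroup G) : Set G) = centralizer X :=
    Subgroup.centralizer_closure X
  have h := t1361 M hM K U hKU (closure X) hcl hne (by rw [hcc, ← hHσ]; exact hcent)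
  rw [hcc] at h
  exact h

/-- `A(M) \ A₁(M)` for `M` of Type I. -/
theorem typeA_diff_eq_of_typeI {M U : Subgroup G} (hI : IsOfTypeI M)
    (hnot : ¬ (IsOfTypeIII M ∨ IsOfTypeIV M)) (hHσ : fittingHallOf M = sigmaCore M)
    (hUσ : U ⊔ sigmaCore M = M) :
    typeA M \ typeA1 M = sigmaA M U \ (sigmaCore M : Set G) := by
  have hA : typeA M =
      {a | a ∈ M ∧ a ≠ 1 ∧ ∃ x ∈ fittingHallOf M, x ≠ 1 ∧ a * x = x * a} := by
    unfold typeA; rw [if_pos hI]
  have hC : typeCore M = fittingHallOf M := by unfold typeCore; rw [if_neg hnot]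
  ext a
  constructor
  · rintro ⟨ha, hn⟩
    rw [hA] at ha
    obtain ⟨haM, ha1, x, hx, hx1, hax⟩ := ha
    refine ⟨⟨⟨haM, x, hHσ ▸ hx, hx1, hax⟩, ?_⟩, ?_⟩
    · show a ∈ U ⊔ sigmaCore M
      rw [hUσ]; exact haM
    · intro h
      apply hn
      refine ⟨?_, fun h1 => ha1 (Set.mem_singleton_iff.mp h1)⟩
      show a ∈ typeCore M
      rw [hC, hHσ]; exact h
  · rintro ⟨⟨⟨haM, x, hx, hx1, hax⟩, -⟩, hn⟩
    have ha1 : a ≠ 1 := fun h1 => hn (by rw [h1]; exact one_mem _)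
    refine ⟨?_, ?_⟩
    · rw [hA]
      exact ⟨haM, ha1, x, hHσ ▸ hx, hx1, hax⟩
    · rintro ⟨h, -⟩
      apply hn
      have h' : a ∈ typeCore M := h
      rw [hC, hHσ] at h'
      exact h'

/-- `A(M) \ A₁(M)` for `M` of Type II. -/
theorem typeA_diff_eq_of_typeII {M U : Subgroup G} (hnI : ¬ IsOfTypeI M)
    (hnot : ¬ (IsOfTypeIII M ∨ IsOfTypeIV M)) (hHσ : fittingHallOf M = sigmaCore M)
    (hUσ : U ⊔ sigmaCore M = ⁅M, M⁆) :
    typeA M \ typeA1 M = sigmaA M U \ (sigmaCore M : Set G) := by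
  have hA : typeA M =
      {a | a ∈ ⁅M, M⁆ ∧ a ≠ 1 ∧ ∃ x ∈ typeCore M, x ≠ 1 ∧ a * x = x * a} := by
    unfold typeA; rw [if_neg hnI]
  have hC : typeCore M = fittingHallOf M := by unfold typeCore; rw [if_neg hnot]
  have hM'M : ⁅M, M⁆ ≤ M := Subgroup.commutator_le_self M
  ext a
  constructor
  · rintro ⟨ha, hn⟩
    rw [hA] at ha
    obtain ⟨haM, ha1, x, hx, hx1, hax⟩ := ha
    rw [hC, hHσ] at hx
    refine ⟨⟨⟨hM'M haM, x, hx, hx1, hax⟩, ?_⟩, ?_⟩
    · show a ∈ U ⊔ sigmaCore M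
      rw [hUσ]; exact haM
    · intro h
      apply hn
      refine ⟨?_, fun h1 => ha1 (Set.mem_singleton_iff.mp h1)⟩
      show a ∈ typeCore M
      rw [hC, hHσ]; exact h
  · rintro ⟨⟨⟨haM, x, hx, hx1, hax⟩, haU⟩, hn⟩
    have ha1 : a ≠ 1 := fun h1 => hn (by rw [h1]; exact one_mem _)
    have haM' : a ∈ ⁅M, M⁆ := by
      have : a ∈ U ⊔ sigmaCore M := haU
      rwa [hUσ] at this
    refine ⟨?_, ?_⟩
    · rw [hA]
      refine ⟨haM', ha1, x, ?_, hx1, hax⟩
      rw [hC, hHσ]; exact hx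
    · rintro ⟨h, -⟩
      apply hn
      have h' : a ∈ typeCore M := h
      rw [hC, hHσ] at h'
      exact h'

/-- **S1390 from the earlier rows.** -/
theorem S1390_of (hG : IsMinSimpleOddOrder G)
    (t1350 : T1350 G) (t1351 : T1351 G) (t1352 : T1352 G) (t1355 : T1355 G) (t1358 : T1358 G)
    (t1361 : T1361 G) (t1362 : T1362 G) (t1363 : T1363 G) (t1364 : T1364 G) (t1365 : T1365 G)
    (t1437 : T1437 G)
    (M : Subgroup G) (hM : IsCoatom M) (U : Subgroup G)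
    (hU : (IsOfTypeI M ∧ IsComplIn (fittingHallOf M) U M) ∨
      (IsOfTypeII M ∧ IsComplIn (fittingHallOf M) U ⁅M, M⁆)) :
    (∀ (p : ℕ), p.Prime → ∀ P : Sylow p U,
        IsMulCommutative (P : Subgroup U) ∧ PRankLE p 2 (P : Subgroup U)) ∧
      (∀ X : Set G, X ⊆ (U : Set G) \ {1} → X.Nonempty →
        fittingHallOf M ⊓ Subgroup.centralizer X ≠ ⊥ →
        Subgroup.centralizer X ≤ M ∧
          ∀ L : Subgroup G, IsCoatom L → Subgroup.centralizer X ≤ L → L = M) ∧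
      IsTISubset (typeA M \ typeA1 M) := by
  obtain ⟨hH1, hHσ', hσM', hM'lt, hnil⟩ := t1355 M hM
  obtain ⟨hHall, -, -⟩ := t1350 M hM
  have key : ∃ K : Subgroup G, IsSigmaDecomposition M K U ∧ fittingHallOf M = sigmaCore M ∧
      typeA M \ typeA1 M = sigmaA M U \ (sigmaCore M : Set G) := by
    rcases hU with ⟨hI, hc⟩ | ⟨hII, hc⟩
    · have hκ := kappa_eq_empty_of_typeF hG t1350 t1351 t1352 t1355 t1364 M hM hI.1
      have hHσ := fittingHallOf_eq_sigmaCore_of_kappa_empty t1351 t1352 t1437 M hM hκ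
      have hKU := isSigmaDecomposition_bot_of_kappa_empty t1351 M hM hκ hHσ U hc
      have hnot : ¬ (IsOfTypeIII M ∨ IsOfTypeIV M) := by
        rintro (⟨W₁, U', W₂, hP, -⟩ | ⟨W₁, U', W₂, hP, -⟩)
        · have := kappa_nonempty_of_typeP hHall hHσ' hσM' hP
          rw [hκ] at this; exact Set.not_nonempty_empty this
        · have := kappa_nonempty_of_typeP hHall hHσ' hσM' hP
          rw [hκ] at this; exact Set.not_nonempty_empty this
      have hUσ : U ⊔ sigmaCore M = M := by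
        have := isComplIn_sup hKU.compl
        rwa [bot_sup_eq] at this
      exact ⟨⊥, hKU, hHσ, typeA_diff_eq_of_typeI hI hnot hHσ hUσ⟩
    · obtain ⟨hHσ, K, hKU, hK1⟩ := typeII_decomp hG t1350 t1351 t1352 t1355 t1365 t1437 M hM hII U hc
      have hnI : ¬ IsOfTypeI M := by
        intro hI
        have hκ := kappa_eq_empty_of_typeF hG t1350 t1351 t1352 t1355 t1364 M hM hI.1
        have := kappa_nonempty_of_K_ne_bot hKU.hall hK1
        rw [hκ] at this; exact Set.not_nonempty_empty this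
      have hnot : ¬ (IsOfTypeIII M ∨ IsOfTypeIV M) := fun h =>
        (S1382_mp hG t1350 t1355 t1363 t1365 t1437 M hM K U hKU h).2.2 hHσ
      have hUσ : U ⊔ sigmaCore M = ⁅M, M⁆ := (t1365 M hM K U hKU hK1).1.symm
      exact ⟨K, hKU, hHσ, typeA_diff_eq_of_typeII hnI hnot hHσ hUσ⟩
  obtain ⟨K, hKU, hHσ, hset⟩ := key
  refine ⟨t1358 M hM K U hKU, centralizer_of_subset t1361 M hM K U hKU hHσ, ?_⟩
  rw [hset]; exact t1362 M hM K U hKU

end Cfsg.Agent.Helper81.BGType
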