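import Mathlib
import Cfsg.Agent.Lib.Helper32.C3Defs
import Cfsg.Agent.Lib.Helper54.Solv

/-!
# C3 server (S4415), piece B1 (helper81)
-/

set_option autoImplicit false
set_option linter.style.haveILetI false

namespace Cfsg.Agent.Helper81.C3

open Cfsg.Agent.Helper32.C3

universe u v

/-- **B1.** `b` lies in the preimage `N` of `O_3(S / O_{3'}(S))`. -/
theorem exists_normal_three_mod {S : Type u} [Group S] [Finite S] {E : Type v} [AddCommGroup E]
    [Module (ZMod 3) E] [Finite E] (ρ : Representation (ZMod 3) S E) (B : Subgroup S) (b : S)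
    (E₀ E₁ : Submodule (ZMod 3) E) (Q : Subgroup S) (P : Sylow 3 S)
    (h : Hyp ρ B b E₀ E₁ Q P) :
    ∃ N : Subgroup S, N.Normal ∧ b ∈ N ∧ ∀ x ∈ N, ∃ j : ℕ, x ^ (3 ^ j) ∈ Cfsg.pPrimeCore 3 S := by
  classical
  haveI : Fact (Nat.Prime 3) := ⟨Nat.prime_three⟩
  haveI := h.solv
  set K : Subgroup S := Cfsg.pPrimeCore 3 S with hKdef
  have hsurj : Function.Surjective (QuotientGroup.mk' K) := QuotientGroup.mk'_surjective K
  haveI : Group.IsSolvable (S ⧸ K) := Group.isSolvable_of_surjective hsurj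
  have hbot : Cfsg.pPrimeCore 3 (S ⧸ K) = ⊥ := Cfsg.Agent.Helper54.pPrimeCore_quotient_eq_bot 3
  have hcent := Cfsg.Agent.Helper54.centralizer_pCore_le (G := S ⧸ K) 3 hbot
  -- `b` is central in `P`
  have hbB : b ∈ B := by
    rw [← h.hb]
    exact Subgroup.mem_zpowers b
  rw [← h.hBZ] at hbB
  obtain ⟨z, hz, hzb⟩ := hbB
  have hbP : ∀ x ∈ (P : Subgroup S), x * b = b * x := by
    intro x hx
    have := (Subgroup.mem_center_iff.mp hz) ⟨x, hx⟩
    have h2 := congrArg Subtype.val this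
    rw [← hzb]
    simpa using h2
  -- the image of `P` is a Sylow subgroup of the quotient
  have hle : Cfsg.pCore 3 (S ⧸ K) ≤ (P : Subgroup S).map (QuotientGroup.mk' K) := by
    have := Cfsg.Agent.Helper54.pCore_le_sylow (P.mapSurjective hsurj)
    rwa [Sylow.coe_mapSurjective] at this
  have hbmem : (QuotientGroup.mk' K) b ∈ Cfsg.pCore 3 (S ⧸ K) := by
    apply hcent
    rw [Subgroup.mem_centralizer_iff]
    intro y hy
    obtain ⟨x, hx, rfl⟩ := hle hy
    rw [← map_mul, ← map_mul, hbP x hx]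
  refine ⟨(Cfsg.pCore 3 (S ⧸ K)).comap (QuotientGroup.mk' K), inferInstance, hbmem, ?_⟩
  intro x hx
  have hx' : (QuotientGroup.mk' K) x ∈ Cfsg.pCore 3 (S ⧸ K) := hx
  obtain ⟨j, hj⟩ := (Cfsg.Agent.Helper54.isPGroup_pCore (G := S ⧸ K) (p := 3)) ⟨_, hx'⟩
  refine ⟨j, ?_⟩
  have h2 := congrArg Subtype.val hj
  simp only [Subgroup.coe_pow, Subgroup.coe_one] at h2
  rw [← map_pow] at h2
  exact (QuotientGroup.eq_one_iff _).mp h2

end Cfsg.Agent.Helper81.C3
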