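import Mathlib
import Cfsg.Agent.Lib.Helper32.C3Defs

/-!
# C3 server (S4415), piece B2 (helper81)
-/

set_option autoImplicit false
set_option linter.style.haveILetI false

namespace Cfsg.Agent.Helper81.C3

open Cfsg.Agent.Helper32.C3
open scoped commutatorElement

universe u v

set_option maxRecDepth 100000 in
/-- a self-map of a four-element set of order three with a moved point has at most one fixed
point -/
theorem fin4_aux : ∀ f : Fin 4 → Fin 4, (∀ i, f (f (f i)) = i) → (∃ i, f i ≠ i) →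
    ∀ i j, f i = i → f j = j → i = j := by
  decide

/-- the same for any type with four elements -/
theorem four_aux {α : Type u} [Finite α] (hα : Nat.card α = 4) (f : α → α)
    (h3 : ∀ x, f (f (f x)) = x) (hne : ∃ x, f x ≠ x) (x y : α) (hx : f x = x) (hy : f y = y) :
    x = y := by
  classical
  let e : α ≃ Fin 4 := Finite.equivFinOfCardEq hα
  have := fin4_aux (fun i => e (f (e.symm i)))
    (by intro i; simp [h3])
    (by
      obtain ⟨x, hx⟩ := hne
      refine ⟨e x, ?_⟩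
      simp only [Equiv.symm_apply_apply, ne_eq, EmbeddingLike.apply_eq_iff_eq]
      exact hx)
    (e x) (e y) (by simp [hx]) (by simp [hy])
  exact e.injective this

/-- **B2.** `Q ≤ K`. -/
theorem Q_le_core {S : Type u} [Group S] [Finite S] {E : Type v} [AddCommGroup E]
    [Module (ZMod 3) E] [Finite E] (ρ : Representation (ZMod 3) S E) (B : Subgroup S) (b : S)
    (E₀ E₁ : Submodule (ZMod 3) E) (Q : Subgroup S) (P : Sylow 3 S)
    (h : Hyp ρ B b E₀ E₁ Q P)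
    (hN : ∃ N : Subgroup S, N.Normal ∧ b ∈ N ∧ ∀ x ∈ N, ∃ j : ℕ, x ^ (3 ^ j) ∈ Cfsg.pPrimeCore 3 S) :
    Q ≤ Cfsg.pPrimeCore 3 S ∧ Four Q b ∧ Q ≤ ⁅Cfsg.pPrimeCore 3 S, Subgroup.zpowers b⁆ := by
  classical
  obtain ⟨N, hNn, hbN, hNK⟩ := hN
  -- `b ^ 3 = 1`
  have hb3 : b ^ 3 = 1 := by
    have h1 : orderOf b = 3 := by
      rw [← Nat.card_zpowers, h.hb, h.cardB]
    rw [← h1]
    exact pow_orderOf_eq_one b
  have hbinv3 : b⁻¹ ^ 3 = 1 := by rw [inv_pow, hb3, inv_one]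
  have hbB : b ∈ B := by
    rw [← h.hb]
    exact Subgroup.mem_zpowers b
  -- `b` normalises `Q`
  have hbQ : ∀ q ∈ Q, b * q * b⁻¹ ∈ Q := by
    intro q hq
    exact (Subgroup.mem_normalizer_iff.mp (h.hBQ hbB) q).mp hq
  -- `q * q = 1` on `Q`
  have hsq : ∀ q ∈ Q, q * q = 1 := by
    intro q hq
    have := h.hQ.2 q hq
    rwa [pow_two] at this
  -- `b` does not centralise `Q`
  have hnc : ∃ q ∈ Q, b * q * b⁻¹ ≠ q := by
    by_contra hcon
    push Not at hcon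
    apply h.hBQ'
    rw [← h.hb, Subgroup.zpowers_le, Subgroup.mem_centralizer_iff]
    intro q hq
    have := hcon q hq
    calc q * b = (b * q * b⁻¹) * b := by rw [this]
      _ = b * q := by group
  have hfour : Four Q b := ⟨h.hQ4, hsq, hbQ, hnc⟩
  -- conjugation by `b` on `Q`
  let f : ↥Q → ↥Q := fun q => ⟨b * q * b⁻¹, hbQ q q.2⟩
  have hf3 : ∀ x, f (f (f x)) = x := by
    intro x
    apply Subtype.ext
    show b * (b * (b * (x : S) * b⁻¹) * b⁻¹) * b⁻¹ = x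
    have hbbb : b * b * b = 1 := by rw [← hb3, pow_succ, pow_succ, pow_one]
    have hiii : b⁻¹ * b⁻¹ * b⁻¹ = 1 := by rw [← hbinv3, pow_succ, pow_succ, pow_one]
    calc b * (b * (b * (x : S) * b⁻¹) * b⁻¹) * b⁻¹ = (b * b * b) * x * (b⁻¹ * b⁻¹ * b⁻¹) := by
          simp only [mul_assoc]
      _ = x := by rw [hbbb, hiii, one_mul, mul_one]
  have hfne : ∃ x, f x ≠ x := by
    obtain ⟨q, hq, hne⟩ := hnc
    refine ⟨⟨q, hq⟩, ?_⟩
    intro hcon
    exact hne (congrArg Subtype.val hcon)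
  -- the only fixed point is `1`
  have hfix : ∀ q ∈ Q, b * q * b⁻¹ = q → q = 1 := by
    intro q hq hqq
    have h1 : f ⟨q, hq⟩ = ⟨q, hq⟩ := Subtype.ext hqq
    have h2 : f 1 = 1 := by
      apply Subtype.ext
      show b * ((1 : ↥Q) : S) * b⁻¹ = ((1 : ↥Q) : S)
      simp
    have := four_aux h.hQ4 f hf3 hfne _ _ h1 h2
    exact congrArg Subtype.val this
  -- every element of `Q` is a commutator with `b`
  let φ : ↥Q → ↥Q := fun q => ⟨(q : S) * (b * (q : S)⁻¹ * b⁻¹),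
    Q.mul_mem q.2 (hbQ _ (Q.inv_mem q.2))⟩
  have hφinj : Function.Injective φ := by
    intro x y hxy
    have h1 : (x : S) * (b * (x : S)⁻¹ * b⁻¹) = (y : S) * (b * (y : S)⁻¹ * b⁻¹) :=
      congrArg Subtype.val hxy
    have h2 : b * ((y : S)⁻¹ * x) * b⁻¹ = (y : S)⁻¹ * x := by
      have h3 : (y : S)⁻¹ * x = (b * (y : S)⁻¹ * b⁻¹) * (b * (x : S)⁻¹ * b⁻¹)⁻¹ := by
        have : (x : S) = (y : S) * (b * (y : S)⁻¹ * b⁻¹) * (b * (x : S)⁻¹ * b⁻¹)⁻¹ := by
          rw [← h1]; group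
        calc (y : S)⁻¹ * x = (y : S)⁻¹ * ((y : S) * (b * (y : S)⁻¹ * b⁻¹) *
              (b * (x : S)⁻¹ * b⁻¹)⁻¹) := by rw [← this]
          _ = (b * (y : S)⁻¹ * b⁻¹) * (b * (x : S)⁻¹ * b⁻¹)⁻¹ := by group
      calc b * ((y : S)⁻¹ * x) * b⁻¹ = (b * (y : S)⁻¹ * b⁻¹) * (b * (x : S)⁻¹ * b⁻¹)⁻¹ := by group
        _ = (y : S)⁻¹ * x := h3.symm
    have h4 := hfix _ (Q.mul_mem (Q.inv_mem y.2) x.2) h2
    apply Subtype.ext
    calc (x : S) = y * ((y : S)⁻¹ * x) := by group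
      _ = y := by rw [h4, mul_one]
  have hφsurj : Function.Surjective φ := Finite.injective_iff_surjective.mp hφinj
  have hcomm : ∀ q ∈ Q, ∃ q' ∈ Q, q = q' * (b * q'⁻¹ * b⁻¹) := by
    intro q hq
    obtain ⟨q', hq'⟩ := hφsurj ⟨q, hq⟩
    exact ⟨q', q'.2, (congrArg Subtype.val hq').symm⟩
  -- `Q ≤ N`, hence `Q ≤ K`
  have hQK : Q ≤ Cfsg.pPrimeCore 3 S := by
    intro q hq
    obtain ⟨q', hq', hqq'⟩ := hcomm q hq
    have hqN : q ∈ N := by
      rw [hqq']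
      have : q' * (b * q'⁻¹ * b⁻¹) = (q' * b * q'⁻¹) * b⁻¹ := by group
      rw [this]
      exact N.mul_mem (hNn.conj_mem b hbN q') (N.inv_mem hbN)
    obtain ⟨j, hj⟩ := hNK q hqN
    have hodd : Odd (3 ^ j) := Odd.pow (by decide)
    obtain ⟨m, hm⟩ := hodd
    have hq2 : q ^ 2 = 1 := by rw [pow_two]; exact hsq q hq
    have : q ^ (3 ^ j) = q := by
      rw [hm, pow_succ, pow_mul, hq2, one_pow, one_mul]
    rwa [this] at hj
  refine ⟨hQK, hfour, ?_⟩
  intro q hq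
  obtain ⟨q', hq', hqq'⟩ := hcomm q hq
  have : q = ⁅q', b⁆ := by
    rw [hqq', commutatorElement_def]
    group
  rw [this]
  exact Subgroup.commutator_mem_commutator (hQK hq') (Subgroup.mem_zpowers b)

end Cfsg.Agent.Helper81.C3
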