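import Cfsg.Agent.Lib.Helper81.CharGoingUp
set_option autoImplicit false
set_option linter.style.haveILetI false
set_option linter.unusedSectionVars false
namespace Cfsg.Agent.Helper81
open scoped ComplexConjugate
universe u v w

section centralsplit
variable {Q : Type u} [Group Q] [Finite Q]

/-- The `k`-primary part of a central subgroup `Z`. -/
def primaryPart (Z : Subgroup Q) (hZc : Z ≤ Subgroup.center Q) (k : ℕ) : Subgroup Q where
  carrier := {z | z ∈ Z ∧ ∃ j : ℕ, z ^ (k ^ j) = 1}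
  one_mem' := ⟨Z.one_mem, 0, by simp⟩
  mul_mem' := by
    rintro a b ⟨ha, i, hi⟩ ⟨hb, j, hj⟩
    refine ⟨Z.mul_mem ha hb, i + j, ?_⟩
    have hc : Commute a b := (Subgroup.mem_center_iff.mp (hZc ha) b).symm
    rw [hc.mul_pow, pow_add, pow_mul, hi, one_pow, one_mul, mul_comm (k ^ i), pow_mul, hj, one_pow]
  inv_mem' := by
    rintro a ⟨ha, i, hi⟩
    exact ⟨Z.inv_mem ha, i, by rw [inv_pow, hi, inv_one]⟩

theorem mem_primaryPart (Z : Subgroup Q) (hZc : Z ≤ Subgroup.center Q) (k : ℕ) (z : Q) :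
    z ∈ primaryPart Z hZc k ↔ z ∈ Z ∧ ∃ j : ℕ, z ^ (k ^ j) = 1 := Iff.rfl

theorem primaryPart_le (Z : Subgroup Q) (hZc : Z ≤ Subgroup.center Q) (k : ℕ) :
    primaryPart Z hZc k ≤ Z := fun _ h => h.1

/-- Every prime divisor of the order of the primary part divides `k`. -/
theorem prime_dvd_of_dvd_card_primaryPart (Z : Subgroup Q) (hZc : Z ≤ Subgroup.center Q) (k : ℕ)
    {p : ℕ} (hp : p.Prime) (hdvd : p ∣ Nat.card (primaryPart Z hZc k)) : p ∣ k := by
  haveI : Fact p.Prime := ⟨hp⟩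
  obtain ⟨a, ha⟩ := exists_prime_orderOf_dvd_card' p hdvd
  obtain ⟨-, j, hj⟩ := a.2
  have h1 : orderOf (a : Q) = p := by rw [Subgroup.orderOf_coe, ha]
  have h2 : p ∣ k ^ j := by
    rw [← h1]
    exact orderOf_dvd_of_pow_eq_one hj
  exact hp.dvd_of_dvd_pow h2

/-- The index of the primary part in `Z` is coprime to `k`. -/
theorem coprime_relIndex_primaryPart (Z : Subgroup Q) (hZc : Z ≤ Subgroup.center Q) (k : ℕ) :
    Nat.Coprime k ((primaryPart Z hZc k).relIndex Z) := by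
  apply Nat.coprime_of_dvd
  intro p hp hpk hpi
  haveI : Fact p.Prime := ⟨hp⟩
  set A := primaryPart Z hZc k with hA
  haveI hAn : (A.subgroupOf Z).Normal := by
    constructor
    intro n hn g
    rw [Subgroup.mem_subgroupOf] at hn ⊢
    have hc := Subgroup.mem_center_iff.mp (hZc (primaryPart_le Z hZc k hn)) (g : Q)
    have : ((g * n * g⁻¹ : Z) : Q) = (n : Q) := by
      simp only [Subgroup.coe_mul, Subgroup.coe_inv]
      rw [hc, mul_inv_cancel_right]
    rw [this]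
    exact hn
  have hcard : p ∣ Nat.card (Z ⧸ A.subgroupOf Z) := by
    rw [← Subgroup.index_eq_card]
    exact hpi
  obtain ⟨y, hy⟩ := exists_prime_orderOf_dvd_card' p hcard
  obtain ⟨z, rfl⟩ := QuotientGroup.mk_surjective y
  have h1 : ((z ^ p : Z) : Z ⧸ A.subgroupOf Z) = 1 := by
    rw [QuotientGroup.mk_pow, ← hy, pow_orderOf_eq_one]
  rw [QuotientGroup.eq_one_iff, Subgroup.mem_subgroupOf] at h1
  obtain ⟨-, j, hj⟩ := h1
  have h2 : (z : Q) ∈ A := by
    refine ⟨z.2, j + 1, ?_⟩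
    obtain ⟨c, rfl⟩ := hpk
    have : (p * c) ^ (j + 1) = p * (p * c) ^ j * c := by ring
    rw [this, pow_mul, pow_mul]
    have h3 : ((z ^ p : Z) : Q) = (z : Q) ^ p := by simp
    rw [← h3, hj, one_pow]
  have h4 : ((z : Z) : Z ⧸ A.subgroupOf Z) = 1 := by
    rw [QuotientGroup.eq_one_iff, Subgroup.mem_subgroupOf]
    exact h2
  rw [h4, orderOf_one] at hy
  exact hp.one_lt.ne hy

end centralsplit

section centralsplit2
variable {Q : Type u} [Group Q] [Finite Q]

theorem comm_mem_of_central_decomp (H : Subgroup Q) {a b c₁ c₂ h₁ h₂ : Q}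
    (hc₁ : c₁ ∈ Subgroup.center Q) (hc₂ : c₂ ∈ Subgroup.center Q) (hh₁ : h₁ ∈ H) (hh₂ : h₂ ∈ H)
    (ha : a = c₁ * h₁) (hb : b = c₂ * h₂) : a * b * a⁻¹ * b⁻¹ ∈ H := by
  have e1 : ∀ x, x * c₁ = c₁ * x := Subgroup.mem_center_iff.mp hc₁
  have e2 : ∀ x, x * c₂ = c₂ * x := Subgroup.mem_center_iff.mp hc₂
  have h : a * b * a⁻¹ * b⁻¹ = h₁ * h₂ * h₁⁻¹ * h₂⁻¹ := by
    rw [ha, hb]
    calc c₁ * h₁ * (c₂ * h₂) * (c₁ * h₁)⁻¹ * (c₂ * h₂)⁻¹
        = c₁ * (h₁ * (c₂ * h₂) * h₁⁻¹) * c₁⁻¹ * (c₂ * h₂)⁻¹ := by group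
      _ = (h₁ * (c₂ * h₂) * h₁⁻¹) * c₁ * c₁⁻¹ * (c₂ * h₂)⁻¹ := by rw [e1]
      _ = c₂ * (h₁ * h₂ * h₁⁻¹ * h₂⁻¹) * c₂⁻¹ := by
          have h3 : h₁ * (c₂ * h₂) = c₂ * (h₁ * h₂) := by rw [← mul_assoc, e2 h₁, mul_assoc]
          rw [h3]; group
      _ = (h₁ * h₂ * h₁⁻¹ * h₂⁻¹) * c₂ * c₂⁻¹ := by rw [e2]
      _ = h₁ * h₂ * h₁⁻¹ * h₂⁻¹ := by group
  rw [h]
  exact H.mul_mem (H.mul_mem (H.mul_mem hh₁ hh₂) (H.inv_mem hh₁)) (H.inv_mem hh₂)

theorem pow_card_eq_one_of_mem {G : Type*} [Group G] (H : Subgroup G) {g : G} (hg : g ∈ H) :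
    g ^ Nat.card H = 1 := by
  have h := orderOf_dvd_natCard (⟨g, hg⟩ : H)
  rw [Subgroup.orderOf_mk] at h
  exact orderOf_dvd_iff_pow_eq_one.mp h

/-- Splitting off the `π`-part of a central subgroup. -/
theorem exists_central_split (G Z : Subgroup Q) [hG : G.Normal] (hZG : Z ≤ G)
    (hZc : Z ≤ Subgroup.center Q) (hcop : G.index.Coprime (Z.relIndex G)) :
    ∃ H S : Subgroup Q, H.Normal ∧ H ≤ G ∧ (∀ g ∈ G, ∃ h ∈ H, ∃ z ∈ Z, g = h * z) ∧
      (∀ x : Q, ∃ h ∈ H, ∃ s ∈ S, x = h * s) ∧ (Nat.card H).Coprime (Nat.card S) ∧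
      (Z.relIndex G).Coprime (Nat.card S) ∧ (∀ a ∈ G, ∀ b ∈ G, a * b * a⁻¹ * b⁻¹ ∈ H) ∧
      H ⊓ S = ⊥ := by
  classical
  set k := G.index with hk
  set m := Z.relIndex G with hm
  set A := primaryPart Z hZc k with hA
  have hAZ : A ≤ Z := primaryPart_le Z hZc k
  have hAc : A ≤ Subgroup.center Q := hAZ.trans hZc
  have hAG : A ≤ G := hAZ.trans hZG
  -- coprimality facts
  have h3a : Nat.Coprime (Nat.card A) m := by
    apply Nat.coprime_of_dvd
    intro p hp hpA hpm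
    have hpk := prime_dvd_of_dvd_card_primaryPart Z hZc k hp hpA
    exact hp.one_lt.ne' (Nat.eq_one_of_dvd_coprimes hcop hpk hpm)
  have h3b : Nat.Coprime k (A.relIndex Z) := coprime_relIndex_primaryPart Z hZc k
  have h3c : Nat.Coprime (Nat.card A) (A.relIndex Z) := by
    apply Nat.coprime_of_dvd
    intro p hp hpA hpi
    have hpk := prime_dvd_of_dvd_card_primaryPart Z hZc k hp hpA
    exact hp.one_lt.ne' (Nat.eq_one_of_dvd_coprimes h3b hpk hpi)
  -- first complement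
  set A' : Subgroup G := A.subgroupOf G with hA'
  haveI hAn : A.Normal := by
    constructor
    intro n hn g
    have hc := Subgroup.mem_center_iff.mp (hAc hn) g
    rw [hc, mul_inv_cancel_right]
    exact hn
  haveI hA'n : A'.Normal := hAn.subgroupOf G
  have hcardA' : Nat.card A' = Nat.card A :=
    Nat.card_congr (Subgroup.subgroupOfEquivOfLe hAG).toEquiv
  have hidxA' : A'.index = A.relIndex Z * m := by
    show A.relIndex G = _
    rw [hm, Subgroup.relIndex_mul_relIndex A Z G hAZ hZG]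
  have hcopA' : Nat.Coprime (Nat.card A') A'.index := by
    rw [hcardA', hidxA']
    exact Nat.Coprime.mul_right h3c h3a
  obtain ⟨H', hH'⟩ := Subgroup.exists_right_complement'_of_coprime hcopA'
  have hcardH' : Nat.card H' = A'.index := (hH'.symm.index_eq_card).symm
  have hidxH' : H'.index = Nat.card A' := hH'.index_eq_card
  obtain ⟨n, hn⟩ : ∃ n : ℕ, n = Nat.card H' := ⟨_, rfl⟩
  have hnA : Nat.Coprime n (Nat.card A') := by
    rw [hn, hcardH']
    exact hcopA'.symm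
  -- decomposition of elements of `G`
  have hdec : ∀ g : G, ∃ a ∈ A', ∃ h ∈ H', g = a * h := by
    intro g
    obtain ⟨x, hx, -⟩ := hH'.existsUnique g
    exact ⟨x.1, x.1.2, x.2, x.2.2, hx.symm⟩
  have hA'c : ∀ a ∈ A', ∀ g : G, g * a = a * g := by
    intro a ha g
    apply Subtype.ext
    have := Subgroup.mem_center_iff.mp (hAc (Subgroup.mem_subgroupOf.mp ha)) (g : Q)
    simpa using this
  -- characterisation of `H'`
  have hchar : ∀ g : G, g ∈ H' ↔ g ^ n = 1 := by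
    intro g
    constructor
    · intro hg
      rw [hn]
      exact pow_card_eq_one_of_mem H' hg
    · intro hg
      obtain ⟨a, ha, h, hh, rfl⟩ := hdec g
      have hcomm : Commute a h := (hA'c a ha h).symm
      rw [hcomm.mul_pow] at hg
      have hhn : h ^ n = 1 := by
        rw [hn]
        exact pow_card_eq_one_of_mem H' hh
      rw [hhn, mul_one] at hg
      have han : a ^ Nat.card A' = 1 := pow_card_eq_one_of_mem A' ha
      have h1 : orderOf a ∣ n := orderOf_dvd_of_pow_eq_one hg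
      have h2 : orderOf a ∣ Nat.card A' := orderOf_dvd_of_pow_eq_one han
      have h3 : orderOf a = 1 := Nat.eq_one_of_dvd_coprimes hnA h1 h2
      rw [orderOf_eq_one_iff] at h3
      rw [h3, one_mul]
      exact hh
  set H : Subgroup Q := H'.map G.subtype with hH
  have hHG : H ≤ G := by
    rintro _ ⟨h, -, rfl⟩
    exact h.2
  have hmemH : ∀ (x : Q) (hx : x ∈ G), x ∈ H ↔ (⟨x, hx⟩ : G) ∈ H' := by
    intro x hx
    constructor
    · rintro ⟨h, hh, rfl⟩
      exact hh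
    · intro h
      exact ⟨⟨x, hx⟩, h, rfl⟩
  have hHn : H.Normal := by
    constructor
    intro x hx g
    have hxG : x ∈ G := hHG hx
    have hgx : g * x * g⁻¹ ∈ G := hG.conj_mem x hxG g
    rw [hmemH _ hgx, hchar]
    have h1 := (hchar ⟨x, hxG⟩).mp ((hmemH x hxG).mp hx)
    apply Subtype.ext
    have h2 : ((⟨x, hxG⟩ : G) : Q) ^ n = 1 := by
      have := congrArg (fun y : G => (y : Q)) h1
      simpa using this
    simp only [Subgroup.coe_pow, Subgroup.coe_one]
    rw [conj_pow, h2, mul_one, mul_inv_cancel]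
  haveI := hHn
  have hcardH : Nat.card H = n := by
    rw [hn]
    exact Subgroup.card_map_of_injective G.subtype_injective
  have hsubH : H.subgroupOf G = H' := by
    rw [hH]
    exact Subgroup.comap_map_eq_self_of_injective G.subtype_injective H'
  have hidxH : H.index = Nat.card A * k := by
    rw [← Subgroup.relIndex_mul_index hHG]
    show (H.subgroupOf G).index * _ = _
    rw [hsubH, hidxH', hcardA']
  have hcopH : Nat.Coprime (Nat.card H) H.index := by
    rw [hcardH, hidxH, hn, hcardH', hidxA']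
    apply Nat.Coprime.mul_left
    · exact Nat.Coprime.mul_right h3c.symm h3b.symm
    · exact Nat.Coprime.mul_right h3a.symm hcop.symm
  obtain ⟨S, hS⟩ := Subgroup.exists_right_complement'_of_coprime hcopH
  have hcardS : Nat.card S = H.index := (hS.symm.index_eq_card).symm
  refine ⟨H, S, hHn, hHG, ?_, ?_, ?_, ?_, ?_, ?_⟩
  · intro g hg
    obtain ⟨a, ha, h, hh, hgah⟩ := hdec ⟨g, hg⟩
    refine ⟨h, ⟨h, hh, rfl⟩, a, hAZ (Subgroup.mem_subgroupOf.mp ha), ?_⟩
    have h1 := congrArg (fun y : G => (y : Q)) hgah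
    simp only [Subgroup.coe_mul] at h1
    rw [h1]
    exact (Subgroup.mem_center_iff.mp (hAc (Subgroup.mem_subgroupOf.mp ha)) (h : Q)).symm
  · intro x
    obtain ⟨y, hy, -⟩ := hS.existsUnique x
    exact ⟨y.1, y.1.2, y.2, y.2.2, hy.symm⟩
  · rw [hcardS]
    exact hcopH
  · rw [hcardS, hidxH]
    exact Nat.Coprime.mul_right h3a.symm hcop.symm
  · intro a ha b hb
    obtain ⟨a₁, ha₁, h₁, hh₁, hah⟩ := hdec ⟨a, ha⟩
    obtain ⟨a₂, ha₂, h₂, hh₂, hbh⟩ := hdec ⟨b, hb⟩
    have e1 := congrArg (fun y : G => (y : Q)) hah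
    have e2 := congrArg (fun y : G => (y : Q)) hbh
    simp only [Subgroup.coe_mul] at e1 e2
    exact comm_mem_of_central_decomp H (hAc (Subgroup.mem_subgroupOf.mp ha₁))
      (hAc (Subgroup.mem_subgroupOf.mp ha₂)) ⟨h₁, hh₁, rfl⟩ ⟨h₂, hh₂, rfl⟩ e1 e2
  · exact hS.disjoint.eq_bot

end centralsplit2

end Cfsg.Agent.Helper81
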