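import Cfsg.Agent.Lib.Helper81.CharCoprimeAct
set_option autoImplicit false
set_option linter.style.haveILetI false
set_option linter.unusedSectionVars false
namespace Cfsg.Agent.Helper81
open Representation
open scoped ComplexConjugate
open scoped commutatorElement
universe u v w

section goingup
variable {G : Type u} [Group G] [Fintype G] {S : Type v} [Group S]

/-- Restriction of an action by automorphisms to an invariant subgroup. -/
def autResHom (σ : S →* MulAut G) (T : Subgroup G) (hT : ∀ (s : S), ∀ t ∈ T, σ s t ∈ T) :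
    S →* MulAut T where
  toFun s := autRes σ T hT s
  map_one' := by
    apply MulEquiv.ext
    intro t
    apply Subtype.ext
    rw [autRes_apply_coe]
    simp
  map_mul' s s' := by
    apply MulEquiv.ext
    intro t
    apply Subtype.ext
    rw [autRes_apply_coe]
    simp [autRes_apply_coe]

theorem autResHom_apply_coe (σ : S →* MulAut G) (T : Subgroup G)
    (hT : ∀ (s : S), ∀ t ∈ T, σ s t ∈ T) (s : S) (t : T) :
    ((autResHom σ T hT s t : T) : G) = σ s t := rfl

/-- Induction commutes with automorphisms stabilizing the subgroup and the character. -/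
theorem indFun_comp_aut (α : G ≃* G) (T : Subgroup G) (hT : ∀ t, t ∈ T ↔ α t ∈ T) (ψ : T → ℂ)
    (hψ : ∀ t : T, ψ ⟨α t, (hT t).mp t.2⟩ = ψ t) (g : G) :
    indFun T ψ (α g) = indFun T ψ g := by
  rw [indFun_apply, indFun_apply]
  congr 1
  rw [← Equiv.sum_comp α.toEquiv]
  apply Finset.sum_congr rfl
  intro y _
  have h1 : (α.toEquiv y)⁻¹ * α g * α.toEquiv y = α (y⁻¹ * g * y) := by
    simp
  rw [h1]
  by_cases hz : y⁻¹ * g * y ∈ T
  · rw [extendByZero_apply_mem T ψ hz, extendByZero_apply_mem T ψ ((hT _).mp hz)]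
    exact hψ ⟨_, hz⟩
  · rw [extendByZero_apply_not_mem T ψ hz, extendByZero_apply_not_mem T ψ]
    intro h
    exact hz ((hT _).mpr h)


/-- Linear characters of `G` trivial on `N`, as a subgroup of `G →* ℂˣ`. -/
def linSub (N : Subgroup G) : Subgroup (G →* ℂˣ) where
  carrier := {l | ∀ n ∈ N, l n = 1}
  one_mem' := fun _ _ => rfl
  mul_mem' := fun {a b} ha hb n hn => by
    rw [MonoidHom.mul_apply, ha n hn, hb n hn, one_mul]
  inv_mem' := fun {a} ha n hn => by
    rw [MonoidHom.inv_apply, ha n hn, inv_one]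

theorem mem_linSub (N : Subgroup G) (l : G →* ℂˣ) : l ∈ linSub N ↔ ∀ n ∈ N, l n = 1 := Iff.rfl

/-- The action of `S` on `linSub N`. -/
def linSubAut (σ : S →* MulAut G) (N : Subgroup G) (hNσ : ∀ (s : S), ∀ n ∈ N, σ s n ∈ N) :
    S →* MulAut (linSub N) where
  toFun s :=
    { toFun := fun l => ⟨l.1.comp (σ s⁻¹).toMonoidHom, fun n hn => l.2 _ (hNσ s⁻¹ n hn)⟩
      invFun := fun l => ⟨l.1.comp (σ s).toMonoidHom, fun n hn => l.2 _ (hNσ s n hn)⟩
      left_inv := fun l => Subtype.ext (MonoidHom.ext fun g => by simp)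
      right_inv := fun l => Subtype.ext (MonoidHom.ext fun g => by simp)
      map_mul' := fun a b => Subtype.ext (MonoidHom.ext fun g => rfl) }
  map_one' := by
    apply MulEquiv.ext
    intro l
    apply Subtype.ext
    apply MonoidHom.ext
    intro g
    simp
  map_mul' s t := by
    apply MulEquiv.ext
    intro l
    apply Subtype.ext
    apply MonoidHom.ext
    intro g
    simp

theorem linSubAut_apply (σ : S →* MulAut G) (N : Subgroup G)
    (hNσ : ∀ (s : S), ∀ n ∈ N, σ s n ∈ N) (s : S) (l : linSub N) (g : G) :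
    ((linSubAut σ N hNσ s l : linSub N) : G →* ℂˣ) g = (l : G →* ℂˣ) (σ s⁻¹ g) := rfl

/-- Twisting irreducible characters by linear characters. -/
@[reducible] def twistAction (N : Subgroup G) : MulAction (linSub N) (IrrCharacter G) where
  smul l χ := ⟨(((Units.coeHom ℂ).comp (l : G →* ℂˣ) : G →* ℂ) : G → ℂ) * χ.1,
    isIrrCharacter_hom_mul ((Units.coeHom ℂ).comp (l : G →* ℂˣ)) χ.2⟩
  one_smul χ := Subtype.ext (funext fun g => by
    show (((1 : linSub N) : G →* ℂˣ) g : ℂ) * χ.1 g = χ.1 g
    simp)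
  mul_smul l l' χ := Subtype.ext (funext fun g => by
    show (((l * l' : linSub N) : G →* ℂˣ) g : ℂ) * χ.1 g =
      ((l : G →* ℂˣ) g : ℂ) * (((l' : G →* ℂˣ) g : ℂ) * χ.1 g)
    simp [mul_assoc])

/-- The action of `S` on `Irr(G)`. -/
@[reducible] def irrAutActionTop (σ : S →* MulAut G) : MulAction S (IrrCharacter G) where
  smul s χ := ⟨fun g => χ.1 (σ s⁻¹ g), isIrrCharacter_comp_equiv (σ s⁻¹) χ.2⟩
  one_smul χ := Subtype.ext (funext fun g => by
    show χ.1 (σ (1 : S)⁻¹ g) = χ.1 g
    simp)
  mul_smul s t χ := Subtype.ext (funext fun g => by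
    show χ.1 (σ (s * t)⁻¹ g) = χ.1 (σ t⁻¹ (σ s⁻¹ g))
    simp)

theorem pow_index_eq_one_of_mem_linSub (N : Subgroup G) [hN : N.Normal] (l : linSub N) :
    l ^ N.index = 1 := by
  apply Subtype.ext
  apply MonoidHom.ext
  intro g
  show ((l ^ N.index : linSub N) : G →* ℂˣ) g = 1
  rw [Subgroup.coe_pow, MonoidHom.pow_apply, ← map_pow]
  exact l.2 _ (Subgroup.pow_index_mem N g)

theorem card_linSub_coprime (N : Subgroup G) [hN : N.Normal] {m : ℕ} (hcop : N.index.Coprime m) :
    (Nat.card (linSub N)).Coprime m := by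
  apply Nat.coprime_of_dvd
  intro q hq hqd hqm
  haveI : Fact q.Prime := ⟨hq⟩
  obtain ⟨l, hl⟩ := exists_prime_orderOf_dvd_card' q hqd
  have h1 : orderOf l ∣ N.index := orderOf_dvd_of_pow_eq_one (pow_index_eq_one_of_mem_linSub N l)
  rw [hl] at h1
  exact Nat.Prime.not_coprime_iff_dvd.mpr ⟨q, hq, h1, hqm⟩ hcop


/-- With `G/N` abelian and `θ` invariant, any two irreducible characters over `θ` differ by a
linear character of `G/N`. -/
theorem exists_linSub_smul_eq (N : Subgroup G) [hN : N.Normal] [Fintype N]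
    (hab : commutator G ≤ N) {θ : N → ℂ} (hθ : IsIrrCharacter N θ)
    (hθG : ∀ g : G, conjFun N hN θ g = θ) {χ χ' : G → ℂ} (hχ : IsIrrCharacter G χ)
    (hχ' : IsIrrCharacter G χ') (hne : classInner (fun n : N => χ n) θ ≠ 0)
    (hne' : classInner (fun n : N => χ' n) θ ≠ 0) :
    ∃ l : linSub N, χ' = (fun g => (((l : G →* ℂˣ) g : ℂˣ) : ℂ)) * χ := by
  classical
  letI instQ : CommGroup (G ⧸ N) :=
    { (inferInstance : Group (G ⧸ N)) with
      mul_comm := by
        intro a b
        induction a using QuotientGroup.induction_on with | _ a => ?_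
        induction b using QuotientGroup.induction_on with | _ b => ?_
        rw [← QuotientGroup.mk_mul, ← QuotientGroup.mk_mul, QuotientGroup.eq]
        have h1 : (a * b)⁻¹ * (b * a) = ⁅b⁻¹, a⁻¹⁆ := by
          rw [commutatorElement_def]; group
        rw [h1]
        exact hab (Subgroup.commutator_mem_commutator (Subgroup.mem_top _) (Subgroup.mem_top _)) }
  set π : G →* G ⧸ N := QuotientGroup.mk' N with hπdef
  have hπ : Function.Surjective π := QuotientGroup.mk'_surjective N
  have hker : ∀ g : G, π g = 1 ↔ g ∈ N := fun g => QuotientGroup.eq_one_iff g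
  have hres := restrict_eq_smul_of_invariant N hN hχ hθ hne hθG
  have hsum := smul_indFun_eq_sum_linChar N hN π hπ hker
    (isClassFunction_of_isCharacter (IsIrrCharacter.isCharacter hχ)) _ hres
  have h1 : classInner (classInner (fun n : N => χ n) θ • indFun N θ) χ' ≠ 0 := by
    rw [classInner_smul_left, frobenius_reciprocity N θ
      (isClassFunction_of_isCharacter (IsIrrCharacter.isCharacter hχ'))]
    apply mul_ne_zero hne
    rw [classInner_conj_symm]
    intro h
    apply hne'
    have := congrArg conj h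
    simpa using this
  rw [hsum, classInner_sum_left] at h1
  obtain ⟨ψ, -, hψ⟩ := Finset.exists_ne_zero_of_sum_ne_zero h1
  have heq := eq_of_classInner_ne_zero (isIrrCharacter_linChar_mul π ψ hχ) hχ' hψ
  let l₀ : G →* ℂ :=
    { toFun := linChar π ψ
      map_one' := linChar_one π ψ
      map_mul' := linChar_mul π ψ }
  refine ⟨⟨l₀.toHomUnits, ?_⟩, ?_⟩
  · intro n hn
    apply Units.ext
    rw [MonoidHom.coe_toHomUnits]
    exact linChar_ker π ψ ((hker n).mpr hn)
  · rw [← heq]
    funext g
    show linChar π ψ g * χ g = ((l₀.toHomUnits g : ℂˣ) : ℂ) * χ g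
    rw [MonoidHom.coe_toHomUnits]
    rfl

/-- The abelian-quotient case of the going-up theorem. -/
theorem exists_invariant_over_abelian [Finite S] (σ : S →* MulAut G) (N : Subgroup G)
    [hN : N.Normal] [Fintype N] (hNσ : ∀ (s : S), ∀ n ∈ N, σ s n ∈ N)
    (hcop : N.index.Coprime (Nat.card S)) (hab : commutator G ≤ N)
    {θ : N → ℂ} (hθ : IsIrrCharacter N θ) (hθG : ∀ g : G, conjFun N hN θ g = θ)
    (hθσ : ∀ (s : S) (n : N) (h : σ s n ∈ N), θ ⟨σ s n, h⟩ = θ n) :
    ∃ χ : G → ℂ, IsIrrCharacter G χ ∧ classInner (fun n : N => χ n) θ ≠ 0 ∧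
      ∀ (s : S) (g : G), χ (σ s g) = χ g := by
  classical
  letI actL := twistAction (G := G) N
  letI actS := irrAutActionTop (G := G) σ
  have hLsmul : ∀ (l : linSub N) (χ : IrrCharacter G) (g : G),
      ((l • χ : IrrCharacter G) : G → ℂ) g = (((l : G →* ℂˣ) g : ℂˣ) : ℂ) * χ.1 g :=
    fun _ _ _ => rfl
  have hSsmul : ∀ (s : S) (χ : IrrCharacter G) (g : G),
      ((s • χ : IrrCharacter G) : G → ℂ) g = χ.1 (σ s⁻¹ g) := fun _ _ _ => rfl
  -- a character over θ
  have hΘ : IsCharacter G (indFun N θ) := isCharacter_indFun N (IsIrrCharacter.isCharacter hθ)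
  have hΘ0 : indFun N θ ≠ 0 := by
    intro h
    have h1 := indFun_one N θ
    rw [h] at h1
    obtain ⟨d, hd0, hd⟩ := irr_one_pos hθ
    rw [hd] at h1
    simp only [Pi.zero_apply] at h1
    have hidx : (N.index : ℂ) ≠ 0 := by
      exact_mod_cast (Nat.pos_of_ne_zero (Subgroup.index_ne_zero_of_finite)).ne'
    have hd0' : (d : ℂ) ≠ 0 := by exact_mod_cast hd0.ne'
    exact mul_ne_zero hidx hd0' h1.symm
  obtain ⟨χ₀, hχ₀, hχ₀ne⟩ := exists_irr_constituent hΘ hΘ0
  have hover : ∀ {χ : G → ℂ}, IsIrrCharacter G χ → classInner (indFun N θ) χ ≠ 0 →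
      classInner (fun n : N => χ n) θ ≠ 0 := by
    intro χ hχ h
    rw [frobenius_reciprocity N θ
      (isClassFunction_of_isCharacter (IsIrrCharacter.isCharacter hχ))] at h
    rw [classInner_conj_symm]
    intro h'
    apply h
    have := congrArg conj h'
    simpa using this
  have hχ₀over := hover hχ₀ hχ₀ne
  set ω₀ : IrrCharacter G := ⟨χ₀, hχ₀⟩ with hω₀
  have hcompat : ∀ (s : S) (l : linSub N) (ω : IrrCharacter G),
      s • (l • ω) = (linSubAut σ N hNσ s l) • (s • ω) := by
    intro s l ω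
    apply Subtype.ext
    funext g
    rw [hSsmul, hLsmul, hLsmul, hSsmul, linSubAut_apply]
  -- S preserves "lying over θ"
  have hSover : ∀ s : S, classInner (fun n : N => ((s • ω₀ : IrrCharacter G) : G → ℂ) n) θ ≠ 0 := by
    intro s
    have h2 := classInner_comp_equiv (autRes σ N hNσ s⁻¹) (fun n : N => χ₀ n) θ
    have h3 : (fun x : N => θ (autRes σ N hNσ s⁻¹ x)) = θ := by
      funext x
      exact hθσ s⁻¹ x _
    rw [h3] at h2
    have h4 : (fun n : N => ((s • ω₀ : IrrCharacter G) : G → ℂ) n) =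
        fun x : N => (fun n : N => χ₀ n) (autRes σ N hNσ s⁻¹ x) := rfl
    rw [h4, h2]
    exact hχ₀over
  have htrans : ∀ s : S, ∃ l : linSub N, s • ω₀ = l • ω₀ := by
    intro s
    obtain ⟨l, hl⟩ := exists_linSub_smul_eq N hab hθ hθG hχ₀ (s • ω₀ : IrrCharacter G).2
      hχ₀over (hSover s)
    refine ⟨l, ?_⟩
    apply Subtype.ext
    rw [hl]
    rfl
  haveI hbotn : (⊥ : Subgroup (linSub N)).Normal := inferInstance
  have hcop' : (⊥ : Subgroup (linSub N)).index.Coprime (Nat.card S) := by
    rw [Subgroup.index_bot]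
    exact card_linSub_coprime N hcop
  have hsolv' : Group.IsSolvable S ∨ Group.IsSolvable ((linSub N) ⧸ (⊥ : Subgroup (linSub N))) := by
    right
    haveI : Group.IsSolvable (linSub N) := inferInstance
    exact Group.isSolvable_of_surjective (QuotientGroup.mk'_surjective _)
  obtain ⟨l, hl⟩ := exists_fixed_of_coprime_action (linSubAut σ N hNσ) hcompat
    (⊥ : Subgroup (linSub N))
    (by
      intro s n hn
      rw [Subgroup.mem_bot] at hn ⊢
      rw [hn, map_one])
    hcop' hsolv' ω₀
    (by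
      intro n hn
      rw [Subgroup.mem_bot] at hn
      rw [hn, one_smul])
    htrans
  refine ⟨((l • ω₀ : IrrCharacter G) : G → ℂ), (l • ω₀ : IrrCharacter G).2, ?_, ?_⟩
  · have h1 : (fun n : N => ((l • ω₀ : IrrCharacter G) : G → ℂ) n) = fun n : N => χ₀ n := by
      funext n
      rw [hLsmul, l.2 n n.2]
      simp [hω₀]
    rw [h1]
    exact hχ₀over
  · intro s g
    have h1 : ((s⁻¹ • (l • ω₀) : IrrCharacter G) : G → ℂ) g = ((l • ω₀ : IrrCharacter G) : G → ℂ) g :=
      congrArg (fun ω : IrrCharacter G => (ω : G → ℂ) g) (hl s⁻¹)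
    rw [hSsmul, inv_inv] at h1
    exact h1

end goingup

section goingup2

theorem isSolvable_quotient_subgroupOf' {G : Type u} [Group G] (N T : Subgroup G) [hN : N.Normal]
    (hsolv : Group.IsSolvable (G ⧸ N)) :
    haveI : (N.subgroupOf T).Normal := hN.subgroupOf T
    Group.IsSolvable (T ⧸ N.subgroupOf T) := by
  haveI : (N.subgroupOf T).Normal := hN.subgroupOf T
  haveI := hsolv
  let f : T ⧸ N.subgroupOf T →* G ⧸ N :=
    QuotientGroup.map (N.subgroupOf T) N T.subtype (le_refl _)
  have hf : Function.Injective f := by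
    rw [injective_iff_map_eq_one]
    intro x
    induction x using QuotientGroup.induction_on with | _ t => ?_
    intro hx
    have hx' : ((T.subtype t : G) : G ⧸ N) = 1 := hx
    rw [QuotientGroup.eq_one_iff] at hx'
    rw [QuotientGroup.eq_one_iff]
    exact Subgroup.mem_subgroupOf.mpr hx'
  exact Group.isSolvable_of_isSolvable_injective hf

theorem isSolvable_quotient_of_le {G : Type u} [Group G] (N M : Subgroup G) [hN : N.Normal]
    [hM : M.Normal] (hNM : N ≤ M) (hsolv : Group.IsSolvable (G ⧸ N)) :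
    Group.IsSolvable (G ⧸ M) := by
  haveI := hsolv
  let f : G ⧸ N →* G ⧸ M := QuotientGroup.map N M (MonoidHom.id G) hNM
  have hf : Function.Surjective f := by
    intro x
    induction x using QuotientGroup.induction_on with | _ g => ?_
    exact ⟨(g : G ⧸ N), rfl⟩
  exact Group.isSolvable_of_surjective hf

/-- `N · G'` is proper when `G/N` is solvable and nontrivial. -/
theorem sup_commutator_ne_top {G : Type u} [Group G] (N : Subgroup G) [hN : N.Normal]
    (hsolv : Group.IsSolvable (G ⧸ N)) (hne : N ≠ ⊤) : N ⊔ commutator G ≠ ⊤ := by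
  intro htop
  haveI := hsolv
  haveI : Nontrivial (G ⧸ N) := by
    by_contra hcon
    rw [not_nontrivial_iff_subsingleton] at hcon
    apply hne
    rw [eq_top_iff]
    intro g _
    rw [← QuotientGroup.eq_one_iff]
    exact Subsingleton.elim _ _
  have h1 := Group.IsSolvable.commutator_lt_top_of_nontrivial (G ⧸ N)
  apply h1.ne
  have hπ : Function.Surjective (QuotientGroup.mk' N) := QuotientGroup.mk'_surjective N
  have h2 : (commutator G).map (QuotientGroup.mk' N) = commutator (G ⧸ N) := by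
    rw [commutator_def, Subgroup.map_commutator, ← MonoidHom.range_eq_map,
      MonoidHom.range_eq_top.mpr hπ]
    rfl
  have h3 : (N ⊔ commutator G).map (QuotientGroup.mk' N) = ⊤ := by
    rw [htop, ← MonoidHom.range_eq_map, MonoidHom.range_eq_top.mpr hπ]
  rw [Subgroup.map_sup] at h3
  have h4 : N.map (QuotientGroup.mk' N) = ⊥ := by
    rw [Subgroup.map_eq_bot_iff, QuotientGroup.ker_mk']
  rw [h4, bot_sup_eq, h2] at h3
  exact h3


/-- Transport of the data to an invariant subgroup `T ≥ N` as new ambient group. -/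
theorem goingup_step {S : Type v} [Group S] [Finite S] {k : ℕ}
    (ih : ∀ m < k, ∀ (G : Type u) [Group G] [Fintype G] (σ : S →* MulAut G) (N : Subgroup G)
      [_hN : N.Normal] [Fintype N], N.index = m → (∀ (s : S), ∀ n ∈ N, σ s n ∈ N) →
      N.index.Coprime (Nat.card S) → Group.IsSolvable (G ⧸ N) → ∀ (θ : N → ℂ),
      IsIrrCharacter N θ → (∀ (s : S) (n : N) (h : σ s n ∈ N), θ ⟨σ s n, h⟩ = θ n) →
      ∃ χ : G → ℂ, IsIrrCharacter G χ ∧ classInner (fun n : N => χ n) θ ≠ 0 ∧
        ∀ (s : S) (g : G), χ (σ s g) = χ g)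
    {G : Type u} [Group G] [Fintype G] (σ : S →* MulAut G) (N : Subgroup G) [hN : N.Normal]
    [Fintype N] (hk : N.index = k) (hNσ : ∀ (s : S), ∀ n ∈ N, σ s n ∈ N)
    (hcop : N.index.Coprime (Nat.card S)) (hsolv : Group.IsSolvable (G ⧸ N))
    (θ : N → ℂ) (hθ : IsIrrCharacter N θ)
    (hθσ : ∀ (s : S) (n : N) (h : σ s n ∈ N), θ ⟨σ s n, h⟩ = θ n)
    (T : Subgroup G) [Fintype T] (hNT : N ≤ T) (hTtop : T ≠ ⊤)
    (hTσ : ∀ (s : S), ∀ t ∈ T, σ s t ∈ T) :
    ∃ ψ : T → ℂ, IsIrrCharacter T ψ ∧ classInner (resTo hNT ψ) θ ≠ 0 ∧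
      ∀ (s : S) (t : T) (h : σ s t ∈ T), ψ ⟨σ s t, h⟩ = ψ t := by
  classical
  haveI hNTn : (N.subgroupOf T).Normal := hN.subgroupOf T
  haveI : Fintype (N.subgroupOf T) := Fintype.ofFinite _
  let ι : N.subgroupOf T ≃* N := Subgroup.subgroupOfEquivOfLe hNT
  have hιcoe : ∀ x : N.subgroupOf T, ((ι x : N) : G) = ((x : T) : G) := fun _ => rfl
  have hidx : N.relIndex T * T.index = N.index := Subgroup.relIndex_mul_index hNT
  have hTidx : 2 ≤ T.index := by
    have h0 : T.index ≠ 0 := Subgroup.index_ne_zero_of_finite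
    have h1 : T.index ≠ 1 := fun h => hTtop (Subgroup.index_eq_one.mp h)
    omega
  have hrelpos : 0 < N.relIndex T := by
    rcases Nat.eq_zero_or_pos (N.relIndex T) with h | h
    · rw [h, zero_mul] at hidx
      exact absurd hidx.symm Subgroup.index_ne_zero_of_finite
    · exact h
  have hlt : (N.subgroupOf T).index < k := by
    show N.relIndex T < k
    rw [← hk, ← hidx]
    nlinarith
  have hNσT : ∀ (s : S), ∀ n ∈ N.subgroupOf T, autResHom σ T hTσ s n ∈ N.subgroupOf T := by
    intro s n hn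
    rw [Subgroup.mem_subgroupOf] at hn ⊢
    rw [autResHom_apply_coe]
    exact hNσ s _ hn
  have hcopT : (N.subgroupOf T).index.Coprime (Nat.card S) := by
    apply Nat.Coprime.coprime_dvd_left _ hcop
    show N.relIndex T ∣ N.index
    exact ⟨T.index, hidx.symm⟩
  have hsolvT : Group.IsSolvable (T ⧸ N.subgroupOf T) := isSolvable_quotient_subgroupOf' N T hsolv
  have hθT : IsIrrCharacter (N.subgroupOf T) (fun x => θ (ι x)) := isIrrCharacter_comp_equiv ι hθ
  have hθσT : ∀ (s : S) (n : N.subgroupOf T) (h : autResHom σ T hTσ s n ∈ N.subgroupOf T),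
      (fun x => θ (ι x)) ⟨autResHom σ T hTσ s n, h⟩ = (fun x => θ (ι x)) n := by
    intro s n h
    show θ (ι ⟨autResHom σ T hTσ s n, h⟩) = θ (ι n)
    rw [← hθσ s (ι n) (hNσ s _ (ι n).2)]
    congr 1
  obtain ⟨ψ, hψ, hψne, hψσ⟩ := ih _ hlt T (autResHom σ T hTσ) (N.subgroupOf T) rfl hNσT hcopT
    hsolvT _ hθT hθσT
  refine ⟨ψ, hψ, ?_, ?_⟩
  · have e1 := classInner_comp_equiv ι (resTo hNT ψ) θ
    rw [← e1]
    exact hψne
  · intro s t h
    have := hψσ s t
    exact this


/-- Going up (Isaacs 13.28/13.31 with `G/N` solvable), by induction on `|G:N|`. -/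
theorem exists_invariant_over_aux {S : Type v} [Group S] [Finite S] :
    ∀ (k : ℕ) (G : Type u) [Group G] [Fintype G] (σ : S →* MulAut G) (N : Subgroup G)
      [_hN : N.Normal] [Fintype N], N.index = k → (∀ (s : S), ∀ n ∈ N, σ s n ∈ N) →
      N.index.Coprime (Nat.card S) → Group.IsSolvable (G ⧸ N) → ∀ (θ : N → ℂ),
      IsIrrCharacter N θ → (∀ (s : S) (n : N) (h : σ s n ∈ N), θ ⟨σ s n, h⟩ = θ n) →
      ∃ χ : G → ℂ, IsIrrCharacter G χ ∧ classInner (fun n : N => χ n) θ ≠ 0 ∧
        ∀ (s : S) (g : G), χ (σ s g) = χ g := by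
  intro k
  induction k using Nat.strong_induction_on with
  | _ k ih =>
  intro G _ _ σ N hN _ hk hNσ hcop hsolv θ hθ hθσ
  classical
  by_cases hθG : ∀ g : G, conjFun N hN θ g = θ
  · by_cases hab : commutator G ≤ N
    · exact exists_invariant_over_abelian σ N hNσ hcop hab hθ hθG hθσ
    · -- the subgroup `M = N G'`
      set M : Subgroup G := N ⊔ commutator G with hMdef
      have hNM : N ≤ M := le_sup_left
      haveI hMn : M.Normal := Subgroup.sup_normal N (commutator G)
      haveI : Fintype M := Fintype.ofFinite M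
      have hNtop : N ≠ ⊤ := by
        intro h
        apply hab
        rw [h]
        exact le_top
      have hMtop : M ≠ ⊤ := sup_commutator_ne_top N hsolv hNtop
      have hMσ : ∀ (s : S), ∀ m ∈ M, σ s m ∈ M := by
        intro s m hm
        have h1 : M.map (σ s).toMonoidHom ≤ M := by
          rw [hMdef, Subgroup.map_sup]
          apply sup_le_sup
          · rintro _ ⟨n, hn, rfl⟩
            exact hNσ s n hn
          · rw [commutator_def, Subgroup.map_commutator]
            exact Subgroup.commutator_mono le_top le_top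
        exact h1 ⟨m, hm, rfl⟩
      obtain ⟨η, hη, hηne, hησ⟩ := goingup_step ih σ N hk hNσ hcop hsolv θ hθ hθσ M hNM hMtop hMσ
      -- second application, to `(G, M)`
      have hidx : N.relIndex M * M.index = N.index := Subgroup.relIndex_mul_index hNM
      have hrel : 2 ≤ N.relIndex M := by
        have h0 : N.relIndex M ≠ 0 := by
          intro h
          rw [h, zero_mul] at hidx
          exact absurd hidx.symm Subgroup.index_ne_zero_of_finite
        have h1 : N.relIndex M ≠ 1 := by
          intro h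
          rw [Subgroup.relIndex_eq_one] at h
          exact hab (le_sup_right.trans h)
        omega
      have hMpos : 0 < M.index := Nat.pos_of_ne_zero Subgroup.index_ne_zero_of_finite
      have hlt : M.index < k := by
        rw [← hk, ← hidx]
        nlinarith
      have hcopM : M.index.Coprime (Nat.card S) :=
        Nat.Coprime.coprime_dvd_left (Subgroup.index_dvd_of_le hNM) hcop
      have hsolvM : Group.IsSolvable (G ⧸ M) := isSolvable_quotient_of_le N M hNM hsolv
      obtain ⟨χ, hχ, hχne, hχσ⟩ := ih _ hlt G σ M rfl hMσ hcopM hsolvM η hη hησ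
      refine ⟨χ, hχ, ?_, hχσ⟩
      have hc : classInner (indFun M η) χ ≠ 0 := by
        rw [frobenius_reciprocity M η
          (isClassFunction_of_isCharacter (IsIrrCharacter.isCharacter hχ)), classInner_conj_symm]
        intro h
        apply hχne
        have := congrArg conj h
        simpa using this
      obtain ⟨k', hk'⟩ := classInner_restrict_ge N M hNM hθ hη hχ hc
      obtain ⟨a, ha⟩ := exists_nat_classInner (isCharacter_resTo hNM (IsIrrCharacter.isCharacter hη)) hθ
      rw [hk', ha]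
      have ha0 : a ≠ 0 := by
        intro h
        apply hηne
        rw [ha, h]
        simp
      have : ((a + k' : ℕ) : ℂ) ≠ 0 := by
        exact_mod_cast (by omega : a + k' ≠ 0)
      push_cast at this
      exact this
  · -- the inertia group
    set T : Subgroup G := Cfsg.Agent.Helper79.inertiaGrp N hN θ with hTdef
    have hTmem : ∀ g : G, g ∈ T ↔ conjFun N hN θ g = θ :=
      fun g => Cfsg.Agent.Helper79.mem_inertiaGrp N hN θ g
    have hNT : N ≤ T := Cfsg.Agent.Helper79.le_inertiaGrp N hN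
      (isClassFunction_of_isCharacter (IsIrrCharacter.isCharacter hθ))
    haveI : Fintype T := Fintype.ofFinite T
    have hTtop : T ≠ ⊤ := by
      intro h
      apply hθG
      intro g
      exact (hTmem g).mp (h ▸ Subgroup.mem_top g)
    have hTσ : ∀ (s : S), ∀ t ∈ T, σ s t ∈ T := by
      intro s t ht
      rw [hTmem] at ht ⊢
      funext n
      rw [conjFun_apply]
      have hn' : σ s⁻¹ (n : G) ∈ N := hNσ s⁻¹ n n.2
      have h1 := congrFun ht ⟨σ s⁻¹ (n : G), hn'⟩
      rw [conjFun_apply] at h1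
      have h2 := hθσ s ⟨t * σ s⁻¹ (n : G) * t⁻¹, hN.conj_mem _ hn' t⟩
        (hNσ s _ (hN.conj_mem _ hn' t))
      have h3 := hθσ s ⟨σ s⁻¹ (n : G), hn'⟩ (hNσ s _ hn')
      have e1 : (⟨σ s (t * σ s⁻¹ (n : G) * t⁻¹), hNσ s _ (hN.conj_mem _ hn' t)⟩ : N) =
          ⟨σ s t * (n : G) * (σ s t)⁻¹, hN.conj_mem n n.2 (σ s t)⟩ := by
        apply Subtype.ext
        simp
      have e2 : (⟨σ s (σ s⁻¹ (n : G)), hNσ s _ hn'⟩ : N) = n := by
        apply Subtype.ext
        simp
      rw [e1] at h2
      rw [e2] at h3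
      rw [h2, h1, h3]
    obtain ⟨ψ, hψ, hψne, hψσ⟩ := goingup_step ih σ N hk hNσ hcop hsolv θ hθ hθσ T hNT hTtop hTσ
    obtain ⟨hirr, hmult⟩ := clifford_corr_irr N T hN hNT hθ hTmem hψ hψne
    refine ⟨indFun T ψ, hirr, ?_, ?_⟩
    · rw [hmult]
      exact hψne
    · intro s g
      apply indFun_comp_aut (σ s) T _ ψ (fun t => hψσ s t _) g
      intro t
      constructor
      · exact hTσ s t
      · intro h
        have := hTσ s⁻¹ _ h
        simpa using this

end goingup2
end Cfsg.Agent.Helper81
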