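import Cfsg.Agent.Lib.Helper81.CharCentralA
import Cfsg.Agent.Lib.Helper79.CentralExt
import Cfsg.Agent.S4448
import Cfsg.Agent.S4449
set_option autoImplicit false
set_option linter.style.haveILetI false
set_option linter.unusedSectionVars false
namespace Cfsg.Agent.Helper81
open scoped ComplexConjugate
universe u v w

section solvtransfer

theorem isSolvable_of_ker_le {E : Type*} {A : Type*} {B : Type*} [Group E] [Group A] [Group B]
    (φ : E →* A) (ψ : E →* B) (hψ : Function.Surjective ψ) (h : φ.ker ≤ ψ.ker)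
    [hA : Group.IsSolvable A] : Group.IsSolvable B := by
  let φ' : E →* φ.range := φ.rangeRestrict
  have hφ' : Function.Surjective φ' := φ.rangeRestrict_surjective
  have hk : φ'.ker ≤ ψ.ker := by
    rw [MonoidHom.ker_rangeRestrict]
    exact h
  let l : φ.range →* B := φ'.liftOfSurjective hφ' ⟨ψ, hk⟩
  have hl : ∀ e, l (φ' e) = ψ e := fun e =>
    MonoidHom.liftOfRightInverse_comp_apply φ' _ _ ⟨ψ, hk⟩ e
  have hls : Function.Surjective l := by
    intro b
    obtain ⟨e, rfl⟩ := hψ b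
    exact ⟨φ' e, hl e⟩
  exact Group.isSolvable_of_surjective hls

end solvtransfer


section gluerep
variable {Q : Type u} [Group Q]

/-- Gluing an irreducible representation of `H` with a linear character of a central subgroup
`Z` to a representation of `G = HZ`. -/
theorem exists_rep_glue_central (G H Z : Subgroup Q) (hHG : H ≤ G) (hZG : Z ≤ G)
    (hZc : Z ≤ Subgroup.center Q) (hdec : ∀ g ∈ G, ∃ h ∈ H, ∃ z ∈ Z, g = h * z)
    {V : Type v} [AddCommGroup V] [Module ℂ V]
    (ρ : Representation ℂ H V) [hρ : ρ.IsIrreducible] (μ : Z →* ℂ)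
    (hag : ∀ (x : Q) (hxH : x ∈ H) (hxZ : x ∈ Z),
      ρ ⟨x, hxH⟩ = μ ⟨x, hxZ⟩ • (1 : Module.End ℂ V)) :
    ∃ σ : Representation ℂ G V, σ.IsIrreducible ∧
      ∀ (h : H) (z : Z), σ ⟨(h : Q) * z, G.mul_mem (hHG h.2) (hZG z.2)⟩ = μ z • ρ h := by
  classical
  let F : H × Z →* G :=
    { toFun := fun p => ⟨(p.1 : Q) * p.2, G.mul_mem (hHG p.1.2) (hZG p.2.2)⟩
      map_one' := Subtype.ext (by simp)
      map_mul' := by
        intro p q
        apply Subtype.ext
        have hc := Subgroup.mem_center_iff.mp (hZc p.2.2) (q.1 : Q)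
        simp only [Prod.fst_mul, Prod.snd_mul, Subgroup.coe_mul]
        calc (p.1 : Q) * q.1 * ((p.2 : Q) * q.2) = p.1 * (q.1 * p.2) * q.2 := by group
          _ = p.1 * (p.2 * q.1) * q.2 := by rw [hc]
          _ = p.1 * p.2 * (q.1 * q.2) := by group }
  have hF : Function.Surjective F := by
    intro g
    obtain ⟨h, hh, z, hz, hg⟩ := hdec g g.2
    exact ⟨(⟨h, hh⟩, ⟨z, hz⟩), Subtype.ext hg.symm⟩
  let R₀ : H × Z →* Module.End ℂ V :=
    { toFun := fun p => μ p.2 • ρ p.1
      map_one' := by simp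
      map_mul' := by
        intro p q
        simp only [Prod.fst_mul, Prod.snd_mul, map_mul]
        rw [smul_mul_smul_comm] }
  let R : H × Z →* (Module.End ℂ V)ˣ := R₀.toHomUnits
  have hker : F.ker ≤ R.ker := by
    intro p hp
    rw [MonoidHom.mem_ker] at hp ⊢
    have h1 : (p.1 : Q) * p.2 = 1 := congrArg (fun g : G => (g : Q)) hp
    have h2 : (p.1 : Q) = (p.2 : Q)⁻¹ := eq_inv_of_mul_eq_one_left h1
    have hxZ : (p.1 : Q) ∈ Z := by rw [h2]; exact Z.inv_mem p.2.2
    have h3 := hag (p.1 : Q) p.1.2 hxZ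
    apply Units.ext
    show R₀ p = 1
    show μ p.2 • ρ p.1 = 1
    have h4 : (⟨(p.1 : Q), p.1.2⟩ : H) = p.1 := rfl
    rw [h4] at h3
    rw [h3, smul_smul, ← map_mul]
    have h5 : p.2 * ⟨(p.1 : Q), hxZ⟩ = 1 := by
      apply Subtype.ext
      simp only [Subgroup.coe_mul, Subgroup.coe_one]
      rw [h2, mul_inv_cancel]
    rw [h5, map_one, one_smul]
  let σu : G →* (Module.End ℂ V)ˣ := F.liftOfSurjective hF ⟨R, hker⟩
  let σ : Representation ℂ G V := (Units.coeHom (Module.End ℂ V)).comp σu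
  have hσ : ∀ p : H × Z, σ (F p) = μ p.2 • ρ p.1 := by
    intro p
    show ((σu (F p) : (Module.End ℂ V)ˣ) : Module.End ℂ V) = _
    have : σu (F p) = R p := MonoidHom.liftOfRightInverse_comp_apply F _ _ ⟨R, hker⟩ p
    rw [this]
    rfl
  refine ⟨σ, ?_, fun h z => hσ (h, z)⟩
  apply Cfsg.Agent.Helper79.isIrreducible_of_comp σ (Subgroup.inclusion hHG)
  have : σ.comp (Subgroup.inclusion hHG) = ρ := by
    ext h : 1
    have h1 : Subgroup.inclusion hHG h = F (h, 1) := by
      apply Subtype.ext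
      simp [F]
    show σ (Subgroup.inclusion hHG h) = ρ h
    rw [h1, hσ]
    simp
  rw [this]
  exact hρ

end gluerep

section centralthm
variable {Q : Type u} [Group Q] [Fintype Q]

/-- The central case: a `Q`-invariant irreducible character of `G` over a linear character of a
central subgroup `Z`, when `|Q : G|` and `|G : Z|` are coprime. -/
theorem exists_invariant_over_central (G Z : Subgroup Q) [hG : G.Normal] [Fintype G] [Fintype Z]
    (hZG : Z ≤ G) (hZc : Z ≤ Subgroup.center Q) [hZn : (Z.subgroupOf G).Normal]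
    (hcop : G.index.Coprime (Z.relIndex G))
    (hsolv : Group.IsSolvable (Q ⧸ G) ∨ Group.IsSolvable (G ⧸ Z.subgroupOf G))
    (μ : Z → ℂ) (hμ : IsIrrCharacter Z μ) :
    ∃ β : G → ℂ, IsIrrCharacter G β ∧ (∀ z : Z, β ⟨z, hZG z.2⟩ = β 1 * μ z) ∧
      ∀ (x : Q) (g : G), β ⟨x * g * x⁻¹, hG.conj_mem g g.2 x⟩ = β g := by
  classical
  obtain ⟨H, S, hHn, hHG, hdec, hHS, hcopHS, hcopmS, hcomm, hdisj⟩ :=
    exists_central_split G Z hZG hZc hcop
  haveI := hHn
  haveI : Fintype H := Fintype.ofFinite H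
  set B : Subgroup Q := Z ⊓ H with hB
  haveI : Fintype B := Fintype.ofFinite B
  have hBH : B ≤ H := inf_le_right
  have hBZ : B ≤ Z := inf_le_left
  have hcen : ∀ z ∈ Z, ∀ x : Q, x * z * x⁻¹ = z := by
    intro z hz x
    rw [Subgroup.mem_center_iff.mp (hZc hz) x, mul_inv_cancel_right]
  -- `μ` as a homomorphism
  have hZcomm : ∀ a b : Z, a * b = b * a := fun a b =>
    Subtype.ext (Subgroup.mem_center_iff.mp (hZc a.2) b).symm
  have hμ1 : μ 1 = 1 := irr_one_eq_one_of_comm hZcomm hμ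
  set μh : Z →* ℂ := linHom (IsIrrCharacter.isCharacter hμ) hμ1 with hμhdef
  have hμh : ∀ z, μh z = μ z := fun z => rfl
  let ιB : B →* Z := Subgroup.inclusion hBZ
  have hθB : IsIrrCharacter B (fun b : B => μ (ιB b)) := isIrrCharacter_hom (μh.comp ιB)
  -- hypotheses for the black boxes
  have hnorm : ∀ s ∈ S, ∀ g ∈ H, s * g * s⁻¹ ∈ H := fun s _ g hg => hHn.conj_mem g hg s
  have hNS : ∀ s ∈ S, ∀ n ∈ B, s * n * s⁻¹ ∈ B := by
    intro s _ n hn
    rw [hcen n (hBZ hn) s]
    exact hn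
  have hinvθ : ∀ s ∈ S, ∀ g g' : B, (g' : Q) = s * g * s⁻¹ → μ (ιB g') = μ (ιB g) := by
    intro s _ g g' hgg'
    have : g' = g := Subtype.ext (by rw [hgg', hcen g (hBZ g.2) s])
    rw [this]
  have key : ∃ η : IrrCharacter H,
      classInner (fun n : B => (η : H → ℂ) ⟨n, hBH n.2⟩) (fun b : B => μ (ιB b)) ≠ 0 ∧
      ∀ s ∈ S, ∀ g g' : H, (g' : Q) = s * g * s⁻¹ → (η : H → ℂ) g' = (η : H → ℂ) g := by
    rcases hsolv with hs | hs
    · -- `S` is solvable
      have hSsolv : Group.IsSolvable S := by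
        haveI : Group.IsSolvable ↥(G.subgroupOf S) := by
          apply Group.isSolvable_of_comm
          intro a b
          have ha : ((a : S) : Q) ∈ G := Subgroup.mem_subgroupOf.mp a.2
          have hb : ((b : S) : Q) ∈ G := Subgroup.mem_subgroupOf.mp b.2
          have h1 := hcomm _ ha _ hb
          have h2 : ((a : S) : Q) * ((b : S) : Q) * ((a : S) : Q)⁻¹ * ((b : S) : Q)⁻¹ ∈ S :=
            S.mul_mem (S.mul_mem (S.mul_mem (a : S).2 (b : S).2) (S.inv_mem (a : S).2))
              (S.inv_mem (b : S).2)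
          have h3 : ((a : S) : Q) * ((b : S) : Q) * ((a : S) : Q)⁻¹ * ((b : S) : Q)⁻¹ ∈ H ⊓ S :=
            ⟨h1, h2⟩
          rw [hdisj, Subgroup.mem_bot] at h3
          apply Subtype.ext
          apply Subtype.ext
          simp only [Subgroup.coe_mul]
          have h4 := mul_inv_eq_one.mp h3
          rw [mul_inv_eq_iff_eq_mul] at h4
          exact h4
        exact Group.isSolvable_of_ker_le_range (G.subgroupOf S).subtype
          ((QuotientGroup.mk' G).comp S.subtype) (by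
            intro x hx
            rw [MonoidHom.mem_ker] at hx
            have h1 : ((x : Q) : Q ⧸ G) = 1 := hx
            rw [QuotientGroup.eq_one_iff] at h1
            exact ⟨⟨x, Subgroup.mem_subgroupOf.mpr h1⟩, rfl⟩)
      exact Cfsg.Agent.S4449.result H S B hnorm hBH
        (fun g _ n hn => by rw [hcen n (hBZ hn) g]; exact hn) hNS hcopHS hSsolv
        ⟨_, hθB⟩ hinvθ
    · haveI hBn : (B.subgroupOf H).Normal := by
        constructor
        intro n hn g
        rw [Subgroup.mem_subgroupOf] at hn ⊢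
        have : ((g * n * g⁻¹ : H) : Q) = (n : Q) := by
          simp only [Subgroup.coe_mul, Subgroup.coe_inv]
          exact hcen _ (hBZ hn) _
        rw [this]
        exact hn
      haveI hZnQ : Z.Normal := by
        constructor
        intro n hn g
        rw [hcen n hn g]
        exact hn
      have hsup : H ⊔ Z = G := by
        apply le_antisymm (sup_le hHG hZG)
        intro g hg
        obtain ⟨h, hh, z, hz, rfl⟩ := hdec g hg
        exact Subgroup.mul_mem_sup hh hz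
      have hcop' : (B.relIndex H).Coprime (Nat.card S) := by
        have h1 : B.relIndex H = Z.relIndex G := by
          rw [hB, Subgroup.inf_relIndex_right, ← hsup, Subgroup.relIndex_sup_right]
        rw [h1]
        exact hcopmS
      have hsolv' : Group.IsSolvable (H ⧸ B.subgroupOf H) := by
        refine isSolvable_of_ker_le
          ((QuotientGroup.mk' (Z.subgroupOf G)).comp (Subgroup.inclusion hHG))
          (QuotientGroup.mk' (B.subgroupOf H)) (QuotientGroup.mk'_surjective _) ?_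
        intro h hh
        rw [MonoidHom.mem_ker] at hh
        have h1 : ((Subgroup.inclusion hHG h : G) : G ⧸ Z.subgroupOf G) = 1 := hh
        rw [QuotientGroup.eq_one_iff, Subgroup.mem_subgroupOf] at h1
        rw [QuotientGroup.ker_mk', Subgroup.mem_subgroupOf]
        exact ⟨h1, h.2⟩
      exact Cfsg.Agent.S4448.result H S B hnorm hBH hNS hcop' hsolv' ⟨_, hθB⟩ hinvθ
  obtain ⟨η, hηne, hηS⟩ := key
  -- `η` is `Q`-invariant
  have hηc := isClassFunction_of_isCharacter (IsIrrCharacter.isCharacter η.2)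
  have hηQ : ∀ (x : Q) (h : H),
      (η : H → ℂ) ⟨x * h * x⁻¹, hHn.conj_mem h h.2 x⟩ = (η : H → ℂ) h := by
    intro x h
    obtain ⟨h₀, hh₀, s, hs, rfl⟩ := hHS x
    have h1 := hηS s hs h ⟨s * h * s⁻¹, hnorm s hs h h.2⟩ rfl
    have h2 := hηc ⟨s * h * s⁻¹, hnorm s hs h h.2⟩ ⟨h₀, hh₀⟩
    rw [← h1, ← h2]
    refine congrArg _ (Subtype.ext ?_)
    simp only [Subgroup.coe_mul, Subgroup.coe_inv, mul_inv_rev, mul_assoc]
  obtain ⟨dη, ρη, hρη, hηchar⟩ := η.2
  haveI := hρη
  -- `η` on `B` equals `η(1) μ`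
  set B' : Subgroup H := B.subgroupOf H with hB'
  haveI : Fintype B' := Fintype.ofFinite _
  haveI hB'n : B'.Normal := by
    constructor
    intro n hn g
    rw [hB', Subgroup.mem_subgroupOf] at hn ⊢
    have : ((g * n * g⁻¹ : H) : Q) = (n : Q) := by
      simp only [Subgroup.coe_mul, Subgroup.coe_inv]
      exact hcen _ (hBZ hn) _
    rw [this]
    exact hn
  let e : B' ≃* B := Subgroup.subgroupOfEquivOfLe hBH
  have he : ∀ x : B', ((e x : B) : Q) = ((x : H) : Q) := fun _ => rfl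
  have hϑ' : IsIrrCharacter B' (fun x : B' => μ (ιB (e x))) := isIrrCharacter_comp_equiv e hθB
  have hne' : classInner (fun n : B' => (η : H → ℂ) n) (fun x : B' => μ (ιB (e x))) ≠ 0 := by
    have e1 := classInner_comp_equiv e (fun n : B => (η : H → ℂ) ⟨n, hBH n.2⟩)
      (fun b : B => μ (ιB b))
    have e2 : (fun x : B' => (fun n : B => (η : H → ℂ) ⟨n, hBH n.2⟩) (e x)) =
        fun n : B' => (η : H → ℂ) n := by
      funext x
      rfl
    rw [e2] at e1
    rw [e1]
    exact hηne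
  have hinv' : ∀ h : H, conjFun B' hB'n (fun x : B' => μ (ιB (e x))) h =
      fun x => μ (ιB (e x)) := by
    intro h
    funext x
    rw [conjFun_apply]
    congr 2
    apply Subtype.ext
    rw [he, he]
    simp only [Subgroup.coe_mul, Subgroup.coe_inv]
    exact hcen _ (hBZ (Subgroup.mem_subgroupOf.mp x.2)) _
  have hres := restrict_eq_smul_of_invariant B' hB'n η.2 hϑ' hne' hinv'
  set c := classInner (fun n : B' => (η : H → ℂ) n) (fun x : B' => μ (ιB (e x))) with hc
  have hc1 : (η : H → ℂ) 1 = c := by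
    have h1 := congrFun hres 1
    simp only [Pi.smul_apply, smul_eq_mul, map_one, Subgroup.coe_one] at h1
    rw [h1, hμ1, mul_one]
  have hηB : ∀ (x : Q) (hxH : x ∈ H) (hxZ : x ∈ Z),
      (η : H → ℂ) ⟨x, hxH⟩ = (η : H → ℂ) 1 * μ ⟨x, hxZ⟩ := by
    intro x hxH hxZ
    have hxB : (⟨x, hxH⟩ : H) ∈ B' := Subgroup.mem_subgroupOf.mpr ⟨hxZ, hxH⟩
    have h1 := congrFun hres ⟨⟨x, hxH⟩, hxB⟩
    simp only [Pi.smul_apply, smul_eq_mul] at h1
    rw [hc1, h1]
    congr 2
  have hdη : (η : H → ℂ) 1 = (dη : ℂ) := by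
    rw [← hηchar, Representation.char_one, Module.finrank_fin_fun]
  have hdη0 : (dη : ℂ) ≠ 0 := by
    rw [← hdη]
    exact Cfsg.Agent.Helper79.irr_one_ne_zero η
  have hag : ∀ (x : Q) (hxH : x ∈ H) (hxZ : x ∈ Z),
      ρη ⟨x, hxH⟩ = μh ⟨x, hxZ⟩ • (1 : Module.End ℂ (Fin dη → ℂ)) := by
    intro x hxH hxZ
    have hz : (⟨x, hxH⟩ : H) ∈ Subgroup.center H := by
      rw [Subgroup.mem_center_iff]
      intro g
      apply Subtype.ext
      simp only [Subgroup.coe_mul]
      exact Subgroup.mem_center_iff.mp (hZc hxZ) g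
    obtain ⟨l, hl, -⟩ := Cfsg.Agent.Helper79.center_scalar ρη ⟨x, hxH⟩ hz
    have h1 : (η : H → ℂ) ⟨x, hxH⟩ = l * dη := by
      rw [← hηchar]
      simp only [Representation.character]
      rw [hl, map_smul, smul_eq_mul]
      congr 1
      simp
    rw [hηB x hxH hxZ, hdη] at h1
    have h2 : l = μ ⟨x, hxZ⟩ := by
      have : (dη : ℂ) * μ ⟨x, hxZ⟩ = (dη : ℂ) * l := by rw [h1, mul_comm]
      exact (mul_left_cancel₀ hdη0 this).symm
    rw [hl, h2]
    rfl
  obtain ⟨σ, hσirr, hσ⟩ := exists_rep_glue_central G H Z hHG hZG hZc hdec ρη μh hag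
  have hβ : ∀ (h : H) (z : Z), σ.character ⟨(h : Q) * z, G.mul_mem (hHG h.2) (hZG z.2)⟩ =
      μ z * (η : H → ℂ) h := by
    intro h z
    simp only [Representation.character]
    rw [hσ h z, map_smul, smul_eq_mul, ← hηchar]
    rfl
  have hβ1 : σ.character 1 = (η : H → ℂ) 1 := by
    have h1 := hβ 1 1
    rw [hμ1, one_mul] at h1
    rw [← h1]
    congr 1
    apply Subtype.ext
    simp
  refine ⟨σ.character, ⟨dη, σ, hσirr, rfl⟩, ?_, ?_⟩
  · intro z
    have h1 := hβ 1 z
    rw [hβ1, mul_comm, ← h1]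
    congr 1
    apply Subtype.ext
    simp
  · intro x g
    obtain ⟨h, hh, z, hz, hg⟩ := hdec g g.2
    have h1 := hβ ⟨h, hh⟩ ⟨z, hz⟩
    have h2 := hβ ⟨x * h * x⁻¹, hHn.conj_mem h hh x⟩ ⟨z, hz⟩
    have h3 := hηQ x ⟨h, hh⟩
    have e1 : (⟨x * g * x⁻¹, hG.conj_mem g g.2 x⟩ : G) =
        ⟨((⟨x * h * x⁻¹, hHn.conj_mem h hh x⟩ : H) : Q) * ((⟨z, hz⟩ : Z) : Q),
          G.mul_mem (hHG (hHn.conj_mem h hh x)) (hZG hz)⟩ := by
      apply Subtype.ext
      show x * g * x⁻¹ = x * h * x⁻¹ * z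
      rw [hg]
      have := hcen z hz x
      calc x * (h * z) * x⁻¹ = x * h * x⁻¹ * (x * z * x⁻¹) := by group
        _ = x * h * x⁻¹ * z := by rw [this]
    have e2 : g = ⟨((⟨h, hh⟩ : H) : Q) * ((⟨z, hz⟩ : Z) : Q), G.mul_mem (hHG hh) (hZG hz)⟩ :=
      Subtype.ext hg
    rw [e1, h2, h3]
    conv_rhs => rw [e2]
    rw [h1]

end centralthm

end Cfsg.Agent.Helper81
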