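import Cfsg.Agent.Lib.Helper52.Coprime
import Cfsg.Agent.Lib.Helper81.CharElem
set_option autoImplicit false
set_option linter.style.haveILetI false
set_option linter.unusedSectionVars false
namespace Cfsg.Agent.Helper81
open Representation
open scoped ComplexConjugate
universe u v w

section glaub
variable {Q : Type u} [Group Q] [Finite Q]

/-- Group-theoretic core of Glauberman's lemma: `A ⊴ Q`, `B` of order coprime to `|A|`, and every
element of `B` lies in `A T`; then some `A`-conjugate of `B` lies in `T`. -/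
theorem exists_conj_le_of_coprime (A B T : Subgroup Q) [hA : A.Normal]
    (hcop : (Nat.card A).Coprime (Nat.card B))
    (hsolv : Group.IsSolvable A ∨ Group.IsSolvable B)
    (htrans : ∀ b ∈ B, ∃ a ∈ A, a⁻¹ * b ∈ T) :
    ∃ a ∈ A, ∀ b ∈ B, a * b * a⁻¹ ∈ T := by
  set T₁ := T ⊓ (A ⊔ B) with hT₁
  have hsup : T₁ ⊔ A = A ⊔ B := by
    apply le_antisymm (sup_le inf_le_right le_sup_left)
    apply sup_le le_sup_right
    intro b hb
    obtain ⟨a, ha, hab⟩ := htrans b hb
    have h1 : a⁻¹ * b ∈ T₁ :=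
      ⟨hab, Subgroup.mul_mem _ (Subgroup.inv_mem _ (Subgroup.mem_sup_left ha))
        (Subgroup.mem_sup_right hb)⟩
    have h2 : b = a * (a⁻¹ * b) := by group
    rw [h2]
    exact Subgroup.mul_mem _ (Subgroup.mem_sup_right ha) (Subgroup.mem_sup_left h1)
  have hAB : A ⊓ B = ⊥ := (Subgroup.disjoint_of_coprime_natCard hcop).eq_bot
  have hidx : (A.subgroupOf T₁).index = Nat.card B := by
    show A.relIndex T₁ = _
    rw [← Subgroup.relIndex_sup_right T₁ A, hsup, sup_comm, Subgroup.relIndex_sup_right B A,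
      ← Subgroup.inf_relIndex_right, hAB, Subgroup.relIndex_bot_left]
  have hcard : Nat.card (A.subgroupOf T₁) ∣ Nat.card A := by
    have h1 : Nat.card (A.subgroupOf T₁) = Nat.card ↥(A ⊓ T₁) := by
      rw [← Subgroup.inf_subgroupOf_right]
      exact Nat.card_congr (Subgroup.subgroupOfEquivOfLe inf_le_right).toEquiv
    rw [h1]
    exact Subgroup.card_dvd_of_le inf_le_left
  haveI : (A.subgroupOf T₁).Normal := hA.subgroupOf T₁
  obtain ⟨K', hK'⟩ := Subgroup.exists_right_complement'_of_coprime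
    (N := A.subgroupOf T₁) (by
      rw [hidx]
      exact Nat.Coprime.coprime_dvd_left hcard hcop)
  set B₁ := K'.map T₁.subtype with hB₁
  have hB₁card : Nat.card B₁ = Nat.card B := by
    rw [hB₁, Subgroup.card_map_of_injective T₁.subtype_injective, ← hidx]
    exact (hK'.symm.index_eq_card).symm
  have hB₁le : B₁ ≤ T₁ := by
    rintro x ⟨k, _, rfl⟩
    exact k.2
  have hBn : B ≤ Subgroup.normalizer (A : Set Q) := by
    rw [Subgroup.normalizer_eq_top_iff.mpr hA]
    exact le_top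
  obtain ⟨n, hn, hconj⟩ := Cfsg.Agent.Helper52.sz_conj_internal A B B₁ hBn hsolv hcop hB₁card
    (hB₁le.trans inf_le_right)
  refine ⟨n, hn, fun b hb => ?_⟩
  have h1 : n * b * n⁻¹ ∈ B₁ := by
    rw [hconj]
    exact ⟨b, hb, rfl⟩
  exact (hB₁le h1).1


/-- Relative form modulo a normal subgroup `N ≤ T`. -/
theorem exists_conj_le_of_coprime_rel (N A B T : Subgroup Q) [hN : N.Normal] [hA : A.Normal]
    (hNT : N ≤ T)
    (hcop : (Nat.card (A.map (QuotientGroup.mk' N))).Coprime (Nat.card B))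
    (hsolv : Group.IsSolvable (A.map (QuotientGroup.mk' N)) ∨ Group.IsSolvable B)
    (htrans : ∀ b ∈ B, ∃ a ∈ A, a⁻¹ * b ∈ T) :
    ∃ a ∈ A, ∀ b ∈ B, a * b * a⁻¹ ∈ T := by
  set π := QuotientGroup.mk' N with hπ
  have hπsurj : Function.Surjective π := QuotientGroup.mk'_surjective N
  haveI hAn : (A.map π).Normal := hA.map π hπsurj
  have hcop' : (Nat.card (A.map π)).Coprime (Nat.card (B.map π)) :=
    Nat.Coprime.coprime_dvd_right (B.card_map_dvd π) hcop
  have hsolv' : Group.IsSolvable (A.map π) ∨ Group.IsSolvable (B.map π) := by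
    rcases hsolv with h | h
    · exact Or.inl h
    · right
      haveI := h
      exact Group.isSolvable_of_surjective (MonoidHom.subgroupMap_surjective π B)
  have htrans' : ∀ b ∈ B.map π, ∃ a ∈ A.map π, a⁻¹ * b ∈ T.map π := by
    rintro _ ⟨b, hb, rfl⟩
    obtain ⟨a, ha, hab⟩ := htrans b hb
    refine ⟨π a, ⟨a, ha, rfl⟩, ⟨a⁻¹ * b, hab, ?_⟩⟩
    rw [map_mul, map_inv]
  obtain ⟨a', ⟨a, ha, rfl⟩, hconj⟩ :=
    exists_conj_le_of_coprime (A.map π) (B.map π) (T.map π) hcop' hsolv' htrans'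
  refine ⟨a, ha, fun b hb => ?_⟩
  obtain ⟨t, ht, hteq⟩ := hconj (π b) ⟨b, hb, rfl⟩
  have h1 : π t = π (a * b * a⁻¹) := by
    rw [hteq, map_mul, map_mul, map_inv]
  have h2 : t⁻¹ * (a * b * a⁻¹) ∈ N := by
    rw [← QuotientGroup.ker_mk' N, MonoidHom.mem_ker, map_mul, map_inv, ← h1, inv_mul_cancel]
  have h3 : a * b * a⁻¹ = t * (t⁻¹ * (a * b * a⁻¹)) := by group
  rw [h3]
  exact T.mul_mem ht (hNT h2)

end glaub

section absglaub
variable {G : Type u} [Group G] [Finite G] {S : Type v} [Group S] [Finite S]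

/-- The action of the semidirect product `G ⋊ S` on a set with compatible actions. -/
@[reducible] def sdAction (σ : S →* MulAut G) {Ω : Type w} [MulAction G Ω] [MulAction S Ω]
    (hcompat : ∀ (s : S) (g : G) (ω : Ω), s • (g • ω) = (σ s g) • (s • ω)) :
    MulAction (G ⋊[σ] S) Ω where
  smul x ω := x.left • (x.right • ω)
  one_smul ω := by
    show (1 : G ⋊[σ] S).left • ((1 : G ⋊[σ] S).right • ω) = ω
    rw [SemidirectProduct.one_left, SemidirectProduct.one_right, one_smul, one_smul]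
  mul_smul x y ω := by
    show (x * y).left • ((x * y).right • ω) = x.left • (x.right • (y.left • (y.right • ω)))
    rw [SemidirectProduct.mul_left, SemidirectProduct.mul_right, mul_smul, mul_smul, hcompat]

/-- **Glauberman's lemma**, with a normal subgroup `N` acting trivially. -/
theorem exists_fixed_of_coprime_action (σ : S →* MulAut G) {Ω : Type w} [MulAction G Ω]
    [MulAction S Ω]
    (hcompat : ∀ (s : S) (g : G) (ω : Ω), s • (g • ω) = (σ s g) • (s • ω))
    (N : Subgroup G) [hN : N.Normal] (hNσ : ∀ (s : S), ∀ n ∈ N, σ s n ∈ N)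
    (hcop : N.index.Coprime (Nat.card S))
    (hsolv : Group.IsSolvable S ∨ Group.IsSolvable (G ⧸ N))
    (ω₀ : Ω) (hNtriv : ∀ n ∈ N, n • ω₀ = ω₀)
    (htrans : ∀ s : S, ∃ g : G, s • ω₀ = g • ω₀) :
    ∃ g : G, ∀ s : S, s • (g • ω₀) = g • ω₀ := by
  classical
  letI := sdAction σ hcompat
  haveI : Finite (G ⋊[σ] S) := Finite.of_equiv _ (SemidirectProduct.equivProd).symm
  have hsmul : ∀ (x : G ⋊[σ] S) (ω : Ω), x • ω = x.left • (x.right • ω) := fun _ _ => rfl
  set A : Subgroup (G ⋊[σ] S) := (SemidirectProduct.inl : G →* G ⋊[σ] S).range with hAdef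
  set B : Subgroup (G ⋊[σ] S) := (SemidirectProduct.inr : S →* G ⋊[σ] S).range with hBdef
  set N' : Subgroup (G ⋊[σ] S) := N.map (SemidirectProduct.inl : G →* G ⋊[σ] S) with hN'def
  set T : Subgroup (G ⋊[σ] S) := MulAction.stabilizer (G ⋊[σ] S) ω₀ with hTdef
  haveI hAn : A.Normal := by
    rw [hAdef, SemidirectProduct.range_inl_eq_ker_rightHom]
    exact MonoidHom.normal_ker _
  haveI hN'n : N'.Normal := by
    constructor
    rintro _ ⟨n, hn, rfl⟩ x
    obtain ⟨g, s, rfl⟩ : ∃ (g : G) (s : S), x = SemidirectProduct.inl g * SemidirectProduct.inr s :=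
      ⟨x.left, x.right, (SemidirectProduct.inl_left_mul_inr_right x).symm⟩
    refine ⟨g * σ s n * g⁻¹, hN.conj_mem _ (hNσ s n hn) _, ?_⟩
    rw [map_mul, map_mul, SemidirectProduct.inl_aut, map_inv, map_inv]
    group
  have hinl : ∀ (g : G) (ω : Ω), (SemidirectProduct.inl g : G ⋊[σ] S) • ω = g • ω := by
    intro g ω
    rw [hsmul, SemidirectProduct.left_inl, SemidirectProduct.right_inl, one_smul]
  have hinr : ∀ (s : S) (ω : Ω), (SemidirectProduct.inr s : G ⋊[σ] S) • ω = s • ω := by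
    intro s ω
    rw [hsmul, SemidirectProduct.left_inr, SemidirectProduct.right_inr, one_smul]
  have hNT : N' ≤ T := by
    rintro _ ⟨n, hn, rfl⟩
    rw [hTdef, MulAction.mem_stabilizer_iff, hinl]
    exact hNtriv n hn
  have hcardA : Nat.card (A.map (QuotientGroup.mk' N')) = N.index := by
    rw [← Subgroup.relIndex_ker, QuotientGroup.ker_mk', hAdef, MonoidHom.range_eq_map, hN'def,
      Subgroup.relIndex_map_map_of_injective _ _ SemidirectProduct.inl_injective,
      Subgroup.relIndex_top_right]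
  have hcardB : Nat.card B = Nat.card S :=
    (Nat.card_congr (MonoidHom.ofInjective
      (SemidirectProduct.inr_injective (φ := σ))).toEquiv).symm
  have hcop' : (Nat.card (A.map (QuotientGroup.mk' N'))).Coprime (Nat.card B) := by
    rw [hcardA, hcardB]
    exact hcop
  have hsolv' : Group.IsSolvable (A.map (QuotientGroup.mk' N')) ∨ Group.IsSolvable B := by
    rcases hsolv with h | h
    · right
      haveI := h
      exact Group.isSolvable_of_surjective
        (MonoidHom.rangeRestrict_surjective (SemidirectProduct.inr : S →* G ⋊[σ] S))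
    · left
      haveI := h
      let f : G →* (G ⋊[σ] S) ⧸ N' :=
        (QuotientGroup.mk' N').comp (SemidirectProduct.inl : G →* G ⋊[σ] S)
      have hker : N ≤ f.ker := by
        intro n hn
        rw [MonoidHom.mem_ker]
        show (QuotientGroup.mk' N') (SemidirectProduct.inl n) = 1
        rw [← MonoidHom.mem_ker, QuotientGroup.ker_mk']
        exact ⟨n, hn, rfl⟩
      let L : G ⧸ N →* (G ⋊[σ] S) ⧸ N' := QuotientGroup.lift N f hker
      haveI : Group.IsSolvable L.range :=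
        Group.isSolvable_of_surjective (MonoidHom.rangeRestrict_surjective L)
      have hle : A.map (QuotientGroup.mk' N') ≤ L.range := by
        rintro _ ⟨_, ⟨g, rfl⟩, rfl⟩
        exact ⟨(g : G ⧸ N), rfl⟩
      exact Group.isSolvable_of_isSolvable_injective (Subgroup.inclusion_injective hle)
  have htrans' : ∀ b ∈ B, ∃ a ∈ A, a⁻¹ * b ∈ T := by
    rintro _ ⟨s, rfl⟩
    obtain ⟨g, hg⟩ := htrans s
    refine ⟨SemidirectProduct.inl g, ⟨g, rfl⟩, ?_⟩
    rw [hTdef, MulAction.mem_stabilizer_iff, mul_smul, hinr, hg, ← map_inv, hinl, inv_smul_smul]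
  obtain ⟨_, ⟨g, rfl⟩, hconj⟩ :=
    exists_conj_le_of_coprime_rel N' A B T hNT hcop' hsolv' htrans'
  refine ⟨g⁻¹, fun s => ?_⟩
  have h1 := hconj (SemidirectProduct.inr s) ⟨s, rfl⟩
  rw [hTdef, MulAction.mem_stabilizer_iff, mul_smul, mul_smul, hinl, ← map_inv, hinl, hinr] at h1
  have h2 := congrArg (fun ω => g⁻¹ • ω) h1
  simp only [inv_smul_smul] at h2
  exact h2

end absglaub

section coprimechar
variable {G : Type u} [Group G] [Fintype G] {S : Type v} [Group S]

/-- The automorphism of an invariant subgroup `N` induced by `σ s`. -/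
def autRes (σ : S →* MulAut G) (N : Subgroup G) (hNσ : ∀ (s : S), ∀ n ∈ N, σ s n ∈ N) (s : S) :
    N ≃* N where
  toFun n := ⟨σ s n, hNσ s n n.2⟩
  invFun n := ⟨σ s⁻¹ n, hNσ s⁻¹ n n.2⟩
  left_inv n := Subtype.ext (by simp)
  right_inv n := Subtype.ext (by simp)
  map_mul' a b := Subtype.ext (by simp)

theorem autRes_apply_coe (σ : S →* MulAut G) (N : Subgroup G)
    (hNσ : ∀ (s : S), ∀ n ∈ N, σ s n ∈ N) (s : S) (n : N) :
    ((autRes σ N hNσ s n : N) : G) = σ s n := rfl

/-- The conjugation action of `G` on `Irr(N)` as a left action. -/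
@[reducible] def irrConjAction (N : Subgroup G) [hN : N.Normal] :
    MulAction G (IrrCharacter N) where
  smul g θ := ⟨conjFun N hN θ.1 g⁻¹, conjFun_isIrrCharacter N hN θ.2 g⁻¹⟩
  one_smul θ := Subtype.ext (by
    show conjFun N hN θ.1 (1 : G)⁻¹ = θ.1
    rw [inv_one, conjFun_one])
  mul_smul g h θ := Subtype.ext (by
    show conjFun N hN θ.1 (g * h)⁻¹ = conjFun N hN (conjFun N hN θ.1 h⁻¹) g⁻¹
    rw [conjFun_mul, mul_inv_rev])

/-- The action of `S` on `Irr(N)` through automorphisms of `G` preserving `N`. -/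
@[reducible] def irrAutAction (σ : S →* MulAut G) (N : Subgroup G)
    (hNσ : ∀ (s : S), ∀ n ∈ N, σ s n ∈ N) : MulAction S (IrrCharacter N) where
  smul s θ := ⟨fun n => θ.1 (autRes σ N hNσ s⁻¹ n),
    isIrrCharacter_comp_equiv (autRes σ N hNσ s⁻¹) θ.2⟩
  one_smul θ := Subtype.ext (funext fun n => congrArg θ.1 (Subtype.ext (by
    rw [autRes_apply_coe]; simp)))
  mul_smul s t θ := Subtype.ext (funext fun n => congrArg θ.1 (Subtype.ext (by
    rw [autRes_apply_coe, autRes_apply_coe, autRes_apply_coe]; simp)))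


/-- Isaacs 13.27 (going down): an `S`-invariant irreducible character of `G` has an
`S`-invariant irreducible constituent on an `S`-invariant normal subgroup `N` with
`(|G:N|, |S|) = 1`, when `S` or `G/N` is solvable. -/
theorem exists_invariant_constituent_of_coprime [Finite S] (σ : S →* MulAut G) (N : Subgroup G)
    [hN : N.Normal] [Fintype N] (hNσ : ∀ (s : S), ∀ n ∈ N, σ s n ∈ N)
    (hcop : N.index.Coprime (Nat.card S))
    (hsolv : Group.IsSolvable S ∨ Group.IsSolvable (G ⧸ N))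
    {χ : G → ℂ} (hχ : IsIrrCharacter G χ) (hχinv : ∀ (s : S) (g : G), χ (σ s g) = χ g) :
    ∃ θ : N → ℂ, IsIrrCharacter N θ ∧ classInner (fun n : N => χ n) θ ≠ 0 ∧
      ∀ (s : S) (n : N), θ ⟨σ s n, hNσ s n n.2⟩ = θ n := by
  classical
  letI actG := irrConjAction (G := G) N
  letI actS := irrAutAction σ N hNσ
  have hGsmul : ∀ (g : G) (θ : IrrCharacter N),
      ((g • θ : IrrCharacter N) : N → ℂ) = conjFun N hN θ.1 g⁻¹ := fun _ _ => rfl
  have hSsmul : ∀ (s : S) (θ : IrrCharacter N) (n : N),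
      ((s • θ : IrrCharacter N) : N → ℂ) n = θ.1 (autRes σ N hNσ s⁻¹ n) := fun _ _ _ => rfl
  -- a constituent
  have hχN : IsCharacter N (fun n : N => χ n) :=
    isCharacter_restrict N (IsIrrCharacter.isCharacter hχ)
  have hχN0 : (fun n : N => χ n) ≠ 0 := by
    intro h
    obtain ⟨d, hd0, hd⟩ := irr_one_pos hχ
    have := congrFun h 1
    simp only [Pi.zero_apply] at this
    have h1 : ((1 : N) : G) = 1 := rfl
    rw [h1, hd] at this
    exact hd0.ne' (by exact_mod_cast this)
  obtain ⟨θ₀, hθ₀, hne₀⟩ := exists_irr_constituent hχN hχN0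
  set ω₀ : IrrCharacter N := ⟨θ₀, hθ₀⟩ with hω₀
  have hcompat : ∀ (s : S) (g : G) (ω : IrrCharacter N), s • (g • ω) = (σ s g) • (s • ω) := by
    intro s g ω
    apply Subtype.ext
    funext n
    rw [hSsmul, hGsmul, hGsmul, conjFun_apply, conjFun_apply, hSsmul]
    refine congrArg ω.1 (Subtype.ext ?_)
    show g⁻¹ * (σ s⁻¹ (n : G)) * g⁻¹⁻¹ = σ s⁻¹ (((σ s) g)⁻¹ * (n : G) * ((σ s) g)⁻¹⁻¹)
    simp
  have hNtriv : ∀ n ∈ N, n • ω₀ = ω₀ := by
    intro n hn
    apply Subtype.ext
    rw [hGsmul]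
    funext m
    rw [conjFun_apply]
    have := isClassFunction_of_isCharacter (IsIrrCharacter.isCharacter hθ₀) m
      (⟨n, hn⟩ : N)⁻¹
    show θ₀ _ = θ₀ m
    rw [← this]
    exact congrArg θ₀ (Subtype.ext (by simp))
  have htrans : ∀ s : S, ∃ g : G, s • ω₀ = g • ω₀ := by
    intro s
    have h1 : classInner (fun n : N => χ n) ((s • ω₀ : IrrCharacter N) : N → ℂ) ≠ 0 := by
      have h2 := classInner_comp_equiv (autRes σ N hNσ s⁻¹) (fun n : N => χ n) θ₀
      have h3 : (fun x : N => (fun n : N => χ n) (autRes σ N hNσ s⁻¹ x)) = fun n : N => χ n := by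
        funext x
        show χ (σ s⁻¹ x) = χ x
        exact hχinv s⁻¹ x
      rw [h3] at h2
      have h4 : ((s • ω₀ : IrrCharacter N) : N → ℂ) = fun x : N => θ₀ (autRes σ N hNσ s⁻¹ x) := rfl
      rw [h4, h2]
      exact hne₀
    by_contra hcon
    push Not at hcon
    apply h1
    apply clifford_not_conj N hN hχ hθ₀ (s • ω₀ : IrrCharacter N).2 hne₀
    rintro ⟨g, hg⟩
    apply hcon g⁻¹
    apply Subtype.ext
    rw [hGsmul, inv_inv]
    exact hg
  obtain ⟨g, hg⟩ := exists_fixed_of_coprime_action σ hcompat N hNσ hcop hsolv ω₀ hNtriv htrans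
  refine ⟨((g • ω₀ : IrrCharacter N) : N → ℂ), (g • ω₀ : IrrCharacter N).2, ?_, ?_⟩
  · rw [hGsmul, classInner_restrict_conjFun N hN
      (isClassFunction_of_isCharacter (IsIrrCharacter.isCharacter hχ))]
    exact hne₀
  · intro s n
    have h1 : ((s⁻¹ • (g • ω₀) : IrrCharacter N) : N → ℂ) n = ((g • ω₀ : IrrCharacter N) : N → ℂ) n :=
      congrArg (fun ω : IrrCharacter N => (ω : N → ℂ) n) (hg s⁻¹)
    rw [hSsmul] at h1
    rw [← h1]
    refine congrArg (g • ω₀ : IrrCharacter N).1 (Subtype.ext ?_)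
    rw [autRes_apply_coe, inv_inv]

end coprimechar
end Cfsg.Agent.Helper81
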