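import Cfsg.Agent.S0868
import Cfsg.Agent.Lib.Helper75.CharGalois
set_option autoImplicit false
set_option linter.style.haveILetI false
set_option linter.unusedSectionVars false
namespace Cfsg.Agent.Helper81
open Representation
open scoped ComplexConjugate
open Polynomial
universe u v w

section galpos
variable {G : Type*} [Group G] [Finite G] {V : Type*} [AddCommGroup V] [Module ℂ V]
  [FiniteDimensional ℂ V] (ρ : Representation ℂ G V)

/-- Burnside-type inequality for positive character values: on a set closed under the Galois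
action on which the character takes positive real values, the mean value is at least one. -/
theorem card_le_sum_re_of_pos (T : Finset G)
    (hT : ∀ g ∈ T, ∀ k : ℕ, k.Coprime (Nat.card G) → g ^ k ∈ T)
    (hpos : ∀ g ∈ T, ∃ r : ℝ, 0 < r ∧ ρ.character g = (r : ℂ)) :
    (T.card : ℝ) ≤ ∑ g ∈ T, (ρ.character g).re := by
  classical
  have hN : 0 < Nat.card G := Nat.card_pos
  have : NeZero (Nat.card G) := ⟨hN.ne'⟩
  obtain ⟨ζ, hζ⟩ := Cfsg.Agent.Helper75.exists_primitiveRoot_card G
  choose F _ hF using fun g : G =>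
    Cfsg.Agent.Helper75.exists_poly ρ g (Nat.card G) hN (pow_card_eq_one') ζ hζ
  set R := primitiveRoots (Nat.card G) ℂ with hR
  have hζR : ζ ∈ R := (mem_primitiveRoots hN).mpr hζ
  have hRpos : (0 : ℝ) < R.card := by exact_mod_cast Finset.card_pos.mpr ⟨ζ, hζR⟩
  have hval : ∀ g ∈ T, ∀ η ∈ R, ∃ r : ℝ, 0 < r ∧ aeval η (F g) = (r : ℂ) := by
    intro g hg η hη
    rw [hR, mem_primitiveRoots hN, hζ.isPrimitiveRoot_iff] at hη
    obtain ⟨k, -, hk, rfl⟩ := hη
    rw [← hF g k]
    exact hpos _ (hT g hg k hk)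
  -- step 1
  have step1 : ∀ g ∈ T, (R.card : ℝ) ≤ ∑ η ∈ R, (aeval η (F g)).re := by
    intro g hg
    apply Cfsg.Agent.Helper75.card_le_sum_of_one_le_prod
    · intro η hη
      obtain ⟨r, hr, hr2⟩ := hval g hg η hη
      rw [hr2, Complex.ofReal_re]
      exact hr.le
    · obtain ⟨z, hz⟩ := Cfsg.Agent.Helper75.prod_aeval_primitiveRoots_int (Nat.card G) hN (F g)
      have h1 : ∏ η ∈ R, aeval η (F g) = ((∏ η ∈ R, (aeval η (F g)).re : ℝ) : ℂ) := by
        rw [Complex.ofReal_prod]
        apply Finset.prod_congr rfl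
        intro η hη
        obtain ⟨r, hr, hr2⟩ := hval g hg η hη
        rw [hr2, Complex.ofReal_re]
      have h2 : 0 < ∏ η ∈ R, (aeval η (F g)).re := by
        apply Finset.prod_pos
        intro η hη
        obtain ⟨r, hr, hr2⟩ := hval g hg η hη
        rw [hr2, Complex.ofReal_re]
        exact hr
      rw [h1] at hz
      have h3 : ((z : ℝ) : ℂ) = ((∏ η ∈ R, (aeval η (F g)).re : ℝ) : ℂ) := by
        rw [← hz]; simp
      have h4 : (z : ℝ) = ∏ η ∈ R, (aeval η (F g)).re := Complex.ofReal_injective h3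
      rw [← h4] at h2 ⊢
      have h5 : (0 : ℤ) < z := by exact_mod_cast h2
      have h6 : (1 : ℤ) ≤ z := h5
      exact_mod_cast h6
  -- step 2
  have step2 : ∀ η ∈ R, ∑ g ∈ T, (aeval η (F g)).re = ∑ g ∈ T, (ρ.character g).re := by
    intro η hη
    rw [hR, mem_primitiveRoots hN, hζ.isPrimitiveRoot_iff] at hη
    obtain ⟨k, -, hk, rfl⟩ := hη
    have himg : T.image (powCoprime hk.symm) = T := by
      apply Finset.eq_of_subset_of_card_le
      · intro x hx
        obtain ⟨g, hg, rfl⟩ := Finset.mem_image.mp hx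
        exact hT g hg k hk
      · rw [Finset.card_image_of_injective _ (powCoprime hk.symm).injective]
    conv_rhs => rw [← himg]
    rw [Finset.sum_image (fun x _ y _ h => (powCoprime hk.symm).injective h)]
    apply Finset.sum_congr rfl
    intro g _
    rw [← hF g k]
    rfl
  -- step 3
  have h3 : (R.card : ℝ) * T.card ≤ R.card * ∑ g ∈ T, (ρ.character g).re := by
    calc (R.card : ℝ) * T.card = ∑ g ∈ T, (R.card : ℝ) := by
          rw [Finset.sum_const, nsmul_eq_mul, mul_comm]
      _ ≤ ∑ g ∈ T, ∑ η ∈ R, (aeval η (F g)).re := Finset.sum_le_sum step1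
      _ = ∑ η ∈ R, ∑ g ∈ T, (aeval η (F g)).re := Finset.sum_comm
      _ = ∑ η ∈ R, ∑ g ∈ T, (ρ.character g).re := Finset.sum_congr rfl step2
      _ = R.card * ∑ g ∈ T, (ρ.character g).re := by
          rw [Finset.sum_const, nsmul_eq_mul]
  exact le_of_mul_le_mul_left h3 hRpos

end galpos

section navg
variable {G : Type u} [Group G] [Fintype G]

/-- The average of a character over the cosets of a normal subgroup is a character. -/
theorem isCharacter_navg (N : Subgroup G) [hN : N.Normal] [Fintype N] {π : G → ℂ}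
    (hπ : IsCharacter G π) :
    IsCharacter G (fun g => (Nat.card N : ℂ)⁻¹ * ∑ n : N, π ((n : G) * g)) := by
  classical
  haveI : Fintype (IrrCharacter G) := @Fintype.ofFinite _ irr_finite
  obtain ⟨m, hm⟩ := exists_nat_decomp hπ
  have hN0 : (Nat.card N : ℂ) ≠ 0 := by exact_mod_cast (Nat.card_pos (α := N)).ne'
  have h1 : (fun g => (Nat.card N : ℂ)⁻¹ * ∑ n : N, π ((n : G) * g)) =
      ∑ ψ : IrrCharacter G, (m ψ : ℂ) • (fun g => (Nat.card N : ℂ)⁻¹ *
        ∑ n : N, (ψ : G → ℂ) ((n : G) * g)) := by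
    funext g
    rw [hm]
    simp only [Finset.sum_apply, Pi.smul_apply, smul_eq_mul]
    rw [Finset.sum_comm, Finset.mul_sum]
    apply Finset.sum_congr rfl
    intro ψ _
    rw [← Finset.mul_sum]
    ring
  rw [h1]
  apply isCharacter_sum
  intro ψ _
  rw [Nat.cast_smul_eq_nsmul]
  apply isCharacter_nsmul
  rcases Cfsg.Agent.S0868.avg_irr N ψ.2 with h | h
  · have h2 : (fun g => (Nat.card N : ℂ)⁻¹ * ∑ n : N, (ψ : G → ℂ) ((n : G) * g)) =
        (ψ : G → ℂ) := by
      funext g
      simp only [h, Finset.sum_const, Finset.card_univ, nsmul_eq_mul]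
      rw [← Nat.card_eq_fintype_card, ← mul_assoc, inv_mul_cancel₀ hN0, one_mul]
    rw [h2]
    exact IsIrrCharacter.isCharacter ψ.2
  · have h2 : (fun g => (Nat.card N : ℂ)⁻¹ * ∑ n : N, (ψ : G → ℂ) ((n : G) * g)) = 0 := by
      funext g
      rw [h g, mul_zero]
      rfl
    rw [h2]
    exact isCharacter_zero

/-- Powers coprime to the group order preserve non-membership in a subgroup. -/
theorem pow_not_mem_of_coprime (N : Subgroup G) {g : G} (hg : g ∉ N) (k : ℕ)
    (hk : k.Coprime (Nat.card G)) : g ^ k ∉ N := by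
  intro h
  obtain ⟨j, hj⟩ := exists_pow_eq_self_of_coprime
    (Nat.Coprime.coprime_dvd_right (orderOf_dvd_natCard g) hk)
  apply hg
  rw [← hj]
  exact Subgroup.pow_mem N h j

/-- An irreducible character whose restriction to a normal subgroup is reducible vanishes on
some coset of the subgroup. -/
theorem exists_coset_vanishing (N : Subgroup G) [hN : N.Normal] {χ : G → ℂ}
    (hχ : IsIrrCharacter G χ) (hred : ¬ IsIrrCharacter N (fun n : N => χ n)) :
    ∃ x : G, ∀ n : N, χ ((n : G) * x) = 0 := by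
  classical
  haveI : Fintype N := Fintype.ofFinite N
  by_contra hcon
  push Not at hcon
  have hN0 : (Nat.card N : ℂ) ≠ 0 := by exact_mod_cast (Nat.card_pos (α := N)).ne'
  have hNpos : (0 : ℝ) < (Nat.card N : ℝ) := by exact_mod_cast (Nat.card_pos (α := N))
  have hχc : IsCharacter G χ := IsIrrCharacter.isCharacter hχ
  have hχ1 : χ 1 ≠ 0 := by
    obtain ⟨n, ρ, hρ, rfl⟩ := hχ
    haveI := hρ
    haveI := nontrivial_of_isIrreducible ρ
    rw [Representation.char_one]
    exact_mod_cast (Module.finrank_pos (R := ℂ) (M := Fin n → ℂ)).ne'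
  have hπ : IsCharacter G (χ * fun g => conj (χ g)) :=
    isCharacter_mul hχc (Cfsg.Agent.Helper3.isCharacter_conj hχc)
  have hc := isCharacter_navg N hπ
  set c : G → ℂ := fun g => (Nat.card N : ℂ)⁻¹ * ∑ n : N, (χ * fun g => conj (χ g)) ((n : G) * g)
    with hcdef
  -- real form of c
  have hcreal : ∀ g, c g = (((Nat.card N : ℝ)⁻¹ * ∑ n : N, ‖χ ((n : G) * g)‖ ^ 2 : ℝ) : ℂ) := by
    intro g
    simp only [hcdef, Pi.mul_apply]
    push_cast
    congr 1
    apply Finset.sum_congr rfl
    intro n _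
    rw [Complex.mul_conj, Complex.normSq_eq_norm_sq]
    push_cast
    rfl
  have hcpos : ∀ g, ∃ r : ℝ, 0 < r ∧ c g = (r : ℂ) := by
    intro g
    refine ⟨_, ?_, hcreal g⟩
    apply mul_pos (inv_pos.mpr hNpos)
    obtain ⟨n₀, hn₀⟩ := hcon g
    apply Finset.sum_pos'
    · intro n _; positivity
    · exact ⟨n₀, Finset.mem_univ _, by positivity⟩
  -- the multiplicity a = [χ_N, χ_N]
  have hresc : IsCharacter N (fun n : N => χ n) := isCharacter_restrict N hχc
  obtain ⟨a, ha⟩ := exists_nat_classInner_char hresc hresc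
  have ha0 : a ≠ 0 := by
    rintro rfl
    have h0 := classInner_self_eq_zero (by simpa using ha)
    have h1 := congrFun h0 1
    simp only [Subgroup.coe_one, Pi.zero_apply] at h1
    exact hχ1 h1
  have ha1 : a ≠ 1 := by
    rintro rfl
    exact hred (isIrrCharacter_of_classInner_self_eq_one hresc (by simpa using ha))
  have ha2 : 2 ≤ a := by omega
  -- c on N
  have hcN : ∀ g ∈ N, c g = (a : ℂ) := by
    intro g hg
    rw [← ha]
    unfold classInner
    simp only [hcdef, Pi.mul_apply]
    congr 1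
    exact Equiv.sum_comp (Equiv.mulRight (⟨g, hg⟩ : N)) (fun n : N => χ n * conj (χ n))
  -- total sum
  have htot : ∑ g : G, c g = (Nat.card G : ℂ) := by
    simp only [hcdef]
    rw [← Finset.mul_sum, Finset.sum_comm]
    have h1 : ∀ n : N, ∑ g : G, (χ * fun g => conj (χ g)) ((n : G) * g) =
        ∑ g : G, χ g * conj (χ g) := by
      intro n
      exact Equiv.sum_comp (Equiv.mulLeft (n : G)) (fun g => χ g * conj (χ g))
    simp only [h1, Finset.sum_const, Finset.card_univ, nsmul_eq_mul]
    have h2 := irr_orthonormal hχ hχ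
    rw [if_pos rfl] at h2
    unfold classInner at h2
    have hG0 : (Nat.card G : ℂ) ≠ 0 := by exact_mod_cast (Nat.card_pos (α := G)).ne'
    have h3 : ∑ g : G, χ g * conj (χ g) = (Nat.card G : ℂ) := by
      field_simp at h2
      exact h2
    rw [h3, ← Nat.card_eq_fintype_card, ← mul_assoc, inv_mul_cancel₀ hN0, one_mul]
  obtain ⟨k, ρ', hρ'⟩ := hc
  set T : Finset G := Finset.univ.filter (fun g => g ∉ N) with hTdef
  have hTclosed : ∀ g ∈ T, ∀ k : ℕ, k.Coprime (Nat.card G) → g ^ k ∈ T := by
    intro g hg k hk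
    rw [hTdef, Finset.mem_filter] at hg ⊢
    exact ⟨Finset.mem_univ _, pow_not_mem_of_coprime N hg.2 k hk⟩
  have hmain := card_le_sum_re_of_pos ρ' T hTclosed (fun g _ => by rw [hρ']; exact hcpos g)
  rw [hρ'] at hmain
  -- split the total sum
  have hsplit : ∑ g : G, (c g).re =
      ∑ g ∈ T, (c g).re + ∑ g ∈ Finset.univ.filter (fun g => g ∈ N), (c g).re := by
    rw [hTdef, add_comm]
    exact (Finset.sum_filter_add_sum_filter_not Finset.univ (fun g => g ∈ N) _).symm
  have htot' : ∑ g : G, (c g).re = (Nat.card G : ℝ) := by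
    have := congrArg Complex.re htot
    simpa using this
  have hNsum : ∑ g ∈ Finset.univ.filter (fun g => g ∈ N), (c g).re =
      (Nat.card N : ℝ) * a := by
    have h1 : ∀ g ∈ Finset.univ.filter (fun g => g ∈ N), (c g).re = (a : ℝ) := by
      intro g hg
      rw [Finset.mem_filter] at hg
      rw [hcN g hg.2]
      simp
    rw [Finset.sum_congr rfl h1, Finset.sum_const, nsmul_eq_mul]
    congr 1
    rw [Nat.card_eq_fintype_card, Fintype.card_subtype]
  have hTcard : (T.card : ℝ) + (Nat.card N : ℝ) = (Nat.card G : ℝ) := by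
    have h1 : T.card + (Finset.univ.filter (fun g => g ∈ N)).card = Fintype.card G := by
      rw [hTdef, add_comm]
      exact Finset.card_filter_add_card_filter_not (s := Finset.univ) (fun g => g ∈ N)
    have h2 : (Finset.univ.filter (fun g => g ∈ N)).card = Nat.card N := by
      rw [Nat.card_eq_fintype_card, Fintype.card_subtype]
    rw [h2, ← Nat.card_eq_fintype_card] at h1
    exact_mod_cast h1
  have ha2' : (2 : ℝ) ≤ (a : ℝ) := by exact_mod_cast ha2
  rw [hsplit, hNsum] at htot'
  nlinarith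

end navg
end Cfsg.Agent.Helper81
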