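import Cfsg.Agent.Lib.Helper81.CharCoprimeAct
import Cfsg.Agent.Lib.Helper79.CharBasic
set_option autoImplicit false
set_option linter.style.haveILetI false
set_option linter.unusedSectionVars false
namespace Cfsg.Agent.Helper81
open scoped ComplexConjugate
universe u v w

section arith

/-- Multiplicities of a character of a cyclic group of order `n` all of whose values off the
identity have absolute value one. -/
theorem dvd_sub_one_or_add_one_of_sums {ι : Type*} (s : Finset ι) (a : ι → ℕ) (n e : ℕ)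
    (hn : s.card = n) (hn0 : 0 < n) (hsum : ∑ i ∈ s, a i = e)
    (hsq : n * ∑ i ∈ s, (a i) ^ 2 + 1 = e ^ 2 + n) :
    (n : ℤ) ∣ (e : ℤ) - 1 ∨ (n : ℤ) ∣ (e : ℤ) + 1 := by
  set q : ℤ := ((e / n : ℕ) : ℤ) with hq
  set r : ℤ := ((e % n : ℕ) : ℤ) with hr
  have her : (e : ℤ) = n * q + r := by
    rw [hq, hr]
    exact_mod_cast (Nat.div_add_mod e n).symm
  have hr0 : 0 ≤ r := by rw [hr]; positivity
  have hrn : r < n := by
    rw [hr]
    exact_mod_cast Nat.mod_lt e hn0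
  have hsumZ : ∑ i ∈ s, (a i : ℤ) = e := by exact_mod_cast hsum
  have hsqZ : (n : ℤ) * ∑ i ∈ s, (a i : ℤ) ^ 2 + 1 = (e : ℤ) ^ 2 + n := by exact_mod_cast hsq
  have hc1 : ∑ i ∈ s, ((a i : ℤ) - q) = r := by
    rw [Finset.sum_sub_distrib, hsumZ, Finset.sum_const, hn, nsmul_eq_mul, her]
    ring
  have hc2 : (n : ℤ) * ∑ i ∈ s, ((a i : ℤ) - q) ^ 2 = r ^ 2 + n - 1 := by
    have h1 : ∑ i ∈ s, ((a i : ℤ) - q) ^ 2 =
        ∑ i ∈ s, (a i : ℤ) ^ 2 - 2 * q * ∑ i ∈ s, (a i : ℤ) + n * q ^ 2 := by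
      have : ∀ i ∈ s, ((a i : ℤ) - q) ^ 2 = (a i : ℤ) ^ 2 - 2 * q * (a i : ℤ) + q ^ 2 := by
        intro i _
        ring
      rw [Finset.sum_congr rfl this, Finset.sum_add_distrib, Finset.sum_sub_distrib,
        ← Finset.mul_sum, Finset.sum_const, hn, nsmul_eq_mul]
    rw [h1, hsumZ]
    have h2 : (n : ℤ) * ∑ i ∈ s, (a i : ℤ) ^ 2 = (e : ℤ) ^ 2 + n - 1 := by linarith
    have h3 : (n : ℤ) * (∑ i ∈ s, (a i : ℤ) ^ 2 - 2 * q * e + n * q ^ 2) =
        (n : ℤ) * ∑ i ∈ s, (a i : ℤ) ^ 2 - 2 * n * q * e + n ^ 2 * q ^ 2 := by ring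
    rw [h3, h2, her]
    ring
  have hc3 : ∑ i ∈ s, ((a i : ℤ) - q) ≤ ∑ i ∈ s, ((a i : ℤ) - q) ^ 2 := by
    apply Finset.sum_le_sum
    intro i _
    set c := (a i : ℤ) - q
    rcases le_or_gt c 0 with h | h
    · nlinarith [sq_nonneg c]
    · nlinarith
  rw [hc1] at hc3
  have hnZ : (0 : ℤ) < n := by exact_mod_cast hn0
  have h4 : (n : ℤ) * r ≤ r ^ 2 + n - 1 := by
    rw [← hc2]
    exact mul_le_mul_of_nonneg_left hc3 hnZ.le
  have h5 : r ≤ 1 ∨ (n : ℤ) - 1 ≤ r := by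
    by_contra hcon
    push Not at hcon
    nlinarith
  rcases h5 with h5 | h5
  · rcases (show r = 0 ∨ r = 1 by omega) with h0 | h1
    · -- n divides n - 1
      rw [h0] at hc2
      have h6 : (n : ℤ) ∣ (n : ℤ) - 1 := ⟨_, by linarith [hc2]⟩
      have h7 : (n : ℤ) ∣ 1 := by
        have := Dvd.dvd.sub (dvd_refl (n : ℤ)) h6
        simpa using this
      left
      exact Dvd.dvd.trans h7 (one_dvd _)
    · left
      rw [her, h1]
      exact ⟨q, by ring⟩
  · right
    have h6 : r = n - 1 := by omega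
    rw [her, h6]
    exact ⟨q + 1, by ring⟩

end arith

section cycmult
variable {M : Type u} [Group M] [Fintype M]

/-- Multiplicities of a character lying over an invariant `θ` of a normal subgroup with cyclic
quotient: `Ξ = ∑ aψ ψ` over the `|A|` extensions `ψ` of `θ`, with `∑ aψ = e`. -/
theorem exists_mult_of_cyclic_quotient (N : Subgroup M) [Fintype N] (hN : N.Normal)
    {A : Type v} [CommGroup A] [Finite A] [hA : IsCyclic A] (π : M →* A)
    (hπ : Function.Surjective π) (hker : ∀ g : M, π g = 1 ↔ g ∈ N)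
    {θ : N → ℂ} (hθ : IsIrrCharacter N θ) (hinv : ∀ g : M, conjFun N hN θ g = θ)
    {Ξ : M → ℂ} (hΞ : IsCharacter M Ξ) (e : ℕ) (hres : (fun n : N => Ξ n) = (e : ℂ) • θ) :
    ∃ (C : Finset (IrrCharacter M)) (m : IrrCharacter M → ℕ), C.card = Nat.card A ∧
      ∑ ψ ∈ C, m ψ = e ∧ classInner Ξ Ξ = ((∑ ψ ∈ C, (m ψ) ^ 2 : ℕ) : ℂ) := by
  classical
  haveI := hN
  haveI : Fintype (IrrCharacter M) := @Fintype.ofFinite _ irr_finite
  obtain ⟨eM, C₀, heM, hCirr, hcard, hind, hresC⟩ := abelian_quotient_core N hN π hπ hker hθ hinv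
  -- the quotient is cyclic, so `θ` extends
  have hcyc : IsCyclic (M ⧸ N) := by
    obtain ⟨g₀, hg₀⟩ := hA.exists_generator
    obtain ⟨y₀, rfl⟩ := hπ g₀
    refine ⟨⟨(y₀ : M ⧸ N), fun x => ?_⟩⟩
    obtain ⟨z, rfl⟩ := QuotientGroup.mk_surjective x
    obtain ⟨i, hi⟩ := Subgroup.mem_zpowers_iff.mp (hg₀ (π z))
    refine ⟨i, ?_⟩
    show ((y₀ : M) : M ⧸ N) ^ i = (z : M ⧸ N)
    rw [← QuotientGroup.mk_zpow, QuotientGroup.eq]
    rw [← hker, map_mul, map_inv, map_zpow, hi, inv_mul_cancel]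
  obtain ⟨d, ρ, hρ, hρθ⟩ := hθ
  have hθ' : IsIrrCharacter N θ := ⟨d, ρ, hρ, hρθ⟩
  haveI := hρ
  have hinvρ : ∀ (g : M) (n : N),
      ρ.character ⟨g * n * g⁻¹, hN.conj_mem n n.2 g⟩ = ρ.character n := by
    intro g n
    rw [hρθ]
    exact congrFun (hinv g) n
  obtain ⟨σ, hσ, hσρ⟩ := exists_rep_extension_cyclic N hN hcyc ρ hinvρ
  have hθh : IsIrrCharacter M σ.character := ⟨d, σ, hσ, rfl⟩
  have hθhres : (fun n : N => σ.character n) = θ := by
    funext n
    rw [← hρθ]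
    simp only [Representation.character]
    rw [hσρ]
  -- `θ̂ ∈ C₀` and `eM = 1`
  have hfr : classInner (indFun N θ) σ.character = 1 := by
    rw [frobenius_reciprocity N θ (isClassFunction_of_isCharacter (IsIrrCharacter.isCharacter hθh)),
      hθhres, irr_orthonormal hθ' hθ', if_pos rfl]
  have hmem : σ.character ∈ C₀ := by
    by_contra hnot
    rw [hind, classInner_smul_left, classInner_sum_left] at hfr
    have h0 : ∑ χ ∈ C₀, classInner χ σ.character = 0 := by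
      apply Finset.sum_eq_zero
      intro χ hχ
      rw [irr_orthonormal (hCirr χ hχ) hθh, if_neg]
      intro h
      exact hnot (h ▸ hχ)
    rw [h0, mul_zero] at hfr
    exact zero_ne_one hfr
  obtain ⟨dθ, hdθ0, hdθ⟩ := irr_one_pos hθ'
  have heM1 : eM = 1 := by
    have h1 := congrFun ((hresC _ hmem).symm.trans hθhres) 1
    simp only [Pi.smul_apply, smul_eq_mul] at h1
    have hθ1 : θ 1 ≠ 0 := by
      rw [hdθ]
      exact_mod_cast hdθ0.ne'
    have h2 : (eM : ℂ) = 1 := by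
      have : (eM : ℂ) * θ 1 = 1 * θ 1 := by rw [h1, one_mul]
      exact mul_right_cancel₀ hθ1 this
    exact_mod_cast h2
  have hcardA : Nat.card A = N.index := by
    rw [Subgroup.index_eq_card]
    exact Nat.card_congr
      ((QuotientGroup.quotientMulEquivOfEq (show N = π.ker from by
        ext g; rw [MonoidHom.mem_ker, hker])).trans
        (QuotientGroup.quotientKerEquivOfSurjective π hπ)).toEquiv.symm
  have hcardC : C₀.card = Nat.card A := by
    rw [hcardA, ← hcard, heM1]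
    simp
  -- the finset of irreducible characters
  set C : Finset (IrrCharacter M) := Finset.univ.filter (fun ψ => (ψ : M → ℂ) ∈ C₀) with hC
  have hCimg : C.image Subtype.val = C₀ := by
    ext χ
    simp only [Finset.mem_image, hC, Finset.mem_filter, Finset.mem_univ, true_and]
    constructor
    · rintro ⟨ψ, hψ, rfl⟩
      exact hψ
    · intro hχ
      exact ⟨⟨χ, hCirr χ hχ⟩, hχ, rfl⟩
  have hCcard : C.card = Nat.card A := by
    rw [← hcardC, ← hCimg, Finset.card_image_of_injective _ Subtype.val_injective]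
  have hsumC : ∀ F : (M → ℂ) → ℂ, ∑ χ ∈ C₀, F χ = ∑ ψ ∈ C, F (ψ : M → ℂ) := by
    intro F
    rw [← hCimg, Finset.sum_image]
    intro a _ b _ hab
    exact Subtype.ext hab
  -- decomposition of `Ξ`
  obtain ⟨m, hm⟩ := exists_nat_decomp hΞ
  have hΞc := isClassFunction_of_isCharacter hΞ
  have hmψ : ∀ ψ : IrrCharacter M, classInner Ξ (ψ : M → ℂ) = (m ψ : ℂ) := by
    intro ψ
    rw [hm]
    exact classInner_nat_decomp (fun γ => (m γ : ℂ)) ψ
  -- sum of multiplicities over `C`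
  have hsum : ∑ ψ ∈ C, m ψ = e := by
    have h1 : classInner (indFun N θ) Ξ = (e : ℂ) := by
      rw [frobenius_reciprocity N θ hΞc, hres, classInner_smul_right, irr_orthonormal hθ' hθ',
        if_pos rfl, mul_one]
      simp
    rw [hind, heM1, Nat.cast_one, one_smul, classInner_sum_left] at h1
    have h2 : ∑ χ ∈ C₀, classInner χ Ξ = ∑ ψ ∈ C, (m ψ : ℂ) := by
      rw [hsumC (fun χ => classInner χ Ξ)]
      apply Finset.sum_congr rfl
      intro ψ _
      rw [classInner_conj_symm, hmψ]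
      simp
    rw [h2] at h1
    exact_mod_cast h1
  -- multiplicities vanish outside `C` (degree count)
  have hdegC : ∀ ψ ∈ C, (ψ : M → ℂ) 1 = (dθ : ℂ) := by
    intro ψ hψ
    have hψ' : (ψ : M → ℂ) ∈ C₀ := by
      rw [hC, Finset.mem_filter] at hψ
      exact hψ.2
    have h1 := congrFun (hresC _ hψ') 1
    simp only [Pi.smul_apply, smul_eq_mul, heM1, Nat.cast_one, one_mul, Subgroup.coe_one] at h1
    rw [h1, hdθ]
  have hΞ1 : Ξ 1 = (e : ℂ) * dθ := by
    have h1 := congrFun hres 1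
    simp only [Pi.smul_apply, smul_eq_mul, Subgroup.coe_one] at h1
    rw [h1, hdθ]
  have hΞ1' : Ξ 1 = ∑ ψ : IrrCharacter M, (m ψ : ℂ) * (charDegree (ψ : M → ℂ) : ℂ) := by
    conv_lhs => rw [hm]
    simp only [Finset.sum_apply, Pi.smul_apply, smul_eq_mul]
    apply Finset.sum_congr rfl
    intro ψ _
    rw [(Cfsg.Agent.Helper79.irr_one_eq ψ).1]
  have hnat : ∑ ψ : IrrCharacter M, m ψ * charDegree (ψ : M → ℂ) = e * dθ := by
    have h1 := hΞ1'.symm.trans hΞ1
    exact_mod_cast h1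
  have hsplit : ∑ ψ : IrrCharacter M, m ψ * charDegree (ψ : M → ℂ) =
      ∑ ψ ∈ C, m ψ * charDegree (ψ : M → ℂ) +
        ∑ ψ ∈ Finset.univ.filter (fun ψ => ψ ∉ C), m ψ * charDegree (ψ : M → ℂ) := by
    rw [← Finset.sum_filter_add_sum_filter_not Finset.univ (fun ψ => ψ ∈ C)]
    congr 1
    apply Finset.sum_congr _ (fun _ _ => rfl)
    ext ψ
    simp
  have hCdeg : ∑ ψ ∈ C, m ψ * charDegree (ψ : M → ℂ) = e * dθ := by
    rw [← hsum, Finset.sum_mul]
    apply Finset.sum_congr rfl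
    intro ψ hψ
    have h1 := hdegC ψ hψ
    rw [(Cfsg.Agent.Helper79.irr_one_eq ψ).1] at h1
    have h2 : charDegree (ψ : M → ℂ) = dθ := by exact_mod_cast h1
    rw [h2]
  have hzero : ∀ ψ : IrrCharacter M, ψ ∉ C → m ψ = 0 := by
    intro ψ hψ
    have h1 : ∑ ψ ∈ Finset.univ.filter (fun ψ => ψ ∉ C), m ψ * charDegree (ψ : M → ℂ) = 0 := by
      rw [hsplit, hCdeg] at hnat
      omega
    have h2 := (Finset.sum_eq_zero_iff.mp h1) ψ (by simp [hψ])
    rcases Nat.mul_eq_zero.mp h2 with h3 | h3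
    · exact h3
    · exact absurd h3 (Cfsg.Agent.Helper79.irr_one_eq ψ).2.ne'
  refine ⟨C, m, hCcard, hsum, ?_⟩
  have hnorm : classInner Ξ Ξ = ∑ ψ : IrrCharacter M, ((m ψ : ℂ)) ^ 2 := by
    conv_lhs => lhs; rw [hm]
    rw [classInner_sum_left]
    apply Finset.sum_congr rfl
    intro ψ _
    rw [classInner_smul_left, classInner_conj_symm, hmψ]
    simp [sq]
  rw [hnorm]
  push_cast
  symm
  apply Finset.sum_subset (Finset.subset_univ C)
  intro ψ _ hψ
  rw [hzero ψ hψ]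
  simp

end cycmult

end Cfsg.Agent.Helper81
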