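import Cfsg.Agent.Lib.Helper81.CharCanon
set_option autoImplicit false
set_option linter.style.haveILetI false
set_option linter.unusedSectionVars false
namespace Cfsg.Agent.Helper81
open Representation
open scoped ComplexConjugate
universe u v w

section orbitcount
variable {Q : Type*} {X : Type*} [Group Q] [MulAction Q X] [Fintype X]

/-- Level sets of an invariant function are invariant. -/
@[reducible] def levelAction (f : X → ℕ) (hf : ∀ (q : Q) (x : X), f (q • x) = f x) (c : ℕ) :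
    MulAction Q {x : X // f x = c} where
  smul q x := ⟨q • x.1, (hf q x.1).trans x.2⟩
  one_smul x := Subtype.ext (one_smul Q x.1)
  mul_smul q r x := Subtype.ext (mul_smul q r x.1)

/-- Orbit counting for a `p`-group: an invariant `ℕ`-valued function whose sum is prime to `p`
takes a value prime to `p` at a fixed point. -/
theorem exists_fixed_not_dvd {p : ℕ} [hp : Fact p.Prime] (hQ : IsPGroup p Q) (f : X → ℕ)
    (hf : ∀ (q : Q) (x : X), f (q • x) = f x) (h : ¬ p ∣ ∑ x, f x) :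
    ∃ x, (∀ q : Q, q • x = x) ∧ ¬ p ∣ f x := by
  classical
  by_contra hcon
  push Not at hcon
  apply h
  rw [← Finset.sum_fiberwise_of_maps_to (s := Finset.univ) (t := Finset.univ.image f) (g := f)
    (fun i _ => Finset.mem_image_of_mem f (Finset.mem_univ i)) f]
  apply Finset.dvd_sum
  intro c _
  have h1 : ∑ i ∈ Finset.univ with f i = c, f i =
      (Finset.univ.filter (fun i => f i = c)).card * c := by
    rw [Finset.sum_congr rfl (fun i hi => (Finset.mem_filter.mp hi).2), Finset.sum_const,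
      smul_eq_mul]
  rw [h1]
  by_cases hc : p ∣ c
  · exact Dvd.dvd.mul_left hc _
  · apply Dvd.dvd.mul_right
    letI := levelAction (Q := Q) f hf c
    have h2 := hQ.card_modEq_card_fixedPoints {x : X // f x = c}
    have h3 : IsEmpty (MulAction.fixedPoints Q {x : X // f x = c}) := by
      constructor
      rintro ⟨x, hx⟩
      apply hc
      rw [← x.2]
      apply hcon
      intro q
      exact congrArg Subtype.val (hx q)
    have h5 : Nat.card (MulAction.fixedPoints Q {x : X // f x = c}) = 0 := Nat.card_of_isEmpty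
    rw [h5] at h2
    have h4 : Nat.card {x : X // f x = c} = (Finset.univ.filter (fun i => f i = c)).card := by
      rw [Nat.card_eq_fintype_card, Fintype.card_subtype]
    rw [← h4]
    exact (Nat.modEq_zero_iff_dvd).mp h2

end orbitcount

section dadeformula
variable {G : Type u} [Group G] [Fintype G]

/-- `|ϑ|²` extended by zero is a class function when `ϑ` is invariant. -/
theorem isClassFunction_extend_normSq (N : Subgroup G) [hN : N.Normal] (ϑ : N → ℂ)
    (hinv : ∀ (g : G) (n : N), ϑ ⟨g * n * g⁻¹, hN.conj_mem (n : G) n.2 g⟩ = ϑ n) :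
    IsClassFunction G (extendByZero N (fun n => ϑ n * conj (ϑ n))) := by
  intro g h
  by_cases hg : g ∈ N
  · rw [extendByZero_apply_mem N _ hg, extendByZero_apply_mem N _ (hN.conj_mem g hg h)]
    have := hinv h ⟨g, hg⟩
    simp only at this
    rw [this]
  · rw [extendByZero_apply_not_mem N _ hg, extendByZero_apply_not_mem]
    intro hcon
    apply hg
    have := hN.conj_mem _ hcon h⁻¹
    simpa [mul_assoc] using this

theorem conj_extend_normSq (N : Subgroup G) (ϑ : N → ℂ) (g : G) :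
    conj (extendByZero N (fun n => ϑ n * conj (ϑ n)) g) =
      extendByZero N (fun n => ϑ n * conj (ϑ n)) g := by
  by_cases hg : g ∈ N
  · rw [extendByZero_apply_mem N _ hg]
    simp [mul_comm]
  · rw [extendByZero_apply_not_mem N _ hg]
    simp

/-- Frobenius reciprocity against `|ϑ|²`. -/
theorem sum_indFun_mul_extend_normSq (N E : Subgroup G) [hN : N.Normal] [Fintype E]
    [Fintype ↥(E ⊓ N)] (ϑ : N → ℂ)
    (hinv : ∀ (g : G) (n : N), ϑ ⟨g * n * g⁻¹, hN.conj_mem (n : G) n.2 g⟩ = ϑ n)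
    (lam : E → ℂ) :
    ∑ g : G, indFun E lam g * extendByZero N (fun n => ϑ n * conj (ϑ n)) g =
      (Nat.card G : ℂ) * (Nat.card E : ℂ)⁻¹ *
        ∑ x : ↥(E ⊓ N), lam ⟨(x : G), x.2.1⟩ *
          (ϑ ⟨(x : G), x.2.2⟩ * conj (ϑ ⟨(x : G), x.2.2⟩)) := by
  classical
  have hfr := frobenius_reciprocity E lam (isClassFunction_extend_normSq N ϑ hinv)
  unfold classInner at hfr
  simp only [conj_extend_normSq] at hfr
  have hG : (Nat.card G : ℂ) ≠ 0 := by exact_mod_cast (Nat.card_pos (α := G)).ne'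
  have h1 : ∑ g : G, indFun E lam g * extendByZero N (fun n => ϑ n * conj (ϑ n)) g =
      (Nat.card G : ℂ) * ((Nat.card E : ℂ)⁻¹ *
        ∑ e : E, lam e * extendByZero N (fun n => ϑ n * conj (ϑ n)) (e : G)) := by
    rw [← hfr, ← mul_assoc, mul_inv_cancel₀ hG, one_mul]
  rw [h1, mul_assoc]
  congr 2
  rw [← sum_extendByZero_mul E lam (fun g => extendByZero N (fun n => ϑ n * conj (ϑ n)) g)]
  have h2 := sum_extendByZero_mul (E ⊓ N) (fun x : ↥(E ⊓ N) => lam ⟨(x : G), x.2.1⟩ *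
          (ϑ ⟨(x : G), x.2.2⟩ * conj (ϑ ⟨(x : G), x.2.2⟩))) (fun _ => (1 : ℂ))
  simp only [mul_one] at h2
  rw [← h2]
  apply Finset.sum_congr rfl
  intro g _
  by_cases hgE : g ∈ E
  · by_cases hgN : g ∈ N
    · rw [extendByZero_apply_mem E _ hgE, extendByZero_apply_mem N _ hgN,
        extendByZero_apply_mem (E ⊓ N) _ ⟨hgE, hgN⟩]
    · rw [extendByZero_apply_not_mem N _ hgN, extendByZero_apply_not_mem (E ⊓ N) _
        (fun h => hgN h.2), mul_zero]
  · rw [extendByZero_apply_not_mem E _ hgE, extendByZero_apply_not_mem (E ⊓ N) _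
        (fun h => hgE h.1), zero_mul]

/-- Index arithmetic for `E` and a normal subgroup `N`. -/
theorem card_mul_card_inf (N E : Subgroup G) [hN : N.Normal] :
    Nat.card G * Nat.card ↥(E ⊓ N) = Nat.card N * (E ⊔ N).index * Nat.card E := by
  have hc : ∀ {H K : Subgroup G}, H ≤ K → Nat.card H * H.relIndex K = Nat.card K := by
    intro H K hHK
    have := Subgroup.relIndex_mul_relIndex ⊥ H K bot_le hHK
    rwa [Subgroup.relIndex_bot_left, Subgroup.relIndex_bot_left] at this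
  have h1 := hc (inf_le_left : E ⊓ N ≤ E)
  rw [Subgroup.inf_relIndex_left] at h1
  have h2 := hc (le_sup_right : N ≤ E ⊔ N)
  rw [Subgroup.relIndex_sup_right] at h2
  have h3 := Subgroup.card_mul_index (E ⊔ N)
  rw [← h3, ← h2, ← h1]
  ring


theorem sum_extend_normSq (N : Subgroup G) [Fintype N] {ϑ : N → ℂ} (hϑ : IsIrrCharacter N ϑ) :
    ∑ g : G, extendByZero N (fun n => ϑ n * conj (ϑ n)) g = (Nat.card N : ℂ) := by
  have h2 := sum_extendByZero_mul N (fun n : N => ϑ n * conj (ϑ n)) (fun _ => (1 : ℂ))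
  simp only [mul_one] at h2
  rw [h2]
  have h1 := irr_orthonormal hϑ hϑ
  rw [if_pos rfl] at h1
  unfold classInner at h1
  have hN : (Nat.card N : ℂ) ≠ 0 := by exact_mod_cast (Nat.card_pos (α := N)).ne'
  field_simp at h1
  exact h1

/-- Selection step in Dade's theorem: from a local Brauer decomposition of a constant prime
to `p`, some member `E` has `EN = G` and `[λ_D ϑ_D, ϑ_D]` prime to `p`, `D = E ∩ N`. -/
theorem exists_good_member [hfin : ∀ H : Subgroup G, Fintype H] (p : ℕ) (hp : p.Prime)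
    (N : Subgroup G) [hN : N.Normal]
    (hind : ∃ k : ℕ, N.index = p ^ k) (ϑ : N → ℂ) (hϑ : IsIrrCharacter N ϑ)
    (hinv : ∀ (g : G) (n : N), ϑ ⟨g * n * g⁻¹, hN.conj_mem (n : G) n.2 g⟩ = ϑ n)
    (m : ℤ) (l : List ((E : Subgroup G) × ((E → ℂ) × ℤ))) (hm : ¬ (p : ℤ) ∣ m)
    (hl : ∀ t ∈ l, IsCharacter t.1 t.2.1)
    (hsum : (fun _ : G => (m : ℂ)) =
      (l.map fun t => (t.2.2 : ℂ) • indFun t.1 t.2.1).sum) :
    ∃ t ∈ l, t.1 ⊔ N = ⊤ ∧ ∃ c : ℕ, ¬ p ∣ c ∧
      classInner (fun x : ↥(t.1 ⊓ N) => t.2.1 ⟨(x : G), x.2.1⟩ * ϑ ⟨(x : G), x.2.2⟩)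
        (fun x : ↥(t.1 ⊓ N) => ϑ ⟨(x : G), x.2.2⟩) = (c : ℂ) := by
  classical
  by_contra hcon
  push Not at hcon
  obtain ⟨k, hk⟩ := hind
  have hNne : (Nat.card N : ℂ) ≠ 0 := by exact_mod_cast (Nat.card_pos (α := N)).ne'
  have key : ∀ t ∈ l, ∃ z : ℤ, ∑ g : G, indFun t.1 t.2.1 g *
      extendByZero N (fun n => ϑ n * conj (ϑ n)) g =
        (Nat.card N : ℂ) * (((p : ℤ) * z : ℤ) : ℂ) := by
    intro t ht
    have hch1 : IsCharacter ↥(t.1 ⊓ N) (fun x : ↥(t.1 ⊓ N) => t.2.1 ⟨(x : G), x.2.1⟩) :=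
      isCharacter_comp_hom (Subgroup.inclusion (inf_le_left : t.1 ⊓ N ≤ t.1)) (hl t ht)
    have hch2 : IsCharacter ↥(t.1 ⊓ N) (fun x : ↥(t.1 ⊓ N) => ϑ ⟨(x : G), x.2.2⟩) :=
      isCharacter_comp_hom (Subgroup.inclusion (inf_le_right : t.1 ⊓ N ≤ N))
        (IsIrrCharacter.isCharacter hϑ)
    obtain ⟨c, hc⟩ := exists_nat_classInner_char (isCharacter_mul hch1 hch2) hch2
    have hc' : classInner (fun x : ↥(t.1 ⊓ N) => t.2.1 ⟨(x : G), x.2.1⟩ * ϑ ⟨(x : G), x.2.2⟩)
        (fun x : ↥(t.1 ⊓ N) => ϑ ⟨(x : G), x.2.2⟩) = (c : ℂ) := hc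
    have hdvd : p ∣ (t.1 ⊔ N).index * c := by
      by_contra hnd
      have h1 : ¬ p ∣ (t.1 ⊔ N).index := fun h => hnd (Dvd.dvd.mul_right h c)
      have h2 : ¬ p ∣ c := fun h => hnd (Dvd.dvd.mul_left h _)
      have h3 : (t.1 ⊔ N).index ∣ p ^ k := hk ▸ Subgroup.index_dvd_of_le le_sup_right
      obtain ⟨j, hj, hj'⟩ := (Nat.dvd_prime_pow hp).mp h3
      have hj0 : j = 0 := by
        by_contra hj0
        exact h1 (hj' ▸ dvd_pow_self p hj0)
      have htop : t.1 ⊔ N = ⊤ := Subgroup.index_eq_one.mp (by rw [hj', hj0, pow_zero])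
      exact hcon t ht htop c h2 hc'
    obtain ⟨w, hw⟩ := hdvd
    refine ⟨w, ?_⟩
    rw [sum_indFun_mul_extend_normSq N t.1 ϑ hinv t.2.1]
    have hDne : (Nat.card ↥(t.1 ⊓ N) : ℂ) ≠ 0 := by
      exact_mod_cast (Nat.card_pos (α := ↥(t.1 ⊓ N))).ne'
    have hS : ∑ x : ↥(t.1 ⊓ N), t.2.1 ⟨(x : G), x.2.1⟩ *
        (ϑ ⟨(x : G), x.2.2⟩ * conj (ϑ ⟨(x : G), x.2.2⟩)) =
          (Nat.card ↥(t.1 ⊓ N) : ℂ) * (c : ℂ) := by
      rw [← hc']
      unfold classInner
      rw [← mul_assoc, mul_inv_cancel₀ hDne, one_mul]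
      apply Finset.sum_congr rfl
      intro x _
      ring
    rw [hS]
    have harith := card_mul_card_inf N t.1
    have hEne : (Nat.card t.1 : ℂ) ≠ 0 := by exact_mod_cast (Nat.card_pos (α := t.1)).ne'
    have harith' : (Nat.card G : ℂ) * (Nat.card ↥(t.1 ⊓ N) : ℂ) =
        (Nat.card N : ℂ) * ((t.1 ⊔ N).index : ℂ) * (Nat.card t.1 : ℂ) := by
      exact_mod_cast harith
    have hw' : (((t.1 ⊔ N).index : ℂ)) * (c : ℂ) = (p : ℂ) * (w : ℂ) := by exact_mod_cast hw
    calc (Nat.card G : ℂ) * (Nat.card t.1 : ℂ)⁻¹ * ((Nat.card ↥(t.1 ⊓ N) : ℂ) * (c : ℂ))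
        = ((Nat.card G : ℂ) * (Nat.card ↥(t.1 ⊓ N) : ℂ)) * (Nat.card t.1 : ℂ)⁻¹ * (c : ℂ) := by
          ring
      _ = (Nat.card N : ℂ) * (((t.1 ⊔ N).index : ℂ) * (c : ℂ)) := by
          rw [harith']
          field_simp
      _ = (Nat.card N : ℂ) * (((p : ℤ) * (w : ℤ) : ℤ) : ℂ) := by
          rw [hw']
          push_cast
          rfl
  have hlist : ∀ l' : List ((E : Subgroup G) × ((E → ℂ) × ℤ)), (∀ t ∈ l', t ∈ l) →
      ∃ z : ℤ, ∑ g : G, (l'.map fun t => (t.2.2 : ℂ) • indFun t.1 t.2.1).sum g *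
        extendByZero N (fun n => ϑ n * conj (ϑ n)) g =
          (Nat.card N : ℂ) * (((p : ℤ) * z : ℤ) : ℂ) := by
    intro l'
    induction l' with
    | nil =>
      intro _
      refine ⟨0, ?_⟩
      simp
    | cons t l'' ih =>
      intro hsub
      obtain ⟨z₂, hz₂⟩ := ih (fun t' ht' => hsub t' (List.mem_cons_of_mem _ ht'))
      obtain ⟨z₁, hz₁⟩ := key t (hsub t (List.mem_cons_self))
      refine ⟨t.2.2 * z₁ + z₂, ?_⟩
      rw [List.map_cons, List.sum_cons]
      simp only [Pi.add_apply, Pi.smul_apply, smul_eq_mul, add_mul, Finset.sum_add_distrib]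
      rw [hz₂]
      have : ∑ g : G, (t.2.2 : ℂ) * indFun t.1 t.2.1 g *
          extendByZero N (fun n => ϑ n * conj (ϑ n)) g =
          (t.2.2 : ℂ) * ∑ g : G, indFun t.1 t.2.1 g *
          extendByZero N (fun n => ϑ n * conj (ϑ n)) g := by
        rw [Finset.mul_sum]
        apply Finset.sum_congr rfl
        intro g _
        ring
      rw [this, hz₁]
      push_cast
      ring
  obtain ⟨z, hz⟩ := hlist l (fun t ht => ht)
  rw [← hsum] at hz
  rw [← Finset.mul_sum, sum_extend_normSq N hϑ] at hz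
  apply hm
  refine ⟨z, ?_⟩
  have h1 : (m : ℂ) = (((p : ℤ) * z : ℤ) : ℂ) := by
    have := mul_left_cancel₀ hNne ((mul_comm _ _).trans hz)
    exact this
  exact_mod_cast h1

end dadeformula
section natinner
variable {K : Type u} [Group K] [Fintype K]

/-- The inner product of two characters, as a natural number. -/
noncomputable def natInner (α β : K → ℂ) : ℕ := ⌊(classInner α β).re⌋₊

theorem natInner_eq {α β : K → ℂ} {k : ℕ} (h : classInner α β = (k : ℂ)) : natInner α β = k := by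
  unfold natInner
  rw [h]
  simp

theorem natInner_spec {α β : K → ℂ} (hα : IsCharacter K α) (hβ : IsCharacter K β) :
    classInner α β = (natInner α β : ℂ) := by
  obtain ⟨k, hk⟩ := exists_nat_classInner_char hα hβ
  rw [natInner_eq hk, hk]

theorem natInner_congr {K' : Type v} [Group K'] [Fintype K'] {α β : K → ℂ} {α' β' : K' → ℂ}
    (h : classInner α β = classInner α' β') : natInner α β = natInner α' β' := by
  unfold natInner
  rw [h]

end natinner

section dadeorbit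
variable {G : Type u} [Group G] [Fintype G]

/-- Conjugation by `g ∈ E` on `E ⊓ N` (`x ↦ g⁻¹ x g`). -/
def infConj (E N : Subgroup G) [hN : N.Normal] (g : E) : ↥(E ⊓ N) ≃* ↥(E ⊓ N) where
  toFun x := ⟨(g : G)⁻¹ * x * g, ⟨E.mul_mem (E.mul_mem (E.inv_mem g.2) x.2.1) g.2, by
    have := hN.conj_mem (x : G) x.2.2 (g : G)⁻¹
    simpa using this⟩⟩
  invFun x := ⟨(g : G) * x * (g : G)⁻¹, ⟨E.mul_mem (E.mul_mem g.2 x.2.1) (E.inv_mem g.2),
    hN.conj_mem (x : G) x.2.2 (g : G)⟩⟩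
  left_inv x := Subtype.ext (by simp [mul_assoc])
  right_inv x := Subtype.ext (by simp [mul_assoc])
  map_mul' x y := Subtype.ext (by simp [mul_assoc])

theorem infConj_apply_coe (E N : Subgroup G) [hN : N.Normal] (g : E) (x : ↥(E ⊓ N)) :
    ((infConj E N g x : ↥(E ⊓ N)) : G) = (g : G)⁻¹ * x * g := rfl

/-- The conjugation action of `E` on the irreducible characters of `E ⊓ N`. -/
@[reducible] def infConjAction (E N : Subgroup G) [hN : N.Normal] :
    MulAction E (IrrCharacter ↥(E ⊓ N)) where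
  smul g φ := ⟨fun x => φ.1 (infConj E N g x), isIrrCharacter_comp_equiv (infConj E N g) φ.2⟩
  one_smul φ := Subtype.ext (funext fun x => congrArg φ.1 (Subtype.ext (by
    rw [infConj_apply_coe]; simp)))
  mul_smul g h φ := Subtype.ext (funext fun x => congrArg φ.1 (Subtype.ext (by
    rw [infConj_apply_coe, infConj_apply_coe, infConj_apply_coe]; simp [mul_assoc])))


theorem infConjAction_smul_apply (E N : Subgroup G) [hN : N.Normal] (g : E)
    (φ : IrrCharacter ↥(E ⊓ N)) (x : ↥(E ⊓ N)) :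
    letI := infConjAction E N
    ((g • φ : IrrCharacter ↥(E ⊓ N)) : ↥(E ⊓ N) → ℂ) x = φ.1 (infConj E N g x) := rfl

/-- Bilinear expansion of `[ψ α, α]` along a decomposition of `α`. -/
theorem classInner_mul_decomp {K : Type u} [Group K] [Fintype K] [Fintype (IrrCharacter K)]
    (ψ : K → ℂ) (a : IrrCharacter K → ℕ) :
    classInner (ψ * ∑ φ, (a φ : ℂ) • (φ : K → ℂ)) (∑ φ, (a φ : ℂ) • (φ : K → ℂ)) =
      ∑ x : IrrCharacter K × IrrCharacter K,
        (a x.1 : ℂ) * (a x.2 : ℂ) * classInner (ψ * (x.1 : K → ℂ)) (x.2 : K → ℂ) := by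
  rw [Finset.mul_sum, classInner_sum_left, Fintype.sum_prod_type]
  apply Finset.sum_congr rfl
  intro φ _
  rw [classInner_sum_right]
  apply Finset.sum_congr rfl
  intro φ' _
  rw [mul_smul_comm, classInner_smul_left, classInner_smul_right]
  simp only [Complex.conj_natCast]
  ring


/-- Orbit-counting step in Dade's theorem. -/
theorem exists_invariant_constituent [hfin : ∀ H : Subgroup G, Fintype H] (p : ℕ)
    [hp : Fact p.Prime] (N E : Subgroup G) [hN : N.Normal] (hEN : E ⊔ N = ⊤)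
    (hind : ∃ k : ℕ, N.index = p ^ k) (ϑ : N → ℂ) (hϑ : IsCharacter N ϑ)
    (hinv : ∀ (g : G) (n : N), ϑ ⟨g * n * g⁻¹, hN.conj_mem (n : G) n.2 g⟩ = ϑ n)
    (lam : E → ℂ) (hlam : IsCharacter E lam) (c : ℕ) (hc : ¬ p ∣ c)
    (hcl : classInner (fun x : ↥(E ⊓ N) => lam ⟨(x : G), x.2.1⟩ * ϑ ⟨(x : G), x.2.2⟩)
        (fun x : ↥(E ⊓ N) => ϑ ⟨(x : G), x.2.2⟩) = (c : ℂ)) :
    ∃ φ : ↥(E ⊓ N) → ℂ, IsIrrCharacter ↥(E ⊓ N) φ ∧
      (∀ (g : G) (hg : g ∈ E) (x : ↥(E ⊓ N)),
        φ ⟨g * x * g⁻¹, ⟨(E.mul_mem (E.mul_mem hg x.2.1) (E.inv_mem hg)),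
          hN.conj_mem (x : G) x.2.2 g⟩⟩ = φ x) ∧
      ∃ m : ℕ, ¬ p ∣ m ∧ classInner (fun x : ↥(E ⊓ N) => ϑ ⟨(x : G), x.2.2⟩) φ = (m : ℂ) := by
  classical
  haveI : Fintype (IrrCharacter ↥(E ⊓ N)) := @Fintype.ofFinite _ irr_finite
  letI := infConjAction E N
  set α : ↥(E ⊓ N) → ℂ := fun x => ϑ ⟨(x : G), x.2.2⟩ with hα
  set ψ : ↥(E ⊓ N) → ℂ := fun x => lam ⟨(x : G), x.2.1⟩ with hψ
  have hαch : IsCharacter ↥(E ⊓ N) α :=
    isCharacter_comp_hom (Subgroup.inclusion (inf_le_right : E ⊓ N ≤ N)) hϑ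
  have hψch : IsCharacter ↥(E ⊓ N) ψ :=
    isCharacter_comp_hom (Subgroup.inclusion (inf_le_left : E ⊓ N ≤ E)) hlam
  -- invariance of α and ψ under conjugation
  have hαinv : ∀ (g : E) (x : ↥(E ⊓ N)), α (infConj E N g x) = α x := by
    intro g x
    have := hinv (g : G)⁻¹ ⟨(x : G), x.2.2⟩
    simp only [inv_inv] at this
    exact this
  have hψinv : ∀ (g : E) (x : ↥(E ⊓ N)), ψ (infConj E N g x) = ψ x := by
    intro g x
    have := isClassFunction_of_isCharacter hlam ⟨(x : G), x.2.1⟩ g⁻¹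
    rw [inv_inv] at this
    exact this
  obtain ⟨a, ha⟩ := exists_nat_decomp hαch
  have hmult : ∀ φ : IrrCharacter ↥(E ⊓ N), classInner α (φ : ↥(E ⊓ N) → ℂ) = (a φ : ℂ) := by
    intro φ
    rw [ha]
    exact classInner_nat_decomp (fun χ' => (a χ' : ℂ)) φ
  -- the invariant function
  let f : IrrCharacter ↥(E ⊓ N) × IrrCharacter ↥(E ⊓ N) → ℕ := fun x =>
    natInner α (x.1 : ↥(E ⊓ N) → ℂ) * natInner α (x.2 : ↥(E ⊓ N) → ℂ) *
      natInner (ψ * (x.1 : ↥(E ⊓ N) → ℂ)) (x.2 : ↥(E ⊓ N) → ℂ)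
  have hsumf : c = ∑ x, f x := by
    have h1 : (c : ℂ) = ∑ x : IrrCharacter ↥(E ⊓ N) × IrrCharacter ↥(E ⊓ N), (f x : ℂ) := by
      rw [← hcl]
      have h2 : (fun x : ↥(E ⊓ N) => lam ⟨(x : G), x.2.1⟩ * ϑ ⟨(x : G), x.2.2⟩) = ψ * α := rfl
      rw [h2]
      have h3 := classInner_mul_decomp ψ a
      rw [← ha] at h3
      rw [h3]
      apply Finset.sum_congr rfl
      intro x _
      simp only [f]
      push_cast
      rw [← natInner_spec (isCharacter_mul hψch (IsIrrCharacter.isCharacter x.1.2))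
        (IsIrrCharacter.isCharacter x.2.2), natInner_eq (hmult x.1), natInner_eq (hmult x.2)]
    exact_mod_cast h1
  -- invariance of f under E
  have hinner1 : ∀ (g : E) (φ : IrrCharacter ↥(E ⊓ N)),
      natInner α ((g • φ : IrrCharacter ↥(E ⊓ N)) : ↥(E ⊓ N) → ℂ) =
        natInner α (φ : ↥(E ⊓ N) → ℂ) := by
    intro g φ
    apply natInner_congr
    have := classInner_comp_equiv (infConj E N g) α (φ : ↥(E ⊓ N) → ℂ)
    rw [← this]
    congr 1
    funext x
    exact (hαinv g x).symm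
  have hinner2 : ∀ (g : E) (φ φ' : IrrCharacter ↥(E ⊓ N)),
      natInner (ψ * ((g • φ : IrrCharacter ↥(E ⊓ N)) : ↥(E ⊓ N) → ℂ))
        ((g • φ' : IrrCharacter ↥(E ⊓ N)) : ↥(E ⊓ N) → ℂ) =
        natInner (ψ * (φ : ↥(E ⊓ N) → ℂ)) (φ' : ↥(E ⊓ N) → ℂ) := by
    intro g φ φ'
    apply natInner_congr
    have := classInner_comp_equiv (infConj E N g) (ψ * (φ : ↥(E ⊓ N) → ℂ))
      (φ' : ↥(E ⊓ N) → ℂ)
    rw [← this]
    congr 1
    funext x
    show ψ x * φ.1 (infConj E N g x) = ψ (infConj E N g x) * φ.1 (infConj E N g x)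
    rw [hψinv g x]
  obtain ⟨P⟩ : Nonempty (Sylow p E) := inferInstance
  have hf : ∀ (q : (P : Subgroup E)) (x : IrrCharacter ↥(E ⊓ N) × IrrCharacter ↥(E ⊓ N)),
      f (q • x) = f x := by
    intro q x
    show natInner α (((q : E) • x.1 : IrrCharacter ↥(E ⊓ N)) : ↥(E ⊓ N) → ℂ) *
      natInner α (((q : E) • x.2 : IrrCharacter ↥(E ⊓ N)) : ↥(E ⊓ N) → ℂ) *
      natInner (ψ * (((q : E) • x.1 : IrrCharacter ↥(E ⊓ N)) : ↥(E ⊓ N) → ℂ))
        (((q : E) • x.2 : IrrCharacter ↥(E ⊓ N)) : ↥(E ⊓ N) → ℂ) = f x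
    rw [hinner1, hinner1, hinner2]
  obtain ⟨⟨φ, φ'⟩, hfix, hnd⟩ := exists_fixed_not_dvd (p := p) P.2 f hf (hsumf ▸ hc)
  have hm : ¬ p ∣ natInner α (φ : ↥(E ⊓ N) → ℂ) := by
    intro h
    apply hnd
    exact Dvd.dvd.mul_right (Dvd.dvd.mul_right h _) _
  -- stabilizer
  have hP : (P : Subgroup E) ≤ MulAction.stabilizer E φ := by
    intro q hq
    rw [MulAction.mem_stabilizer_iff]
    have := hfix ⟨q, hq⟩
    exact congrArg Prod.fst this
  have hD : (E ⊓ N).subgroupOf E ≤ MulAction.stabilizer E φ := by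
    intro d hd
    rw [MulAction.mem_stabilizer_iff]
    apply Subtype.ext
    funext x
    rw [infConjAction_smul_apply]
    have hcl := isClassFunction_of_isCharacter (IsIrrCharacter.isCharacter φ.2) x
      (⟨(d : G), hd⟩ : ↥(E ⊓ N))⁻¹
    rw [inv_inv] at hcl
    rw [← hcl]
    congr 1
  have htop : (P : Subgroup E) ⊔ (E ⊓ N).subgroupOf E = ⊤ := by
    rw [← Subgroup.index_eq_one]
    obtain ⟨k, hk⟩ := hind
    have h1 : ((P : Subgroup E) ⊔ (E ⊓ N).subgroupOf E).index ∣ (P : Subgroup E).index :=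
      Subgroup.index_dvd_of_le le_sup_left
    have h2 : ((P : Subgroup E) ⊔ (E ⊓ N).subgroupOf E).index ∣ p ^ k := by
      have h3 : ((E ⊓ N).subgroupOf E).index = p ^ k := by
        show (E ⊓ N).relIndex E = p ^ k
        rw [Subgroup.inf_relIndex_left, ← Subgroup.relIndex_sup_right, hEN,
          Subgroup.relIndex_top_right, hk]
      rw [← h3]
      exact Subgroup.index_dvd_of_le le_sup_right
    obtain ⟨j, hj, hj'⟩ := (Nat.dvd_prime_pow hp.1).mp h2
    have hj0 : j = 0 := by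
      by_contra hj0
      have : p ∣ (P : Subgroup E).index := (hj' ▸ dvd_pow_self p hj0 : p ∣ _).trans h1
      exact P.not_dvd_index this
    rw [hj', hj0, pow_zero]
  have hstab : MulAction.stabilizer E φ = ⊤ := by
    rw [eq_top_iff, ← htop]
    exact sup_le hP hD
  refine ⟨φ.1, φ.2, ?_, natInner α (φ : ↥(E ⊓ N) → ℂ), hm,
    natInner_spec hαch (IsIrrCharacter.isCharacter φ.2)⟩
  intro g hg x
  have hmem : (⟨g, hg⟩ : E)⁻¹ ∈ MulAction.stabilizer E φ := by rw [hstab]; exact Subgroup.mem_top _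
  rw [MulAction.mem_stabilizer_iff] at hmem
  have h1 := congrFun (congrArg Subtype.val hmem) x
  rw [infConjAction_smul_apply] at h1
  rw [← h1]
  refine congrArg φ.1 (Subtype.ext ?_)
  rw [infConj_apply_coe]
  simp

end dadeorbit
end Cfsg.Agent.Helper81
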