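import Cfsg.Agent.Lib.Helper81.CharCycMult
import Cfsg.Agent.Lib.Helper79.Glaub.CosetFourier
set_option autoImplicit false
set_option linter.style.haveILetI false
set_option linter.unusedSectionVars false
set_option maxHeartbeats 1000000
namespace Cfsg.Agent.Helper81
open scoped ComplexConjugate
universe u v w

section frobram
variable {Γ : Type u} [Group Γ] [Fintype Γ]

/-- Induction from a subgroup of a normal subgroup `G` commutes with conjugation by the ambient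
group when the inducing function is invariant. -/
theorem indFun_conj_ambient (G : Subgroup Γ) [hG : G.Normal] [Fintype G] (N' : Subgroup G)
    (φ : N' → ℂ) (x : Γ)
    (hφ : ∀ z : G, extendByZero N' φ ⟨x * z * x⁻¹, hG.conj_mem z z.2 x⟩ = extendByZero N' φ z)
    (g : G) : indFun N' φ ⟨x * g * x⁻¹, hG.conj_mem g g.2 x⟩ = indFun N' φ g := by
  rw [indFun_apply, indFun_apply]
  congr 1
  let c : G ≃ G :=
    { toFun := fun y => ⟨x * y * x⁻¹, hG.conj_mem y y.2 x⟩
      invFun := fun y => ⟨x⁻¹ * y * x, by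
        have := hG.conj_mem y y.2 x⁻¹
        simpa using this⟩
      left_inv := fun y => Subtype.ext (by simp [mul_assoc])
      right_inv := fun y => Subtype.ext (by simp [mul_assoc]) }
  rw [← Equiv.sum_comp c]
  apply Finset.sum_congr rfl
  intro y _
  rw [← hφ (y⁻¹ * g * y)]
  congr 1
  apply Subtype.ext
  simp only [c, Equiv.coe_fn_mk, Subgroup.coe_mul, Subgroup.coe_inv, mul_inv_rev, inv_inv]
  group

/-- The fixed-point-free commutator map on `G / N` is onto: every element of the coset `G x` is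
conjugate to `x` modulo `N`. -/
theorem exists_conj_mul_of_frobenius (G N : Subgroup Γ) [hG : G.Normal] [hN : N.Normal]
    (hNG : N ≤ G) (x : Γ)
    (hfrob : ∀ g : Γ, g ∈ G → x * g * x⁻¹ * g⁻¹ ∈ N → g ∈ N) (g : Γ) (hg : g ∈ G) :
    ∃ h : Γ, h ∈ G ∧ ∃ m : Γ, m ∈ N ∧ g * x = h * x * h⁻¹ * m := by
  classical
  set N' : Subgroup G := N.subgroupOf G with hN'
  haveI hN'n : N'.Normal := hN.subgroupOf G
  -- the map `h ↦ h x h⁻¹ x⁻¹` modulo `N`
  let f : G → G ⧸ N' := fun h =>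
    ((⟨(h : Γ) * x * (h : Γ)⁻¹ * x⁻¹, by
      have h1 : x * (h : Γ)⁻¹ * x⁻¹ ∈ G := hG.conj_mem _ (G.inv_mem h.2) x
      have h2 : (h : Γ) * x * (h : Γ)⁻¹ * x⁻¹ = (h : Γ) * (x * (h : Γ)⁻¹ * x⁻¹) := by group
      rw [h2]
      exact G.mul_mem h.2 h1⟩ : G) : G ⧸ N')
  have hf : ∀ a b : G, f a = f b ↔ a⁻¹ * b ∈ N' := by
    intro a b
    simp only [f]
    rw [QuotientGroup.eq, hN', Subgroup.mem_subgroupOf, Subgroup.mem_subgroupOf]
    show ((a : Γ) * x * (a : Γ)⁻¹ * x⁻¹)⁻¹ * ((b : Γ) * x * (b : Γ)⁻¹ * x⁻¹) ∈ N ↔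
      (a : Γ)⁻¹ * (b : Γ) ∈ N
    have key : ((a : Γ) * x * (a : Γ)⁻¹ * x⁻¹)⁻¹ * ((b : Γ) * x * (b : Γ)⁻¹ * x⁻¹) =
        x * ((a : Γ) * (x⁻¹ * ((a : Γ)⁻¹ * (b : Γ)) * x * ((a : Γ)⁻¹ * (b : Γ))⁻¹) * (a : Γ)⁻¹)
          * x⁻¹ := by group
    rw [key]
    constructor
    · intro h
      have h1 : (a : Γ) * (x⁻¹ * ((a : Γ)⁻¹ * (b : Γ)) * x * ((a : Γ)⁻¹ * (b : Γ))⁻¹) * (a : Γ)⁻¹
          ∈ N := by
        have := hN.conj_mem _ h x⁻¹
        simpa [mul_assoc] using this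
      have h2 : x⁻¹ * ((a : Γ)⁻¹ * (b : Γ)) * x * ((a : Γ)⁻¹ * (b : Γ))⁻¹ ∈ N := by
        have := hN.conj_mem _ h1 (a : Γ)⁻¹
        simpa [mul_assoc] using this
      -- conjugate by `x` to get the commutator in the required form
      have h3 : x * ((a : Γ)⁻¹ * (b : Γ)) * x⁻¹ * ((a : Γ)⁻¹ * (b : Γ))⁻¹ ∈ N := by
        set u := (a : Γ)⁻¹ * (b : Γ) with hu
        have h4 : (x⁻¹ * u * x * u⁻¹)⁻¹ ∈ N := N.inv_mem h2
        have h5 : x * (x⁻¹ * u * x * u⁻¹)⁻¹ * x⁻¹ ∈ N := hN.conj_mem _ h4 x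
        have h6 : x * (x⁻¹ * u * x * u⁻¹)⁻¹ * x⁻¹ = x * u * x⁻¹ * u⁻¹ := by group
        rwa [h6] at h5
      exact hfrob _ (G.mul_mem (G.inv_mem a.2) b.2) h3
    · intro h
      set u := (a : Γ)⁻¹ * (b : Γ) with hu
      have h1 : x⁻¹ * u * x * u⁻¹ ∈ N :=
        N.mul_mem (by have := hN.conj_mem u h x⁻¹; simpa [mul_assoc] using this) (N.inv_mem h)
      exact hN.conj_mem _ (hN.conj_mem _ h1 (a : Γ)) x
  -- descend to the quotient: injective, hence surjective
  let F : G ⧸ N' → G ⧸ N' := Quotient.lift f (by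
    intro a b hab
    have : a⁻¹ * b ∈ N' := QuotientGroup.leftRel_apply.mp hab
    exact (hf a b).mpr this)
  have hFinj : Function.Injective F := by
    intro p q hpq
    obtain ⟨a, rfl⟩ := QuotientGroup.mk_surjective p
    obtain ⟨b, rfl⟩ := QuotientGroup.mk_surjective q
    have : f a = f b := hpq
    exact QuotientGroup.eq.mpr ((hf a b).mp this)
  have hFsurj : Function.Surjective F := Finite.surjective_of_injective hFinj
  obtain ⟨p, hp⟩ := hFsurj ((⟨g, hg⟩ : G) : G ⧸ N')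
  obtain ⟨h, rfl⟩ := QuotientGroup.mk_surjective p
  have h1 : f h = ((⟨g, hg⟩ : G) : G ⧸ N') := hp
  simp only [f] at h1
  rw [QuotientGroup.eq, hN', Subgroup.mem_subgroupOf] at h1
  have h2 : ((h : Γ) * x * (h : Γ)⁻¹ * x⁻¹)⁻¹ * g ∈ N := h1
  refine ⟨h, h.2, x⁻¹ * (((h : Γ) * x * (h : Γ)⁻¹ * x⁻¹)⁻¹ * g) * x, ?_, by group⟩
  have := hN.conj_mem _ h2 x⁻¹
  simpa [mul_assoc] using this

end frobram

section avg
variable {Γ : Type u} [Group Γ]

/-- the average of `f` over the coset `N y` -/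
noncomputable def avgN (N : Subgroup Γ) [Fintype N] (f : Γ → ℂ) (y : Γ) : ℂ :=
  (Nat.card N : ℂ)⁻¹ * ∑ m : N, f ((m : Γ) * y)

theorem avgN_mul_right (N : Subgroup Γ) [Fintype N] {f : Γ → ℂ} (hf : IsClassFunction Γ f)
    (y : Γ) (m₀ : N) : avgN N f (y * m₀) = avgN N f y := by
  unfold avgN
  congr 1
  rw [← Equiv.sum_comp (Equiv.mulLeft m₀⁻¹)]
  apply Finset.sum_congr rfl
  intro m _
  rw [← hf ((m : Γ) * y) (m₀ : Γ)⁻¹]
  congr 1
  simp only [Equiv.coe_mulLeft, Subgroup.coe_mul, Subgroup.coe_inv]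
  group

theorem avgN_conj (N : Subgroup Γ) [hN : N.Normal] [Fintype N] {f : Γ → ℂ}
    (hf : IsClassFunction Γ f) (y h : Γ) : avgN N f (h * y * h⁻¹) = avgN N f y := by
  unfold avgN
  congr 1
  rw [← Equiv.sum_comp (MulAut.conjNormal h : MulAut N).toEquiv]
  apply Finset.sum_congr rfl
  intro m _
  rw [← hf ((m : Γ) * y) h]
  congr 1
  simp only [MulEquiv.toEquiv_eq_coe, EquivLike.coe_coe, MulAut.conjNormal_apply]
  group

theorem avgN_of_mem (N : Subgroup Γ) [Fintype N] (f : Γ → ℂ) (y : N) :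
    avgN N f y = (Nat.card N : ℂ)⁻¹ * ∑ m : N, f m := by
  unfold avgN
  congr 1
  rw [← Equiv.sum_comp (Equiv.mulRight y⁻¹)]
  apply Finset.sum_congr rfl
  intro m _
  congr 1
  simp

theorem sum_avgN_subgroup (N M : Subgroup Γ) [Fintype N] [Fintype M] (hNM : N ≤ M) (f : Γ → ℂ) :
    ∑ y : M, avgN N f y = ∑ y : M, f y := by
  have hN0 : (Nat.card N : ℂ) ≠ 0 := by exact_mod_cast (Nat.card_pos (α := N)).ne'
  unfold avgN
  rw [← Finset.mul_sum, Finset.sum_comm]
  have h1 : ∀ m : N, ∑ y : M, f ((m : Γ) * y) = ∑ y : M, f y := by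
    intro m
    rw [← Equiv.sum_comp (Equiv.mulLeft (⟨m, hNM m.2⟩ : M)) (fun y : M => f y)]
    rfl
  simp only [h1]
  rw [Finset.sum_const, Finset.card_univ, nsmul_eq_mul, ← Nat.card_eq_fintype_card]
  field_simp

theorem sum_avgN_coset [Fintype Γ] (N : Subgroup Γ) [Fintype N] {A : Type v} [Group A]
    [DecidableEq A] (π : Γ →* A)
    (hN : ∀ m : N, π m = 1) (f : Γ → ℂ) (a : Γ) :
    ∑ y : Γ, (if π y = π a then avgN N f y else 0) = ∑ y : Γ, (if π y = π a then f y else 0) := by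
  have hN0 : (Nat.card N : ℂ) ≠ 0 := by exact_mod_cast (Nat.card_pos (α := N)).ne'
  unfold avgN
  have h0 : ∀ y : Γ, (if π y = π a then (Nat.card N : ℂ)⁻¹ * ∑ m : N, f ((m : Γ) * y) else 0) =
      (Nat.card N : ℂ)⁻¹ * ∑ m : N, (if π y = π a then f ((m : Γ) * y) else 0) := by
    intro y
    split_ifs <;> simp
  simp only [h0]
  rw [← Finset.mul_sum, Finset.sum_comm]
  have h1 : ∀ m : N, ∑ y : Γ, (if π y = π a then f ((m : Γ) * y) else 0) =
      ∑ y : Γ, (if π y = π a then f y else 0) := by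
    intro m
    rw [← Equiv.sum_comp (Equiv.mulLeft (m : Γ)) (fun y : Γ => if π y = π a then f y else 0)]
    apply Finset.sum_congr rfl
    intro y _
    simp only [Equiv.coe_mulLeft, map_mul, hN m, one_mul]
  simp only [h1]
  rw [Finset.sum_const, Finset.card_univ, nsmul_eq_mul, ← Nat.card_eq_fintype_card]
  field_simp

end avg

section frobavg
variable {Γ : Type u} [Group Γ] [Fintype Γ]

theorem avgN_coset_const (G N : Subgroup Γ) [hG : G.Normal] [hN : N.Normal] [Fintype N]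
    (hNG : N ≤ G) (x : Γ)
    (hfrob : ∀ g : Γ, g ∈ G → x * g * x⁻¹ * g⁻¹ ∈ N → g ∈ N) {f : Γ → ℂ}
    (hf : IsClassFunction Γ f) (g : Γ) (hg : g ∈ G) : avgN N f (g * x) = avgN N f x := by
  obtain ⟨h, _, m, hm, heq⟩ := exists_conj_mul_of_frobenius G N hNG x hfrob g hg
  rw [heq, avgN_mul_right N hf _ ⟨m, hm⟩, avgN_conj N hf]

theorem avgN_eq_one (G N : Subgroup Γ) [hG : G.Normal] [hN : N.Normal] [Fintype G] [Fintype N]
    (hNG : N ≤ G) (hcyc : IsCyclic (Γ ⧸ G)) (x : Γ)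
    (hfrob : ∀ g : Γ, g ∈ G → x * g * x⁻¹ * g⁻¹ ∈ N → g ∈ N) {ξ : Γ → ℂ}
    (hξ : IsIrrCharacter Γ ξ) (hres : IsIrrCharacter G (fun g : G => ξ g)) :
    avgN N (fun y => ξ y * conj (ξ y)) x = 1 := by
  classical
  letI : CommGroup (Γ ⧸ G) := IsCyclic.commGroup
  set π : Γ →* Γ ⧸ G := QuotientGroup.mk' G with hπdef
  have hπ : Function.Surjective π := QuotientGroup.mk'_surjective G
  have hker : ∀ y : Γ, π y = 1 ↔ y ∈ G := fun y => QuotientGroup.eq_one_iff y
  have hG0 : (Nat.card G : ℂ) ≠ 0 := by exact_mod_cast (Nat.card_pos (α := G)).ne'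
  set f : Γ → ℂ := fun y => ξ y * conj (ξ y) with hfdef
  have hf : IsClassFunction Γ f := by
    intro g h
    have := isClassFunction_of_isCharacter (IsIrrCharacter.isCharacter hξ) g h
    simp only [hfdef, this]
  have h1 := Cfsg.Agent.Helper79.Glaub.coset_sum_self π G hπ hker hξ hres x
  have h2 := sum_avgN_coset N π (fun m => (hker _).mpr (hNG m.2)) f x
  have h3 : ∑ y : Γ, (if π y = π x then avgN N f y else 0) = (Nat.card G : ℂ) * avgN N f x := by
    rw [← Equiv.sum_comp (Equiv.mulRight x)]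
    have h4 : ∀ y : Γ, (if π (Equiv.mulRight x y) = π x then avgN N f (Equiv.mulRight x y) else 0) =
        if y ∈ G then avgN N f x else 0 := by
      intro y
      simp only [Equiv.coe_mulRight, map_mul, mul_eq_right, hker]
      split_ifs with hy
      · exact avgN_coset_const G N hNG x hfrob hf y hy
      · rfl
    simp only [h4]
    rw [← Cfsg.Agent.Helper79.Glaub.sum_subgroup_eq G (fun _ => avgN N f x)]
    rw [Finset.sum_const, Finset.card_univ, nsmul_eq_mul, ← Nat.card_eq_fintype_card]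
  rw [h3, h1] at h2
  have : (Nat.card G : ℂ) * avgN N f x = (Nat.card G : ℂ) * 1 := by rw [h2, mul_one]
  exact mul_left_cancel₀ hG0 this

end frobavg

section main
variable {Γ : Type u} [Group Γ] [Fintype Γ]

theorem frobenius_ramified_dvd (G N : Subgroup Γ)
    [hG : G.Normal] [hN : N.Normal] [Fintype G] [Fintype N] (hNG : N ≤ G) (hGlt : G ≠ ⊤)
    (hcyc : IsCyclic (Γ ⧸ G))
    (hfrob : ∀ x : Γ, x ∉ G → ∀ g : Γ, g ∈ G → x * g * x⁻¹ * g⁻¹ ∈ N → g ∈ N)
    {θ : N → ℂ} (hθ : IsIrrCharacter N θ)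
    (hinv : ∀ (x : Γ) (n : N), θ ⟨x * n * x⁻¹, hN.conj_mem n n.2 x⟩ = θ n)
    {χ : G → ℂ} (hχ : IsIrrCharacter G χ) (e : ℕ)
    (hram : indFun (N.subgroupOf G) (fun n : N.subgroupOf G => θ ⟨(n : G), n.2⟩) =
      fun g => (e : ℂ) * χ g) :
    (G.index : ℤ) ∣ (e : ℤ) - 1 ∨ (G.index : ℤ) ∣ (e : ℤ) + 1 := by
  classical
  set N' : Subgroup G := N.subgroupOf G with hN'
  haveI hN'n : N'.Normal := hN.subgroupOf G
  set θ' : N' → ℂ := fun n => θ ⟨(n : G), n.2⟩ with hθ'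
  have hθ'irr : IsIrrCharacter N' θ' :=
    isIrrCharacter_comp_equiv (Subgroup.subgroupOfEquivOfLe hNG) hθ
  have hcf : IsClassFunction G χ := isClassFunction_of_isCharacter (IsIrrCharacter.isCharacter hχ)
  -- invariance of θ' in G
  have hinv' : ∀ g : G, conjFun N' hN'n θ' g = θ' := by
    intro g
    funext n
    rw [conjFun_apply]
    exact hinv (g : Γ) ⟨((n : G) : Γ), n.2⟩
  have hG0 : (Nat.card G : ℂ) ≠ 0 := by exact_mod_cast (Nat.card_pos (α := G)).ne'
  have hN'0 : (Nat.card N' : ℂ) ≠ 0 := by exact_mod_cast (Nat.card_pos (α := N')).ne'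
  have hN0 : (Nat.card N : ℂ) ≠ 0 := by exact_mod_cast (Nat.card_pos (α := N)).ne'
  -- e ≠ 0
  have he0 : (e : ℂ) ≠ 0 := by
    intro h0
    have h1 := indFun_apply_normal N' hN'n θ' 1
    rw [hram] at h1
    simp only [h0, zero_mul, hinv'] at h1
    rw [Finset.sum_const, Finset.card_univ, nsmul_eq_mul, ← Nat.card_eq_fintype_card] at h1
    obtain ⟨k, hk0, hk⟩ := irr_one_pos hθ'irr
    have hk' : (k : ℂ) ≠ 0 := by exact_mod_cast hk0.ne'
    rw [hk] at h1
    have : (Nat.card N' : ℂ)⁻¹ * ((Nat.card G : ℂ) * (k : ℂ)) ≠ 0 :=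
      mul_ne_zero (inv_ne_zero hN'0) (mul_ne_zero hG0 hk')
    exact this h1.symm
  -- χ restricted to N' is e θ'
  have hin : classInner (fun n : N' => χ n) θ' = (e : ℂ) := by
    have h1 := frobenius_reciprocity N' θ' hcf
    rw [hram] at h1
    have h2 : (fun g : G => (e : ℂ) * χ g) = (e : ℂ) • χ := rfl
    rw [h2, classInner_smul_left, irr_orthonormal hχ hχ, if_pos rfl, mul_one] at h1
    rw [classInner_conj_symm, ← h1, Complex.conj_natCast]
  have hχN' : (fun n : N' => χ n) = (e : ℂ) • θ' := by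
    have := restrict_eq_smul_of_invariant N' hN'n hχ hθ'irr (by rw [hin]; exact he0) hinv'
    rw [hin] at this
    exact this
  -- χ is Γ-invariant
  have hχinv : ∀ (x : Γ) (g : G), χ ⟨x * g * x⁻¹, hG.conj_mem g g.2 x⟩ = χ g := by
    intro x g
    have hφ : ∀ z : G, extendByZero N' θ' ⟨x * z * x⁻¹, hG.conj_mem z z.2 x⟩ =
        extendByZero N' θ' z := by
      intro z
      by_cases hz : z ∈ N'
      · have hz' : (⟨x * z * x⁻¹, hG.conj_mem z z.2 x⟩ : G) ∈ N' := by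
          rw [hN', Subgroup.mem_subgroupOf]
          exact hN.conj_mem _ (Subgroup.mem_subgroupOf.mp hz) x
        rw [extendByZero_apply_mem N' θ' hz, extendByZero_apply_mem N' θ' hz']
        exact hinv x ⟨((z : G) : Γ), Subgroup.mem_subgroupOf.mp hz⟩
      · have hz' : (⟨x * z * x⁻¹, hG.conj_mem z z.2 x⟩ : G) ∉ N' := by
          intro h
          apply hz
          rw [hN', Subgroup.mem_subgroupOf] at h ⊢
          have := hN.conj_mem _ h x⁻¹
          simpa [mul_assoc] using this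
        rw [extendByZero_apply_not_mem N' θ' hz, extendByZero_apply_not_mem N' θ' hz']
    have h1 := indFun_conj_ambient G N' θ' x hφ g
    rw [hram] at h1
    exact mul_left_cancel₀ he0 h1
  -- extend χ to Γ
  obtain ⟨d, ρ, hρ, hρχ⟩ := hχ
  have hχ : IsIrrCharacter G χ := ⟨d, ρ, hρ, hρχ⟩
  haveI := hρ
  have hinvρ : ∀ (x : Γ) (g : G),
      ρ.character ⟨x * g * x⁻¹, hG.conj_mem g g.2 x⟩ = ρ.character g := by
    intro x g
    rw [hρχ]
    exact hχinv x g
  obtain ⟨σ, hσ, hσρ⟩ := exists_rep_extension_cyclic G hG hcyc ρ hinvρ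
  set ξ : Γ → ℂ := σ.character with hξdef
  have hξ : IsIrrCharacter Γ ξ := ⟨d, σ, hσ, rfl⟩
  have hξG : ∀ g : G, ξ g = χ g := by
    intro g
    rw [← hρχ]
    simp only [hξdef, Representation.character]
    rw [hσρ]
  have hres : IsIrrCharacter G (fun g : G => ξ g) := by
    have : (fun g : G => ξ g) = χ := funext hξG
    rw [this]; exact hχ
  have hξN : ∀ n : N, ξ n = (e : ℂ) * θ n := by
    intro n
    have h1 := congrFun hχN' ⟨⟨(n : Γ), hNG n.2⟩, Subgroup.mem_subgroupOf.mpr n.2⟩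
    have h2 := hξG ⟨(n : Γ), hNG n.2⟩
    exact h2.trans h1
  -- the averaged square
  set f : Γ → ℂ := fun y => ξ y * conj (ξ y) with hfdef
  have hcN : ∀ y : Γ, y ∈ N → avgN N f y = ((e : ℂ)) ^ 2 := by
    intro y hy
    have h1 := avgN_of_mem N f ⟨y, hy⟩
    rw [show ((⟨y, hy⟩ : N) : Γ) = y from rfl] at h1
    rw [h1]
    have h2 : ∀ m : N, f m = (e : ℂ) ^ 2 * (θ m * conj (θ m)) := by
      intro m
      simp only [hfdef, hξN m, map_mul, Complex.conj_natCast]
      ring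
    simp only [h2]
    rw [← Finset.mul_sum]
    have h3 := irr_orthonormal hθ hθ
    rw [if_pos rfl] at h3
    unfold classInner at h3
    rw [mul_left_comm, h3, mul_one]
  have hcx : ∀ x : Γ, x ∉ G → avgN N f x = 1 := by
    intro x hx
    exact avgN_eq_one G N hNG hcyc x (hfrob x hx) hξ hres
  -- a generator of Γ/G and the subgroup M = N⟨x₀⟩
  letI : CommGroup (Γ ⧸ G) := IsCyclic.commGroup
  obtain ⟨q, hq⟩ := IsCyclic.exists_generator (α := Γ ⧸ G)
  obtain ⟨x₀, rfl⟩ := QuotientGroup.mk_surjective q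
  have hx₀ : x₀ ∉ G := by
    intro hx
    apply hGlt
    rw [eq_top_iff]
    intro y _
    obtain ⟨i, hi⟩ := Subgroup.mem_zpowers_iff.mp (hq (y : Γ ⧸ G))
    have h1 : ((x₀ : Γ) : Γ ⧸ G) = 1 := (QuotientGroup.eq_one_iff x₀).mpr hx
    rw [h1, one_zpow] at hi
    exact (QuotientGroup.eq_one_iff y).mp hi.symm
  set M : Subgroup Γ := N ⊔ Subgroup.zpowers x₀ with hM
  haveI : Fintype M := Fintype.ofFinite M
  have hNM : N ≤ M := le_sup_left
  have hMG : ∀ y : Γ, y ∈ M → y ∈ G → y ∈ N := by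
    intro y hy hyG
    obtain ⟨m, hm, z, hz, rfl⟩ := Subgroup.mem_sup_of_normal_left.mp hy
    obtain ⟨i, rfl⟩ := Subgroup.mem_zpowers_iff.mp hz
    have hzG : x₀ ^ i ∈ G := by
      have := G.mul_mem (G.inv_mem (hNG hm)) hyG
      simpa using this
    have hzN : x₀ ^ i ∈ N := by
      apply hfrob x₀ hx₀ _ hzG
      have : x₀ * x₀ ^ i * x₀⁻¹ * (x₀ ^ i)⁻¹ = 1 := by
        rw [← zpow_one_add, ← zpow_neg_one, ← zpow_add, ← zpow_neg, ← zpow_add]
        simp
      rw [this]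
      exact N.one_mem
    exact N.mul_mem hm hzN
  set NM : Subgroup M := N.subgroupOf M with hNMdef
  haveI hNMn : NM.Normal := hN.subgroupOf M
  set πM : M →* Γ ⧸ G := (QuotientGroup.mk' G).comp M.subtype with hπM
  have hπMs : Function.Surjective πM := by
    intro q'
    obtain ⟨i, hi⟩ := Subgroup.mem_zpowers_iff.mp (hq q')
    refine ⟨⟨x₀ ^ i, ?_⟩, ?_⟩
    · exact (le_sup_right : Subgroup.zpowers x₀ ≤ M) (Subgroup.zpow_mem_zpowers x₀ i)
    · rw [← hi]
      rfl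
  have hkerM : ∀ y : M, πM y = 1 ↔ y ∈ NM := by
    intro y
    rw [hNMdef, Subgroup.mem_subgroupOf]
    constructor
    · intro h
      exact hMG y y.2 ((QuotientGroup.eq_one_iff (y : Γ)).mp h)
    · intro h
      exact (QuotientGroup.eq_one_iff (y : Γ)).mpr (hNG h)
  set n : ℕ := Nat.card (Γ ⧸ G) with hn
  have hn0 : 0 < n := Nat.card_pos
  have hcardM : Nat.card M = n * Nat.card N := by
    have h1 := Cfsg.Agent.Helper79.Glaub.card_eq_mul πM NM hπMs hkerM
    rw [h1, Nat.card_congr (Subgroup.subgroupOfEquivOfLe hNM).toEquiv]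
  -- the restriction to M
  set Ξ : M → ℂ := fun y => ξ y with hΞdef
  have hΞ : IsCharacter M Ξ := isCharacter_restrict M (IsIrrCharacter.isCharacter hξ)
  set θM : NM → ℂ := fun m => θ ⟨((m : M) : Γ), m.2⟩ with hθM
  have hθMirr : IsIrrCharacter NM θM :=
    isIrrCharacter_comp_equiv (Subgroup.subgroupOfEquivOfLe hNM) hθ
  have hinvM : ∀ g : M, conjFun NM hNMn θM g = θM := by
    intro g
    funext m
    rw [conjFun_apply]
    exact hinv (g : Γ) ⟨((m : M) : Γ), m.2⟩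
  have hresM : (fun m : NM => Ξ m) = (e : ℂ) • θM := by
    funext m
    exact hξN ⟨((m : M) : Γ), m.2⟩
  obtain ⟨C, mult, hCcard, hsum, hinner⟩ :=
    exists_mult_of_cyclic_quotient NM hNMn πM hπMs hkerM hθMirr hinvM hΞ e hresM
  -- compute the norm of Ξ
  have hnorm : classInner Ξ Ξ * (n : ℂ) = (e : ℂ) ^ 2 + n - 1 := by
    have h1 : ∑ y : M, Ξ y * conj (Ξ y) = ∑ y : M, avgN N f y :=
      (sum_avgN_subgroup N M hNM f).symm
    have h2 : ∀ y : M, avgN N f y = 1 + (if y ∈ NM then ((e : ℂ) ^ 2 - 1) else 0) := by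
      intro y
      by_cases hy : y ∈ NM
      · rw [if_pos hy, hcN y (Subgroup.mem_subgroupOf.mp hy)]
        ring
      · rw [if_neg hy, add_zero]
        apply hcx
        intro hyG
        exact hy (Subgroup.mem_subgroupOf.mpr (hMG y y.2 hyG))
    have h3 : ∑ y : M, avgN N f y =
        (Nat.card M : ℂ) + (Nat.card N : ℂ) * ((e : ℂ) ^ 2 - 1) := by
      simp only [h2]
      rw [Finset.sum_add_distrib, ← Cfsg.Agent.Helper79.Glaub.sum_subgroup_eq NM
        (fun _ => ((e : ℂ) ^ 2 - 1))]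
      rw [Finset.sum_const, Finset.card_univ, nsmul_eq_mul, ← Nat.card_eq_fintype_card,
        Finset.sum_const, Finset.card_univ, nsmul_eq_mul, ← Nat.card_eq_fintype_card, mul_one,
        Nat.card_congr (Subgroup.subgroupOfEquivOfLe hNM).toEquiv]
    unfold classInner
    rw [h1, h3, hcardM]
    have hn0' : (n : ℂ) ≠ 0 := by exact_mod_cast hn0.ne'
    push_cast
    field_simp
    ring
  have hsq : n * ∑ ψ ∈ C, (mult ψ) ^ 2 + 1 = e ^ 2 + n := by
    rw [hinner] at hnorm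
    have h1 : ((n * ∑ ψ ∈ C, (mult ψ) ^ 2 + 1 : ℕ) : ℂ) = ((e ^ 2 + n : ℕ) : ℂ) := by
      push_cast
      push_cast at hnorm
      linear_combination hnorm
    exact_mod_cast h1
  have := dvd_sub_one_or_add_one_of_sums C mult n e hCcard hn0 hsum hsq
  rw [Subgroup.index_eq_card]
  exact this

end main

end Cfsg.Agent.Helper81
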