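import Cfsg.Agent.Lib.Helper81.CharGalOdd
import Cfsg.Agent.Lib.Helper81.CharCanon
import Cfsg.Agent.Lib.Helper79.Glaub.EigenDet
import Cfsg.Agent.Lib.Helper75.DetOrder
import Cfsg.Agent.Lib.Helper75.RestrictIrr
import Cfsg.Agent.Lib.Helper47.PRes

set_option autoImplicit false
set_option linter.style.haveILetI false
set_option linter.unusedSectionVars false

namespace Cfsg.Agent.Helper81

open Cfsg
open scoped ComplexConjugate

universe u

section pgen
variable {G : Type u} [Group G] [Finite G]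

/-- If `G / N` is cyclic of order `p ^ a`, some `p`-element of `G` generates `G` modulo `N`. -/
theorem exists_p_element_generator (N : Subgroup G) [N.Normal] (p : ℕ) (hp : p.Prime)
    (a : ℕ) (hidx : N.index = p ^ a) (hcyc : IsCyclic (G ⧸ N)) :
    ∃ g₀ : G, (∃ j : ℕ, orderOf g₀ = p ^ j) ∧
      (∀ q : G ⧸ N, q ∈ Subgroup.zpowers (QuotientGroup.mk g₀ : G ⧸ N)) ∧
      orderOf (QuotientGroup.mk g₀ : G ⧸ N) = p ^ a := by
  obtain ⟨q₀, hq₀⟩ := hcyc.exists_generator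
  obtain ⟨g₁, rfl⟩ := QuotientGroup.mk_surjective q₀
  have hcard : Nat.card (G ⧸ N) = p ^ a := by rw [← hidx]; exact (Subgroup.index_eq_card N).symm
  have hord : orderOf (QuotientGroup.mk g₁ : G ⧸ N) = p ^ a := by
    rw [← hcard]
    exact orderOf_eq_card_of_forall_mem_zpowers hq₀
  have hc0 : Nat.card G ≠ 0 := Nat.card_pos.ne'
  obtain ⟨e, m, hm, hcm⟩ := Nat.exists_eq_pow_mul_and_not_dvd hc0 p hp.ne_one
  refine ⟨g₁ ^ m, ?_, ?_, ?_⟩
  · have h1 : (g₁ ^ m) ^ (p ^ e) = 1 := by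
      rw [← pow_mul, mul_comm, ← hcm]
      exact pow_card_eq_one'
    have h2 := orderOf_dvd_of_pow_eq_one h1
    obtain ⟨j, -, hj⟩ := (Nat.dvd_prime_pow hp).1 h2
    exact ⟨j, hj⟩
  · have hcop : (orderOf (QuotientGroup.mk g₁ : G ⧸ N)).Coprime m := by
      rw [hord]
      exact Nat.Coprime.pow_left a ((Nat.Prime.coprime_iff_not_dvd hp).2 hm)
    have h3 : orderOf ((QuotientGroup.mk g₁ : G ⧸ N) ^ m) = Nat.card (G ⧸ N) := by
      rw [Nat.Coprime.orderOf_pow hcop, hord, hcard]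
    intro q
    have h4 : Subgroup.zpowers ((QuotientGroup.mk g₁ : G ⧸ N) ^ m) = ⊤ := by
      apply Subgroup.eq_top_of_card_eq
      rw [Nat.card_zpowers, h3]
    rw [QuotientGroup.mk_pow, h4]
    exact Subgroup.mem_top q
  · have hcop : (orderOf (QuotientGroup.mk g₁ : G ⧸ N)).Coprime m := by
      rw [hord]
      exact Nat.Coprime.pow_left a ((Nat.Prime.coprime_iff_not_dvd hp).2 hm)
    rw [QuotientGroup.mk_pow, Nat.Coprime.orderOf_pow hcop, hord]

/-- The congruence satisfied by the exponent `k` of the Galois twist. -/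
theorem modEq_of_p_element_pow (N : Subgroup G) [N.Normal] (p : ℕ) (hp : p.Prime)
    (a : ℕ) (hidx : N.index = p ^ a) (hcyc : IsCyclic (G ⧸ N)) (k : ℕ)
    (hk₁ : ∀ g : G, (∃ j : ℕ, orderOf g = p ^ j) → g ^ k = g ^ (1 + p)) :
    k ≡ 1 + p [MOD p ^ a] := by
  obtain ⟨g₀, hg₀p, -, hord⟩ := exists_p_element_generator N p hp a hidx hcyc
  have h1 := hk₁ g₀ hg₀p
  rw [pow_eq_pow_iff_modEq] at h1
  have h2 : orderOf (QuotientGroup.mk g₀ : G ⧸ N) ∣ orderOf g₀ :=
    orderOf_map_dvd (QuotientGroup.mk' N) g₀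
  rw [hord] at h2
  exact Nat.ModEq.of_dvd h2 h1

end pgen

section gallinj
variable {G : Type u} [Group G] [Fintype G]

/-- Gallagher: distinct linear characters of `G / N` give distinct extensions. -/
theorem hom_mul_cancel (N : Subgroup G) [Fintype N] (hN : N.Normal) {χ₀ : G → ℂ}
    (hχ₀ : IsIrrCharacter G χ₀) {θ : N → ℂ} (hθ : IsIrrCharacter N θ)
    (hres : (fun n : N => χ₀ n) = θ) (β β' : G →* ℂ) (hβ : ∀ n : N, β n = 1)
    (hβ' : ∀ n : N, β' n = 1) (h : (β : G → ℂ) * χ₀ = (β' : G → ℂ) * χ₀) :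
    (β : G → ℂ) = (β' : G → ℂ) := by
  classical
  haveI : Fintype (IrrCharacter G) := @Fintype.ofFinite _ irr_finite
  have hχcf := isClassFunction_of_isCharacter (IsIrrCharacter.isCharacter hχ₀)
  have h1N : IsIrrCharacter N (1 : N → ℂ) := isIrrCharacter_one
  have h1inv : ∀ g : G, conjFun N hN (1 : N → ℂ) g = 1 := fun g => rfl
  have hprod : IsIrrCharacter N ((1 : N → ℂ) * θ) := by rw [one_mul]; exact hθ
  have hprodinv : ∀ g : G, conjFun N hN ((1 : N → ℂ) * θ) g = (1 : N → ℂ) * θ := by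
    intro g
    rw [one_mul, ← hres]
    ext n
    rw [conjFun_apply]
    exact hχcf n g
  obtain ⟨m, hm⟩ := exists_nat_decomp
    (isCharacter_indFun N (IsIrrCharacter.isCharacter h1N))
  obtain ⟨hirr, horth, -⟩ := gallagher_core N hN h1N h1inv hprod hprodinv hχ₀ hres m hm
  have hmne : ∀ γ : G →* ℂ, (∀ n : N, γ n = 1) →
      m ⟨(γ : G → ℂ), isIrrCharacter_hom γ⟩ ≠ 0 := by
    intro γ hγ
    have h5 : classInner (indFun N (1 : N → ℂ)) (γ : G → ℂ) =
        (m ⟨(γ : G → ℂ), isIrrCharacter_hom γ⟩ : ℂ) := by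
      rw [hm]
      exact classInner_nat_decomp (fun δ => (m δ : ℂ)) ⟨(γ : G → ℂ), isIrrCharacter_hom γ⟩
    rw [frobenius_reciprocity N 1
      (isClassFunction_of_isCharacter (IsIrrCharacter.isCharacter (isIrrCharacter_hom γ)))] at h5
    have h6 : (fun n : N => (γ : G → ℂ) n) = (1 : N → ℂ) := by
      funext n
      exact hγ n
    rw [h6, irr_orthonormal h1N h1N, if_pos rfl] at h5
    intro h0
    rw [h0] at h5
    simp at h5
  by_contra hne
  set b : IrrCharacter G := ⟨(β : G → ℂ), isIrrCharacter_hom β⟩ with hb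
  set b' : IrrCharacter G := ⟨(β' : G → ℂ), isIrrCharacter_hom β'⟩ with hb'
  have hbb' : b ≠ b' := by
    intro heq
    apply hne
    exact congrArg Subtype.val heq
  have h0 := horth b b' (hmne β hβ) (hmne β' hβ') hbb'
  have h1 : classInner ((b : G → ℂ) * χ₀) ((b' : G → ℂ) * χ₀) = 1 := by
    show classInner ((β : G → ℂ) * χ₀) ((β' : G → ℂ) * χ₀) = 1
    rw [h]
    have := hirr b' (hmne β' hβ')
    rw [irr_orthonormal this this, if_pos rfl]
  rw [h0] at h1
  exact zero_ne_one h1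

end gallinj

section canonfixed
variable {G : Type u} [Group G] [Finite G]

/-- The canonical extension to a `p`-power index overgroup is fixed by any Galois twist fixing
the character. -/
theorem exists_tw_fixed_extension_pgroup (N : Subgroup G) (hN : N.Normal) (p : ℕ) (hp : p.Prime)
    (a : ℕ) (hidx : N.index = p ^ a) (k : ℕ) (hk : k.Coprime (Nat.card G)) {θ : N → ℂ}
    (hθ : IsIrrCharacter N θ)
    (hinv : ∀ (g : G) (n : N), θ ⟨g * n * g⁻¹, hN.conj_mem n n.2 g⟩ = θ n)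
    (hθtw : ∀ n : N, θ (n ^ k) = θ n) (d : ℕ) (hd : θ 1 = d) (hpd : ¬ p ∣ detOrder θ * d) :
    ∃ χ₀ : G → ℂ, IsIrrCharacter G χ₀ ∧ (∀ n : N, χ₀ n = θ n) ∧ ∀ g : G, χ₀ (g ^ k) = χ₀ g := by
  obtain ⟨χ₀, ⟨hχ₀, hres, hdet⟩, huniq⟩ :=
    exists_canonical_extension_pgroup N hN hθ hinv p hp a hidx d hd hpd
  have hχ' : IsIrrCharacter G (tw k χ₀) := tw_irr hk hχ₀
  have hres' : ∀ n : N, tw k χ₀ n = θ n := by
    intro n
    rw [tw_apply]
    have : ((n : G)) ^ k = ((n ^ k : N) : G) := by simp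
    rw [this, hres, hθtw]
  have hdvd : detOrder (tw k χ₀) ∣ detOrder χ₀ :=
    Helper79.Glaub.detOrder_twist_dvd hχ₀ hχ' k (fun x => rfl)
  have hnd : ¬ p ∣ detOrder (tw k χ₀) := by
    intro h
    apply hpd
    rw [← hdet]
    exact Dvd.dvd.mul_right (h.trans hdvd) d
  have := huniq (tw k χ₀) hχ' hres' hnd
  exact ⟨χ₀, hχ₀, hres, fun g => congrFun this g⟩

end canonfixed

section count
variable {G : Type u} [Group G] [Finite G]

theorem pow_eq_self_of_modEq_one {p k : ℕ} (hk1 : k ≡ 1 [MOD p]) (z : ℂ) (hz : z ^ p = 1) :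
    z ^ k = z := by
  have h1 : z ^ k = z ^ (k % p) := by
    conv_lhs => rw [← Nat.div_add_mod k p, pow_add, pow_mul, hz, one_pow, one_mul]
  have h2 : z ^ 1 = z ^ (1 % p) := by
    conv_lhs => rw [← Nat.div_add_mod 1 p, pow_add, pow_mul, hz, one_pow, one_mul]
  rw [h1, hk1, ← h2, pow_one]

theorem pow_eq_pow_of_modEq' {m k l : ℕ} (hkl : k ≡ l [MOD m]) (z : ℂ) (hz : z ^ m = 1) :
    z ^ k = z ^ l := by
  have h1 : z ^ k = z ^ (k % m) := by
    conv_lhs => rw [← Nat.div_add_mod k m, pow_add, pow_mul, hz, one_pow, one_mul]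
  have h2 : z ^ l = z ^ (l % m) := by
    conv_lhs => rw [← Nat.div_add_mod l m, pow_add, pow_mul, hz, one_pow, one_mul]
  rw [h1, h2, hkl]

/-- Over a twist-fixed invariant character `θ` of `N` with `p ∤ o(θ) θ(1)`, where `G / N` is a
nontrivial cyclic `p`-group and the twist raises `p`-power roots of unity to the power `1 + p`,
there are exactly `p` twist-fixed extensions. -/
theorem card_tw_fixed_extensions (N : Subgroup G) [hN : N.Normal] (p : ℕ) [hpf : Fact p.Prime]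
    (a : ℕ) (ha : a ≠ 0) (hidx : N.index = p ^ a) (hcyc : IsCyclic (G ⧸ N)) (k : ℕ)
    (hk : k.Coprime (Nat.card G))
    (hk₁ : ∀ g : G, (∃ j : ℕ, orderOf g = p ^ j) → g ^ k = g ^ (1 + p))
    {θ : N → ℂ} (hθ : IsIrrCharacter N θ)
    (hinv : ∀ (g : G) (n : N), θ ⟨g * n * g⁻¹, hN.conj_mem n n.2 g⟩ = θ n)
    (hθtw : ∀ n : N, θ (n ^ k) = θ n) (d : ℕ) (hd : θ 1 = d) (hpd : ¬ p ∣ detOrder θ * d) :
    Nat.card {χ : IrrCharacter G // (∀ n : N, (χ : G → ℂ) n = θ n) ∧
      ∀ g : G, (χ : G → ℂ) (g ^ k) = (χ : G → ℂ) g} = p := by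
  classical
  haveI : Fintype G := Fintype.ofFinite G
  haveI : Fintype N := Fintype.ofFinite N
  have hp : p.Prime := hpf.out
  haveI : NeZero p := ⟨hp.ne_zero⟩
  obtain ⟨χ₀, hχ₀, hres₀, hfix₀⟩ :=
    exists_tw_fixed_extension_pgroup N hN p hp a hidx k hk hθ hinv hθtw d hd hpd
  obtain ⟨g₀, hg₀p, hgen, hord⟩ := exists_p_element_generator N p hp a hidx hcyc
  have hkmod := modEq_of_p_element_pow N p hp a hidx hcyc k hk₁
  have hk1 : k ≡ 1 [MOD p] := by
    have h1 : k ≡ 1 + p [MOD p] := Nat.ModEq.of_dvd (dvd_pow_self p ha) hkmod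
    have h2 : 1 + p ≡ 1 [MOD p] := by
      unfold Nat.ModEq
      rw [Nat.add_mod_right]
    exact h1.trans h2
  have hcardQ : Nat.card (G ⧸ N) = p ^ a := by
    rw [← hidx]; exact (Subgroup.index_eq_card N).symm
  have hpowN : ∀ g : G, g ^ (p ^ a) ∈ N := by
    intro g
    rw [← QuotientGroup.eq_one_iff, QuotientGroup.mk_pow, ← hcardQ]
    exact pow_card_eq_one'
  have hordζ : ∀ ζ : rootsOfUnity p ℂ,
      orderOf (ζ : ℂˣ) ∣ orderOf (QuotientGroup.mk g₀ : G ⧸ N) := by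
    intro ζ
    rw [hord]
    have h1 : (ζ : ℂˣ) ^ p = 1 := (mem_rootsOfUnity _ _).1 ζ.2
    exact (orderOf_dvd_of_pow_eq_one h1).trans (dvd_pow_self p ha)
  let βq : rootsOfUnity p ℂ → ((G ⧸ N) →* ℂˣ) := fun ζ =>
    monoidHomOfForallMemZpowers hgen (hordζ ζ)
  let B : rootsOfUnity p ℂ → (G →* ℂ) := fun ζ =>
    (Units.coeHom ℂ).comp ((βq ζ).comp (QuotientGroup.mk' N))
  have hBapp : ∀ ζ g, B ζ g = (((βq ζ) (QuotientGroup.mk g : G ⧸ N) : ℂˣ) : ℂ) := fun ζ g => rfl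
  have hBg₀ : ∀ ζ, B ζ g₀ = ((ζ : ℂˣ) : ℂ) := by
    intro ζ
    rw [hBapp]
    show (((monoidHomOfForallMemZpowers hgen (hordζ ζ)) (QuotientGroup.mk g₀ : G ⧸ N) : ℂˣ) : ℂ) = _
    rw [monoidHomOfForallMemZpowers_apply_gen]
  have hBN : ∀ ζ (n : N), B ζ n = 1 := by
    intro ζ n
    rw [hBapp, (QuotientGroup.eq_one_iff _).2 n.2, map_one]
    rfl
  have hBp : ∀ ζ g, (B ζ g) ^ p = 1 := by
    intro ζ g
    have h1 : (βq ζ) ^ p = 1 := by
      rw [MonoidHom.eq_iff_eq_on_generator hgen]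
      show ((monoidHomOfForallMemZpowers hgen (hordζ ζ)) ^ p) (QuotientGroup.mk g₀ : G ⧸ N) = _
      rw [MonoidHom.pow_apply, monoidHomOfForallMemZpowers_apply_gen, MonoidHom.one_apply]
      exact (mem_rootsOfUnity _ _).1 ζ.2
    have h2 := DFunLike.congr_fun h1 (QuotientGroup.mk g : G ⧸ N)
    rw [MonoidHom.pow_apply, MonoidHom.one_apply] at h2
    rw [hBapp, ← Units.val_pow_eq_pow_val, h2]
    rfl
  let F := {χ : IrrCharacter G // (∀ n : N, (χ : G → ℂ) n = θ n) ∧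
      ∀ g : G, (χ : G → ℂ) (g ^ k) = (χ : G → ℂ) g}
  let Φ : rootsOfUnity p ℂ → F := fun ζ =>
    ⟨⟨(B ζ : G → ℂ) * χ₀, isIrrCharacter_hom_mul (B ζ) hχ₀⟩, by
      intro n
      show (B ζ : G → ℂ) n * χ₀ n = θ n
      rw [hBN, one_mul, hres₀], by
      intro g
      show (B ζ : G → ℂ) (g ^ k) * χ₀ (g ^ k) = (B ζ : G → ℂ) g * χ₀ g
      rw [hfix₀, map_pow, pow_eq_self_of_modEq_one hk1 _ (hBp ζ g)]⟩
  have hΦval : ∀ ζ, ((Φ ζ).1 : G → ℂ) = (B ζ : G → ℂ) * χ₀ := fun ζ => rfl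
  have hbij : Function.Bijective Φ := by
    constructor
    · intro ζ ζ' h
      have h1 : (B ζ : G → ℂ) * χ₀ = (B ζ' : G → ℂ) * χ₀ := by
        rw [← hΦval, ← hΦval, h]
      have h2 := hom_mul_cancel N hN hχ₀ hθ (funext hres₀) (B ζ) (B ζ') (hBN ζ) (hBN ζ') h1
      have h3 := congrFun h2 g₀
      rw [hBg₀, hBg₀] at h3
      exact Subtype.ext (Units.ext h3)
    · rintro ⟨χ, hres, hfix⟩
      obtain ⟨β, hβN, hχeq⟩ := exists_hom_mul_eq_of_extensions N hN hχ₀ χ.2 hθ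
        (funext hres₀) (funext hres)
      have hβpa : ∀ g : G, (β g) ^ (p ^ a) = 1 := by
        intro g
        rw [← map_pow]
        exact hβN ⟨g ^ (p ^ a), hpowN g⟩
      have hβk : (((β ^ k : G →* ℂ)) : G → ℂ) * χ₀ = (β : G → ℂ) * χ₀ := by
        funext g
        have h1 := hfix g
        rw [hχeq] at h1
        simp only [Pi.mul_apply] at h1 ⊢
        rw [hfix₀, map_pow] at h1
        rw [MonoidHom.pow_apply]
        exact h1
      have hβkN : ∀ n : N, (β ^ k : G →* ℂ) n = 1 := by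
        intro n
        rw [MonoidHom.pow_apply, hβN, one_pow]
      have h2 := hom_mul_cancel N hN hχ₀ hθ (funext hres₀) (β ^ k) β hβkN hβN hβk
      have h3 : (β g₀) ^ k = β g₀ := by
        have := congrFun h2 g₀
        rwa [MonoidHom.pow_apply] at this
      have h4 : (β g₀) ^ (1 + p) = β g₀ := by
        rw [← pow_eq_pow_of_modEq' hkmod (β g₀) (hβpa g₀)]
        exact h3
      have hne : β g₀ ≠ 0 := by
        intro h0
        have := hβpa g₀
        rw [h0, zero_pow (pow_ne_zero a hp.ne_zero)] at this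
        exact zero_ne_one this
      have h5 : (β g₀) ^ p = 1 := by
        rw [pow_add, pow_one] at h4
        have : β g₀ * (β g₀) ^ p = β g₀ * 1 := by rw [h4, mul_one]
        exact mul_left_cancel₀ hne this
      have hζmem : β.toHomUnits g₀ ∈ rootsOfUnity p ℂ := by
        rw [mem_rootsOfUnity]
        apply Units.ext
        rw [Units.val_pow_eq_pow_val, MonoidHom.coe_toHomUnits]
        exact h5
      refine ⟨⟨β.toHomUnits g₀, hζmem⟩, ?_⟩
      apply Subtype.ext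
      apply Subtype.ext
      rw [hΦval, hχeq]
      congr 1
      funext g
      have hker : N ≤ β.toHomUnits.ker := by
        intro x hx
        rw [MonoidHom.mem_ker]
        apply Units.ext
        rw [MonoidHom.coe_toHomUnits]
        exact hβN ⟨x, hx⟩
      have h6 : βq ⟨β.toHomUnits g₀, hζmem⟩ = QuotientGroup.lift N β.toHomUnits hker := by
        rw [MonoidHom.eq_iff_eq_on_generator hgen]
        show (monoidHomOfForallMemZpowers hgen (hordζ ⟨β.toHomUnits g₀, hζmem⟩))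
          (QuotientGroup.mk g₀ : G ⧸ N) = _
        rw [monoidHomOfForallMemZpowers_apply_gen, QuotientGroup.lift_mk]
      rw [hBapp, h6, QuotientGroup.lift_mk, MonoidHom.coe_toHomUnits]
  have h1 := Nat.card_eq_of_bijective Φ hbij
  rw [← h1, Complex.card_rootsOfUnity]

end count

end Cfsg.Agent.Helper81
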