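import Mathlib
import Cfsg.Prelude.Def_Characters
import Cfsg.Prelude.Def_Blocks
import Cfsg.Prelude.Def_Local
import Cfsg.Agent.Lib.Helper3.Spectral
import Cfsg.Agent.Lib.Helper78.CharCount
import Cfsg.Agent.Lib.Helper78.ItoMichlerPSolv
import Cfsg.Agent.Lib.Helper76.PSolvable
import Cfsg.Agent.Lib.Helper69.PSolvSub
import Cfsg.Agent.Lib.Helper79.DegreeRatio
import Cfsg.Agent.Lib.Helper79.Inflation
import Cfsg.Agent.Lib.Helper79.LinearChars
import Cfsg.Agent.Lib.Helper81.CharDet
import Cfsg.Agent.Lib.Helper81.CharRam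
import Cfsg.Agent.Lib.Helper81.CharCorr

set_option autoImplicit false
open Cfsg

namespace Cfsg.Agent.Helper81

open scoped ComplexConjugate

universe u

/-- Powers of a root of unity only depend on the exponent modulo the order. -/
theorem pow_eq_pow_of_modEq {x : ℂ} {e a b : ℕ} (hx : x ^ e = 1) (h : a ≡ b [MOD e]) :
    x ^ a = x ^ b := by
  rw [pow_eq_pow_mod a hx, pow_eq_pow_mod b hx, h]

/-- Determinant trick: if an irreducible character `ψ` of `X` restricts along `ι : A →* X` to
`ψ(1) λ` with `λ` linear, and `ψ(1)` is prime to `|A|`, then `λ` extends to a homomorphism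
on `X`. -/
theorem exists_hom_extension_of_coprime_degree {X : Type*} [Group X] [Finite X]
    {A : Type*} [Group A] [Finite A] (ι : A →* X) (lam : A →* ℂ)
    {ψ : X → ℂ} (hψ : IsIrrCharacter X ψ) (hres : ∀ a : A, ψ (ι a) = ψ 1 * lam a)
    (hcop : Nat.Coprime (charDegree ψ) (Nat.card A)) :
    ∃ μ : X →* ℂ, ∀ a : A, μ (ι a) = lam a := by
  classical
  obtain ⟨hd1, hdpos⟩ := Cfsg.Agent.Helper78.irr_charDegree hψ
  obtain ⟨n, ρ, hirr, hρ⟩ := hψ
  have hn : ψ 1 = (n : ℂ) := by
    rw [← hρ, Representation.char_one, Module.finrank_fin_fun]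
  have hnd : n = charDegree ψ := by
    have : (n : ℂ) = (charDegree ψ : ℂ) := by rw [← hn, hd1]
    exact_mod_cast this
  have hn0 : (n : ℂ) ≠ 0 := by
    rw [hnd]; exact_mod_cast hdpos.ne'
  set e := Nat.card A with he
  have hlam_pow : ∀ a : A, lam a ^ e = 1 := by
    intro a
    rw [← map_pow, he, pow_card_eq_one', map_one]
  have hlam_norm : ∀ a : A, ‖lam a‖ = 1 := by
    intro a
    have h1 : ‖lam a‖ ^ e = 1 := by rw [← norm_pow, hlam_pow, norm_one]
    have he0 : e ≠ 0 := Nat.card_pos.ne'
    exact (pow_eq_one_iff_of_nonneg (norm_nonneg _) he0).mp h1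
  -- ρ (ι a) is the scalar lam a
  have hscal : ∀ a : A, ρ (ι a) = lam a • (LinearMap.id : (Fin n → ℂ) →ₗ[ℂ] (Fin n → ℂ)) := by
    intro a
    have h1 : ‖ρ.character (ι a)‖ = (Module.finrank ℂ (Fin n → ℂ) : ℝ) := by
      rw [hρ, hres, hn, norm_mul, hlam_norm, mul_one, Module.finrank_fin_fun]
      simp
    obtain ⟨ω, hω⟩ := (Cfsg.Agent.Helper3.norm_char_eq_iff ρ (ι a)).mp h1
    have h2 : ρ.character (ι a) = (n : ℂ) * ω := by
      rw [Representation.character, hω]
      simp [LinearMap.trace_id, Module.finrank_fin_fun, mul_comm]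
    have h3 : (n : ℂ) * ω = (n : ℂ) * lam a := by
      rw [← h2, hρ, hres, hn]
    rw [hω, mul_left_cancel₀ hn0 h3]
  -- determinant hom
  set δ : X →* ℂ := (LinearMap.det : ((Fin n → ℂ) →ₗ[ℂ] (Fin n → ℂ)) →* ℂ).comp ρ with hδ
  have hδA : ∀ a : A, δ (ι a) = lam a ^ n := by
    intro a
    simp only [hδ, MonoidHom.comp_apply]
    rw [hscal a, LinearMap.det_smul, Module.finrank_fin_fun]
    simp
  -- inverse of n modulo e
  have hcop' : Nat.Coprime n e := by rw [hnd]; exact hcop
  obtain ⟨m, hm⟩ : ∃ m : ℕ, n * m ≡ 1 [MOD e] := by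
    have hu := ZMod.unitOfCoprime n hcop'
    refine ⟨((n : ZMod e)⁻¹).val, ?_⟩
    rw [← ZMod.natCast_eq_natCast_iff]
    push_cast
    rw [ZMod.natCast_zmod_val]
    exact ZMod.coe_mul_inv_eq_one n hcop'
  refine ⟨δ ^ m, fun a => ?_⟩
  rw [MonoidHom.pow_apply, hδA, ← pow_mul]
  rw [pow_eq_pow_of_modEq (hlam_pow a) hm, pow_one]

/-- Invariant case: if all irreducible characters of `X` over the `X`-invariant linear character
`lam` of the normal `p`-subgroup `A` have `p'`-degree, then `X ⧸ A` has a normal abelian Sylow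
`p`-subgroup (for `X` `p`-solvable). -/
theorem hasNormalAbelianSylow_quotient_of_over {X : Type u} [Group X] [Finite X] (p : ℕ)
    [hp : Fact p.Prime] (hX : IsPSolvable p X) (A : Subgroup X) [hA : A.Normal] [Fintype A]
    (hAp : IsPGroup p A) (lam : A →* ℂ)
    (hinv : ∀ g : X, conjFun A hA (lam : A → ℂ) g = (lam : A → ℂ))
    (hdeg : ∀ ξ : IrrCharacter X,
      classInner (fun a : A => (ξ : X → ℂ) a) (lam : A → ℂ) ≠ 0 → ¬ p ∣ charDegree (ξ : X → ℂ)) :
    Cfsg.Agent.Helper78.HasNormalAbelianSylow p (X ⧸ A) := by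
  classical
  haveI : Fintype X := Fintype.ofFinite X
  have hlam : IsIrrCharacter A (lam : A → ℂ) := isIrrCharacter_hom lam
  have hlamc : IsCharacter A (lam : A → ℂ) := IsIrrCharacter.isCharacter hlam
  -- some ψ over lam
  have hind : IsCharacter X (indFun A (lam : A → ℂ)) := isCharacter_indFun A hlamc
  have hind0 : indFun A (lam : A → ℂ) ≠ 0 := by
    intro h0
    have h1 := congrFun h0 1
    rw [indFun_one, map_one, mul_one] at h1
    simp only [Pi.zero_apply] at h1
    have : (A.index : ℂ) ≠ 0 := by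
      have := Subgroup.index_ne_zero_of_finite (H := A)
      exact_mod_cast this
    exact this h1
  obtain ⟨ψ, hψ, hψne⟩ := exists_irr_constituent hind hind0
  have hψcf := isClassFunction_of_isCharacter (IsIrrCharacter.isCharacter hψ)
  rw [frobenius_reciprocity A _ hψcf, classInner_conj_symm] at hψne
  have hψne' : classInner (fun a : A => ψ a) (lam : A → ℂ) ≠ 0 := by
    intro h; rw [h] at hψne; simp at hψne
  have hres := restrict_eq_smul_of_invariant A hA hψ hlam hψne' hinv
  have hres1 : ψ 1 = classInner (fun a : A => ψ a) (lam : A → ℂ) := by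
    have := congrFun hres 1
    simp only [Pi.smul_apply, smul_eq_mul, map_one, mul_one] at this
    exact this
  have hresa : ∀ a : A, ψ (A.subtype a) = ψ 1 * lam a := by
    intro a
    have := congrFun hres a
    simp only [Pi.smul_apply, smul_eq_mul] at this
    rw [hres1]
    exact this
  have hψdeg : ¬ p ∣ charDegree ψ := hdeg ⟨ψ, hψ⟩ hψne'
  have hcop : Nat.Coprime (charDegree ψ) (Nat.card A) := by
    obtain ⟨k, hk⟩ := hAp.exists_card_eq
    rw [hk]
    exact Nat.Coprime.pow_right k ((Nat.Prime.coprime_iff_not_dvd hp.out).mpr hψdeg).symm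
  obtain ⟨μ, hμ⟩ := exists_hom_extension_of_coprime_degree A.subtype lam hψ hresa hcop
  apply Cfsg.Agent.Helper78.hasNormalAbelianSylow_of_isPSolvable p
    (Cfsg.Agent.Helper76.IsPSolvable.quotient hX A)
  intro β
  set ξ : IrrCharacter X := ⟨(μ : X → ℂ) * (Cfsg.Agent.Helper79.inflate A β : X → ℂ),
    isIrrCharacter_hom_mul μ (Cfsg.Agent.Helper79.inflate A β).2⟩ with hξ
  obtain ⟨hb1, hbpos⟩ := Cfsg.Agent.Helper78.irr_charDegree β.2
  have hξres : (fun a : A => (ξ : X → ℂ) a) = ((β : X ⧸ A → ℂ) 1) • (lam : A → ℂ) := by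
    funext a
    simp only [hξ, Pi.mul_apply, Pi.smul_apply, smul_eq_mul]
    rw [Cfsg.Agent.Helper79.inflate_apply]
    have h1 : (QuotientGroup.mk (a : X) : X ⧸ A) = 1 := (QuotientGroup.eq_one_iff _).mpr a.2
    rw [h1]
    have h2 := hμ a
    simp only [Subgroup.coe_subtype] at h2
    rw [h2, mul_comm]
  have hξne : classInner (fun a : A => (ξ : X → ℂ) a) (lam : A → ℂ) ≠ 0 := by
    rw [hξres, classInner_smul_left, irr_orthonormal hlam hlam, if_pos rfl, mul_one, hb1]
    exact_mod_cast hbpos.ne'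
  have h3 := hdeg ξ hξne
  have h4 : charDegree (ξ : X → ℂ) = charDegree (β : X ⧸ A → ℂ) := by
    unfold charDegree
    simp only [hξ, Pi.mul_apply, map_one, one_mul]
    rw [Cfsg.Agent.Helper79.inflate_apply, QuotientGroup.mk_one]
  rw [h4] at h3
  exact h3

/-- A `p`-element lies in every normal subgroup of index prime to `p`. -/
theorem mem_of_pow_eq_one_of_index_coprime {H : Type*} [Group H] [Finite H] (N : Subgroup H)
    [N.Normal] (p : ℕ) [hp : Fact p.Prime] (hidx : ¬ p ∣ N.index) (x : H) (k : ℕ)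
    (hx : x ^ p ^ k = 1) : x ∈ N := by
  rw [← QuotientGroup.eq_one_iff]
  have h1 : (QuotientGroup.mk x : H ⧸ N) ^ p ^ k = 1 := by
    rw [← QuotientGroup.mk_pow, hx, QuotientGroup.mk_one]
  have h2 : (QuotientGroup.mk x : H ⧸ N) ^ N.index = 1 := by
    rw [Subgroup.index_eq_card]; exact pow_card_eq_one'
  have h3 := orderOf_dvd_of_pow_eq_one h1
  have h4 := orderOf_dvd_of_pow_eq_one h2
  have hcop : Nat.Coprime (p ^ k) N.index :=
    Nat.Coprime.pow_left k ((Nat.Prime.coprime_iff_not_dvd hp.out).mpr hidx)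
  exact orderOf_eq_one_iff.mp (Nat.eq_one_of_dvd_coprimes hcop h3 h4)

/-- If all irreducible characters of the `p`-solvable group `G` lying over the linear character
`lam` of the normal `p`-subgroup `A` have `p'`-degree, then a Sylow `p`-subgroup of `G` is abelian
modulo `A`. -/
theorem sylow_commutator_mem_of_over {G : Type u} [Group G] [Finite G] (p : ℕ) [hp : Fact p.Prime]
    (hG : IsPSolvable p G) (A : Subgroup G) [hA : A.Normal] [Fintype A] (hAp : IsPGroup p A)
    (lam : A →* ℂ)
    (hdeg : ∀ χ : IrrCharacter G,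
      classInner (fun a : A => (χ : G → ℂ) a) (lam : A → ℂ) ≠ 0 → ¬ p ∣ charDegree (χ : G → ℂ))
    (P : Sylow p G) :
    ∀ x ∈ (P : Subgroup G), ∀ y ∈ (P : Subgroup G), x * y * x⁻¹ * y⁻¹ ∈ A := by
  classical
  haveI : Fintype G := Fintype.ofFinite G
  have hlam : IsIrrCharacter A (lam : A → ℂ) := isIrrCharacter_hom lam
  have hlamc : IsCharacter A (lam : A → ℂ) := IsIrrCharacter.isCharacter hlam
  set T := Cfsg.Agent.Helper79.inertiaGrp A hA (lam : A → ℂ) with hTdef
  have hT : ∀ g : G, g ∈ T ↔ conjFun A hA (lam : A → ℂ) g = (lam : A → ℂ) :=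
    fun g => Cfsg.Agent.Helper79.mem_inertiaGrp A hA _ g
  have hAT : A ≤ T :=
    Cfsg.Agent.Helper79.le_inertiaGrp A hA (isClassFunction_of_isCharacter hlamc)
  haveI : Fintype T := Fintype.ofFinite T
  -- degree of induced characters
  have hdegT : ∀ ξ : T → ℂ, IsIrrCharacter T ξ → classInner (resTo hAT ξ) (lam : A → ℂ) ≠ 0 →
      ¬ p ∣ T.index * charDegree ξ := by
    intro ξ hξ h1
    obtain ⟨hirr, hinner⟩ := clifford_corr_irr A T hA hAT hlam hT hξ h1
    have h2 := hdeg ⟨indFun T ξ, hirr⟩ (by rw [hinner]; exact h1)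
    obtain ⟨hd1, _⟩ := Cfsg.Agent.Helper78.irr_charDegree hirr
    obtain ⟨hd2, _⟩ := Cfsg.Agent.Helper78.irr_charDegree hξ
    have h3 : charDegree (indFun T ξ) = T.index * charDegree ξ := by
      have : (charDegree (indFun T ξ) : ℂ) = ((T.index * charDegree ξ : ℕ) : ℂ) := by
        rw [← hd1, indFun_one, hd2]; push_cast; ring
      exact_mod_cast this
    simp only at h2
    rw [h3] at h2
    exact h2
  -- p does not divide the index of T
  have hTidx : ¬ p ∣ T.index := by
    have hind : IsCharacter G (indFun A (lam : A → ℂ)) := isCharacter_indFun A hlamc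
    have hind0 : indFun A (lam : A → ℂ) ≠ 0 := by
      intro h0
      have h1 := congrFun h0 1
      rw [indFun_one, map_one, mul_one] at h1
      simp only [Pi.zero_apply] at h1
      have : (A.index : ℂ) ≠ 0 := by
        have := Subgroup.index_ne_zero_of_finite (H := A)
        exact_mod_cast this
      exact this h1
    obtain ⟨χ, hχ, hχne⟩ := exists_irr_constituent hind hind0
    have hχcf := isClassFunction_of_isCharacter (IsIrrCharacter.isCharacter hχ)
    rw [frobenius_reciprocity A _ hχcf, classInner_conj_symm] at hχne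
    have hχne' : classInner (fun a : A => χ a) (lam : A → ℂ) ≠ 0 := by
      intro h; rw [h] at hχne; simp at hχne
    obtain ⟨ψ, hψ, hψind, hψinner⟩ := clifford_corr_surj A T hA hAT hlam hT hχ hχne'
    have h1 := hdegT ψ hψ (by rw [hψinner]; exact hχne')
    exact fun h => h1 (dvd_mul_of_dvd_left h _)
  -- the invariant situation inside T
  set A' : Subgroup T := A.subgroupOf T with hA'
  haveI : Fintype A' := Fintype.ofFinite A'
  set e : A' ≃* A := Subgroup.subgroupOfEquivOfLe hAT with he
  have hecoe : ∀ a' : A', ((e a' : A) : G) = ((a' : T) : G) := fun a' => rfl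
  set lam' : A' →* ℂ := lam.comp e.toMonoidHom with hlam'
  have hA'n : A'.Normal := inferInstance
  have hinv' : ∀ t : T, conjFun A' hA'n (lam' : A' → ℂ) t = (lam' : A' → ℂ) := by
    intro t
    funext a'
    rw [conjFun_apply]
    have h1 := congrFun ((hT t).mp t.2) (e a')
    rw [conjFun_apply] at h1
    simp only [hlam', MonoidHom.comp_apply, MulEquiv.coe_toMonoidHom]
    rw [← h1]
    congr 1
  have hresEq : ∀ ξ : T → ℂ, classInner (fun a' : A' => ξ a') (lam' : A' → ℂ) =
      classInner (resTo hAT ξ) (lam : A → ℂ) := by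
    intro ξ
    rw [← classInner_comp_equiv e (resTo hAT ξ) (lam : A → ℂ)]
    rfl
  have hdeg' : ∀ ξ : IrrCharacter T,
      classInner (fun a' : A' => (ξ : T → ℂ) a') (lam' : A' → ℂ) ≠ 0 →
        ¬ p ∣ charDegree (ξ : T → ℂ) := by
    intro ξ hne
    rw [hresEq] at hne
    have h1 := hdegT ξ ξ.2 hne
    exact fun h => h1 (dvd_mul_of_dvd_right h _)
  have hAp' : IsPGroup p A' := hAp.comap_subtype
  obtain ⟨Nb, hNbn, hNbp, hNbidx, hNbab⟩ := hasNormalAbelianSylow_quotient_of_over p
    (Cfsg.Agent.Helper69.IsPSolvable.subgroup' hG T) A' hAp' lam' hinv' hdeg'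
  -- commutators of p-elements of T lie in A
  have hcommT : ∀ x y : T, (∃ k : ℕ, x ^ p ^ k = 1) → (∃ k : ℕ, y ^ p ^ k = 1) →
      ((x * y * x⁻¹ * y⁻¹ : T) : G) ∈ A := by
    intro x y ⟨k, hk⟩ ⟨l, hl⟩
    have hx : (QuotientGroup.mk x : T ⧸ A') ∈ Nb :=
      mem_of_pow_eq_one_of_index_coprime Nb p hNbidx _ k
        (by rw [← QuotientGroup.mk_pow, hk, QuotientGroup.mk_one])
    have hy : (QuotientGroup.mk y : T ⧸ A') ∈ Nb :=
      mem_of_pow_eq_one_of_index_coprime Nb p hNbidx _ l
        (by rw [← QuotientGroup.mk_pow, hl, QuotientGroup.mk_one])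
    have h1 := hNbab _ hx _ hy
    have h2 : (QuotientGroup.mk (x * y * x⁻¹ * y⁻¹) : T ⧸ A') = 1 := by
      simp only [QuotientGroup.mk_mul, QuotientGroup.mk_inv]
      rw [h1]; group
    have h3 : x * y * x⁻¹ * y⁻¹ ∈ A' := (QuotientGroup.eq_one_iff _).mp h2
    exact Subgroup.mem_subgroupOf.mp h3
  -- a Sylow p-subgroup of G inside T
  obtain ⟨P1⟩ : Nonempty (Sylow p T) := inferInstance
  set Q : Subgroup G := (P1 : Subgroup T).map T.subtype with hQ
  have hQp : IsPGroup p Q := P1.2.map _
  obtain ⟨Q', hQQ'⟩ := hQp.exists_le_sylow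
  have hcardQ : Nat.card Q = Nat.card (Q' : Subgroup G) := by
    have h1 : Nat.card Q = Nat.card (P1 : Subgroup T) :=
      Nat.card_congr ((P1 : Subgroup T).equivMapOfInjective T.subtype T.subtype_injective).symm.toEquiv
    rw [h1, Sylow.card_eq_multiplicity, Sylow.card_eq_multiplicity]
    have h2 : Nat.card G = Nat.card T * T.index := (Subgroup.card_mul_index T).symm
    rw [h2, Nat.factorization_mul Nat.card_pos.ne' (Subgroup.index_ne_zero_of_finite)]
    simp only [Finsupp.coe_add, Pi.add_apply]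
    rw [Nat.factorization_eq_zero_of_not_dvd hTidx, add_zero]
  have hQeq : Q = (Q' : Subgroup G) := Subgroup.eq_of_le_of_card_ge hQQ' (le_of_eq hcardQ.symm)
  obtain ⟨g, hg⟩ := MulAction.exists_smul_eq G Q' P
  intro x hx y hy
  have hmem : ∀ z ∈ (P : Subgroup G), ∃ z1 : T, z1 ∈ (P1 : Subgroup T) ∧ (z1 : G) = g⁻¹ * z * g := by
    intro z hz
    rw [← hg, Sylow.coe_subgroup_smul, Subgroup.mem_pointwise_smul_iff_inv_smul_mem] at hz
    have h1 : g⁻¹ * z * g ∈ (Q' : Subgroup G) := by
      have : (MulAut.conj g)⁻¹ • z = g⁻¹ * z * g := by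
        rw [← map_inv, MulAut.smul_def, MulAut.conj_apply, inv_inv]
      rw [← this]; exact hz
    rw [← hQeq, hQ, Subgroup.mem_map] at h1
    obtain ⟨z1, hz1, hz1e⟩ := h1
    exact ⟨z1, hz1, hz1e⟩
  obtain ⟨x1, hx1, hx1e⟩ := hmem x hx
  obtain ⟨y1, hy1, hy1e⟩ := hmem y hy
  have hpx : ∃ k : ℕ, x1 ^ p ^ k = 1 := by
    obtain ⟨k, hk⟩ := P1.2 ⟨x1, hx1⟩
    refine ⟨k, ?_⟩
    have := congrArg Subtype.val hk
    rw [Subgroup.coe_pow] at this
    exact this
  have hpy : ∃ k : ℕ, y1 ^ p ^ k = 1 := by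
    obtain ⟨k, hk⟩ := P1.2 ⟨y1, hy1⟩
    refine ⟨k, ?_⟩
    have := congrArg Subtype.val hk
    rw [Subgroup.coe_pow] at this
    exact this
  have h1 := hcommT x1 y1 hpx hpy
  have h2 : x * y * x⁻¹ * y⁻¹ = g * ((x1 * y1 * x1⁻¹ * y1⁻¹ : T) : G) * g⁻¹ := by
    simp only [Subgroup.coe_mul, Subgroup.coe_inv, hx1e, hy1e]
    group
  rw [h2]
  exact hA.conj_mem _ h1 g


/-! ### Counting characters of degree divisible by `p` in quotients -/

theorem card_dvdDeg_quotient_le {G : Type u} [Group G] [Finite G] (p : ℕ) (N : Subgroup G)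
    [N.Normal] :
    Nat.card {β : IrrCharacter (G ⧸ N) // p ∣ charDegree (β : G ⧸ N → ℂ)} ≤
      Nat.card {χ : IrrCharacter G // p ∣ charDegree (χ : G → ℂ)} := by
  classical
  letI : Fintype G := Fintype.ofFinite G
  haveI : Finite (IrrCharacter G) := irr_finite
  refine Nat.card_le_card_of_injective
    (fun β => (⟨Cfsg.Agent.Helper79.inflate N β.1, by
      rw [Cfsg.Agent.Helper79.charDegree_inflate]; exact β.2⟩ :
        {χ : IrrCharacter G // p ∣ charDegree (χ : G → ℂ)})) ?_
  intro β β' h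
  apply Subtype.ext
  apply Cfsg.Agent.Helper79.inflate_injective N
  exact congrArg Subtype.val h

theorem exists_deflate_of_card_dvdDeg_eq {G : Type u} [Group G] [Finite G] (p : ℕ)
    (N : Subgroup G) [N.Normal]
    (h : Nat.card {β : IrrCharacter (G ⧸ N) // p ∣ charDegree (β : G ⧸ N → ℂ)} =
      Nat.card {χ : IrrCharacter G // p ∣ charDegree (χ : G → ℂ)})
    (χ : IrrCharacter G) (hχ : p ∣ charDegree (χ : G → ℂ)) :
    ∃ β : IrrCharacter (G ⧸ N), Cfsg.Agent.Helper79.inflate N β = χ := by
  classical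
  letI : Fintype G := Fintype.ofFinite G
  haveI : Finite (IrrCharacter G) := irr_finite
  set f : {β : IrrCharacter (G ⧸ N) // p ∣ charDegree (β : G ⧸ N → ℂ)} →
      {χ : IrrCharacter G // p ∣ charDegree (χ : G → ℂ)} :=
    fun β => ⟨Cfsg.Agent.Helper79.inflate N β.1, by
      rw [Cfsg.Agent.Helper79.charDegree_inflate]; exact β.2⟩ with hf
  have hinj : Function.Injective f := by
    intro β β' h
    apply Subtype.ext
    apply Cfsg.Agent.Helper79.inflate_injective N
    exact congrArg Subtype.val h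
  have hbij := hinj.bijective_of_nat_card_le (le_of_eq h.symm)
  obtain ⟨β, hβ⟩ := hbij.2 ⟨χ, hχ⟩
  exact ⟨β.1, congrArg Subtype.val hβ⟩

/-! ### Derived series tools -/

theorem derivedSeries_succ_eq_bot_of_le {Q : Type*} [Group Q] (k : ℕ) (H : Subgroup Q)
    (hH : ∀ a ∈ H, ∀ b ∈ H, a * b = b * a) (hle : derivedSeries Q k ≤ H) :
    derivedSeries Q (k + 1) = ⊥ := by
  rw [derivedSeries_succ, eq_bot_iff]
  refine (Subgroup.commutator_mono hle hle).trans ?_
  rw [Subgroup.commutator_le]
  intro a ha b hb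
  rw [Subgroup.mem_bot, commutatorElement_eq_one_iff_mul_comm]
  exact hH a ha b hb

theorem derivedSeries_le_subgroupOf_of_quotient {G : Type*} [Group G] (L : Subgroup G) [L.Normal]
    (Q : Subgroup G) (k : ℕ)
    (h : derivedSeries ↥(Q.map (QuotientGroup.mk' L)) k = ⊥) :
    derivedSeries Q k ≤ L.subgroupOf Q := by
  set φ : Q →* ↥(Q.map (QuotientGroup.mk' L)) := (QuotientGroup.mk' L).subgroupMap Q with hφdef
  have hφ : Function.Surjective φ := MonoidHom.subgroupMap_surjective _ _
  have h1 := map_derivedSeries_eq hφ k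
  rw [h] at h1
  intro x hx
  have h2 : φ x ∈ (derivedSeries Q k).map φ := Subgroup.mem_map_of_mem _ hx
  rw [h1, Subgroup.mem_bot] at h2
  rw [Subgroup.mem_subgroupOf]
  have h3 : ((φ x : ↥(Q.map (QuotientGroup.mk' L))) : G ⧸ L) = 1 := by rw [h2]; rfl
  exact (QuotientGroup.eq_one_iff _).mp h3

/-! ### The main induction -/

theorem derivedSeries_pSubgroup_eq_bot (p : ℕ) [hp : Fact p.Prime] :
    ∀ n : ℕ, ∀ (G : Type u) [Group G] [Finite G], Nat.card G = n → IsPSolvable p G →
      ∀ Q : Subgroup G, IsPGroup p Q →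
        derivedSeries Q
          (Nat.card {χ : IrrCharacter G // p ∣ charDegree (χ : G → ℂ)} + 1) = ⊥ := by
  intro n
  induction n using Nat.strong_induction_on with
  | _ n ih =>
  intro G _ _ hcard hG Q hQ
  classical
  letI : Fintype G := Fintype.ofFinite G
  haveI hfinIrr : Finite (IrrCharacter G) := irr_finite
  set m := Nat.card {χ : IrrCharacter G // p ∣ charDegree (χ : G → ℂ)} with hm
  -- smaller index suffices
  have hanti : ∀ k : ℕ, k ≤ m + 1 → derivedSeries Q k = ⊥ → derivedSeries Q (m + 1) = ⊥ := by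
    intro k hk h0
    rw [eq_bot_iff, ← h0]
    exact derivedSeries_antitone Q hk
  by_cases hm0 : m = 0
  · -- all degrees prime to p
    have hdeg : ∀ χ : IrrCharacter G, ¬ p ∣ charDegree (χ : G → ℂ) := by
      intro χ hχ
      rw [hm, Nat.card_eq_zero] at hm0
      rcases hm0 with h | h
      · exact h.false ⟨χ, hχ⟩
      · exact h.false
    obtain ⟨N, hNn, hNp, hNidx, hNab⟩ :=
      Cfsg.Agent.Helper78.hasNormalAbelianSylow_of_isPSolvable p hG hdeg
    have hQN : ∀ x : Q, (x : G) ∈ N := by
      intro x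
      obtain ⟨k, hk⟩ := hQ x
      refine mem_of_pow_eq_one_of_index_coprime N p hNidx _ k ?_
      have := congrArg Subtype.val hk
      rw [Subgroup.coe_pow] at this
      exact this
    rw [hm0]
    refine derivedSeries_succ_eq_bot_of_le 0 ⊤ ?_ le_top
    intro a _ b _
    exact Subtype.ext (hNab a.1 (hQN a) b.1 (hQN b))
  · rcases subsingleton_or_nontrivial G with hsub | hnt
    · haveI : Subsingleton Q := inferInstance
      exact Subgroup.eq_bot_of_subsingleton _
    obtain ⟨L, hLn, hL0, -, hLcase⟩ :=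
      Cfsg.Agent.Helper76.IsPSolvable.exists_step hG ⊥ ⊤ bot_lt_top
    rw [Subgroup.relIndex_bot_left] at hLcase
    have hLne : L ≠ ⊥ := hL0.ne'
    -- induction for a quotient by a nontrivial normal subgroup
    have hquot : ∀ (B : Subgroup G) [B.Normal], B ≠ ⊥ →
        derivedSeries Q
          (Nat.card {β : IrrCharacter (G ⧸ B) // p ∣ charDegree (β : G ⧸ B → ℂ)} + 1) ≤
            B.subgroupOf Q := by
      intro B _ hB
      apply derivedSeries_le_subgroupOf_of_quotient
      have hlt : Nat.card (G ⧸ B) < n := by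
        rw [← hcard, Subgroup.card_eq_card_quotient_mul_card_subgroup B]
        have h1 : 1 < Nat.card B := B.one_lt_card_iff_ne_bot.mpr hB
        have h2 : 0 < Nat.card (G ⧸ B) := Nat.card_pos
        nlinarith
      exact ih _ hlt (G ⧸ B) rfl (Cfsg.Agent.Helper76.IsPSolvable.quotient hG B) _ (hQ.map _)
    rcases hLcase with ⟨e, he⟩ | hcop
    · -- L is a p-group
      have hLp : IsPGroup p L := IsPGroup.of_card he
      haveI : Nontrivial L := (Subgroup.nontrivial_iff_ne_bot L).mpr hLne
      haveI hZnt : Nontrivial (Subgroup.center L) := hLp.center_nontrivial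
      set A : Subgroup G := (Subgroup.center L).map L.subtype with hAdef
      haveI hAn : A.Normal := ConjAct.normal_of_characteristic_of_normal
      have hAne : A ≠ ⊥ := by
        intro h0
        obtain ⟨z, hz⟩ := exists_ne (1 : Subgroup.center L)
        apply hz
        have h1 : ((z : L) : G) ∈ A := Subgroup.mem_map_of_mem _ z.2
        rw [h0, Subgroup.mem_bot] at h1
        apply Subtype.ext
        apply Subtype.ext
        exact h1
      have hAp : IsPGroup p A := (hLp.to_subgroup _).map _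
      have hAab : ∀ a ∈ A, ∀ b ∈ A, a * b = b * a := by
        intro a ha b hb
        rw [hAdef, Subgroup.mem_map] at ha hb
        obtain ⟨a', ha', rfl⟩ := ha
        obtain ⟨b', hb', rfl⟩ := hb
        have := Subgroup.mem_center_iff.mp ha' b'
        have h2 := congrArg Subtype.val this
        simp only [Subgroup.coe_mul] at h2
        simpa using h2.symm
      set m' := Nat.card {β : IrrCharacter (G ⧸ A) // p ∣ charDegree (β : G ⧸ A → ℂ)} with hm'
      have hle : m' ≤ m := card_dvdDeg_quotient_le p A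
      have hstep := hquot A hAne
      have hAQab : ∀ a ∈ A.subgroupOf Q, ∀ b ∈ A.subgroupOf Q, a * b = b * a := by
        intro a ha b hb
        exact Subtype.ext (hAab _ (Subgroup.mem_subgroupOf.mp ha) _ (Subgroup.mem_subgroupOf.mp hb))
      rcases Nat.lt_or_ge m' m with hlt | hge
      · have h1 := derivedSeries_succ_eq_bot_of_le (m' + 1) _ hAQab hstep
        exact hanti (m' + 1 + 1) (by omega) h1
      · have hmm : m' = m := le_antisymm hle hge
        -- a nontrivial linear character of A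
        letI : Fintype A := Fintype.ofFinite A
        haveI : Nontrivial A := (Subgroup.nontrivial_iff_ne_bot A).mpr hAne
        have hcomm : commutator A ≠ ⊤ := by
          have h1 : commutator A = ⊥ := by
            rw [commutator_def, eq_bot_iff, Subgroup.commutator_le]
            intro a _ b _
            rw [Subgroup.mem_bot, commutatorElement_eq_one_iff_mul_comm]
            exact Subtype.ext (hAab _ a.2 _ b.2)
          rw [h1]
          exact bot_ne_top
        obtain ⟨χ, hχ1, hχne⟩ := Cfsg.Agent.Helper79.exists_nontrivial_linear hcomm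
        have hχone : (χ : A → ℂ) 1 = 1 := by
          obtain ⟨hd1, _⟩ := Cfsg.Agent.Helper78.irr_charDegree χ.2
          rw [hd1, hχ1]; simp
        set lam : A →* ℂ := linHom (IsIrrCharacter.isCharacter χ.2) hχone with hlam
        have hlamfun : (lam : A → ℂ) = (χ : A → ℂ) := rfl
        have hlamne : (fun _ : A => (1 : ℂ)) ≠ (lam : A → ℂ) := by
          intro h
          apply hχne
          rw [Cfsg.Agent.Helper79.eq_trivChar_iff, ← hlamfun, ← h]
        have hdeg : ∀ ξ : IrrCharacter G,
            classInner (fun a : A => (ξ : G → ℂ) a) (lam : A → ℂ) ≠ 0 →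
              ¬ p ∣ charDegree (ξ : G → ℂ) := by
          intro ξ hne hdvd
          obtain ⟨β, hβ⟩ := exists_deflate_of_card_dvdDeg_eq p A hmm ξ hdvd
          apply hne
          have h1 : (fun a : A => (ξ : G → ℂ) a) =
              ((β : G ⧸ A → ℂ) 1) • (fun _ : A => (1 : ℂ)) := by
            funext a
            rw [← hβ, Cfsg.Agent.Helper79.inflate_apply]
            have h2 : (QuotientGroup.mk (a : G) : G ⧸ A) = 1 :=
              (QuotientGroup.eq_one_iff _).mpr a.2
            rw [h2]
            simp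
          rw [h1, classInner_smul_left, irr_orthonormal isIrrCharacter_one (hlamfun ▸ χ.2),
            if_neg hlamne, mul_zero]
        obtain ⟨P, hQP⟩ := hQ.exists_le_sylow
        have hkey := sylow_commutator_mem_of_over p hG A hAp lam hdeg P
        have h1 : derivedSeries Q 1 ≤ A.subgroupOf Q := by
          rw [derivedSeries_one, commutator_def, Subgroup.commutator_le]
          intro a _ b _
          rw [Subgroup.mem_subgroupOf, commutatorElement_def]
          simp only [Subgroup.coe_mul, Subgroup.coe_inv]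
          exact hkey _ (hQP a.2) _ (hQP b.2)
        have h2 := derivedSeries_succ_eq_bot_of_le 1 _ hAQab h1
        exact hanti (1 + 1) (by omega) h2
    · -- L is a p'-group
      have hstep := hquot L hLne
      have hbot : L.subgroupOf Q = ⊥ := by
        rw [eq_bot_iff]
        intro x hx
        rw [Subgroup.mem_subgroupOf] at hx
        rw [Subgroup.mem_bot]
        obtain ⟨k, hk⟩ := hQ x
        have h1 : orderOf x ∣ p ^ k := orderOf_dvd_of_pow_eq_one hk
        have h2 : orderOf (x : G) ∣ Nat.card L := by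
          have : orderOf (⟨(x : G), hx⟩ : L) ∣ Nat.card L := orderOf_dvd_natCard _
          rwa [← Subgroup.orderOf_coe] at this
        rw [Subgroup.orderOf_coe] at h2
        have h3 : Nat.Coprime (p ^ k) (Nat.card L) := Nat.Coprime.pow_left k hcop.symm
        exact orderOf_eq_one_iff.mp (Nat.eq_one_of_dvd_coprimes h3 h1 h2)
      rw [hbot, le_bot_iff] at hstep
      have hle : Nat.card {β : IrrCharacter (G ⧸ L) // p ∣ charDegree (β : G ⧸ L → ℂ)} ≤ m :=
        card_dvdDeg_quotient_le p L
      exact hanti _ (by omega) hstep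

end Cfsg.Agent.Helper81
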