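import Cfsg.Agent.Lib.Helper81.CharCentralB
import Cfsg.Agent.Lib.Helper79.Inflation
import Cfsg.Agent.Lib.Helper79.Glaub.ProdDecomp
set_option autoImplicit false
set_option linter.style.haveILetI false
set_option linter.unusedSectionVars false
set_option maxHeartbeats 1000000
namespace Cfsg.Agent.Helper81
open scoped ComplexConjugate
universe u v w

section triple

theorem normal_subgroupOf_of_le_center {Q : Type*} [Group Q] (Z G : Subgroup Q)
    (hZc : Z ≤ Subgroup.center Q) : (Z.subgroupOf G).Normal := by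
  constructor
  intro n hn g
  rw [Subgroup.mem_subgroupOf] at hn ⊢
  have : ((g * n * g⁻¹ : G) : Q) = (n : Q) := by
    simp only [Subgroup.coe_mul, Subgroup.coe_inv]
    rw [Subgroup.mem_center_iff.mp (hZc hn) (g : Q), mul_inv_cancel_right]
  rw [this]
  exact hn

variable {T : Type u} [Group T] [Fintype T]

/-- Character-triple reduction: given a finite central extension `π : E → T` in which `θ`
extends to an irreducible character `τ` of `E`, the layers theorem follows from the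
central case. -/
theorem exists_invariant_over_of_centralExt (G N : Subgroup T) [hG : G.Normal] [hN : N.Normal]
    [Fintype G] [Fintype N] (hNG : N ≤ G) (hcop : G.index.Coprime (N.relIndex G))
    (hsolv : Group.IsSolvable (T ⧸ G) ∨ Group.IsSolvable (G ⧸ N.subgroupOf G))
    {θ : N → ℂ} (hθ : IsIrrCharacter N θ)
    {E : Type v} [Group E] [Fintype E] (π : E →* T) (hπ : Function.Surjective π)
    (ι : N →* E) (hπι : ∀ n : N, π (ι n) = n) (hιn : ι.range.Normal)
    (hker : π.ker ≤ Subgroup.center E)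
    (τ : E → ℂ) (hτ : IsIrrCharacter E τ) (hτι : ∀ n : N, τ (ι n) = θ n)
    (lam : π.ker →* ℂ) (hlam : ∀ z : π.ker, τ z = lam z * τ 1) :
    ∃ χ : G → ℂ, IsIrrCharacter G χ ∧ classInner (fun n : N => χ ⟨n, hNG n.2⟩) θ ≠ 0 ∧
      ∀ (x : T) (g : G), χ ⟨x * g * x⁻¹, hG.conj_mem g g.2 x⟩ = χ g := by
  classical
  set Ñ : Subgroup E := ι.range with hÑdef
  haveI := hιn
  have hNE : ∀ x : E, π x ∈ N → ∃ z ∈ π.ker, ∃ n : N, x = z * ι n := by
    intro x hx
    refine ⟨x * (ι ⟨π x, hx⟩)⁻¹, ?_, ⟨π x, hx⟩, by group⟩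
    rw [MonoidHom.mem_ker, map_mul, map_inv, hπι]
    simp
  -- the quotient
  let q : E →* E ⧸ Ñ := QuotientGroup.mk' Ñ
  have hq : Function.Surjective q := QuotientGroup.mk'_surjective Ñ
  have hqker : q.ker = Ñ := QuotientGroup.ker_mk' Ñ
  have hqι : ∀ n : N, q (ι n) = 1 := fun n => (QuotientGroup.eq_one_iff _).mpr ⟨n, rfl⟩
  haveI : Fintype (E ⧸ Ñ) := Fintype.ofFinite _
  set GE : Subgroup E := G.comap π with hGE
  haveI hGEn : GE.Normal := hG.comap π
  set GQ : Subgroup (E ⧸ Ñ) := GE.map q with hGQ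
  haveI hGQn : GQ.Normal := hGEn.map q hq
  set ZQ : Subgroup (E ⧸ Ñ) := π.ker.map q with hZQ
  have hπ.kerGE : π.ker ≤ GE := by
    intro z hz
    rw [hGE, Subgroup.mem_comap, MonoidHom.mem_ker.mp hz]
    exact G.one_mem
  have hÑGE : Ñ ≤ GE := by
    rintro _ ⟨n, rfl⟩
    rw [hGE, Subgroup.mem_comap, hπι]
    exact hNG n.2
  have hZQG : ZQ ≤ GQ := Subgroup.map_mono hπ.kerGE
  have hZQc : ZQ ≤ Subgroup.center (E ⧸ Ñ) := by
    rintro _ ⟨z, hz, rfl⟩
    rw [Subgroup.mem_center_iff]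
    intro w
    obtain ⟨x, rfl⟩ := hq w
    rw [← map_mul, ← map_mul, Subgroup.mem_center_iff.mp (hker hz) x]
  -- indices
  have hidx : GQ.index = G.index := by
    rw [hGQ, Subgroup.index_map_eq _ hq (by rw [hqker]; exact hÑGE), hGE]
    exact Subgroup.index_comap_of_surjective G hπ
  have hNE' : π.ker ⊔ Ñ = N.comap π := by
    apply le_antisymm
    · apply sup_le
      · intro z hz
        rw [Subgroup.mem_comap, MonoidHom.mem_ker.mp hz]
        exact N.one_mem
      · rintro _ ⟨n, rfl⟩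
        rw [Subgroup.mem_comap, hπι]
        exact n.2
    · intro x hx
      obtain ⟨z, hz, n, rfl⟩ := hNE x hx
      exact Subgroup.mul_mem_sup hz ⟨n, rfl⟩
  have hrel : ZQ.relIndex GQ = N.relIndex G := by
    rw [hGQ, ← Subgroup.relIndex_comap ZQ q GE, hZQ, Subgroup.comap_map_eq, hqker, hNE', hGE,
      Subgroup.relIndex_comap N π (G.comap π), Subgroup.map_comap_eq_self_of_surjective hπ]
  haveI hZQn : (ZQ.subgroupOf GQ).Normal := normal_subgroupOf_of_le_center ZQ GQ hZQc
  have hsolvQ : Group.IsSolvable ((E ⧸ Ñ) ⧸ GQ) ∨ Group.IsSolvable (GQ ⧸ ZQ.subgroupOf GQ) := by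
    rcases hsolv with hs | hs
    · left
      refine isSolvable_of_ker_le ((QuotientGroup.mk' G).comp π) ((QuotientGroup.mk' GQ).comp q)
        ((QuotientGroup.mk'_surjective _).comp hq) ?_
      intro x hx
      rw [MonoidHom.mem_ker] at hx ⊢
      have h1 : ((π x : T) : T ⧸ G) = 1 := hx
      rw [QuotientGroup.eq_one_iff] at h1
      show ((q x : E ⧸ Ñ) : (E ⧸ Ñ) ⧸ GQ) = 1
      rw [QuotientGroup.eq_one_iff]
      exact Subgroup.mem_map_of_mem q h1
    · right
      refine isSolvable_of_ker_le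
        ((QuotientGroup.mk' (N.subgroupOf G)).comp (π.subgroupComap G))
        ((QuotientGroup.mk' (ZQ.subgroupOf GQ)).comp (q.subgroupMap GE))
        ((QuotientGroup.mk'_surjective _).comp (q.subgroupMap_surjective GE)) ?_
      intro x hx
      rw [MonoidHom.mem_ker] at hx ⊢
      have h1 : ((π.subgroupComap G x : G) : G ⧸ N.subgroupOf G) = 1 := hx
      rw [QuotientGroup.eq_one_iff, Subgroup.mem_subgroupOf] at h1
      obtain ⟨z, hz, n, hxz⟩ := hNE (x : E) h1
      show ((q.subgroupMap GE x : GQ) : GQ ⧸ ZQ.subgroupOf GQ) = 1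
      rw [QuotientGroup.eq_one_iff, Subgroup.mem_subgroupOf]
      have h2 : q (x : E) = q z := by rw [hxz, map_mul, hqι, mul_one]
      show q (x : E) ∈ ZQ
      rw [h2]
      exact Subgroup.mem_map_of_mem q hz
  -- the linear character on `ZQ`
  haveI : Fintype π.ker := Fintype.ofFinite _
  have hqinj : Function.Injective (q.subgroupMap π.ker) := by
    rw [← MonoidHom.ker_eq_bot_iff, eq_bot_iff]
    intro z hz
    rw [MonoidHom.mem_ker] at hz
    have h1 : q (z : E) = 1 := congrArg (fun y : ZQ => (y : E ⧸ Ñ)) hz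
    rw [← MonoidHom.mem_ker, hqker] at h1
    obtain ⟨n, hn⟩ := h1
    have h2 : π (z : E) = 1 := MonoidHom.mem_ker.mp z.2
    rw [← hn, hπι] at h2
    have h3 : n = 1 := Subtype.ext h2
    rw [Subgroup.mem_bot]
    apply Subtype.ext
    rw [← hn, h3, map_one]
    rfl
  let eZ : π.ker ≃* ZQ :=
    MulEquiv.ofBijective (q.subgroupMap π.ker) ⟨hqinj, q.subgroupMap_surjective π.ker⟩
  have heZ : ∀ z : π.ker, ((eZ z : ZQ) : E ⧸ Ñ) = q z := fun _ => rfl
  let μh : π.ker →* ℂ := ((starRingEnd ℂ : ℂ →+* ℂ) : ℂ →* ℂ).comp lam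
  have hμh : ∀ z, μh z = conj (lam z) := fun _ => rfl
  have hμ : IsIrrCharacter ZQ (fun y => μh (eZ.symm y)) :=
    isIrrCharacter_comp_equiv eZ.symm (isIrrCharacter_hom μh)
  haveI : Fintype GQ := Fintype.ofFinite _
  haveI : Fintype ZQ := Fintype.ofFinite _
  have hcopQ : GQ.index.Coprime (ZQ.relIndex GQ) := by
    rw [hidx, hrel]
    exact hcop
  obtain ⟨β, hβirr, hβZ, hβinv⟩ :=
    exists_invariant_over_central GQ ZQ hZQG hZQc hcopQ hsolvQ _ hμ
  have hβ1 : β 1 ≠ 0 := Cfsg.Agent.Helper79.irr_one_ne_zero ⟨β, hβirr⟩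
  have hβz : ∀ z : π.ker, β ⟨q z, hZQG (Subgroup.mem_map_of_mem q z.2)⟩ =
      β 1 * conj (lam z) := by
    intro z
    have h1 := hβZ (eZ z)
    simp only [MulEquiv.symm_apply_apply, hμh] at h1
    rw [← h1]
    rfl
  -- the character `ψ = β' τ'` of `GE`
  haveI : Fintype GE := Fintype.ofFinite _
  let q' : GE →* GQ := q.subgroupMap GE
  have hq' : Function.Surjective q' := q.subgroupMap_surjective GE
  have hq'coe : ∀ x : GE, ((q' x : GQ) : E ⧸ Ñ) = q x := fun _ => rfl
  have hβ' : IsIrrCharacter GE (fun x => β (q' x)) :=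
    Cfsg.Agent.Helper79.Glaub.isIrrCharacter_comp_surj q' hq' hβirr
  obtain ⟨dτ, στ, hστ, hτeq⟩ := hτ
  have hτc : IsClassFunction E τ := isClassFunction_of_isCharacter ⟨dτ, στ, hτeq⟩
  let ι' : N →* GE :=
    { toFun := fun n => ⟨ι n, hÑGE ⟨n, rfl⟩⟩
      map_one' := Subtype.ext (map_one ι)
      map_mul' := fun a b => Subtype.ext (map_mul ι a b) }
  have hτ' : IsIrrCharacter GE (fun x : GE => τ x) := by
    refine ⟨dτ, στ.comp GE.subtype, ?_, ?_⟩
    · apply Cfsg.Agent.Helper79.isIrreducible_of_comp (στ.comp GE.subtype) ι'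
      apply isIrreducible_of_character_irr
      have : Representation.character ((στ.comp GE.subtype).comp ι' :
          Representation ℂ N (Fin dτ → ℂ)) = θ := by
        funext n
        show στ.character (ι n) = θ n
        rw [hτeq, hτι]
      rw [this]
      exact hθ
    · funext x
      show στ.character (x : E) = τ x
      rw [hτeq]
  set Ñ' : Subgroup GE := Ñ.subgroupOf GE with hÑ'
  haveI hÑ'n : Ñ'.Normal := hιn.subgroupOf GE
  haveI : Fintype Ñ' := Fintype.ofFinite _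
  let ιN : N →* Ñ' :=
    { toFun := fun n => ⟨ι' n, Subgroup.mem_subgroupOf.mpr ⟨n, rfl⟩⟩
      map_one' := Subtype.ext (map_one ι')
      map_mul' := fun a b => Subtype.ext (map_mul ι' a b) }
  have hιNbij : Function.Bijective ιN := by
    constructor
    · intro a b hab
      have h1 : ι a = ι b := congrArg (fun y : Ñ' => ((y : GE) : E)) hab
      have h2 := congrArg π h1
      rw [hπι, hπι] at h2
      exact Subtype.ext h2
    · intro y
      obtain ⟨n, hn⟩ := Subgroup.mem_subgroupOf.mp y.2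
      exact ⟨n, Subtype.ext (Subtype.ext hn)⟩
  let eN : N ≃* Ñ' := MulEquiv.ofBijective ιN hιNbij
  have heN : ∀ n : N, (((eN n : Ñ') : GE) : E) = ι n := fun _ => rfl
  have hτÑ' : IsIrrCharacter Ñ' (fun y : Ñ' => τ ((y : GE) : E)) := by
    have h1 := isIrrCharacter_comp_equiv eN.symm hθ
    convert h1 using 1
    funext y
    obtain ⟨n, rfl⟩ := eN.surjective y
    rw [MulEquiv.symm_apply_apply, heN]
    exact hτι n
  have hone : IsIrrCharacter Ñ' (fun _ => (1 : ℂ)) := isIrrCharacter_one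
  have hmul : (fun _ : Ñ' => (1 : ℂ)) * (fun y : Ñ' => τ ((y : GE) : E)) =
      fun y : Ñ' => τ ((y : GE) : E) := by
    funext y
    simp
  have hprodinv : ∀ g : GE, conjFun Ñ' hÑ'n
      ((fun _ : Ñ' => (1 : ℂ)) * fun y : Ñ' => τ ((y : GE) : E)) g =
      (fun _ : Ñ' => (1 : ℂ)) * fun y : Ñ' => τ ((y : GE) : E) := by
    intro g
    rw [hmul]
    funext y
    rw [conjFun_apply]
    exact hτc ((y : GE) : E) (g : E)
  haveI : Fintype (IrrCharacter GE) := @Fintype.ofFinite _ irr_finite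
  obtain ⟨m, hm⟩ := exists_nat_decomp (isCharacter_indFun Ñ' (IsIrrCharacter.isCharacter hone))
  obtain ⟨h1, -, -⟩ := gallagher_core Ñ' hÑ'n hone (fun g => rfl) (by rw [hmul]; exact hτÑ')
    hprodinv hτ' rfl m hm
  have hmβ' : m ⟨_, hβ'⟩ ≠ 0 := by
    intro h0
    have h2 : classInner (indFun Ñ' (fun _ : Ñ' => (1 : ℂ))) (fun x : GE => β (q' x)) =
        (m ⟨_, hβ'⟩ : ℂ) := by
      rw [hm]
      exact classInner_nat_decomp (fun γ => (m γ : ℂ)) ⟨_, hβ'⟩
    rw [frobenius_reciprocity Ñ' _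
      (isClassFunction_of_isCharacter (IsIrrCharacter.isCharacter hβ')), h0] at h2
    have h3 : (fun y : Ñ' => β (q' (y : GE))) = fun _ => β 1 := by
      funext y
      obtain ⟨n, rfl⟩ := eN.surjective y
      refine congrArg β (Subtype.ext ?_)
      rw [hq'coe, heN]
      exact hqι n
    rw [h3] at h2
    have h4 : classInner (fun _ : Ñ' => (1 : ℂ)) (fun _ : Ñ' => β 1) = conj (β 1) := by
      have : (fun _ : Ñ' => β 1) = β 1 • (fun _ : Ñ' => (1 : ℂ)) := by
        funext y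
        simp
      rw [this, classInner_smul_right, irr_orthonormal hone hone, if_pos rfl, mul_one]
    rw [h4] at h2
    simp only [Nat.cast_zero, map_eq_zero] at h2
    exact hβ1 h2
  have hψ : IsIrrCharacter GE ((fun x : GE => β (q' x)) * fun x : GE => τ x) :=
    h1 ⟨_, hβ'⟩ hmβ'
  set ψ : GE → ℂ := (fun x : GE => β (q' x)) * fun x : GE => τ x with hψdef
  have hψapp : ∀ x : GE, ψ x = β (q' x) * τ x := fun _ => rfl
  let π' : GE →* G := π.subgroupComap G
  have hπ' : Function.Surjective π' := π.subgroupComap_surjective_of_surjective G hπ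
  have hπ'coe : ∀ x : GE, ((π' x : G) : T) = π x := fun _ => rfl
  have hlamconj : ∀ z : π.ker, lam z * conj (lam z) = 1 := fun z => hom_mul_conj lam z
  have hψker : π'.ker ≤ Cfsg.Agent.Helper79.irrKer ⟨ψ, hψ⟩ := by
    intro x hx
    rw [Cfsg.Agent.Helper79.mem_irrKer]
    show ψ x = ψ 1
    have hxk : (x : E) ∈ π.ker := by
      rw [MonoidHom.mem_ker] at hx ⊢
      have h0 := congrArg (fun g : G => (g : T)) hx
      simp only [hπ'coe, Subgroup.coe_one] at h0
      exact h0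
    rw [hψapp, hψapp]
    have h1 : β (q' x) = β 1 * conj (lam ⟨x, hxk⟩) := by
      rw [← hβz ⟨x, hxk⟩]
      refine congrArg β (Subtype.ext ?_)
      rfl
    have h2 : τ (x : E) = lam ⟨x, hxk⟩ * τ 1 := hlam ⟨x, hxk⟩
    rw [h1, h2, map_one, Subgroup.coe_one]
    calc β 1 * conj (lam ⟨x, hxk⟩) * (lam ⟨x, hxk⟩ * τ 1)
        = β 1 * (lam ⟨x, hxk⟩ * conj (lam ⟨x, hxk⟩)) * τ 1 := by ring
      _ = β 1 * τ 1 := by rw [hlamconj, mul_one]
  obtain ⟨ψbar, hψbar⟩ := Cfsg.Agent.Helper79.exists_deflate π'.ker ⟨ψ, hψ⟩ hψker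
  let eG : GE ⧸ π'.ker ≃* G := QuotientGroup.quotientKerEquivOfSurjective π' hπ'
  have heG : ∀ x : GE, eG (QuotientGroup.mk x) = π' x := fun _ => rfl
  let χ : G → ℂ := fun g => (ψbar : GE ⧸ π'.ker → ℂ) (eG.symm g)
  have hχ : IsIrrCharacter G χ := isIrrCharacter_comp_equiv eG.symm ψbar.2
  have hχψ : ∀ x : GE, χ (π' x) = ψ x := by
    intro x
    show (ψbar : GE ⧸ π'.ker → ℂ) (eG.symm (π' x)) = ψ x
    rw [← heG, MulEquiv.symm_apply_apply]
    have h0 := congrArg (fun c : IrrCharacter GE => (c : GE → ℂ) x) hψbar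
    simp only [Cfsg.Agent.Helper79.inflate_apply] at h0
    exact h0
  refine ⟨χ, hχ, ?_, ?_⟩
  · have h1 : (fun n : N => χ ⟨n, hNG n.2⟩) = β 1 • θ := by
      funext n
      have h2 : (⟨n, hNG n.2⟩ : G) = π' (ι' n) := Subtype.ext (hπι n).symm
      rw [h2, hχψ, hψapp]
      have h3 : q' (ι' n) = 1 := Subtype.ext (hqι n)
      rw [h3]
      show β 1 * τ (ι n) = _
      rw [hτι]
      rfl
    rw [h1, classInner_smul_left, irr_orthonormal hθ hθ, if_pos rfl, mul_one]
    exact hβ1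
  · intro x g
    obtain ⟨xt, rfl⟩ := hπ x
    obtain ⟨gt, rfl⟩ := hπ' g
    have hmem : xt * gt * xt⁻¹ ∈ GE := hGEn.conj_mem gt gt.2 xt
    have h1 : (⟨π xt * ((π' gt : G) : T) * (π xt)⁻¹,
        hG.conj_mem _ (π' gt).2 (π xt)⟩ : G) = π' ⟨xt * gt * xt⁻¹, hmem⟩ := by
      apply Subtype.ext
      show π xt * π (gt : E) * (π xt)⁻¹ = π (xt * gt * xt⁻¹)
      simp
    rw [h1, hχψ, hχψ, hψapp, hψapp]
    have h2 : τ (xt * gt * xt⁻¹) = τ gt := hτc gt xt
    have h3 : β (q' ⟨xt * gt * xt⁻¹, hmem⟩) = β (q' gt) := by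
      have h4 := hβinv (q xt) (q' gt)
      rw [← h4]
      refine congrArg β (Subtype.ext ?_)
      show q (xt * gt * xt⁻¹) = q xt * q (gt : E) * (q xt)⁻¹
      simp
    rw [h2, h3]

open Cfsg.Agent.Helper79 in
/-- Isaacs 13.31 in its "layers" form: `N ≤ G` normal in `T` with `|T : G|` and `|G : N|` coprime
(and one of the two quotients solvable); every `T`-invariant `θ ∈ Irr(N)` lies under a
`T`-invariant irreducible character of `G`. -/
theorem exists_invariant_over_layers (G N : Subgroup T) [hG : G.Normal] [hN : N.Normal]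
    [Fintype G] [Fintype N] (hNG : N ≤ G) (hcop : G.index.Coprime (N.relIndex G))
    (hsolv : Group.IsSolvable (T ⧸ G) ∨ Group.IsSolvable (G ⧸ N.subgroupOf G))
    {θ : N → ℂ} (hθ : IsIrrCharacter N θ)
    (hinv : ∀ (x : T) (n : N), θ ⟨x * n * x⁻¹, hN.conj_mem n n.2 x⟩ = θ n) :
    ∃ χ : G → ℂ, IsIrrCharacter G χ ∧ classInner (fun n : N => χ ⟨n, hNG n.2⟩) θ ≠ 0 ∧
      ∀ (x : T) (g : G), χ ⟨x * g * x⁻¹, hG.conj_mem g g.2 x⟩ = χ g := by
  classical
  have hθ' := hθ
  obtain ⟨d, ρ, hρ, hρθ⟩ := hθ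
  haveI := hρ
  haveI : Finite (extGroup N ρ) := finite_extGroup N ρ
  haveI : Fintype (extGroup N ρ) := Fintype.ofFinite _
  have hinv' : ∀ (g : T) (n : N),
      ρ.character ⟨g * n * g⁻¹, hN.conj_mem n n.2 g⟩ = ρ.character n := by
    rw [hρθ]
    exact hinv
  have hπ := extProj_surjective N ρ hinv'
  have hd : 0 < d := degree_pos_of_irreducible N ρ
  have hd0 : (d : ℂ) ≠ 0 := by exact_mod_cast hd.ne'
  have hsc : ∀ z : (extProj N ρ).ker, ∃ l : ℂˣ, (z : extGroup N ρ).1.2 = scU d l := by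
    intro z
    have h1 : (z : extGroup N ρ).1.1 = 1 := MonoidHom.mem_ker.mp z.2
    obtain ⟨l, -, hl⟩ := ker_scalar N ρ (z : extGroup N ρ).1 (z : extGroup N ρ).2 h1
    exact ⟨l, hl⟩
  have hZsc : ∀ z : (extProj N ρ).ker, ∃ l : ℂ,
      extRep N ρ z = l • (1 : Module.End ℂ (Fin d → ℂ)) := by
    intro z
    obtain ⟨l, hl⟩ := hsc z
    refine ⟨(l : ℂ), ?_⟩
    rw [extRep_apply, hl, scU_coe]
  choose lf hlf using hZsc
  have htr1 : LinearMap.trace ℂ (Fin d → ℂ) (1 : Module.End ℂ (Fin d → ℂ)) = (d : ℂ) := by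
    rw [LinearMap.trace_one, Module.finrank_fin_fun]
  have hinj1 : ∀ a b : ℂ, a • (1 : Module.End ℂ (Fin d → ℂ)) = b • 1 → a = b := by
    intro a b hab
    have h1 := congrArg (LinearMap.trace ℂ (Fin d → ℂ)) hab
    rw [map_smul, map_smul, htr1, smul_eq_mul, smul_eq_mul] at h1
    exact mul_right_cancel₀ hd0 h1
  let lam : (extProj N ρ).ker →* ℂ :=
    { toFun := lf
      map_one' := by
        apply hinj1
        rw [← hlf, one_smul]
        exact map_one (extRep N ρ)
      map_mul' := by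
        intro a b
        apply hinj1
        rw [← hlf]
        show extRep N ρ ((a : extGroup N ρ) * (b : extGroup N ρ)) = _
        rw [map_mul, hlf, hlf, smul_mul_smul_comm, mul_one] }
  have hlam : ∀ z : (extProj N ρ).ker, (extRep N ρ).character z =
      lam z * (extRep N ρ).character 1 := by
    intro z
    have h1 : (extRep N ρ).character 1 = (d : ℂ) := by
      rw [Representation.char_one, Module.finrank_fin_fun]
    rw [h1]
    simp only [Representation.character]
    rw [hlf, map_smul, htr1, smul_eq_mul]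
    rfl
  have hkerc : (extProj N ρ).ker ≤ Subgroup.center (extGroup N ρ) := by
    intro z hz
    obtain ⟨l, hl⟩ := hsc ⟨z, hz⟩
    have hz1 : z.1.1 = 1 := MonoidHom.mem_ker.mp hz
    rw [Subgroup.mem_center_iff]
    intro w
    apply Subtype.ext
    apply Prod.ext
    · simp [hz1]
    · simp only [Subgroup.coe_mul, Prod.snd_mul]
      have hl' : z.1.2 = scU d l := hl
      rw [hl', scU_comm]
  exact exists_invariant_over_of_centralExt G N hNG hcop hsolv hθ' (extProj N ρ) hπ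
    (extIncl N ρ) (fun n => rfl) (extIncl_range_normal N ρ) hkerc (extRep N ρ).character
    ⟨d, extRep N ρ, extRep_isIrreducible N ρ, rfl⟩ (fun n => by rw [← hρθ]; rfl) lam hlam

end triple

end Cfsg.Agent.Helper81
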