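import Cfsg.Prelude.Def_DegreeGraph
import Cfsg.Agent.Lib.Helper79.Coprime.OneChar
import Cfsg.Agent.Lib.Helper79.Inflation

/-!
# DG2 (GT) for helper89's S4811 server: Gallagher, degrees.
-/

set_option autoImplicit false
set_option linter.style.haveILetI false
set_option linter.unusedSectionVars false

namespace Cfsg.Agent.Helper81.DG2

open Cfsg

universe u

/-- (GT) Gallagher: if `χ_K` is irreducible and `β ∈ Irr(G/K)` then `β χ ∈ Irr(G)`, of degree
`β(1) χ(1)`. -/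
theorem gallagher_deg {G : Type u} [Group G] [Finite G] (K : Subgroup G) [K.Normal]
    (χ : IrrCharacter G) (hχ : IsIrrCharacter K (fun k : K => (χ : G → ℂ) k))
    (β : IrrCharacter (G ⧸ K)) :
    ∃ ψ : IrrCharacter G, charDegree (ψ : G → ℂ) = charDegree (β : G ⧸ K → ℂ) * charDegree (χ : G → ℂ) := by
  haveI := Fintype.ofFinite G
  haveI : Fintype K := Fintype.ofFinite K
  have hirr := Cfsg.Agent.Helper79.Cop.irr_mul_of_le_ker K inferInstance χ
    (Cfsg.Agent.Helper79.inflate K β) hχ (Cfsg.Agent.Helper79.le_irrKer_inflate K β)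
  refine ⟨⟨_, hirr⟩, ?_⟩
  have h1 := (Cfsg.Agent.Helper79.irr_one_eq χ).1
  have h2 := (Cfsg.Agent.Helper79.irr_one_eq β).1
  show charDegree (((Cfsg.Agent.Helper79.inflate K β : IrrCharacter G) : G → ℂ) * (χ : G → ℂ)) = _
  have h3 : (((Cfsg.Agent.Helper79.inflate K β : IrrCharacter G) : G → ℂ) * (χ : G → ℂ)) 1 =
      ((charDegree (β : G ⧸ K → ℂ) * charDegree (χ : G → ℂ) : ℕ) : ℂ) := by
    rw [Pi.mul_apply, Cfsg.Agent.Helper79.inflate_apply, QuotientGroup.mk_one, h1, h2]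
    push_cast
    ring
  obtain ⟨m, hm⟩ : ∃ m : ℕ, m = charDegree (β : G ⧸ K → ℂ) * charDegree (χ : G → ℂ) := ⟨_, rfl⟩
  rw [← hm] at h3 ⊢
  unfold charDegree
  rw [h3]
  simp

end Cfsg.Agent.Helper81.DG2
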