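import Mathlib

set_option autoImplicit false

namespace Cfsg.Agent.Helper81.DefClass

open Subgroup

universe u

variable {G : Type u} [Group G]

/-- Generic fibre-counting lemma. -/
theorem ncard_le_mul_of_fiber [Finite G] (S T U : Set G) (f : G → G)
    (hf : ∀ s ∈ S, f s ∈ T)
    (hfib : ∀ s ∈ S, ∀ s' ∈ S, f s = f s' → s' * s⁻¹ ∈ U) :
    S.ncard ≤ U.ncard * T.ncard := by
  classical
  let c : G → G := fun t => if h : ∃ s ∈ S, f s = t then h.choose else 1
  have hc : ∀ s ∈ S, c (f s) ∈ S ∧ f (c (f s)) = f s := by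
    intro s hs
    have h : ∃ s' ∈ S, f s' = f s := ⟨s, hs, rfl⟩
    simp only [c, dif_pos h]
    exact h.choose_spec
  have hinj : Set.InjOn (fun s => (s * (c (f s))⁻¹, f s)) S := by
    intro s hs s' hs' h
    simp only [Prod.mk.injEq] at h
    obtain ⟨h1, h2⟩ := h
    rw [h2] at h1
    exact mul_right_cancel h1
  have hmaps : Set.MapsTo (fun s => (s * (c (f s))⁻¹, f s)) S (U ×ˢ T) := by
    intro s hs
    refine ⟨?_, hf s hs⟩
    exact hfib _ (hc s hs).1 s hs (hc s hs).2
  have := Set.ncard_le_ncard_of_injOn _ hmaps hinj (Set.toFinite _)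
  rwa [Set.ncard_prod] at this

theorem ncard_coe_subgroup (H : Subgroup G) : (H : Set G).ncard = Nat.card H := by
  rw [← Nat.card_coe_set_eq]; rfl

theorem mem_centralizer_singleton {v z : G} :
    z ∈ centralizer ({v} : Set G) ↔ v * z = z * v := by
  simp [mem_centralizer_iff]

/-- The set of elements of `N` inverted by `v`. -/
def invSet (N : Subgroup G) (v : G) : Set G := {w | w ∈ N ∧ v * w * v⁻¹ = w⁻¹}

theorem card_comap_mk [Finite G] (N : Subgroup G) [N.Normal] (C : Subgroup (G ⧸ N)) :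
    Nat.card (C.comap (QuotientGroup.mk' N)) = Nat.card C * Nat.card N := by
  have h1 : (C.comap (QuotientGroup.mk' N)).index = C.index :=
    Subgroup.index_comap_of_surjective C (QuotientGroup.mk'_surjective N)
  have h2 := (C.comap (QuotientGroup.mk' N)).card_mul_index
  have h3 := C.card_mul_index
  have h4 := N.card_mul_index
  rw [Subgroup.index_eq_card] at h4
  have hi : C.index ≠ 0 := Subgroup.index_ne_zero_of_finite
  rw [h1] at h2
  have : Nat.card (C.comap (QuotientGroup.mk' N)) * C.index = (Nat.card C * Nat.card N) * C.index := by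
    rw [h2, ← h4, ← h3]; ring
  exact Nat.eq_of_mul_eq_mul_right (Nat.pos_of_ne_zero hi) this

/-- Centralizers do not grow in quotients; refined form. -/
theorem card_centralizer_quotient_mul_le [Finite G] (N : Subgroup G) [N.Normal] (v : G)
    (hv : v * v = 1) :
    Nat.card (centralizer ({(QuotientGroup.mk v : G ⧸ N)} : Set (G ⧸ N))) * Nat.card N
      ≤ Nat.card (centralizer ({v} : Set G)) * (invSet N v).ncard := by
  set C := centralizer ({(QuotientGroup.mk v : G ⧸ N)} : Set (G ⧸ N)) with hC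
  rw [← card_comap_mk N C, ← ncard_coe_subgroup, ← ncard_coe_subgroup]
  have hvinv : v⁻¹ = v := inv_eq_of_mul_eq_one_right hv
  refine ncard_le_mul_of_fiber _ _ _ (fun g => v⁻¹ * g⁻¹ * v * g) ?_ ?_
  · intro g hg
    have hg' : (QuotientGroup.mk v : G ⧸ N) * QuotientGroup.mk g = QuotientGroup.mk g * QuotientGroup.mk v := by
      have : (QuotientGroup.mk g : G ⧸ N) ∈ C := hg
      rw [hC, mem_centralizer_singleton] at this
      exact this
    refine ⟨?_, ?_⟩
    · rw [← QuotientGroup.eq_one_iff]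
      have : ((v⁻¹ * g⁻¹ * v * g : G) : G ⧸ N) = (QuotientGroup.mk v : G ⧸ N)⁻¹ * (QuotientGroup.mk g)⁻¹ * (QuotientGroup.mk v * QuotientGroup.mk g) := by
        simp [mul_assoc]
      rw [this, hg']
      group
    · rw [hvinv]
      have h1 : v * (v * g⁻¹ * v * g) * v = (v * v) * g⁻¹ * v * g * v := by group
      have h2 : (v * g⁻¹ * v * g)⁻¹ = g⁻¹ * v⁻¹ * g * v⁻¹ := by group
      rw [h1, h2, hv, hvinv]; group
  · intro g hg g' hg' h
    rw [SetLike.mem_coe, mem_centralizer_singleton]
    have h1 : g⁻¹ * v * g = g'⁻¹ * v * g' := by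
      have := congrArg (fun t => v * t) h
      simpa [mul_assoc] using this
    calc v * (g' * g⁻¹) = g' * (g'⁻¹ * v * g') * g⁻¹ := by group
      _ = g' * (g⁻¹ * v * g) * g⁻¹ := by rw [h1]
      _ = g' * g⁻¹ * v := by group

theorem invSet_ncard_le [Finite G] (N : Subgroup G) (v : G) : (invSet N v).ncard ≤ Nat.card N := by
  rw [← ncard_coe_subgroup]
  exact Set.ncard_le_ncard (fun w hw => hw.1) (Set.toFinite _)

theorem card_centralizer_quotient_le [Finite G] (N : Subgroup G) [N.Normal] (v : G)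
    (hv : v * v = 1) :
    Nat.card (centralizer ({(QuotientGroup.mk v : G ⧸ N)} : Set (G ⧸ N)))
      ≤ Nat.card (centralizer ({v} : Set G)) := by
  have h := card_centralizer_quotient_mul_le N v hv
  have h2 := invSet_ncard_le N v
  have hN : 0 < Nat.card N := Nat.card_pos
  have : Nat.card (centralizer ({(QuotientGroup.mk v : G ⧸ N)} : Set (G ⧸ N))) * Nat.card N ≤
      Nat.card (centralizer ({v} : Set G)) * Nat.card N := h.trans (Nat.mul_le_mul_left _ h2)
  exact Nat.le_of_mul_le_mul_right this hN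

theorem card_centralizer_quotient_lt [Finite G] (N : Subgroup G) [N.Normal] (v : G)
    (hv : v * v = 1) (hne : ∃ w ∈ N, v * w * v⁻¹ ≠ w⁻¹) :
    Nat.card (centralizer ({(QuotientGroup.mk v : G ⧸ N)} : Set (G ⧸ N)))
      < Nat.card (centralizer ({v} : Set G)) := by
  have h := card_centralizer_quotient_mul_le N v hv
  have h2 : (invSet N v).ncard < Nat.card N := by
    rw [← ncard_coe_subgroup]
    apply Set.ncard_lt_ncard _ (Set.toFinite _)
    refine ⟨fun w hw => hw.1, ?_⟩
    obtain ⟨w, hwN, hw⟩ := hne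
    intro hsub
    exact hw (hsub hwN).2
  have hc : 0 < Nat.card (centralizer ({v} : Set G)) := Nat.card_pos
  have : Nat.card (centralizer ({(QuotientGroup.mk v : G ⧸ N)} : Set (G ⧸ N))) * Nat.card N <
      Nat.card (centralizer ({v} : Set G)) * Nat.card N :=
    lt_of_le_of_lt h (Nat.mul_lt_mul_of_pos_left h2 hc)
  exact Nat.lt_of_mul_lt_mul_right this

/-- Four-group acting on an abelian normal subgroup. -/
theorem card_abelian_le [Finite G] (A : Subgroup G) (hA : ∀ a ∈ A, ∀ b ∈ A, a * b = b * a)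
    (x y : G) (hxA : ∀ a ∈ A, x * a * x⁻¹ ∈ A) (hyA : ∀ a ∈ A, y * a * y⁻¹ ∈ A)
    (hx : x * x = 1) (hy : y * y = 1) :
    Nat.card A ≤ Nat.card (centralizer ({x} : Set G)) * Nat.card (centralizer ({y} : Set G)) *
      Nat.card (centralizer ({x * y} : Set G)) := by
  have hxinv : x⁻¹ = x := inv_eq_of_mul_eq_one_right hx
  have hyinv : y⁻¹ = y := inv_eq_of_mul_eq_one_right hy
  -- general step
  have step : ∀ (S : Set G) (v : G), v * v = 1 → (∀ a ∈ S, a ∈ A) → (∀ a ∈ S, v * a * v⁻¹ ∈ A) →
      ∀ (U : Set G), (∀ a ∈ S, ∀ b ∈ S, v * (b * a⁻¹) * v⁻¹ = (b * a⁻¹)⁻¹ → b * a⁻¹ ∈ U) →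
      S.ncard ≤ U.ncard * Nat.card (centralizer ({v} : Set G)) := by
    intro S v hv hSA hvS U hU
    have hvinv : v⁻¹ = v := inv_eq_of_mul_eq_one_right hv
    rw [← ncard_coe_subgroup]
    refine ncard_le_mul_of_fiber S _ U (fun u => u * (v * u * v⁻¹)) ?_ ?_
    · intro u hu
      rw [SetLike.mem_coe, mem_centralizer_singleton]
      have h1 := hA u (hSA u hu) _ (hvS u hu)
      have : v * (u * (v * u * v⁻¹)) * v⁻¹ = u * (v * u * v⁻¹) := by
        calc v * (u * (v * u * v⁻¹)) * v⁻¹ = (v * u * v⁻¹) * ((v * v) * u * (v⁻¹ * v⁻¹)) := by group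
          _ = (v * u * v⁻¹) * u := by rw [hvinv, hv]; group
          _ = u * (v * u * v⁻¹) := (h1).symm
      calc v * (u * (v * u * v⁻¹)) = (v * (u * (v * u * v⁻¹)) * v⁻¹) * v := by group
        _ = u * (v * u * v⁻¹) * v := by rw [this]
    · intro u hu w hw h
      apply hU u hu w hw
      have huA := hSA u hu
      have hwA := hSA w hw
      have hu' := hvS u hu
      have hw' := hvS w hw
      -- h : u * u' = w * w'
      have e1 : v * (w * u⁻¹) * v⁻¹ = (v * w * v⁻¹) * (v * u * v⁻¹)⁻¹ := by group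
      rw [e1]
      -- want (w')(u')⁻¹ = (w u⁻¹)⁻¹ = u w⁻¹
      have c1 := hA u huA w hwA
      have c2 := hA (v * u * v⁻¹) hu' u huA
      have c3 := hA (v * w * v⁻¹) hw' w hwA
      have c4 := hA (v * w * v⁻¹) hw' u huA
      -- from h: w' = w⁻¹ * u * u'
      have hw'eq : v * w * v⁻¹ = w⁻¹ * (u * (v * u * v⁻¹)) := by
        rw [h]; group
      rw [hw'eq]
      calc w⁻¹ * (u * (v * u * v⁻¹)) * (v * u * v⁻¹)⁻¹ = w⁻¹ * u := by group
        _ = u * w⁻¹ := by
          have : w⁻¹ * u = w⁻¹ * (u * w) * w⁻¹ := by group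
          rw [this, c1]; group
        _ = (w * u⁻¹)⁻¹ := by group
  -- Step 1: A vs I
  set I : Set G := {u | u ∈ A ∧ x * u * x⁻¹ = u⁻¹} with hI
  set J : Set G := {u | u ∈ A ∧ x * u * x⁻¹ = u⁻¹ ∧ y * u * y⁻¹ = u⁻¹} with hJ
  have h1 : (A : Set G).ncard ≤ I.ncard * Nat.card (centralizer ({x} : Set G)) := by
    apply step (A : Set G) x hx (fun a ha => ha) (fun a ha => hxA a ha)
    intro a ha b hb h
    exact ⟨A.mul_mem hb (A.inv_mem ha), h⟩
  have h2 : I.ncard ≤ J.ncard * Nat.card (centralizer ({y} : Set G)) := by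
    apply step I y hy (fun a ha => ha.1) (fun a ha => hyA a ha.1)
    intro a ha b hb h
    refine ⟨A.mul_mem hb.1 (A.inv_mem ha.1), ?_, h⟩
    have e : x * (b * a⁻¹) * x⁻¹ = (x * b * x⁻¹) * (x * a * x⁻¹)⁻¹ := by group
    rw [e, ha.2, hb.2]
    have c := hA a ha.1 b hb.1
    have : b⁻¹ * a⁻¹⁻¹ = (a⁻¹ * b)⁻¹ := by group
    rw [this]
    congr 1
    have : a⁻¹ * b = a⁻¹ * (b * a) * a⁻¹ := by group
    rw [this, ← c]; group
  have h3 : J.ncard ≤ Nat.card (centralizer ({x * y} : Set G)) := by
    rw [← ncard_coe_subgroup]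
    apply Set.ncard_le_ncard _ (Set.toFinite _)
    intro u hu
    rw [SetLike.mem_coe, mem_centralizer_singleton]
    have e : (x * y) * u * (x * y)⁻¹ = x * (y * u * y⁻¹) * x⁻¹ := by group
    have : (x * y) * u * (x * y)⁻¹ = u := by
      rw [e, hu.2.2]
      have : x * u⁻¹ * x⁻¹ = (x * u * x⁻¹)⁻¹ := by group
      rw [this, hu.2.1, inv_inv]
    calc x * y * u = ((x * y) * u * (x * y)⁻¹) * (x * y) := by group
      _ = u * (x * y) := by rw [this]
  rw [← ncard_coe_subgroup A]
  calc (A : Set G).ncard ≤ I.ncard * Nat.card (centralizer ({x} : Set G)) := h1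
    _ ≤ (J.ncard * Nat.card (centralizer ({y} : Set G))) * Nat.card (centralizer ({x} : Set G)) :=
        Nat.mul_le_mul_right _ h2
    _ ≤ (Nat.card (centralizer ({x * y} : Set G)) * Nat.card (centralizer ({y} : Set G))) *
          Nat.card (centralizer ({x} : Set G)) :=
        Nat.mul_le_mul_right _ (Nat.mul_le_mul_right _ h3)
    _ = _ := by ring

/-- The number of involutions is at least the class size of an involution. -/
theorem index_centralizer_le_card_involutions [Finite G] (x : G) (hx : orderOf x = 2) :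
    (centralizer ({x} : Set G)).index ≤ Nat.card {z : G // orderOf z = 2} := by
  rw [Subgroup.index]
  refine Nat.card_le_card_of_injective
    (fun q : G ⧸ centralizer ({x} : Set G) => (⟨q.out * x * q.out⁻¹, ?_⟩ : {z : G // orderOf z = 2})) ?_
  · have : q.out * x * q.out⁻¹ = MulAut.conj q.out x := rfl
    rw [this, MulEquiv.orderOf_eq, hx]
  · intro q q' h
    simp only [Subtype.mk.injEq] at h
    rw [← Quotient.out_eq' q, ← Quotient.out_eq' q']
    apply QuotientGroup.eq.mpr
    rw [mem_centralizer_singleton]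
    calc x * (q.out⁻¹ * q'.out) = q.out⁻¹ * (q.out * x * q.out⁻¹) * q'.out := by group
      _ = q.out⁻¹ * (q'.out * x * q'.out⁻¹) * q'.out := by rw [h]
      _ = q.out⁻¹ * q'.out * x := by group

theorem normalCore_index_le [Finite G] (H : Subgroup G) : H.normalCore.index ≤ (H.index).factorial := by
  have h : H.normalCore.index ∣ (H.index).factorial := by
    rw [Subgroup.normalCore_eq_ker, Subgroup.index_ker, Subgroup.index_eq_card, ← Nat.card_perm]
    exact Subgroup.card_subgroup_dvd_card (MulAction.toPermHom G (G ⧸ H)).range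
  exact Nat.le_of_dvd (Nat.factorial_pos _) h

/-- The core of `C(g)` centralizes the normal closure of `g`. -/
theorem normalCore_centralizer_le (g : G) :
    (centralizer ({g} : Set G)).normalCore ≤ centralizer ((normalClosure ({g} : Set G) : Subgroup G) : Set G) := by
  have h1 : normalClosure ({g} : Set G) ≤
      centralizer (((centralizer ({g} : Set G)).normalCore : Subgroup G) : Set G) := by
    apply normalClosure_le_normal
    intro z hz
    rw [Set.mem_singleton_iff] at hz
    subst hz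
    rw [SetLike.mem_coe, mem_centralizer_iff]
    intro k hk
    have := (Subgroup.normalCore_le _) hk
    rw [mem_centralizer_singleton] at this
    exact this.symm
  intro k hk
  rw [mem_centralizer_iff]
  intro n hn
  have := h1 hn
  rw [mem_centralizer_iff] at this
  exact (this k hk).symm

end Cfsg.Agent.Helper81.DefClass
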