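import Cfsg.Agent.Lib.Helper81.DefClass1
import Cfsg.Agent.Lib.Helper74.FSBrauerFowler

set_option autoImplicit false
set_option linter.style.haveILetI false

namespace Cfsg.Agent.Helper81.DefClass

open Subgroup Cfsg

universe u

variable {G : Type u} [Group G]


/-- Brauer–Fowler: an involution with small centralizer yields a small nontrivial class. -/
theorem exists_small_class_of_involution [Finite G] (x : G) (hx : orderOf x = 2) :
    ∃ g : G, g ≠ 1 ∧
      (centralizer ({g} : Set G)).index ≤ (Nat.card (centralizer ({x} : Set G))) ^ 2 := by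
  classical
  letI : Fintype G := Fintype.ofFinite G
  haveI : Fintype (IrrCharacter G) := Fintype.ofFinite _
  set t := Nat.card {z : G // orderOf z = 2} with ht
  set c := Nat.card (centralizer ({x} : Set G)) with hc
  have hidx := index_centralizer_le_card_involutions x hx
  have hcpos : 0 < c := Nat.card_pos
  have hipos : 0 < (centralizer ({x} : Set G)).index := Nat.pos_of_ne_zero Subgroup.index_ne_zero_of_finite
  have htpos : 0 < t := lt_of_lt_of_le hipos hidx
  have hG2 : 2 ≤ Nat.card G := by
    have : orderOf x ∣ Nat.card G := orderOf_dvd_natCard x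
    rw [hx] at this
    exact Nat.le_of_dvd Nat.card_pos this
  obtain ⟨g, hg1, hg⟩ := Cfsg.Agent.Helper74.FS.exists_small_class (G := G) t ht.symm htpos hG2
  refine ⟨g, hg1, ?_⟩
  have hmul : c * (centralizer ({x} : Set G)).index = Nat.card G := Subgroup.card_mul_index _
  -- (|G| - 1)/t ≤ c
  have hq : ((Nat.card G : ℚ) - 1) / t ≤ c := by
    rw [div_le_iff₀ (by exact_mod_cast htpos)]
    have h1 : (Nat.card G : ℚ) ≤ (c : ℚ) * t := by
      have : Nat.card G ≤ c * t := by
        rw [← hmul]; exact Nat.mul_le_mul_left _ hidx
      exact_mod_cast this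
    linarith
  have hq0 : (0 : ℚ) ≤ ((Nat.card G : ℚ) - 1) / t := by
    apply div_nonneg
    · have : (2 : ℚ) ≤ Nat.card G := by exact_mod_cast hG2
      linarith
    · exact_mod_cast htpos.le
  have : ((centralizer ({g} : Set G)).index : ℚ) ≤ ((c : ℚ)) ^ 2 :=
    hg.trans (pow_le_pow_left₀ hq0 hq 2)
  exact_mod_cast this


theorem index_centralizer_le_card_normal [Finite G] (N : Subgroup G) [hN : N.Normal] (v : G) (hv : v ∈ N) :
    (centralizer ({v} : Set G)).index ≤ Nat.card N := by
  rw [Subgroup.index]
  refine Nat.card_le_card_of_injective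
    (fun q : G ⧸ centralizer ({v} : Set G) => (⟨q.out * v * q.out⁻¹, hN.conj_mem v hv _⟩ : N)) ?_
  intro q q' h
  simp only [Subtype.mk.injEq] at h
  rw [← Quotient.out_eq' q, ← Quotient.out_eq' q']
  apply QuotientGroup.eq.mpr
  rw [mem_centralizer_singleton]
  calc v * (q.out⁻¹ * q'.out) = q.out⁻¹ * (q.out * v * q.out⁻¹) * q'.out := by group
    _ = q.out⁻¹ * (q'.out * v * q'.out⁻¹) * q'.out := by rw [h]
    _ = q.out⁻¹ * q'.out * v := by group

theorem orderOf_two_of_sq {H : Type*} [Group H] (v : H) (h1 : v ≠ 1) (h2 : v * v = 1) : orderOf v = 2 := by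
  haveI : Fact (Nat.Prime 2) := ⟨Nat.prime_two⟩
  exact orderOf_eq_prime (by rw [pow_two]; exact h2) h1

theorem sq_of_orderOf_two {H : Type*} [Group H] (v : H) (h : orderOf v = 2) : v * v = 1 := by
  rw [← pow_two, ← h]; exact pow_orderOf_eq_one v

theorem ne_one_of_orderOf_two {H : Type*} [Group H] (v : H) (h : orderOf v = 2) : v ≠ 1 := by
  intro hv; rw [hv, orderOf_one] at h; omega

/-- bound on the normal closure of a small class -/
theorem card_normalClosure_le [Finite G] (x y : G) (hx : x * x = 1) (hy : y * y = 1) (g : G) (m : ℕ)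
    (hg : (centralizer ({g} : Set G)).index ≤ m) :
    Nat.card (normalClosure ({g} : Set G)) ≤
      m.factorial * (Nat.card (centralizer ({x} : Set G)) * Nat.card (centralizer ({y} : Set G)) *
        Nat.card (centralizer ({x * y} : Set G))) := by
  set N1 := normalClosure ({g} : Set G) with hN1
  set K := (centralizer ({g} : Set G)).normalCore with hK
  have hKidx : K.index ≤ m.factorial :=
    (normalCore_index_le _).trans (Nat.factorial_le hg)
  have hKc : K ≤ centralizer (N1 : Set G) := normalCore_centralizer_le g
  set A := N1 ⊓ K with hA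
  have hAab : ∀ a ∈ A, ∀ b ∈ A, a * b = b * a := by
    intro a ha b hb
    have h1 : b ∈ centralizer (N1 : Set G) := hKc hb.2
    rw [mem_centralizer_iff] at h1
    exact h1 a ha.1
  haveI : N1.Normal := Subgroup.normalClosure_normal
  haveI : K.Normal := Subgroup.normalCore_normal _
  haveI : A.Normal := Subgroup.normal_inf_normal N1 K
  have hAcard := card_abelian_le A hAab x y (fun a ha => ‹A.Normal›.conj_mem a ha x)
    (fun a ha => ‹A.Normal›.conj_mem a ha y) hx hy
  have h1 : Nat.card A * A.relIndex N1 = Nat.card N1 := by
    have := Subgroup.relIndex_mul_relIndex (⊥ : Subgroup G) A N1 bot_le inf_le_left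
    rwa [Subgroup.relIndex_bot_left, Subgroup.relIndex_bot_left] at this
  have h2 : A.relIndex N1 = K.relIndex N1 := by
    rw [hA, inf_comm]; exact Subgroup.inf_relIndex_right K N1
  have h3 : K.relIndex N1 ≤ K.index :=
    Nat.le_of_dvd (Nat.pos_of_ne_zero Subgroup.index_ne_zero_of_finite) (Subgroup.relIndex_dvd_index_of_normal K N1)
  calc Nat.card N1 = Nat.card A * A.relIndex N1 := h1.symm
    _ ≤ (Nat.card (centralizer ({x} : Set G)) * Nat.card (centralizer ({y} : Set G)) *
        Nat.card (centralizer ({x * y} : Set G))) * m.factorial := by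
        rw [h2]; exact Nat.mul_le_mul hAcard (h3.trans hKidx)
    _ = _ := by ring

theorem crux (s : ℕ) : ∃ N : ℕ, ∀ (G : Type u) [Group G] [Finite G] (x y : G),
    orderOf x = 2 → orderOf y = 2 → x ≠ y → x * y = y * x →
    (Nat.card G).factorization 2 + Nat.card (centralizer ({x} : Set G)) *
      Nat.card (centralizer ({y} : Set G)) * Nat.card (centralizer ({x * y} : Set G)) ≤ s →
    Nat.card G ≤ N := by
  induction s with
  | zero =>
    refine ⟨0, ?_⟩
    intro G _ _ x y _ _ _ _ h
    exfalso
    have h1 : 0 < Nat.card (centralizer ({x} : Set G)) := Nat.card_pos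
    have h2 : 0 < Nat.card (centralizer ({y} : Set G)) := Nat.card_pos
    have h3 : 0 < Nat.card (centralizer ({x * y} : Set G)) := Nat.card_pos
    have := Nat.mul_pos (Nat.mul_pos h1 h2) h3
    omega
  | succ s ih =>
    obtain ⟨Ns, hNs⟩ := ih
    set m := (s + 1) ^ 2 with hm
    set B := m.factorial * (s + 1) with hB
    refine ⟨max (B * (s + 1)) (B * Ns), ?_⟩
    intro G _ _ x y hxo hyo hxy hcomm hpot
    set cx := Nat.card (centralizer ({x} : Set G)) with hcx
    set cy := Nat.card (centralizer ({y} : Set G)) with hcy
    set cz := Nat.card (centralizer ({x * y} : Set G)) with hcz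
    have hcxp : 0 < cx := Nat.card_pos
    have hcyp : 0 < cy := Nat.card_pos
    have hczp : 0 < cz := Nat.card_pos
    have hx2 := sq_of_orderOf_two x hxo
    have hy2 := sq_of_orderOf_two y hyo
    have hxinv : x⁻¹ = x := inv_eq_of_mul_eq_one_right hx2
    have hyinv : y⁻¹ = y := inv_eq_of_mul_eq_one_right hy2
    have hz2 : (x * y) * (x * y) = 1 := by
      calc (x * y) * (x * y) = x * (y * x) * y := by group
        _ = x * (x * y) * y := by rw [hcomm]
        _ = (x * x) * (y * y) := by group
        _ = 1 := by rw [hx2, hy2, one_mul]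
    have hPhi : cx * cy * cz ≤ s + 1 := by omega
    have hcx_le : cx ≤ s + 1 := by
      calc cx = cx * 1 * 1 := by ring
        _ ≤ cx * cy * cz := Nat.mul_le_mul (Nat.mul_le_mul_left _ hcyp) hczp
        _ ≤ s + 1 := hPhi
    have hcy_le : cy ≤ s + 1 := by
      calc cy = 1 * cy * 1 := by ring
        _ ≤ cx * cy * cz := Nat.mul_le_mul (Nat.mul_le_mul_right _ hcxp) hczp
        _ ≤ s + 1 := hPhi
    have hcz_le : cz ≤ s + 1 := by
      calc cz = 1 * 1 * cz := by ring
        _ ≤ cx * cy * cz := Nat.mul_le_mul_right _ (Nat.mul_le_mul hcxp hcyp)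
        _ ≤ s + 1 := hPhi
    obtain ⟨g, hg1, hgidx⟩ := exists_small_class_of_involution x hxo
    have hgm : (centralizer ({g} : Set G)).index ≤ m :=
      hgidx.trans (Nat.pow_le_pow_left hcx_le 2)
    set N1 := normalClosure ({g} : Set G) with hN1
    haveI hN1n : N1.Normal := Subgroup.normalClosure_normal
    have hgN1 : g ∈ N1 := Subgroup.subset_normalClosure (Set.mem_singleton g)
    have hN1card : Nat.card N1 ≤ B := by
      have := card_normalClosure_le x y hx2 hy2 g m hgm
      calc Nat.card N1 ≤ m.factorial * (cx * cy * cz) := this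
        _ ≤ m.factorial * (s + 1) := Nat.mul_le_mul_left _ hPhi
    have hBpos : 0 < B := Nat.mul_pos (Nat.factorial_pos _) (Nat.succ_pos _)
    -- case (a): some v in N1
    have caseA : ∀ v : G, v ∈ N1 → Nat.card (centralizer ({v} : Set G)) ≤ s + 1 →
        Nat.card G ≤ max (B * (s + 1)) (B * Ns) := by
      intro v hv hcv
      have h1 := index_centralizer_le_card_normal N1 v hv
      have h2 := Subgroup.card_mul_index (centralizer ({v} : Set G))
      calc Nat.card G = Nat.card (centralizer ({v} : Set G)) * (centralizer ({v} : Set G)).index := h2.symm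
        _ ≤ (s + 1) * B := Nat.mul_le_mul hcv (h1.trans hN1card)
        _ = B * (s + 1) := by ring
        _ ≤ _ := le_max_left _ _
    by_cases hxN : x ∈ N1
    · exact caseA x hxN hcx_le
    by_cases hyN : y ∈ N1
    · exact caseA y hyN hcy_le
    by_cases hzN : x * y ∈ N1
    · exact caseA (x * y) hzN hcz_le
    -- case (b): pass to the quotient
    set xb : G ⧸ N1 := QuotientGroup.mk x with hxb
    set yb : G ⧸ N1 := QuotientGroup.mk y with hyb
    have hxb2 : xb * xb = 1 := by rw [hxb, ← QuotientGroup.mk_mul, hx2]; rfl
    have hyb2 : yb * yb = 1 := by rw [hyb, ← QuotientGroup.mk_mul, hy2]; rfl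
    have hxb1 : xb ≠ 1 := by
      intro h; exact hxN ((QuotientGroup.eq_one_iff x).mp h)
    have hyb1 : yb ≠ 1 := by
      intro h; exact hyN ((QuotientGroup.eq_one_iff y).mp h)
    have hxbo := orderOf_two_of_sq xb hxb1 hxb2
    have hybo := orderOf_two_of_sq yb hyb1 hyb2
    have hxyb : xb ≠ yb := by
      intro h
      apply hzN
      have := QuotientGroup.eq.mp h
      rwa [hxinv] at this
    have hcommb : xb * yb = yb * xb := by
      rw [hxb, hyb, ← QuotientGroup.mk_mul, ← QuotientGroup.mk_mul, hcomm]
    have hzb : xb * yb = (QuotientGroup.mk (x * y) : G ⧸ N1) := (QuotientGroup.mk_mul N1 x y).symm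
    set cxb := Nat.card (centralizer ({xb} : Set (G ⧸ N1))) with hcxb
    set cyb := Nat.card (centralizer ({yb} : Set (G ⧸ N1))) with hcyb
    set czb := Nat.card (centralizer ({xb * yb} : Set (G ⧸ N1))) with hczb
    have hle_x : cxb ≤ cx := card_centralizer_quotient_le N1 x hx2
    have hle_y : cyb ≤ cy := card_centralizer_quotient_le N1 y hy2
    have hle_z : czb ≤ cz := by
      rw [hczb, hzb]; exact card_centralizer_quotient_le N1 (x * y) hz2
    have hcardG : Nat.card G = Nat.card N1 * Nat.card (G ⧸ N1) := by
      rw [mul_comm]; exact (Subgroup.card_eq_card_quotient_mul_card_subgroup N1)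
    have hfac : (Nat.card G).factorization 2 =
        (Nat.card N1).factorization 2 + (Nat.card (G ⧸ N1)).factorization 2 := by
      rw [hcardG, Nat.factorization_mul (Nat.card_pos.ne') (Nat.card_pos.ne')]
      rfl
    have hpotb : (Nat.card (G ⧸ N1)).factorization 2 + cxb * cyb * czb ≤ s := by
      have hPhib : cxb * cyb * czb ≤ cx * cy * cz :=
        Nat.mul_le_mul (Nat.mul_le_mul hle_x hle_y) hle_z
      by_cases h2 : 2 ∣ Nat.card N1
      · have : 1 ≤ (Nat.card N1).factorization 2 :=
          (Nat.Prime.dvd_iff_one_le_factorization Nat.prime_two (Nat.card_pos.ne')).mp h2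
        omega
      · -- odd case: some centralizer strictly drops
        have hstrict : cxb * cyb * czb < cx * cy * cz := by
          by_contra hcon
          push Not at hcon
          have heq : cxb * cyb * czb = cx * cy * cz := le_antisymm hPhib hcon
          have hcxbp : 0 < cxb := Nat.card_pos
          have hcybp : 0 < cyb := Nat.card_pos
          have hczbp : 0 < czb := Nat.card_pos
          -- all three equal
          have ex : cxb = cx := by
            by_contra hne
            have hlt : cxb < cx := lt_of_le_of_ne hle_x hne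
            have : cxb * cyb * czb < cx * cy * cz := by
              calc cxb * cyb * czb ≤ cxb * cy * cz := Nat.mul_le_mul (Nat.mul_le_mul_left _ hle_y) hle_z
                _ < cx * cy * cz := by
                  apply Nat.mul_lt_mul_of_pos_right _ hczp
                  exact Nat.mul_lt_mul_of_pos_right hlt hcyp
            omega
          have ey : cyb = cy := by
            by_contra hne
            have hlt : cyb < cy := lt_of_le_of_ne hle_y hne
            have : cxb * cyb * czb < cx * cy * cz := by
              calc cxb * cyb * czb ≤ cx * cyb * cz := Nat.mul_le_mul (Nat.mul_le_mul_right _ hle_x) hle_z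
                _ < cx * cy * cz := by
                  apply Nat.mul_lt_mul_of_pos_right _ hczp
                  exact Nat.mul_lt_mul_of_pos_left hlt hcxp
            omega
          have ez : czb = cz := by
            by_contra hne
            have hlt : czb < cz := lt_of_le_of_ne hle_z hne
            have : cxb * cyb * czb < cx * cy * cz := by
              calc cxb * cyb * czb ≤ cx * cy * czb := Nat.mul_le_mul_right _ (Nat.mul_le_mul hle_x hle_y)
                _ < cx * cy * cz := Nat.mul_lt_mul_of_pos_left hlt (Nat.mul_pos hcxp hcyp)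
            omega
          -- so all three invert N1
          have invx : ∀ w ∈ N1, x * w * x⁻¹ = w⁻¹ := by
            intro w hw
            by_contra hne
            have : cxb < cx := card_centralizer_quotient_lt N1 x hx2 ⟨w, hw, hne⟩
            omega
          have invy : ∀ w ∈ N1, y * w * y⁻¹ = w⁻¹ := by
            intro w hw
            by_contra hne
            have : cyb < cy := card_centralizer_quotient_lt N1 y hy2 ⟨w, hw, hne⟩
            omega
          have invz : ∀ w ∈ N1, (x * y) * w * (x * y)⁻¹ = w⁻¹ := by
            intro w hw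
            by_contra hne
            have : czb < cz := by
              rw [hczb, hzb]; exact card_centralizer_quotient_lt N1 (x * y) hz2 ⟨w, hw, hne⟩
            omega
          -- apply to g
          have e1 : (x * y) * g * (x * y)⁻¹ = g := by
            calc (x * y) * g * (x * y)⁻¹ = x * (y * g * y⁻¹) * x⁻¹ := by group
              _ = x * g⁻¹ * x⁻¹ := by rw [invy g hgN1]
              _ = (x * g * x⁻¹)⁻¹ := by group
              _ = g := by rw [invx g hgN1, inv_inv]
          have e2 : g = g⁻¹ := by rw [← invz g hgN1]; exact e1.symm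
          have hg2 : g ^ 2 = 1 := by
            rw [pow_two]
            calc g * g = g * g⁻¹ := by rw [← e2]
              _ = 1 := mul_inv_cancel g
          have hdvd2 : orderOf g ∣ 2 := orderOf_dvd_of_pow_eq_one hg2
          have hdvdN : orderOf g ∣ Nat.card N1 := by
            have : orderOf (⟨g, hgN1⟩ : N1) ∣ Nat.card N1 := orderOf_dvd_natCard _
            rwa [← Subgroup.orderOf_coe] at this
          have : orderOf g = 1 := by
            rcases (Nat.dvd_prime Nat.prime_two).mp hdvd2 with h | h
            · exact h
            · exfalso; apply h2; rw [← h]; exact hdvdN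
          exact hg1 (orderOf_eq_one_iff.mp this)
        omega
    have hIH := hNs (G ⧸ N1) xb yb hxbo hybo hxyb hcommb hpotb
    calc Nat.card G = Nat.card N1 * Nat.card (G ⧸ N1) := hcardG
      _ ≤ B * Ns := Nat.mul_le_mul hN1card hIH
      _ ≤ _ := le_max_right _ _

end Cfsg.Agent.Helper81.DefClass
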