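import Cfsg.Agent.Lib.Helper81.DefClass2
import Cfsg.Agent.Lib.Helper77.Principal
import Cfsg.Agent.Lib.Helper78.CentralDefect
import Cfsg.Agent.Lib.Helper79.Integrality
import Cfsg.Agent.Lib.Helper79.Inflation

set_option autoImplicit false
set_option linter.style.haveILetI false
set_option linter.unusedSectionVars false

namespace Cfsg.Agent.Helper81.DefClass

open Subgroup Cfsg

universe u

/-- Passing to the quotient by a central subgroup of order `p` lowers the deficiency class. -/
theorem defClass_quotient {H : Type u} [Group H] [Finite H] (p : ℕ) [hp : Fact p.Prime]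
    (M : Ideal AlgInt) (hM : IsPModular p M) (Q : Subgroup H) [hQn : Q.Normal]
    (hQc : Nat.card Q = p) (hQZ : Q ≤ center H) (r : ℕ) (hr : 0 < r)
    (hH : ∀ B : Set (IrrCharacter H), IsPBlock M B → B ≠ principalBlock M H → blockDefect p B < r) :
    ∀ B : Set (IrrCharacter (H ⧸ Q)), IsPBlock M B → B ≠ principalBlock M (H ⧸ Q) →
      blockDefect p B < r - 1 := by
  classical
  letI : Fintype H := Fintype.ofFinite H
  haveI hMp : M.IsPrime := hM.2.1.isPrime
  have hQp : IsPGroup p Q := IsPGroup.of_card (n := 1) (by rw [hQc, pow_one])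
  intro B hB hBne
  obtain ⟨ψ₀, rfl⟩ := hB
  by_contra hcon
  push Not at hcon
  -- minimal degree member
  set S : Set ℕ := (fun χ : IrrCharacter (H ⧸ Q) => (charDegree (χ : H ⧸ Q → ℂ)).factorization p) ''
    blockOf M (ψ₀ : H ⧸ Q → ℂ) with hS
  have hSne : S.Nonempty := ⟨_, ⟨ψ₀, Cfsg.Agent.Helper77.mem_blockOf_self ψ₀, rfl⟩⟩
  obtain ⟨ψ, hψB, hψ⟩ := Nat.sInf_mem hSne
  set χ := Cfsg.Agent.Helper79.inflate Q ψ with hχ
  have hdeg : charDegree (χ : H → ℂ) = charDegree (ψ : H ⧸ Q → ℂ) :=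
    Cfsg.Agent.Helper79.charDegree_inflate Q ψ
  by_cases hb : blockOf M (χ : H → ℂ) = principalBlock M H
  · -- principal: contradiction with B non-principal
    apply hBne
    have hχmem : χ ∈ principalBlock M H := by
      rw [← hb]; exact Cfsg.Agent.Helper77.mem_blockOf_self χ
    have hsame : SameBlock M (fun _ : H => (1 : ℂ)) (χ : H → ℂ) := hχmem
    have h1 : SameBlock M ((Cfsg.Agent.Helper77.trivIrr (H ⧸ Q) : IrrCharacter (H ⧸ Q)) : H ⧸ Q → ℂ)
        (ψ : H ⧸ Q → ℂ) := by
      letI : Fintype (H ⧸ Q) := Fintype.ofFinite _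
      apply Cfsg.Agent.Helper16.sameBlock_of_regular hM
      intro gb hgb
      obtain ⟨g, rfl, hg⟩ := Cfsg.Agent.Helper16.exists_regular_lift Q hQp gb hgb
      rw [Cfsg.Agent.Helper78.centralChar_inflate_of_regular Q hQp hQZ _ g hg,
        Cfsg.Agent.Helper78.centralChar_inflate_of_regular Q hQp hQZ ψ g hg]
      have := hsame g
      have e : centralChar (Cfsg.Agent.Helper79.inflate Q (Cfsg.Agent.Helper77.trivIrr (H ⧸ Q)) : H → ℂ) g
          = centralChar (fun _ : H => (1 : ℂ)) g := by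
        unfold centralChar
        simp [Cfsg.Agent.Helper79.inflate_apply, Cfsg.Agent.Helper77.trivIrr_apply]
      rw [e]
      exact this
    have h2 : SameBlock M (ψ₀ : H ⧸ Q → ℂ) (ψ : H ⧸ Q → ℂ) := hψB
    have h3 : SameBlock M ((Cfsg.Agent.Helper77.trivIrr (H ⧸ Q) : IrrCharacter (H ⧸ Q)) : H ⧸ Q → ℂ)
        (ψ₀ : H ⧸ Q → ℂ) :=
      Cfsg.Agent.Helper77.sameBlock_trans h1 (Cfsg.Agent.Helper77.sameBlock_symm h2)
    rw [Cfsg.Agent.Helper77.principalBlock_eq]
    exact Cfsg.Agent.Helper77.blockOf_eq_of_sameBlock h3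
  · have hlt := hH _ ⟨χ, rfl⟩ hb
    -- compute defects
    have hcard : Nat.card H = p * Nat.card (H ⧸ Q) := by
      rw [← hQc, mul_comm]; exact Subgroup.card_eq_card_quotient_mul_card_subgroup Q
    have hfac : (Nat.card H).factorization p = (Nat.card (H ⧸ Q)).factorization p + 1 := by
      rw [hcard, Nat.factorization_mul hp.out.ne_zero Nat.card_pos.ne']
      simp [hp.out.factorization_self, add_comm]
    have hdvd : charDegree (ψ : H ⧸ Q → ℂ) ∣ Nat.card (H ⧸ Q) :=
      Cfsg.Agent.Helper79.irr_degree_dvd_card ψ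
    have hνle : (charDegree (ψ : H ⧸ Q → ℂ)).factorization p ≤ (Nat.card (H ⧸ Q)).factorization p :=
      (Nat.factorization_le_iff_dvd (by
        intro h0; rw [h0] at hdvd; exact Nat.card_pos.ne' (Nat.eq_zero_of_zero_dvd hdvd))
        Nat.card_pos.ne').mpr hdvd p
    have hdB : blockDefect p (blockOf M (ψ₀ : H ⧸ Q → ℂ)) =
        (Nat.card (H ⧸ Q)).factorization p - (charDegree (ψ : H ⧸ Q → ℂ)).factorization p := by
      unfold blockDefect
      rw [← hS, ← hψ]
    have hdb : (Nat.card H).factorization p - (charDegree (χ : H → ℂ)).factorization p ≤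
        blockDefect p (blockOf M (χ : H → ℂ)) := by
      unfold blockDefect
      apply Nat.sub_le_sub_left
      apply Nat.sInf_le
      exact ⟨χ, Cfsg.Agent.Helper77.mem_blockOf_self χ, rfl⟩
    rw [hdeg, hfac] at hdb
    rw [hdB] at hcon
    omega

end Cfsg.Agent.Helper81.DefClass
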