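import Cfsg.Agent.Lib.Helper81.DefClass3
import Cfsg.Agent.S4717
import Cfsg.Agent.S4718

set_option autoImplicit false
set_option linter.style.haveILetI false
set_option linter.unusedSectionVars false

namespace Cfsg.Agent.Helper81.DefClass

open Subgroup Cfsg

universe u

/-- Hypotheses of the deficiency class theorem (slightly generalised). -/
def DefHyp (G : Type u) [Group G] (M : Ideal AlgInt) (r : ℕ) : Prop :=
  (∀ B : Set (IrrCharacter G), IsPBlock M B → B ≠ principalBlock M G → blockDefect 2 B < r) ∧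
  ∃ E : Subgroup G, (∀ x ∈ E, ∀ y ∈ E, x * y = y * x) ∧ (∀ x ∈ E, x * x = 1) ∧
    2 ^ (r + 1) ≤ Nat.card E

theorem card_centralizer_le_of_IH (a Na : ℕ)
    (hNa : ∀ (G : Type u) [Group G] [Finite G] (M : Ideal AlgInt) (r : ℕ), IsPModular 2 M →
      (Nat.card G).factorization 2 ≤ a → DefHyp G M r → Nat.card G ≤ Na)
    (G : Type u) [Group G] [Finite G] (M : Ideal AlgInt) (r : ℕ) (hM : IsPModular 2 M)
    (hfac : (Nat.card G).factorization 2 ≤ a + 1)
    (hdef : ∀ B : Set (IrrCharacter G), IsPBlock M B → B ≠ principalBlock M G → blockDefect 2 B < r + 1)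
    (E : Subgroup G) (hEab : ∀ x ∈ E, ∀ y ∈ E, x * y = y * x) (hE2 : ∀ x ∈ E, x * x = 1)
    (hEcard : 2 ^ (r + 2) ≤ Nat.card E) (v : G) (hvE : v ∈ E) (hv1 : v ≠ 1) :
    Nat.card (centralizer ({v} : Set G)) ≤ 2 * Na := by
  haveI : Fact (Nat.Prime 2) := ⟨Nat.prime_two⟩
  have hvo : orderOf v = 2 := orderOf_two_of_sq v hv1 (hE2 v hvE)
  have hHdef := (Cfsg.Agent.S4717.result 2 M hM (r + 1)).1 hdef v ⟨1, by rw [hvo, pow_one]⟩
  set C := centralizer ({v} : Set G) with hC
  have hvC : v ∈ C := mem_centralizer_singleton.mpr rfl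
  set v' : C := ⟨v, hvC⟩ with hv'
  set Q : Subgroup C := zpowers v' with hQ
  have hv'Z : v' ∈ center C := by
    rw [mem_center_iff]
    intro h
    have := mem_centralizer_singleton.mp (h.2 : (h : G) ∈ centralizer ({v} : Set G))
    exact Subtype.ext this.symm
  have hQZ : Q ≤ center C := by
    rw [hQ, zpowers_le]; exact hv'Z
  haveI hQn : Q.Normal := ⟨fun n hn g => by
    have hc := (mem_center_iff.mp (hQZ hn)) g
    have : g * n * g⁻¹ = n := by rw [hc, mul_inv_cancel_right]
    rw [this]; exact hn⟩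
  have hQc : Nat.card Q = 2 := by
    rw [hQ, Nat.card_zpowers]
    have : orderOf v' = orderOf v := by
      rw [← Subgroup.orderOf_coe]
    rw [this, hvo]
  have hq := defClass_quotient 2 M hM Q hQc hQZ (r + 1) (Nat.succ_pos r) hHdef
  have hEC : E ≤ C := by
    intro e he
    exact mem_centralizer_singleton.mpr (hEab v hvE e he)
  set E' : Subgroup (C ⧸ Q) := (E.subgroupOf C).map (QuotientGroup.mk' Q) with hE'
  have hE'ab : ∀ x ∈ E', ∀ y ∈ E', x * y = y * x := by
    rintro _ ⟨e1, he1, rfl⟩ _ ⟨e2, he2, rfl⟩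
    rw [← map_mul, ← map_mul]
    congr 1
    exact Subtype.ext (hEab _ he1 _ he2)
  have hE'2 : ∀ x ∈ E', x * x = 1 := by
    rintro _ ⟨e1, he1, rfl⟩
    rw [← map_mul]
    have : e1 * e1 = 1 := Subtype.ext (hE2 _ he1)
    rw [this, map_one]
  have hE'card : 2 ^ (r + 1) ≤ Nat.card E' := by
    have h1 : Nat.card (E.subgroupOf C) = Nat.card E :=
      Nat.card_congr (Subgroup.subgroupOfEquivOfLe hEC).toEquiv
    have h2 : E.subgroupOf C ≤ E'.comap (QuotientGroup.mk' Q) := by
      intro e he
      exact ⟨e, he, rfl⟩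
    have h3 := Subgroup.card_le_of_le h2
    rw [card_comap_mk Q E', hQc, h1] at h3
    have : 2 ^ (r + 2) = 2 ^ (r + 1) * 2 := by ring
    omega
  have hcardC : Nat.card C = 2 * Nat.card (C ⧸ Q) := by
    rw [← hQc, mul_comm]; exact Subgroup.card_eq_card_quotient_mul_card_subgroup Q
  have hfacC : (Nat.card C).factorization 2 = (Nat.card (C ⧸ Q)).factorization 2 + 1 := by
    rw [hcardC, Nat.factorization_mul (by norm_num) Nat.card_pos.ne']
    simp [Nat.prime_two.factorization_self, add_comm]
  have hfacCG : (Nat.card C).factorization 2 ≤ (Nat.card G).factorization 2 :=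
    (Nat.factorization_le_iff_dvd Nat.card_pos.ne' Nat.card_pos.ne').mpr
      (Subgroup.card_subgroup_dvd_card C) 2
  have hIH := hNa (C ⧸ Q) M r hM (by omega) ⟨by simpa using hq, E', hE'ab, hE'2, hE'card⟩
  omega

theorem exists_ne_one_of_one_lt_card {G : Type u} [Group G] [Finite G] (E : Subgroup G)
    (h : 1 < Nat.card E) : ∃ x ∈ E, x ≠ 1 := by
  haveI : Nontrivial E := Finite.one_lt_card_iff_nontrivial.mp h
  obtain ⟨x, hx⟩ := exists_ne (1 : E)
  exact ⟨x, x.2, fun h => hx (Subtype.ext h)⟩

theorem main (a : ℕ) : ∃ N : ℕ, ∀ (G : Type u) [Group G] [Finite G] (M : Ideal AlgInt) (r : ℕ),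
    IsPModular 2 M → (Nat.card G).factorization 2 ≤ a → DefHyp G M r → Nat.card G ≤ N := by
  haveI : Fact (Nat.Prime 2) := ⟨Nat.prime_two⟩
  induction a with
  | zero =>
    refine ⟨0, ?_⟩
    intro G _ _ M r _ hfac hdef
    exfalso
    obtain ⟨_, E, _, hE2, hEcard⟩ := hdef
    have h2 : 1 < Nat.card E := by
      have : 2 ^ 1 ≤ 2 ^ (r + 1) := Nat.pow_le_pow_right (by norm_num) (by omega)
      omega
    obtain ⟨x, hxE, hx1⟩ := exists_ne_one_of_one_lt_card E h2
    have hxo := orderOf_two_of_sq x hx1 (hE2 _ hxE)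
    have hdvd : 2 ∣ Nat.card G := hxo ▸ orderOf_dvd_natCard x
    have := (Nat.Prime.dvd_iff_one_le_factorization Nat.prime_two Nat.card_pos.ne').mp hdvd
    omega
  | succ a ih =>
    obtain ⟨Na, hNa⟩ := ih
    set f : ℕ → ℕ := fun a' => Classical.choose (Cfsg.Agent.S4718.result.{u} 2 a') with hf
    have hfspec : ∀ a', ∀ (G : Type u) [Group G] [Finite G] (M : Ideal AlgInt), IsPModular 2 M →
        (Nat.card G).factorization 2 = a' →
        (∀ B : Set (IrrCharacter G), IsPBlock M B → B = principalBlock M G) → Nat.card G ≤ f a' :=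
      fun a' => Classical.choose_spec (Cfsg.Agent.S4718.result.{u} 2 a')
    set N0 := (Finset.range (a + 2)).sup f with hN0
    obtain ⟨Nc, hNc⟩ := crux.{u} ((a + 1) + (2 * Na) ^ 3)
    refine ⟨max N0 Nc, ?_⟩
    intro G _ _ M r hM hfac hdef
    obtain ⟨hdef, E, hEab, hE2, hEcard⟩ := hdef
    rcases r with _ | r
    · -- r = 0: all blocks principal
      have hall : ∀ B : Set (IrrCharacter G), IsPBlock M B → B = principalBlock M G := by
        intro B hB
        by_contra h
        exact absurd (hdef B hB h) (Nat.not_lt_zero _)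
      have h1 := hfspec _ G M hM rfl hall
      have h2 : f ((Nat.card G).factorization 2) ≤ N0 :=
        Finset.le_sup (f := f) (Finset.mem_range.mpr (by omega))
      exact (h1.trans h2).trans (le_max_left _ _)
    · -- r + 1 ≥ 1
      have hEcard' : 2 ^ (r + 2) ≤ Nat.card E := by simpa using hEcard
      have h4 : 4 ≤ Nat.card E := by
        have : 2 ^ 2 ≤ 2 ^ (r + 2) := Nat.pow_le_pow_right (by norm_num) (by omega)
        omega
      obtain ⟨x, hxE, hx1⟩ := exists_ne_one_of_one_lt_card E (by omega)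
      have hexy : ∃ y ∈ E, y ≠ 1 ∧ y ≠ x := by
        by_contra hcon
        push Not at hcon
        have hsub : (E : Set G) ⊆ {1, x} := by
          intro e he
          by_cases h1 : e = 1
          · left; exact h1
          · right; exact hcon e he h1
        have h2 : (E : Set G).ncard ≤ 2 :=
          (Set.ncard_le_ncard hsub (Set.toFinite _)).trans (Set.ncard_insert_le _ _ |>.trans (by simp))
        rw [ncard_coe_subgroup] at h2
        omega
      obtain ⟨y, hyE, hy1, hyx⟩ := hexy
      have hxo := orderOf_two_of_sq x hx1 (hE2 x hxE)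
      have hyo := orderOf_two_of_sq y hy1 (hE2 y hyE)
      have hxyE : x * y ∈ E := E.mul_mem hxE hyE
      have hxy1 : x * y ≠ 1 := by
        intro h
        apply hyx
        have : y = x⁻¹ := (inv_eq_of_mul_eq_one_right h).symm
        rw [this, inv_eq_of_mul_eq_one_right (hE2 x hxE)]
      have hcx := card_centralizer_le_of_IH a Na hNa G M r hM hfac hdef E hEab hE2 hEcard' x hxE hx1
      have hcy := card_centralizer_le_of_IH a Na hNa G M r hM hfac hdef E hEab hE2 hEcard' y hyE hy1
      have hcz := card_centralizer_le_of_IH a Na hNa G M r hM hfac hdef E hEab hE2 hEcard' (x * y) hxyE hxy1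
      have hpot : (Nat.card G).factorization 2 + Nat.card (centralizer ({x} : Set G)) *
          Nat.card (centralizer ({y} : Set G)) * Nat.card (centralizer ({x * y} : Set G)) ≤
          (a + 1) + (2 * Na) ^ 3 := by
        have : Nat.card (centralizer ({x} : Set G)) *
          Nat.card (centralizer ({y} : Set G)) * Nat.card (centralizer ({x * y} : Set G)) ≤
            (2 * Na) * (2 * Na) * (2 * Na) := Nat.mul_le_mul (Nat.mul_le_mul hcx hcy) hcz
        have e : (2 * Na) ^ 3 = (2 * Na) * (2 * Na) * (2 * Na) := by ring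
        omega
      exact (hNc G x y hxo hyo (Ne.symm hyx) (hEab x hxE y hyE) hpot).trans (le_max_right _ _)

end Cfsg.Agent.Helper81.DefClass
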