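import Mathlib
import Cfsg.Prelude.Def_Characters
import Cfsg.Prelude.Def_Blocks
import Cfsg.Prelude.Def_Local
import Cfsg.Agent.S1902
import Cfsg.Agent.Lib.Helper55.Cores
import Cfsg.Agent.Lib.Helper69.PSolvSub
import Cfsg.Agent.Lib.Helper76.PSolvable
import Cfsg.Agent.Lib.Helper78.CharCount
import Cfsg.Agent.Lib.Helper78.CoverAll
import Cfsg.Agent.Lib.Helper78.Domination2
import Cfsg.Agent.Lib.Helper79.DegreeRatio
import Cfsg.Agent.Lib.Helper79.CharBasic
import Cfsg.Agent.Lib.Helper79.Glaub.Twist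
import Cfsg.Agent.Lib.Helper81.CharDet
import Cfsg.Agent.Lib.Helper81.CharRam
import Cfsg.Agent.Lib.Helper81.CharCorr
import Cfsg.Agent.Lib.Helper81.CharCanon
import Cfsg.Agent.Lib.Helper81.CharSylInd
import Cfsg.Agent.Lib.Helper77.Cover
import Cfsg.Agent.Lib.Helper77.Extended
import Cfsg.Agent.Lib.Helper77.MinMax
import Cfsg.Agent.Lib.Helper74.DefectOrder
import Cfsg.Agent.Lib.Helper16.BlockBasic
import Cfsg.Agent.Lib.Helper16.NormalSub
import Cfsg.Agent.Lib.Helper16.Cover

/-!
# Fong's theorem on characters over an invariant character of `O_{p'}(G)`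

For a `p`-solvable group `G` and a `G`-invariant irreducible character `θ` of `N = O_{p'}(G)`,
the irreducible characters of `G` over `θ` form a single `p`-block with Sylow defect groups.
-/

set_option autoImplicit false
set_option linter.style.haveILetI false
set_option linter.unusedSectionVars false
open Cfsg

namespace Cfsg.Agent.Helper81

open scoped ComplexConjugate

universe u

/-- A character of degree prime to `p` has an irreducible constituent of degree prime to `p`. -/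
theorem exists_constituent_not_dvd_degree {X : Type u} [Group X] [Fintype X] {Φ : X → ℂ}
    (hΦ : IsCharacter X Φ) (p m : ℕ) (hΦ1 : Φ 1 = (m : ℂ)) (hm : ¬ p ∣ m) :
    ∃ χ : IrrCharacter X, classInner Φ (χ : X → ℂ) ≠ 0 ∧ ¬ p ∣ charDegree (χ : X → ℂ) := by
  classical
  haveI : Finite (IrrCharacter X) := irr_finite
  letI : Fintype (IrrCharacter X) := Fintype.ofFinite _
  by_contra hcon
  push Not at hcon
  have hexp := class_function_expansion (isClassFunction_of_isCharacter hΦ)
  have h1 := congrFun hexp 1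
  simp only [Finset.sum_apply, Pi.smul_apply, smul_eq_mul] at h1
  -- each term is a natural number divisible by p
  have hterm : ∀ χ : IrrCharacter X, ∃ t : ℕ,
      classInner Φ (χ : X → ℂ) * (χ : X → ℂ) 1 = ((p * t : ℕ) : ℂ) := by
    intro χ
    obtain ⟨k, hk⟩ := exists_nat_classInner_char hΦ (IsIrrCharacter.isCharacter χ.2)
    obtain ⟨hd1, _⟩ := Cfsg.Agent.Helper78.irr_charDegree χ.2
    by_cases h0 : classInner Φ (χ : X → ℂ) = 0
    · exact ⟨0, by rw [h0]; simp⟩
    · obtain ⟨c, hc⟩ := hcon χ h0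
      refine ⟨k * c, ?_⟩
      rw [hk, hd1, hc]
      push_cast
      ring
  choose t ht using hterm
  rw [hΦ1] at h1
  have h2 : (m : ℂ) = ((p * ∑ χ : IrrCharacter X, t χ : ℕ) : ℂ) := by
    rw [h1, Finset.mul_sum]
    push_cast
    refine Finset.sum_congr rfl fun χ _ => ?_
    rw [ht χ]
    push_cast
    ring
  have h3 : m = p * ∑ χ : IrrCharacter X, t χ := by exact_mod_cast h2
  exact hm ⟨_, h3⟩


/-- If `θ` is an invariant irreducible character of the normal `p'`-subgroup `N` of `X`, some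
irreducible character of `X` over `θ` has degree prime to `p`. -/
theorem exists_pprime_degree_over {X : Type u} [Group X] [Finite X] (p : ℕ) [hp : Fact p.Prime]
    (N : Subgroup X) [hN : N.Normal] [Fintype N] (hpN : ¬ p ∣ Nat.card N)
    {θ : N → ℂ} (hθ : IsIrrCharacter N θ)
    (hinv : ∀ (g : X) (n : N), θ ⟨g * n * g⁻¹, hN.conj_mem n n.2 g⟩ = θ n) :
    ∃ χ : IrrCharacter X, classInner (fun n : N => (χ : X → ℂ) n) θ ≠ 0 ∧
      ¬ p ∣ charDegree (χ : X → ℂ) := by
  classical
  letI : Fintype X := Fintype.ofFinite X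
  obtain ⟨P⟩ : Nonempty (Sylow p X) := inferInstance
  set H : Subgroup X := N ⊔ (P : Subgroup X) with hH
  letI : Fintype H := Fintype.ofFinite H
  have hNH : N ≤ H := le_sup_left
  have hPH : (P : Subgroup X) ≤ H := le_sup_right
  set N' : Subgroup H := N.subgroupOf H with hN'
  haveI hN'n : N'.Normal := hN.subgroupOf H
  letI : Fintype N' := Fintype.ofFinite N'
  set e : N' ≃* N := Subgroup.subgroupOfEquivOfLe hNH with he
  set θ' : N' → ℂ := fun x => θ (e x) with hθ'
  have hθ'irr : IsIrrCharacter N' θ' := isIrrCharacter_comp_equiv e hθ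
  obtain ⟨d, hd1, hddvd, hdpos⟩ := irr_degree_dvd_card hθ
  -- index of N' is a power of p
  obtain ⟨a, ha⟩ : ∃ a : ℕ, N'.index = p ^ a := by
    have h1 : N'.index = N.relIndex (P : Subgroup X) := by
      show N.relIndex H = _
      rw [hH, Subgroup.relIndex_sup_left]
    have h2 : N.relIndex (P : Subgroup X) ∣ Nat.card (P : Subgroup X) := Subgroup.relIndex_dvd_card _ _
    obtain ⟨k, hk⟩ := P.isPGroup'.exists_card_eq
    rw [hk] at h2
    obtain ⟨a, -, ha⟩ := (Nat.dvd_prime_pow hp.out).mp h2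
    exact ⟨a, by rw [h1, ha]⟩
  have hinv' : ∀ (h : H) (n : N'), θ' ⟨h * n * h⁻¹, hN'n.conj_mem n n.2 h⟩ = θ' n := by
    intro h n
    have h1 := hinv (h : X) (e n)
    simp only [hθ']
    rw [← h1]
    congr 1
  have hθ'1 : θ' 1 = (d : ℂ) := by
    simp only [hθ', map_one]
    exact hd1
  have hpd : ¬ p ∣ detOrder θ' * d := by
    intro hdvd
    rcases (Nat.Prime.dvd_mul hp.out).mp hdvd with h | h
    · have h2 : detOrder θ' ∣ Nat.card N' := Cfsg.Agent.Helper79.Glaub.detOrder_dvd_card hθ'irr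
      rw [Nat.card_congr e.toEquiv] at h2
      exact hpN (h.trans h2)
    · exact hpN (h.trans hddvd)
  obtain ⟨η, ⟨hηirr, hηres, -⟩, -⟩ :=
    exists_canonical_extension_pgroup N' hN'n hθ'irr hinv' p hp.out a ha d hθ'1 hpd
  -- the induced character
  have hΦ : IsCharacter X (indFun H η) := isCharacter_indFun H (IsIrrCharacter.isCharacter hηirr)
  have hη1 : η 1 = (d : ℂ) := by
    have := hηres 1
    simp only [OneMemClass.coe_one] at this
    rw [this, hθ'1]
  have hΦ1 : indFun H η 1 = ((H.index * d : ℕ) : ℂ) := by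
    rw [indFun_one, hη1]; push_cast; ring
  have hidx : ¬ p ∣ H.index * d := by
    intro hdvd
    rcases (Nat.Prime.dvd_mul hp.out).mp hdvd with h | h
    · exact P.not_dvd_index (h.trans (Subgroup.index_dvd_of_le hPH))
    · exact hpN (h.trans hddvd)
  obtain ⟨χ, hχne, hχdeg⟩ := exists_constituent_not_dvd_degree hΦ p _ hΦ1 hidx
  refine ⟨χ, ?_, hχdeg⟩
  -- χ lies over η, hence over θ
  have hχcf := isClassFunction_of_isCharacter (IsIrrCharacter.isCharacter χ.2)
  obtain ⟨k, hk⟩ := classInner_restrict_ge N H hNH hθ hηirr χ.2 hχne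
  rw [hk]
  have h1 : classInner (resTo hNH η) θ = 1 := by
    have h2 : resTo hNH η = fun n : N => θ n := by
      funext n
      have h3 := hηres (e.symm n)
      simp only [hθ', MulEquiv.apply_symm_apply] at h3
      rw [← h3]
      rfl
    rw [h2, irr_orthonormal hθ hθ, if_pos rfl]
  rw [h1]
  have : (1 : ℂ) + (k : ℂ) = ((1 + k : ℕ) : ℂ) := by push_cast; ring
  rw [this]
  have h5 : 1 + k ≠ 0 := by omega
  exact_mod_cast h5

section fong

variable {G : Type u} [Group G] [Fintype G] {p : ℕ} {M : Ideal AlgInt}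

/-- a block containing a character of degree prime to `p` has the Sylow `p`-subgroups as defect
groups (copy of `Helper38.sylow_isDefectGroup`, to avoid its imports) -/
theorem isDefectGroup_sylow_of_not_dvd_degree [hp : Fact p.Prime]
    (hM : IsPModular p M) {B : Set (IrrCharacter G)} (hB : IsPBlock M B)
    (χ : IrrCharacter G) (hχ : χ ∈ B) (hdeg : ¬ p ∣ charDegree (χ : G → ℂ)) (P : Sylow p G) :
    IsDefectGroup p M B (P : Subgroup G) := by
  have := Cfsg.Agent.Helper77.isPrime_of_isPModular hM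
  obtain ⟨D, hD⟩ := Cfsg.Agent.Helper77.exists_isDefectGroup (M := M) p hB
  have hcard := Cfsg.Agent.Helper74.DO.card_defectGroup hM hB D hD
  have hinf : sInf ((fun χ : IrrCharacter G => (charDegree (χ : G → ℂ)).factorization p) '' B) = 0 := by
    have hmem : 0 ∈ (fun χ : IrrCharacter G => (charDegree (χ : G → ℂ)).factorization p) '' B :=
      ⟨χ, hχ, Nat.factorization_eq_zero_of_not_dvd hdeg⟩
    exact Nat.le_zero.mp (Nat.sInf_le hmem)
  have hdef : blockDefect p B = (Nat.card G).factorization p := by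
    unfold blockDefect
    rw [hinf, Nat.sub_zero]
  rw [hdef] at hcard
  let D' : Sylow p G := Sylow.ofCard D hcard
  obtain ⟨g, hg⟩ := MulAction.exists_smul_eq G D' P
  have h1 := Cfsg.Agent.Helper77.isDefectGroup_conj hD g
  have h2 : D.map (MulAut.conj g).toMonoidHom = (P : Subgroup G) := by
    rw [← hg]
    rfl
  rw [← h2]
  exact h1

/-- the central character on the extension by zero of `n ↦ θ n⁻¹` -/
theorem omega_extInv (N : Subgroup G) [Fintype N] (χ : G → ℂ) (θ : IrrCharacter N) :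
    Cfsg.Agent.Helper77.omega χ (Cfsg.Agent.Helper77.extInv N (θ : N → ℂ)) =
      (Nat.card N : ℂ) * classInner (fun n : N => χ n) (θ : N → ℂ) / χ 1 := by
  classical
  unfold Cfsg.Agent.Helper77.omega
  congr 1
  rw [← Cfsg.Agent.Helper77.sum_subgroup_eq N
    (fun g => Cfsg.Agent.Helper77.extInv N (θ : N → ℂ) g * χ g)
    (fun x hx => by
      show Cfsg.Agent.Helper77.extInv N (θ : N → ℂ) x * χ x = 0
      rw [Cfsg.Agent.Helper77.extInv_of_notMem N _ hx, zero_mul])]
  unfold classInner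
  have hN : (Nat.card N : ℂ) ≠ 0 := by
    have : 0 < Nat.card N := Nat.card_pos
    exact_mod_cast this.ne'
  rw [← mul_assoc, mul_inv_cancel₀ hN, one_mul]
  refine Finset.sum_congr rfl fun n _ => ?_
  rw [Cfsg.Agent.Helper77.extInv_of_mem, Cfsg.Agent.Helper79.irr_inv]
  ring

/-- Characters in the same block as a character over the invariant character `θ` of the normal
`p'`-subgroup `N` lie over `θ`. -/
theorem over_of_sameBlock [hp : Fact p.Prime] (hM : IsPModular p M) (N : Subgroup G)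
    [hN : N.Normal] [Fintype N] (hpN : ¬ p ∣ Nat.card N) (θ : IrrCharacter N)
    (hinv : ∀ (g : G) (n : N), (θ : N → ℂ) ⟨g * n * g⁻¹, hN.conj_mem n n.2 g⟩ = (θ : N → ℂ) n)
    (χ₀ χ : IrrCharacter G)
    (h0 : classInner (fun n : N => (χ₀ : G → ℂ) n) (θ : N → ℂ) ≠ 0)
    (hs : SameBlock M (χ₀ : G → ℂ) (χ : G → ℂ)) :
    classInner (fun n : N => (χ : G → ℂ) n) (θ : N → ℂ) ≠ 0 := by
  classical
  haveI hpr := Cfsg.Agent.Helper77.isPrime_of_isPModular hM
  intro hcon
  set E := Cfsg.Agent.Helper77.extInv N (θ : N → ℂ) with hE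
  have hEcl : IsClassFunction G E := by
    intro g h
    by_cases hg : g ∈ N
    · have hg' : h * g * h⁻¹ ∈ N := hN.conj_mem g hg h
      have e1 : E (h * g * h⁻¹) = (θ : N → ℂ) (⟨h * g * h⁻¹, hg'⟩ : N)⁻¹ :=
        Cfsg.Agent.Helper77.extInv_of_mem N _ ⟨h * g * h⁻¹, hg'⟩
      have e2 : E g = (θ : N → ℂ) (⟨g, hg⟩ : N)⁻¹ :=
        Cfsg.Agent.Helper77.extInv_of_mem N _ ⟨g, hg⟩
      rw [e1, e2]
      have h3 := hinv h (⟨g, hg⟩ : N)⁻¹
      rw [← h3]
      exact congrArg (θ : N → ℂ) (Subtype.ext (by simp [mul_assoc]))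
    · have hg' : h * g * h⁻¹ ∉ N := by
        intro h1
        apply hg
        have := hN.conj_mem _ h1 h⁻¹
        simpa [mul_assoc] using this
      rw [hE, Cfsg.Agent.Helper77.extInv_of_notMem N _ hg,
        Cfsg.Agent.Helper77.extInv_of_notMem N _ hg']
  have hER : ∀ g, MemLocalRing M (E g) := by
    intro g
    by_cases hg : g ∈ N
    · have e2 : E g = (θ : N → ℂ) (⟨g, hg⟩ : N)⁻¹ :=
        Cfsg.Agent.Helper77.extInv_of_mem N _ ⟨g, hg⟩
      rw [e2]
      have hint : IsIntegral ℤ ((θ : N → ℂ) (⟨g, hg⟩ : N)⁻¹) :=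
        Cfsg.Agent.Helper79.irr_isIntegral θ _
      exact Cfsg.Agent.Helper77.memLocalRing_algInt hpr.ne_top ⟨_, hint⟩
    · rw [hE, Cfsg.Agent.Helper77.extInv_of_notMem N _ hg]
      exact Cfsg.Agent.Helper77.memLocalRing_zero hpr.ne_top
  have h1 := Cfsg.Agent.Helper16.omega_sub_memLocalIdeal hM
    (isClassFunction_of_isCharacter (IsIrrCharacter.isCharacter χ₀.2))
    (isClassFunction_of_isCharacter (IsIrrCharacter.isCharacter χ.2)) hs hEcl hER
  rw [omega_extInv, omega_extInv, hcon, mul_zero, zero_div, sub_zero] at h1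
  -- χ₀ restricted to N is a multiple of θ
  have hinv' : ∀ g : G, conjFun N hN (θ : N → ℂ) g = (θ : N → ℂ) := by
    intro g
    funext n
    rw [conjFun_apply]
    exact hinv g n
  have hres := restrict_eq_smul_of_invariant N hN χ₀.2 θ.2 h0 hinv'
  have hres1 : (χ₀ : G → ℂ) 1 =
      classInner (fun n : N => (χ₀ : G → ℂ) n) (θ : N → ℂ) * (θ : N → ℂ) 1 := by
    have := congrFun hres 1
    simp only [Pi.smul_apply, smul_eq_mul] at this
    exact this
  obtain ⟨d, hd1, hddvd, hdpos⟩ := irr_degree_dvd_card θ.2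
  obtain ⟨c, hc⟩ := hddvd
  have hd0 : (d : ℂ) ≠ 0 := by exact_mod_cast hdpos.ne'
  have h2 : (Nat.card N : ℂ) * classInner (fun n : N => (χ₀ : G → ℂ) n) (θ : N → ℂ) /
      (χ₀ : G → ℂ) 1 = (c : ℂ) := by
    rw [hres1, hd1, hc]
    push_cast
    field_simp
  rw [h2, Cfsg.Agent.Helper77.memLocalIdeal_natCast_iff hM] at h1
  exact hpN (h1.trans ⟨d, by rw [hc]; ring⟩)

end fong

section fong2

variable {G : Type u} [Group G] [Fintype G] {p : ℕ} {M : Ideal AlgInt}

/-- If a block has a Sylow `p`-subgroup as defect group and the centralizers of Sylow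
`p`-subgroups lie in `K`, the central characters of the block vanish mod `M` off `K`. -/
theorem memLocalIdeal_centralChar_of_sylow_defect [hp : Fact p.Prime] (hM : IsPModular p M)
    (K : Subgroup G)
    (hcent : ∀ P : Sylow p G, Subgroup.centralizer ((P : Subgroup G) : Set G) ≤ K)
    {B : Set (IrrCharacter G)} (hB : IsPBlock M B) (P : Sylow p G)
    (hP : IsDefectGroup p M B (P : Subgroup G)) (χ : IrrCharacter G) (hχ : χ ∈ B)
    (g : G) (hg : g ∉ K) : MemLocalIdeal M (centralChar (χ : G → ℂ) g) := by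
  classical
  by_contra h
  obtain ⟨D⟩ : Nonempty (Sylow p (Subgroup.centralizer ({g} : Set G))) := inferInstance
  have hdle := Cfsg.Agent.Helper77.defectLE_blockCoeff hM hB g D hχ h
  obtain ⟨g0, ⟨-, hg0, -⟩, P', hP'⟩ := hP
  have hPle : (P : Subgroup G) ≤ Subgroup.centralizer ({g0} : Set G) := by
    rw [hP']
    rintro _ ⟨x, _, rfl⟩
    exact x.2
  obtain ⟨x, hx⟩ := hdle g0 hg0 (P : Subgroup G) P.isPGroup' hPle
  apply hg
  apply hcent (x • P)
  rw [Subgroup.mem_centralizer_iff]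
  intro y hy
  have hy' : y ∈ ((P : Subgroup G).map (MulAut.conj x).toMonoidHom) := by
    rw [Sylow.coe_subgroup_smul] at hy
    exact hy
  have h1 := hx hy'
  obtain ⟨z, _, rfl⟩ := h1
  have hz : (z : G) ∈ Subgroup.centralizer ({g} : Set G) := z.2
  rw [Subgroup.mem_centralizer_iff] at hz
  exact (hz g (Set.mem_singleton g)).symm

/-- **The `p'`-index step.** -/
theorem sameBlock_of_pprime_index [hp : Fact p.Prime] (hM : IsPModular p M)
    (K : Subgroup G) [hK : K.Normal] [Fintype K] (hidx : ¬ p ∣ K.index)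
    (hcent : ∀ P : Sylow p G, Subgroup.centralizer ((P : Subgroup G) : Set G) ≤ K)
    (ξ₀ : IrrCharacter K) (hξ₀ : ¬ p ∣ charDegree (ξ₀ : K → ℂ))
    (χ χ' : IrrCharacter G) (ξ ξ' : IrrCharacter K)
    (hcon : classInner (fun k : K => (χ : G → ℂ) k) (ξ : K → ℂ) ≠ 0)
    (hcon' : classInner (fun k : K => (χ' : G → ℂ) k) (ξ' : K → ℂ) ≠ 0)
    (hs : SameBlock M (ξ₀ : K → ℂ) (ξ : K → ℂ)) (hs' : SameBlock M (ξ₀ : K → ℂ) (ξ' : K → ℂ)) :
    SameBlock M (χ : G → ℂ) (χ' : G → ℂ) := by
  classical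
  haveI hpr := Cfsg.Agent.Helper77.isPrime_of_isPModular hM
  obtain ⟨P⟩ : Nonempty (Sylow p G) := inferInstance
  -- every block over the block of ξ₀ has Sylow defect groups
  have key : ∀ (ψ : IrrCharacter G) (ζ : IrrCharacter K),
      classInner (fun k : K => (ψ : G → ℂ) k) (ζ : K → ℂ) ≠ 0 →
      SameBlock M (ξ₀ : K → ℂ) (ζ : K → ℂ) →
      IsDefectGroup p M (blockOf M (ψ : G → ℂ)) (P : Subgroup G) := by
    intro ψ ζ hψζ hsζ
    have hB := Cfsg.Agent.Helper77.isPBlock_blockOf (M := M) ψ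
    have hb := Cfsg.Agent.Helper77.isPBlock_blockOf (M := M) ξ₀
    obtain ⟨χ1, hχ1, hχ1ne⟩ := Cfsg.Agent.Helper78.exists_over_of_covers K hM hB hb ψ
      (Cfsg.Agent.Helper77.mem_blockOf_self ψ) ζ hsζ hψζ ξ₀ (Cfsg.Agent.Helper77.mem_blockOf_self ξ₀)
    obtain ⟨e, he1, hedvd⟩ := Cfsg.Agent.Helper79.degree_ratio_dvd_index K χ1.2 ξ₀.2 hχ1ne
    have hdeg : charDegree (χ1 : G → ℂ) = e * charDegree (ξ₀ : K → ℂ) := by
      obtain ⟨hd1, _⟩ := Cfsg.Agent.Helper78.irr_charDegree χ1.2
      obtain ⟨hd2, _⟩ := Cfsg.Agent.Helper78.irr_charDegree ξ₀.2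
      have : (charDegree (χ1 : G → ℂ) : ℂ) = ((e * charDegree (ξ₀ : K → ℂ) : ℕ) : ℂ) := by
        rw [← hd1, he1, hd2]; push_cast; ring
      exact_mod_cast this
    have hnd : ¬ p ∣ charDegree (χ1 : G → ℂ) := by
      rw [hdeg]
      intro hdvd
      rcases (Nat.Prime.dvd_mul hp.out).mp hdvd with h | h
      · exact hidx (h.trans hedvd)
      · exact hξ₀ h
    exact isDefectGroup_sylow_of_not_dvd_degree hM hB χ1 hχ1 hnd P
  have hD := key χ ξ hcon hs
  have hD' := key χ' ξ' hcon' hs'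
  intro g
  by_cases hg : g ∈ K
  · -- inside K
    have hsupp : ∀ x, x ∉ K → Cfsg.Agent.Helper77.classInd g x = 0 := by
      intro x hx
      unfold Cfsg.Agent.Helper77.classInd
      rw [if_neg]
      intro hconj
      apply hx
      obtain ⟨c, hc⟩ := isConj_iff.mp hconj
      rw [← hc]
      exact hK.conj_mem g hg c
    have hcl := Cfsg.Agent.Helper77.isClassFunction_classInd g
    have h1 := Cfsg.Agent.Helper16.omega_eq_omega_of_constituent K χ ξ hcon hcl hsupp
    have h2 := Cfsg.Agent.Helper16.omega_eq_omega_of_constituent K χ' ξ' hcon' hcl hsupp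
    rw [Cfsg.Agent.Helper77.omega_classInd_of_irr χ.2] at h1
    rw [Cfsg.Agent.Helper77.omega_classInd_of_irr χ'.2] at h2
    rw [h1, h2]
    have hss : SameBlock M (ξ : K → ℂ) (ξ' : K → ℂ) :=
      Cfsg.Agent.Helper77.sameBlock_trans (Cfsg.Agent.Helper77.sameBlock_symm hs) hs'
    refine Cfsg.Agent.Helper16.omega_sub_memLocalIdeal hM
      (isClassFunction_of_isCharacter (IsIrrCharacter.isCharacter ξ.2))
      (isClassFunction_of_isCharacter (IsIrrCharacter.isCharacter ξ'.2)) hss ?_ ?_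
    · intro a b
      exact hcl (a : G) (b : G)
    · intro a
      exact Cfsg.Agent.Helper77.isRValued_classInd g (a : G)
  · have h1 := memLocalIdeal_centralChar_of_sylow_defect hM K hcent
      (Cfsg.Agent.Helper77.isPBlock_blockOf χ) P hD χ (Cfsg.Agent.Helper77.mem_blockOf_self χ) g hg
    have h2 := memLocalIdeal_centralChar_of_sylow_defect hM K hcent
      (Cfsg.Agent.Helper77.isPBlock_blockOf χ') P hD' χ' (Cfsg.Agent.Helper77.mem_blockOf_self χ') g hg
    exact Cfsg.Agent.Helper77.memLocalIdeal_sub h1 h2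

end fong2

section grpfacts

variable {G : Type u} [Group G] [Finite G]

/-- `O_{p'}` of a normal subgroup containing `O_{p'}(G)`. -/
theorem pPrimeCore_subgroup_eq (p : ℕ) [Fact p.Prime] (K : Subgroup G) [K.Normal]
    (hNK : pPrimeCore p G ≤ K) : pPrimeCore p K = (pPrimeCore p G).subgroupOf K := by
  haveI : (pPrimeCore p G).Normal := (Cfsg.Agent.Helper55.pPrimeCore_mem p).1
  apply le_antisymm
  · intro x hx
    rw [Subgroup.mem_subgroupOf]
    exact Cfsg.Agent.Helper55.pPrimeCore_map_le p K (Subgroup.mem_map_of_mem _ hx)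
  · apply Cfsg.Agent.Helper55.le_pPrimeCore (Subgroup.Normal.subgroupOf inferInstance K)
    rw [Nat.card_congr (Subgroup.subgroupOfEquivOfLe hNK).toEquiv]
    exact Cfsg.Agent.Helper55.pPrimeCore_coprime p

/-- `O_{p',p}(G)` lies in every normal subgroup of index prime to `p` containing `O_{p'}(G)`. -/
theorem pPrimePCore_le_of_index (p : ℕ) [hp : Fact p.Prime] (K : Subgroup G) [hK : K.Normal]
    (hNK : pPrimeCore p G ≤ K) (hidx : ¬ p ∣ K.index) : pPrimePCore p G ≤ K := by
  haveI : (pPrimeCore p G).Normal := (Cfsg.Agent.Helper55.pPrimeCore_mem p).1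
  intro x hx
  unfold pPrimePCore at hx
  rw [Subgroup.mem_comap] at hx
  obtain ⟨k, hk⟩ := (Cfsg.Agent.Helper55.isPGroup_pCore (p := p) (G := G ⧸ pPrimeCore p G)) ⟨_, hx⟩
  have h1 : x ^ p ^ k ∈ pPrimeCore p G := by
    have h0 := congrArg Subtype.val hk
    rw [Subgroup.coe_pow] at h0
    simp only [QuotientGroup.mk'_apply, Subgroup.coe_one] at h0
    rw [← QuotientGroup.mk_pow, QuotientGroup.eq_one_iff] at h0
    exact h0
  have h2 : x ^ p ^ k ∈ K := hNK h1
  rw [← QuotientGroup.eq_one_iff]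
  have h3 : (QuotientGroup.mk x : G ⧸ K) ^ p ^ k = 1 := by
    rw [← QuotientGroup.mk_pow]; exact (QuotientGroup.eq_one_iff _).mpr h2
  have h4 : (QuotientGroup.mk x : G ⧸ K) ^ K.index = 1 := by
    rw [Subgroup.index_eq_card]; exact pow_card_eq_one'
  have hcop : Nat.Coprime (p ^ k) K.index :=
    Nat.Coprime.pow_left k ((Nat.Prime.coprime_iff_not_dvd hp.out).mpr hidx)
  exact orderOf_eq_one_iff.mp (Nat.eq_one_of_dvd_coprimes hcop
    (orderOf_dvd_of_pow_eq_one h3) (orderOf_dvd_of_pow_eq_one h4))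

/-- In a `p`-solvable group, the centralizer of a Sylow `p`-subgroup lies in every normal subgroup
of index prime to `p` containing `O_{p'}(G)`. -/
theorem centralizer_sylow_le_of_index (p : ℕ) [hp : Fact p.Prime] (hG : IsPSolvable p G)
    (K : Subgroup G) [hK : K.Normal] (hNK : pPrimeCore p G ≤ K) (hidx : ¬ p ∣ K.index)
    (P : Sylow p G) : Subgroup.centralizer ((P : Subgroup G) : Set G) ≤ K := by
  have hcon := Cfsg.Agent.S1902.isPConstrained_of_isPSolvable hG
  have hL := pPrimePCore_le_of_index p K hNK hidx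
  obtain ⟨Q0⟩ : Nonempty (Sylow p ↥(pPrimePCore p G)) := inferInstance
  have hQ0 := hcon Q0
  set Q : Subgroup G := (Q0 : Subgroup _).map (pPrimePCore p G).subtype with hQ
  have hQp : IsPGroup p Q := Q0.isPGroup'.map _
  obtain ⟨P0, hQP0⟩ := hQp.exists_le_sylow
  obtain ⟨y, hy⟩ := MulAction.exists_smul_eq G P0 P
  intro z hz
  have h1 : y⁻¹ * z * y ∈ Subgroup.centralizer ((P0 : Subgroup G) : Set G) := by
    rw [Subgroup.mem_centralizer_iff]
    intro w hw
    have hw' : y * w * y⁻¹ ∈ (P : Subgroup G) := by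
      rw [← hy, Sylow.coe_subgroup_smul, Subgroup.mem_pointwise_smul_iff_inv_smul_mem]
      have : (MulAut.conj y)⁻¹ • (y * w * y⁻¹) = w := by
        rw [← map_inv, MulAut.smul_def, MulAut.conj_apply]; group
      rw [this]; exact hw
    have h2 := (Subgroup.mem_centralizer_iff.mp hz) _ hw'
    calc w * (y⁻¹ * z * y) = y⁻¹ * ((y * w * y⁻¹) * z) * y := by group
      _ = y⁻¹ * (z * (y * w * y⁻¹)) * y := by rw [h2]
      _ = y⁻¹ * z * y * w := by group
  have h3 : y⁻¹ * z * y ∈ Subgroup.centralizer (Q : Set G) :=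
    Subgroup.centralizer_le hQP0 h1
  have h4 : y⁻¹ * z * y ∈ K := hL (hQ0 h3)
  have := hK.conj_mem _ h4 y
  simpa [mul_assoc] using this

end grpfacts

section cliffordfacts

variable {G : Type u} [Group G] [Fintype G]

/-- If `χ` lies over the invariant irreducible character `θ` of `N ⊴ G` and `N ≤ K`, every
irreducible constituent of `χ` restricted to `K` lies over `θ`. -/
theorem over_of_constituent_of_invariant (N K : Subgroup G) [Fintype N] [Fintype K]
    (hN : N.Normal) (hNK : N ≤ K) {θ : N → ℂ} (hθ : IsIrrCharacter N θ)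
    (hinv : ∀ g : G, conjFun N hN θ g = θ) {χ : G → ℂ} (hχ : IsIrrCharacter G χ)
    (hχθ : classInner (fun n : N => χ n) θ ≠ 0) {ξ : K → ℂ} (hξ : IsIrrCharacter K ξ)
    (hχξ : classInner (fun k : K => χ k) ξ ≠ 0) :
    classInner (resTo hNK ξ) θ ≠ 0 := by
  classical
  have hξc := IsIrrCharacter.isCharacter hξ
  have hres : IsCharacter N (resTo hNK ξ) := isCharacter_resTo hNK hξc
  have hres0 : resTo hNK ξ ≠ 0 := by
    intro h0
    have h1 := congrFun h0 1
    obtain ⟨hd1, hdpos⟩ := Cfsg.Agent.Helper78.irr_charDegree hξ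
    have h2 : resTo hNK ξ 1 = ξ 1 := rfl
    rw [h2, hd1] at h1
    simp only [Pi.zero_apply] at h1
    have : (charDegree ξ : ℂ) ≠ 0 := by exact_mod_cast hdpos.ne'
    exact this h1
  obtain ⟨φ, hφ, hφne⟩ := exists_irr_constituent hres hres0
  have hχcf := isClassFunction_of_isCharacter (IsIrrCharacter.isCharacter hχ)
  have hc : classInner (indFun K ξ) χ ≠ 0 := by
    rw [frobenius_reciprocity K ξ hχcf, classInner_conj_symm]
    intro h
    apply hχξ
    simpa using h
  obtain ⟨k, hk⟩ := classInner_restrict_ge N K hNK hφ hξ hχ hc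
  obtain ⟨m, hm⟩ := exists_nat_classInner_char hres (IsIrrCharacter.isCharacter hφ)
  have hm0 : m ≠ 0 := by
    intro h; rw [h] at hm; exact hφne (by simpa using hm)
  have h1 : classInner (fun n : N => χ n) φ ≠ 0 := by
    rw [hk, hm]
    have : ((m : ℂ) + (k : ℂ)) = ((m + k : ℕ) : ℂ) := by push_cast; ring
    rw [this]
    have h5 : m + k ≠ 0 := by omega
    exact_mod_cast h5
  have hsm := restrict_eq_smul_of_invariant N hN hχ hθ hχθ hinv
  rw [hsm, Cfsg.Agent.Helper81.classInner_smul_left] at h1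
  have h2 : classInner θ φ ≠ 0 := fun h => h1 (by rw [h, mul_zero])
  rw [irr_orthonormal hθ hφ] at h2
  have h3 : θ = φ := by
    by_contra h; exact h2 (if_neg h)
  rw [h3]; exact hφne

end cliffordfacts

/-- **Fong.** In a `p`-solvable group, any two irreducible characters over the same invariant
irreducible character of `O_{p'}(G)` lie in the same `p`-block. -/
theorem sameBlock_of_over_invariant (p : ℕ) [hp : Fact p.Prime] (M : Ideal AlgInt)
    (hM : IsPModular p M) :
    ∀ n : ℕ, ∀ (G : Type u) [Group G] [Finite G], Nat.card G = n → IsPSolvable p G →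
      ∀ (N : Subgroup G) (hN : N.Normal) [Fintype N], N = pPrimeCore p G →
      ∀ θ : IrrCharacter N,
        (∀ (g : G) (n : N), (θ : N → ℂ) ⟨g * n * g⁻¹, hN.conj_mem n n.2 g⟩ = (θ : N → ℂ) n) →
      ∀ χ χ' : IrrCharacter G,
        classInner (fun n : N => (χ : G → ℂ) n) (θ : N → ℂ) ≠ 0 →
        classInner (fun n : N => (χ' : G → ℂ) n) (θ : N → ℂ) ≠ 0 →
        SameBlock M (χ : G → ℂ) (χ' : G → ℂ) := by
  intro n
  induction n using Nat.strong_induction_on with
  | _ n ih =>
  intro G _ _ hcard hG N hN _ hNdef θ hinv χ χ' hχ hχ'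
  classical
  letI : Fintype G := Fintype.ofFinite G
  haveI hpr := Cfsg.Agent.Helper77.isPrime_of_isPModular hM
  have hinv' : ∀ g : G, conjFun N hN (θ : N → ℂ) g = (θ : N → ℂ) := by
    intro g; funext m; rw [conjFun_apply]; exact hinv g m
  by_cases hNtop : N = ⊤
  · -- `G = N` is a `p'`-group
    have key : ∀ ψ : IrrCharacter G,
        classInner (fun n : N => (ψ : G → ℂ) n) (θ : N → ℂ) ≠ 0 →
        ∀ g : G, (ψ : G → ℂ) g = (θ : N → ℂ) ⟨g, hNtop ▸ Subgroup.mem_top g⟩ := by
      intro ψ hψ g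
      have hirr : IsIrrCharacter N (fun n : N => (ψ : G → ℂ) n) := by
        let e : N ≃* G := (MulEquiv.subgroupCongr hNtop).trans Subgroup.topEquiv
        exact isIrrCharacter_comp_equiv e ψ.2
      rw [irr_orthonormal hirr θ.2] at hψ
      have h1 : (fun n : N => (ψ : G → ℂ) n) = (θ : N → ℂ) := by
        by_contra h; exact hψ (if_neg h)
      exact congrFun h1 ⟨g, hNtop ▸ Subgroup.mem_top g⟩
    have heq : (χ : G → ℂ) = (χ' : G → ℂ) := by
      funext g
      rw [key χ hχ g, key χ' hχ' g]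
    rw [heq]
    exact Cfsg.Agent.Helper77.sameBlock_refl _
  · -- a maximal proper normal subgroup containing `N`
    set S : Set (Subgroup G) := {K | K.Normal ∧ N ≤ K ∧ K ≠ ⊤} with hS
    have hSne : S.Nonempty := ⟨N, hN, le_refl N, hNtop⟩
    obtain ⟨K, ⟨hKn, hNK, hKtop⟩, hKmax⟩ := wellFounded_gt.has_min S hSne
    haveI := hKn
    obtain ⟨L, hLn, hKL, -, hLcase⟩ :=
      Cfsg.Agent.Helper76.IsPSolvable.exists_step hG K ⊤ (lt_top_iff_ne_top.mpr hKtop)
    have hLtop : L = ⊤ := by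
      by_contra h
      exact hKmax L ⟨hLn, hNK.trans hKL.le, h⟩ hKL
    rw [hLtop, Subgroup.relIndex_top_right] at hLcase
    letI : Fintype K := Fintype.ofFinite K
    have hcardK : Nat.card K < n := by
      rw [← hcard]
      by_contra h
      exact hKtop (Subgroup.eq_top_of_le_card K (not_lt.mp h))
    set N' : Subgroup K := N.subgroupOf K with hN'
    haveI hN'n : N'.Normal := hN.subgroupOf K
    letI : Fintype N' := Fintype.ofFinite N'
    set e : N' ≃* N := Subgroup.subgroupOfEquivOfLe hNK with he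
    set θ' : IrrCharacter N' :=
      ⟨fun x => (θ : N → ℂ) (e x), isIrrCharacter_comp_equiv e θ.2⟩ with hθ'
    have hNK' : pPrimeCore p G ≤ K := hNdef ▸ hNK
    have hN'def : N' = pPrimeCore p K := by
      rw [hN', pPrimeCore_subgroup_eq p K hNK', ← hNdef]
    have hinvK : ∀ (k : K) (m : N'),
        (θ' : N' → ℂ) ⟨k * m * k⁻¹, hN'n.conj_mem m m.2 k⟩ = (θ' : N' → ℂ) m := by
      intro k m
      have h1 := hinv (k : G) (e m)
      simp only [hθ']
      rw [← h1]
      exact congrArg (θ : N → ℂ) (Subtype.ext rfl)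
    have hKsolv := Cfsg.Agent.Helper69.IsPSolvable.subgroup' hG K
    have IH : ∀ ξ ξ' : IrrCharacter K,
        classInner (fun m : N' => (ξ : K → ℂ) m) (θ' : N' → ℂ) ≠ 0 →
        classInner (fun m : N' => (ξ' : K → ℂ) m) (θ' : N' → ℂ) ≠ 0 →
        SameBlock M (ξ : K → ℂ) (ξ' : K → ℂ) :=
      fun ξ ξ' h1 h2 => ih _ hcardK K rfl hKsolv N' hN'n hN'def θ' hinvK ξ ξ' h1 h2
    have hconst : ∀ ψ : IrrCharacter G,
        classInner (fun n : N => (ψ : G → ℂ) n) (θ : N → ℂ) ≠ 0 →
        ∃ ξ : IrrCharacter K, classInner (fun k : K => (ψ : G → ℂ) k) (ξ : K → ℂ) ≠ 0 ∧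
          classInner (fun m : N' => (ξ : K → ℂ) m) (θ' : N' → ℂ) ≠ 0 := by
      intro ψ hψ
      have hresc : IsCharacter K (fun k : K => (ψ : G → ℂ) k) :=
        isCharacter_restrict K (IsIrrCharacter.isCharacter ψ.2)
      have hres0 : (fun k : K => (ψ : G → ℂ) k) ≠ 0 := by
        intro h0
        have h1 := congrFun h0 1
        obtain ⟨hd1, hdpos⟩ := Cfsg.Agent.Helper78.irr_charDegree ψ.2
        simp only [OneMemClass.coe_one, Pi.zero_apply] at h1
        rw [hd1] at h1
        have : (charDegree (ψ : G → ℂ) : ℂ) ≠ 0 := by exact_mod_cast hdpos.ne'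
        exact this h1
      obtain ⟨ξ, hξ, hξne⟩ := exists_irr_constituent hresc hres0
      refine ⟨⟨ξ, hξ⟩, hξne, ?_⟩
      have h1 := over_of_constituent_of_invariant N K hN hNK θ.2 hinv' ψ.2 hψ hξ hξne
      rw [← classInner_comp_equiv e (resTo hNK ξ) (θ : N → ℂ)] at h1
      exact h1
    obtain ⟨ξ, hξ1, hξ2⟩ := hconst χ hχ
    obtain ⟨ξ', hξ'1, hξ'2⟩ := hconst χ' hχ'
    rcases hLcase with ⟨m, hm⟩ | hcop
    · exact Cfsg.Agent.Helper16.sameBlock_of_cover_of_pIndex K hM ⟨m, hm⟩ χ χ' ξ ξ'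
        (IH ξ ξ' hξ2 hξ'2) hξ1 hξ'1
    · have hidx : ¬ p ∣ K.index := fun h =>
        hp.out.one_lt.ne' (Nat.Coprime.eq_one_of_dvd hcop.symm h)
      have hpN' : ¬ p ∣ Nat.card N' := by
        rw [hN'def]
        intro h
        exact hp.out.one_lt.ne'
          (Nat.Coprime.eq_one_of_dvd (Cfsg.Agent.Helper55.pPrimeCore_coprime (G := K) p).symm h)
      obtain ⟨ξ₀, hξ₀1, hξ₀2⟩ := exists_pprime_degree_over p N' hpN' θ'.2 hinvK
      have hcent := fun P => centralizer_sylow_le_of_index p hG K hNK' hidx P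
      exact sameBlock_of_pprime_index hM K hidx hcent ξ₀ hξ₀2 χ χ' ξ ξ' hξ1 hξ'1
        (IH ξ₀ ξ hξ₀1 hξ2) (IH ξ₀ ξ' hξ₀1 hξ'2)

end Cfsg.Agent.Helper81
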