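import Mathlib
import Cfsg.Agent.Lib.Helper81.FongInvariant
import Cfsg.Agent.Lib.Helper77.Knorr
import Cfsg.Agent.Lib.Helper77.RelCover
import Cfsg.Agent.Lib.Helper16.Regular

/-!
# Fong's theorem for `p`-constrained sections

`N ⊴ X` a `p'`-subgroup, `φ ∈ Irr(N)` invariant in `X`, `L ⊴ X` with `L/N` a `p`-group and `Q` a
Sylow `p`-subgroup of `L` such that every `p`-regular element of `C_X(Q)` lies in `L`.  Then all
irreducible characters of `X` over `φ` lie in one `p`-block.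
-/

set_option autoImplicit false
set_option linter.style.haveILetI false
set_option linter.unusedSectionVars false
open Cfsg

namespace Cfsg.Agent.Helper81

open scoped ComplexConjugate

universe u

section fongc

variable {X : Type u} [Group X] [Fintype X] {p : ℕ} {M : Ideal AlgInt}

/-- A `p`-regular element of `L` lies in the normal subgroup `N` of `p`-power index in `L`. -/
theorem mem_of_regular_of_relIndex [hp : Fact p.Prime] (N L : Subgroup X) [hN : N.Normal]
    (hidx : ∃ k : ℕ, N.relIndex L = p ^ k) {g : X} (hgL : g ∈ L) (hg : ¬ p ∣ orderOf g) :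
    g ∈ N := by
  obtain ⟨k, hk⟩ := hidx
  haveI : (N.subgroupOf L).Normal := hN.subgroupOf L
  have hidx' : (N.subgroupOf L).index = p ^ k := hk
  have hmem : (⟨g, hgL⟩ : L) ∈ N.subgroupOf L := by
    rw [← QuotientGroup.eq_one_iff]
    have h1 : (QuotientGroup.mk (⟨g, hgL⟩ : L) : L ⧸ N.subgroupOf L) ^ orderOf g = 1 := by
      rw [← QuotientGroup.mk_pow]
      have : (⟨g, hgL⟩ : L) ^ orderOf g = 1 := by
        apply Subtype.ext
        simp [pow_orderOf_eq_one]
      rw [this, QuotientGroup.mk_one]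
    have h2 : (QuotientGroup.mk (⟨g, hgL⟩ : L) : L ⧸ N.subgroupOf L) ^ (p ^ k) = 1 := by
      rw [← hidx', Subgroup.index_eq_card]; exact pow_card_eq_one'
    have h3 := orderOf_dvd_of_pow_eq_one h1
    have h4 := orderOf_dvd_of_pow_eq_one h2
    have hcop : Nat.Coprime (orderOf g) (p ^ k) :=
      Nat.Coprime.pow_right k ((Nat.Prime.coprime_iff_not_dvd hp.out).mpr hg).symm
    exact orderOf_eq_one_iff.mp (Nat.eq_one_of_dvd_coprimes hcop h3 h4)
  exact Subgroup.mem_subgroupOf.mp hmem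

/-- The restriction of an irreducible character to a subgroup is a nonzero character. -/
theorem restrict_irr_ne_zero (L : Subgroup X) (ψ : IrrCharacter X) :
    (fun k : L => (ψ : X → ℂ) k) ≠ 0 := by
  intro h0
  have h1 := congrFun h0 1
  obtain ⟨hd1, hdpos⟩ := Cfsg.Agent.Helper78.irr_charDegree ψ.2
  simp only [OneMemClass.coe_one, Pi.zero_apply] at h1
  rw [hd1] at h1
  have : (charDegree (ψ : X → ℂ) : ℂ) ≠ 0 := by exact_mod_cast hdpos.ne'
  exact this h1

/-- **Vanishing of central characters off `L`** in the constrained situation. -/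
theorem memLocalIdeal_centralChar_of_constrained [hp : Fact p.Prime] (hM : IsPModular p M)
    (N : Subgroup X) [hN : N.Normal] [Fintype N] (hpN : ¬ p ∣ Nat.card N)
    (L : Subgroup X) [hL : L.Normal] [Fintype L] (hNL : N ≤ L)
    (hidx : ∃ k : ℕ, N.relIndex L = p ^ k)
    (Q : Subgroup X) (hQL : Q ≤ L) (hQp : IsPGroup p Q) (hQS : ¬ p ∣ Q.relIndex L)
    (hreg : ∀ x : X, ¬ p ∣ orderOf x → x ∈ Subgroup.centralizer (Q : Set X) → x ∈ L)
    (φ : IrrCharacter N)
    (hinv : ∀ (g : X) (n : N),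
      (φ : N → ℂ) ⟨g * n * g⁻¹, hN.conj_mem n n.2 g⟩ = (φ : N → ℂ) n)
    (ψ : IrrCharacter X)
    (hψ : classInner (fun n : N => (ψ : X → ℂ) n) (φ : N → ℂ) ≠ 0)
    (g : X) (hg : ¬ p ∣ orderOf g) (hgL : g ∉ L) :
    MemLocalIdeal M (centralChar (ψ : X → ℂ) g) := by
  classical
  haveI hpr := Cfsg.Agent.Helper77.isPrime_of_isPModular hM
  by_contra h
  have hinv' : ∀ g : X, conjFun N hN (φ : N → ℂ) g = (φ : N → ℂ) := by
    intro g; funext m; rw [conjFun_apply]; exact hinv g m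
  have hLN : L ≤ Subgroup.normalizer (N : Set X) := by
    rw [Subgroup.normalizer_eq_top]; exact le_top
  -- a constituent `ξ` of `ψ` on `L`
  obtain ⟨ξ, hξ, hξne⟩ := exists_irr_constituent
    (isCharacter_restrict L (IsIrrCharacter.isCharacter ψ.2)) (restrict_irr_ne_zero L ψ)
  have hξφ := over_of_constituent_of_invariant N L hN hNL φ.2 hinv' ψ.2 hψ hξ hξne
  -- a character of `L` over `φ` of degree prime to `p`
  obtain ⟨χ₁, hχ₁1, hχ₁2⟩ := exists_pprime_degree_over p N hpN φ.2 hinv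
  obtain ⟨ξ₁, hξ₁, hξ₁ne⟩ := exists_irr_constituent
    (isCharacter_restrict L (IsIrrCharacter.isCharacter χ₁.2)) (restrict_irr_ne_zero L χ₁)
  have hξ₁φ := over_of_constituent_of_invariant N L hN hNL φ.2 hinv' χ₁.2 hχ₁1 hξ₁ hξ₁ne
  obtain ⟨e, he1, -⟩ := Cfsg.Agent.Helper79.degree_ratio_dvd_index L χ₁.2 hξ₁ hξ₁ne
  have hξ₁deg : ¬ p ∣ charDegree ξ₁ := by
    intro hdvd
    apply hχ₁2
    obtain ⟨hd1, _⟩ := Cfsg.Agent.Helper78.irr_charDegree χ₁.2
    obtain ⟨hd2, _⟩ := Cfsg.Agent.Helper78.irr_charDegree hξ₁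
    have : (charDegree (χ₁ : X → ℂ) : ℂ) = ((e * charDegree ξ₁ : ℕ) : ℂ) := by
      rw [← hd1, he1, hd2]; push_cast; ring
    have h2 : charDegree (χ₁ : X → ℂ) = e * charDegree ξ₁ := by exact_mod_cast this
    rw [h2]
    exact Dvd.dvd.mul_left hdvd e
  -- all characters of `L` over `φ` lie in one block
  have hsame : SameBlock M ξ₁ ξ :=
    Cfsg.Agent.Helper77.sameBlock_of_cover_rel hM hNL hLN hidx ⟨ξ₁, hξ₁⟩ ⟨ξ, hξ⟩ φ φ
      (Cfsg.Agent.Helper77.sameBlock_refl _) hξ₁φ hξφ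
  -- the Sylow subgroup `Q` of `L`
  have hQ'p : IsPGroup p (Q.subgroupOf L) := by
    have := hQp.comap_of_injective L.subtype Subtype.val_injective
    exact this
  have hQ'i : ¬ p ∣ (Q.subgroupOf L).index := hQS
  set P₁ : Sylow p L := hQ'p.toSylow hQ'i with hP₁
  have hb' := Cfsg.Agent.Helper77.isPBlock_blockOf (M := M) (⟨ξ₁, hξ₁⟩ : IrrCharacter L)
  have hdef : IsDefectGroup p M (blockOf M ξ₁) (Q.subgroupOf L) := by
    have := isDefectGroup_sylow_of_not_dvd_degree hM hb' ⟨ξ₁, hξ₁⟩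
      (Cfsg.Agent.Helper77.mem_blockOf_self _) hξ₁deg P₁
    rwa [hP₁, IsPGroup.toSylow_coe] at this
  -- Knörr
  have hB := Cfsg.Agent.Helper77.isPBlock_blockOf (M := M) ψ
  obtain ⟨D, hD, hDL⟩ := Cfsg.Agent.Helper77.exists_isDefectGroup_inf_eq hM L hB hb' ψ
    (Cfsg.Agent.Helper77.mem_blockOf_self ψ) ⟨ξ, hξ⟩ hsame hξne hQL hdef
  have hQD : Q ≤ D := by rw [← hDL]; exact inf_le_left
  -- min-max
  obtain ⟨Dg⟩ : Nonempty (Sylow p (Subgroup.centralizer ({g} : Set X))) := inferInstance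
  have hdle := Cfsg.Agent.Helper77.defectLE_blockCoeff hM hB g Dg
    (Cfsg.Agent.Helper77.mem_blockOf_self ψ) h
  have hDp := Cfsg.Agent.Helper77.isPGroup_of_isDefectGroup hD
  obtain ⟨g0, ⟨-, hg0, -⟩, P', hP'⟩ := hD
  have hDle : D ≤ Subgroup.centralizer ({g0} : Set X) := by
    rw [hP']
    rintro _ ⟨x, _, rfl⟩
    exact x.2
  obtain ⟨x, hx⟩ := hdle g0 hg0 D hDp hDle
  apply hgL
  have hmem : x⁻¹ * g * x ∈ L := by
    apply hreg
    · have : orderOf (x⁻¹ * g * x) = orderOf g := by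
        have := orderOf_injective (MulAut.conj x⁻¹).toMonoidHom (MulAut.conj x⁻¹).injective g
        simpa using this
      rw [this]; exact hg
    · rw [Subgroup.mem_centralizer_iff]
      intro y hy
      have hy' : x * y * x⁻¹ ∈ D.map (MulAut.conj x).toMonoidHom :=
        ⟨y, hQD hy, by simp⟩
      obtain ⟨z, _, hz⟩ := hx hy'
      have hzc : (z : X) ∈ Subgroup.centralizer ({g} : Set X) := z.2
      rw [Subgroup.mem_centralizer_iff] at hzc
      have h3 := hzc g (Set.mem_singleton g)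
      have h4 : (z : X) = x * y * x⁻¹ := hz
      rw [h4] at h3
      -- g * (x y x⁻¹) = (x y x⁻¹) * g
      calc y * (x⁻¹ * g * x) = x⁻¹ * ((x * y * x⁻¹) * g) * x := by group
        _ = x⁻¹ * (g * (x * y * x⁻¹)) * x := by rw [h3]
        _ = x⁻¹ * g * x * y := by group
  have := hL.conj_mem _ hmem x
  simpa [mul_assoc] using this

/-- **Fong's theorem, constrained form**: all irreducible characters over the invariant `φ` lie in
one block. -/
theorem sameBlock_of_over_of_constrained [hp : Fact p.Prime] (hM : IsPModular p M)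
    (N : Subgroup X) [hN : N.Normal] [Fintype N] (hpN : ¬ p ∣ Nat.card N)
    (L : Subgroup X) [hL : L.Normal] [Fintype L] (hNL : N ≤ L)
    (hidx : ∃ k : ℕ, N.relIndex L = p ^ k)
    (Q : Subgroup X) (hQL : Q ≤ L) (hQp : IsPGroup p Q) (hQS : ¬ p ∣ Q.relIndex L)
    (hreg : ∀ x : X, ¬ p ∣ orderOf x → x ∈ Subgroup.centralizer (Q : Set X) → x ∈ L)
    (φ : IrrCharacter N)
    (hinv : ∀ (g : X) (n : N),
      (φ : N → ℂ) ⟨g * n * g⁻¹, hN.conj_mem n n.2 g⟩ = (φ : N → ℂ) n)
    (χ χ' : IrrCharacter X)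
    (hχ : classInner (fun n : N => (χ : X → ℂ) n) (φ : N → ℂ) ≠ 0)
    (hχ' : classInner (fun n : N => (χ' : X → ℂ) n) (φ : N → ℂ) ≠ 0) :
    SameBlock M (χ : X → ℂ) (χ' : X → ℂ) := by
  classical
  haveI hpr := Cfsg.Agent.Helper77.isPrime_of_isPModular hM
  apply Cfsg.Agent.Helper16.sameBlock_of_regular hM χ χ'
  intro g hg
  by_cases hgL : g ∈ L
  · have hgN : g ∈ N := mem_of_regular_of_relIndex N L hidx hgL hg
    have hsupp : ∀ x, x ∉ N → Cfsg.Agent.Helper77.classInd g x = 0 := by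
      intro x hx
      unfold Cfsg.Agent.Helper77.classInd
      rw [if_neg]
      intro hconj
      apply hx
      obtain ⟨c, hc⟩ := isConj_iff.mp hconj
      rw [← hc]
      exact hN.conj_mem g hgN c
    have hcl := Cfsg.Agent.Helper77.isClassFunction_classInd g
    have h1 := Cfsg.Agent.Helper16.omega_eq_omega_of_constituent N χ φ hχ hcl hsupp
    have h2 := Cfsg.Agent.Helper16.omega_eq_omega_of_constituent N χ' φ hχ' hcl hsupp
    rw [Cfsg.Agent.Helper77.omega_classInd_of_irr χ.2] at h1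
    rw [Cfsg.Agent.Helper77.omega_classInd_of_irr χ'.2] at h2
    rw [h1, h2, sub_self]
    exact Cfsg.Agent.Helper77.memLocalIdeal_zero (Cfsg.Agent.Helper77.ne_top_of_isPModular hM)
  · exact Cfsg.Agent.Helper77.memLocalIdeal_sub
      (memLocalIdeal_centralChar_of_constrained hM N hpN L hNL hidx Q hQL hQp hQS hreg φ hinv χ hχ
        g hg hgL)
      (memLocalIdeal_centralChar_of_constrained hM N hpN L hNL hidx Q hQL hQp hQS hreg φ hinv χ' hχ'
        g hg hgL)

end fongc

end Cfsg.Agent.Helper81
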