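import Mathlib
import Cfsg.Agent.Lib.Helper17.Sieve
import Cfsg.Agent.Lib.Helper17.SylowLink
import Cfsg.Agent.Lib.Helper17.FamilyCount
import Cfsg.Agent.Lib.Helper75.FixKill

/-!
# No simple group of order 459648 = 2^7 * 3^3 * 7 * 19 (elementary proof)

`n_19 ∈ {1, 96, 1008}`.

* `n_19 = 96`: `|N(P)| = 4788`, `|N : C| ∣ 18`, so `7 ∣ |C(P)|`; an element of order 7 of `C(P)` has
  `f` fixed points on `Syl_19` with `f ≡ 1 mod 19`, `f ≡ 96 mod 7`, `f < 96`: impossible.
* `n_19 = 1008`: `|N(P)| = 456`; `T ≤ N` of order 8, `T₀ = C(P) ⊓ T` of order `≥ 4`.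
  (F) every proper subgroup `X` containing `P` and `T` lies in `N` (Sylow counting in `X`).
  So `N_G(T₀) ≤ N`; for a Sylow 2-subgroup `S ≥ T`, a central element `y ≠ 1` of `S` normalizes `T₀`,
  so `y ∈ N ⊓ S = T`. If `y ∈ C(P)`, then `C_G(y) ≥ P, S` lies in `N`: `128 ∣ 456`, absurd.
  So `y ∉ T₀`, `|T₀| = 4`, `T = ⟨T₀, y⟩` centralizes every `z ∈ T₀`, hence `C_G(z) ≤ N` for `1 ≠ z ∈ T₀`.
  `T₀` fixes a second Sylow 19-subgroup `P'` (parity), and `|T₀ : C_{T₀}(P')| ∣ gcd(4, 18) = 2`, so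
  some `1 ≠ z ∈ T₀` centralizes `P'`: `P' ≤ C_G(z) ≤ N(P)`, `P' = P`. Contradiction.
-/

set_option autoImplicit false
set_option linter.unusedSectionVars false

namespace Cfsg.Agent.Helper81.O459648

open Nat Cfsg.Agent.Helper17 Cfsg.Agent.Helper17.Sieve

universe u

set_option maxRecDepth 1000000 in
theorem o459648_num19 : ∀ k ∈ List.range 1274, (19 * k + 1) ∣ 24192 → k = 0 ∨ k = 5 ∨ k = 53 := by
  decide

set_option maxRecDepth 1000000 in
theorem o459648_num3024 : ∀ n ∈ List.range 160, n % 19 = 1 → n ∣ 3024 → n = 1 := by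
  decide

section

variable {G : Type u} [Group G] [Finite G]

/-- conjugating an element of the centralizer of `Q` by an element of the normalizer of `Q` -/
theorem o459648_conj_mem_centralizer (Q : Subgroup G) {t h : G}
    (ht : t ∈ Subgroup.normalizer (Q : Set G)) (hh : h ∈ Subgroup.centralizer (Q : Set G)) :
    t * h * t⁻¹ ∈ Subgroup.centralizer (Q : Set G) := by
  rw [Subgroup.mem_centralizer_iff] at hh ⊢
  intro u hu
  have hu' : t⁻¹ * u * t ∈ Q := (Subgroup.mem_normalizer_iff''.1 ht u).1 hu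
  have h1 := hh (t⁻¹ * u * t) hu'
  calc u * (t * h * t⁻¹) = t * ((t⁻¹ * u * t) * h) * t⁻¹ := by group
    _ = t * (h * (t⁻¹ * u * t)) * t⁻¹ := by rw [h1]
    _ = t * h * t⁻¹ * u := by group

theorem o459648_centralizer_subgroupOf_normal (Q : Subgroup G) :
    ((Subgroup.centralizer (Q : Set G)).subgroupOf (Subgroup.normalizer (Q : Set G))).Normal := by
  rw [← Subgroup.normalizerMonoidHom_ker]
  exact MonoidHom.normal_ker _

/-- for `H ≤ N(Q)`, `|Q| = p`: `|H : C(Q) ⊓ H|` divides `p - 1` -/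
theorem o459648_relIndex_dvd {p : ℕ} [hp : Fact p.Prime] (Q : Subgroup G) (hQ : Nat.card Q = p)
    (H : Subgroup G) (hH : H ≤ Subgroup.normalizer (Q : Set G)) :
    (Subgroup.centralizer (Q : Set G)).relIndex H ∣ p - 1 := by
  have hn := o459648_centralizer_subgroupOf_normal Q
  have h1 : ((Subgroup.centralizer (Q : Set G)).subgroupOf
      (Subgroup.normalizer (Q : Set G))).relIndex
      (H.subgroupOf (Subgroup.normalizer (Q : Set G))) ∣
      ((Subgroup.centralizer (Q : Set G)).subgroupOf (Subgroup.normalizer (Q : Set G))).index :=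
    Subgroup.relIndex_dvd_index_of_normal _ _
  rw [Subgroup.relIndex_subgroupOf hH] at h1
  exact h1.trans (relIndex_centralizer_dvd Q hQ)

/-- the centralizer of a nontrivial element of a nonabelian simple group is proper -/
theorem o459648_centralizer_ne_top [IsSimpleGroup G] (hna : ¬ IsMulCommutative G) (y : G)
    (hy : y ≠ 1) : Subgroup.centralizer ({y} : Set G) ≠ ⊤ := by
  intro htop
  have hyc : y ∈ Subgroup.center G := by
    rw [Subgroup.mem_center_iff]
    intro g
    have hg : g ∈ Subgroup.centralizer ({y} : Set G) := htop ▸ Subgroup.mem_top g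
    exact (Subgroup.mem_centralizer_iff.1 hg y (Set.mem_singleton y)).symm
  rcases (inferInstance : (Subgroup.center G).Normal).eq_bot_or_eq_top with h | h
  · rw [h, Subgroup.mem_bot] at hyc
    exact hy hyc
  · apply hna
    refine ⟨⟨fun a b => ?_⟩⟩
    have ha : a ∈ Subgroup.center G := h ▸ Subgroup.mem_top a
    exact (Subgroup.mem_center_iff.1 ha b).symm

instance o459648_fact19 : Fact (Nat.Prime 19) := ⟨by norm_num⟩
instance o459648_fact7 : Fact (Nat.Prime 7) := ⟨by norm_num⟩
instance o459648_fact2 : Fact (Nat.Prime 2) := ⟨by norm_num⟩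

/-- (F) a proper subgroup containing `P` and a subgroup `T ≤ N(P)` of order 8 lies in `N(P)` -/
theorem o459648_le_normalizer [IsSimpleGroup G] (hna : ¬ IsMulCommutative G)
    (hG : Nat.card G = 459648) (P : Sylow 19 G) (hP : Nat.card (P : Subgroup G) = 19)
    (hN : Nat.card ↥(Subgroup.normalizer ((P : Subgroup G) : Set G)) = 456)
    (T : Subgroup G) (hTN : T ≤ Subgroup.normalizer ((P : Subgroup G) : Set G))
    (hT : Nat.card T = 8)
    (X : Subgroup G) (hX : X ≠ ⊤) (hPX : (P : Subgroup G) ≤ X) (hTX : T ≤ X) :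
    X ≤ Subgroup.normalizer ((P : Subgroup G) : Set G) := by
  have ha1 : Nat.card ↥(Subgroup.normalizer ((P : Subgroup G) : Set G) ⊓ X) ∣ 456 := by
    rw [← hN]; exact Subgroup.card_dvd_of_le inf_le_left
  have ha2 : 19 ∣ Nat.card ↥(Subgroup.normalizer ((P : Subgroup G) : Set G) ⊓ X) := by
    have h0 := Subgroup.card_dvd_of_le
      (le_inf Subgroup.le_normalizer hPX : (P : Subgroup G) ≤
        Subgroup.normalizer ((P : Subgroup G) : Set G) ⊓ X)
    rwa [hP] at h0
  have ha3 : 8 ∣ Nat.card ↥(Subgroup.normalizer ((P : Subgroup G) : Set G) ⊓ X) := by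
    have h0 := Subgroup.card_dvd_of_le
      (le_inf hTN hTX : T ≤ Subgroup.normalizer ((P : Subgroup G) : Set G) ⊓ X)
    rwa [hT] at h0
  have hn1 : Nat.card (Sylow 19 ↥X) % 19 = 1 := Cfsg.Agent.S1017.card_sylow_mod
  have hn2 : Nat.card ↥(Subgroup.normalizer ((P : Subgroup G) : Set G) ⊓ X) *
      Nat.card (Sylow 19 ↥X) = Nat.card ↥X := by
    have h1 := card_normalizer_mul_sylow_count (P.subtype hPX)
    rw [card_normalizer_subtype X P hPX] at h1
    exact h1
  have hidx : 19 ≤ X.index := by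
    by_contra h
    push Not at h
    have h1 := two_mul_card_dvd_factorial hna X hX
    rw [hG] at h1
    have h2 : (X.index)! ∣ 18 ! := Nat.factorial_dvd_factorial (by omega)
    have h3 := h1.trans h2
    revert h3
    decide
  have hXi : Nat.card ↥X * X.index = 459648 := by rw [← hG]; exact X.card_mul_index
  have h152 : 152 ∣ Nat.card ↥(Subgroup.normalizer ((P : Subgroup G) : Set G) ⊓ X) := by
    have hcop : Nat.Coprime 19 8 := by norm_num
    exact hcop.mul_dvd_of_dvd_of_dvd ha2 ha3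
  obtain ⟨a, ha⟩ : ∃ a, a = Nat.card ↥(Subgroup.normalizer ((P : Subgroup G) : Set G) ⊓ X) :=
    ⟨_, rfl⟩
  obtain ⟨n, hn⟩ : ∃ n, n = Nat.card (Sylow 19 ↥X) := ⟨_, rfl⟩
  obtain ⟨i, hi⟩ : ∃ i, i = X.index := ⟨_, rfl⟩
  rw [← ha] at ha1 h152 hn2
  rw [← hn] at hn1 hn2
  rw [← hi] at hidx hXi
  rw [← hn2] at hXi
  have hn_one : n = 1 := by
    obtain ⟨j, hj⟩ := h152
    rw [hj] at ha1 hXi
    have hj3 : j ≤ 3 := by
      have := Nat.le_of_dvd (by norm_num) ha1
      omega
    have hni : n * i * j = 3024 := by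
      have h0 : 152 * (n * i * j) = 459648 := by rw [← hXi]; ring
      omega
    have hj0 : j ≠ 0 := by rintro rfl; simp at hni
    have hnd : n ∣ 3024 := ⟨i * j, by rw [← hni]; ring⟩
    have hnle : n < 160 := by
      by_contra hge
      push Not at hge
      have h1 : 160 * 19 ≤ n * i := Nat.mul_le_mul hge hidx
      have h2 : n * i ≤ n * i * j := Nat.le_mul_of_pos_right _ (Nat.pos_of_ne_zero hj0)
      omega
    exact o459648_num3024 n (List.mem_range.2 hnle) hn1 hnd
  rw [hn_one, mul_one] at hn2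
  have heq : Subgroup.normalizer ((P : Subgroup G) : Set G) ⊓ X = X :=
    Subgroup.eq_of_le_of_card_ge inf_le_right (by rw [← ha, hn2])
  exact inf_eq_right.1 heq

/-- `n_19 = 96` is impossible -/
theorem o459648_not_96 [IsSimpleGroup G] (hG : Nat.card G = 459648)
    (h96 : Nat.card (Sylow 19 G) = 96) : False := by
  obtain ⟨P⟩ : Nonempty (Sylow 19 G) := inferInstance
  have hf19 : Nat.card G = 19 ^ 1 * 24192 := by rw [hG]; norm_num
  have hn19 : ¬ 19 ∣ 24192 := by norm_num
  have hP : Nat.card (P : Subgroup G) = 19 := by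
    have := sylow_card_eq P hf19 hn19
    rwa [pow_one] at this
  have hNm := card_normalizer_mul_sylow_count P
  rw [h96, hG] at hNm
  have hN : Nat.card ↥(Subgroup.normalizer ((P : Subgroup G) : Set G)) = 4788 := by omega
  have hGp : Nat.card G ≠ 19 := by rw [hG]; norm_num
  obtain ⟨e, he1, he2, he3⟩ := exists_e P hP hGp
  rw [hN] at he3
  have h7 : 7 ∣ Nat.card (Subgroup.centralizer ((P : Subgroup G) : Set G)) := by
    have hcop : Nat.Coprime 7 e := Nat.Coprime.coprime_dvd_right he1 (by norm_num)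
    have h1 : 7 ∣ Nat.card (Subgroup.centralizer ((P : Subgroup G) : Set G)) * e := by
      rw [he3]; norm_num
    exact hcop.dvd_of_dvd_mul_right h1
  have h2 : 2 < Nat.card G := by rw [hG]; norm_num
  obtain ⟨f, m', hfix⟩ := Cfsg.Agent.Helper75.FixKill.exists_fix h2 (p := 19) (r := 7)
    (by norm_num) P hP (by rw [h96]; norm_num) h7
  rw [h96] at hfix
  obtain ⟨_, hf19', hf7, _, hflt, _⟩ := hfix
  omega

/-- `n_19 = 1008` is impossible -/
theorem o459648_not_1008 [IsSimpleGroup G] (hna : ¬ IsMulCommutative G)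
    (hG : Nat.card G = 459648) (h1008 : Nat.card (Sylow 19 G) = 1008) : False := by
  obtain ⟨P⟩ : Nonempty (Sylow 19 G) := inferInstance
  have hf19 : Nat.card G = 19 ^ 1 * 24192 := by rw [hG]; norm_num
  have hn19 : ¬ 19 ∣ 24192 := by norm_num
  have hPall : ∀ Q : Sylow 19 G, Nat.card (Q : Subgroup G) = 19 := by
    intro Q
    have := sylow_card_eq Q hf19 hn19
    rwa [pow_one] at this
  have hP := hPall P
  have hNm := card_normalizer_mul_sylow_count P
  rw [h1008, hG] at hNm
  have hN : Nat.card ↥(Subgroup.normalizer ((P : Subgroup G) : Set G)) = 456 := by omega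
  obtain ⟨T, hTN, hT⟩ := exists_subgroup_le_card
    (Subgroup.normalizer ((P : Subgroup G) : Set G)) 2 3 (by rw [hN]; norm_num)
  have hT8 : Nat.card T = 8 := by rw [hT]; norm_num
  -- the key tool
  have F : ∀ X : Subgroup G, X ≠ ⊤ → (P : Subgroup G) ≤ X → T ≤ X →
      X ≤ Subgroup.normalizer ((P : Subgroup G) : Set G) :=
    fun X hX hPX hTX => o459648_le_normalizer hna hG P hP hN T hTN hT8 X hX hPX hTX
  obtain ⟨N, hNdef⟩ : ∃ N, N = Subgroup.normalizer ((P : Subgroup G) : Set G) := ⟨_, rfl⟩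
  obtain ⟨C, hCdef⟩ : ∃ C, C = Subgroup.centralizer ((P : Subgroup G) : Set G) := ⟨_, rfl⟩
  rw [← hNdef] at hN hTN F
  have hCN : C ≤ N := by rw [hCdef, hNdef]; exact Subgroup.centralizer_le_normalizer _
  -- `T₀ = C ⊓ T`
  have hr18 : C.relIndex T ∣ 18 := by
    rw [hCdef]
    exact o459648_relIndex_dvd (P : Subgroup G) hP T (hNdef ▸ hTN)
  have hcm := card_inf_mul_relIndex C T
  rw [hT8] at hcm
  have hr2 : C.relIndex T ∣ 2 := by
    have h8 : C.relIndex T ∣ 8 := Dvd.intro_left _ hcm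
    have := Nat.dvd_gcd h8 hr18
    norm_num at this
    exact this
  have hT0T : C ⊓ T ≤ T := inf_le_right
  have hT0C : C ⊓ T ≤ C := inf_le_left
  have hT0card : Nat.card ↥(C ⊓ T) = 4 ∨ Nat.card ↥(C ⊓ T) = 8 := by
    rcases (Nat.dvd_prime Nat.prime_two).1 hr2 with h | h
    · right; rw [h, mul_one] at hcm; exact hcm
    · left; rw [h] at hcm; omega
  -- `P ≤ N_G(T₀)` and `T ≤ N_G(T₀)`
  have hP_cent : ∀ u ∈ (P : Subgroup G), ∀ h ∈ C, h * u = u * h := by
    intro u hu h hh
    rw [hCdef] at hh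
    exact (Subgroup.mem_centralizer_iff.1 hh u hu).symm
  have hPX1 : (P : Subgroup G) ≤ Subgroup.normalizer ((C ⊓ T : Subgroup G) : Set G) := by
    intro u hu
    apply Subgroup.centralizer_le_normalizer
    rw [Subgroup.mem_centralizer_iff]
    intro h hh
    exact hP_cent u hu h hh.1
  have hconj : ∀ t ∈ T, ∀ h ∈ C ⊓ T, t * h * t⁻¹ ∈ C ⊓ T := by
    intro t ht h hh
    refine ⟨?_, T.mul_mem (T.mul_mem ht hh.2) (T.inv_mem ht)⟩
    rw [hCdef]
    apply o459648_conj_mem_centralizer
    · rw [← hNdef]; exact hTN ht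
    · rw [← hCdef]; exact hh.1
  have hTX1 : T ≤ Subgroup.normalizer ((C ⊓ T : Subgroup G) : Set G) := by
    intro t ht
    rw [Subgroup.mem_normalizer_iff]
    intro h
    constructor
    · intro hh; exact hconj t ht h hh
    · intro hh
      have h1 := hconj t⁻¹ (T.inv_mem ht) _ hh
      have h2 : t⁻¹ * (t * h * t⁻¹) * t⁻¹⁻¹ = h := by group
      rwa [h2] at h1
  have hX1top : Subgroup.normalizer ((C ⊓ T : Subgroup G) : Set G) ≠ ⊤ := by
    intro htop
    have hnorm : (C ⊓ T).Normal := Subgroup.normalizer_eq_top_iff.1 htop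
    apply normal_card_absurd _ hnorm
    · rcases hT0card with h | h <;> rw [h] <;> norm_num
    · rcases hT0card with h | h <;> rw [h, hG] <;> norm_num
  have hX1 := F _ hX1top hPX1 hTX1
  -- a Sylow 2-subgroup `S ≥ T`
  obtain ⟨S, hTS⟩ := (IsPGroup.of_card (p := 2) (n := 3) hT).exists_le_sylow
  have hf2 : Nat.card G = 2 ^ 7 * 3591 := by rw [hG]; norm_num
  have hS : Nat.card (S : Subgroup G) = 2 ^ 7 := sylow_card_eq S hf2 (by norm_num)
  have hNS : T = N ⊓ (S : Subgroup G) := by
    apply Subgroup.eq_of_le_of_card_ge (le_inf hTN hTS)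
    have h1 : Nat.card ↥(N ⊓ (S : Subgroup G)) ∣ 456 := by
      rw [← hN]; exact Subgroup.card_dvd_of_le inf_le_left
    have h2 : Nat.card ↥(N ⊓ (S : Subgroup G)) ∣ 2 ^ 7 := by
      rw [← hS]; exact Subgroup.card_dvd_of_le inf_le_right
    have h3 := Nat.dvd_gcd h1 h2
    norm_num at h3
    rw [hT8]
    exact Nat.le_of_dvd (by norm_num) h3
  -- a central element of `S`
  obtain ⟨y, hyS, hy1, hycomm⟩ : ∃ y ∈ (S : Subgroup G), y ≠ 1 ∧
      ∀ s ∈ (S : Subgroup G), s * y = y * s := by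
    have hnt : Nontrivial ↥(S : Subgroup G) :=
      Finite.one_lt_card_iff_nontrivial.1 (by rw [hS]; norm_num)
    have hc := IsPGroup.center_nontrivial (S.isPGroup')
    obtain ⟨y', hy'⟩ := exists_ne (1 : Subgroup.center ↥(S : Subgroup G))
    refine ⟨((y' : ↥(S : Subgroup G)) : G), (y' : ↥(S : Subgroup G)).2, ?_, ?_⟩
    · intro h
      apply hy'
      apply Subtype.ext
      apply Subtype.ext
      exact h
    · intro s hs
      have := Subgroup.mem_center_iff.1 y'.2 ⟨s, hs⟩
      exact congrArg Subtype.val this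
  -- `y ∈ T`
  have hyT : y ∈ T := by
    rw [hNS]
    refine ⟨hX1 ?_, hyS⟩
    apply Subgroup.centralizer_le_normalizer
    rw [Subgroup.mem_centralizer_iff]
    intro h hh
    exact hycomm h (hTS hh.2)
  -- `y ∉ C`
  have hyC : y ∉ C := by
    intro hyC
    have hX2 := F (Subgroup.centralizer ({y} : Set G)) (o459648_centralizer_ne_top hna y hy1)
      ((Cfsg.Agent.S1017.le_centralizer_singleton_iff _ y).2 (hCdef ▸ hyC))
      (by
        intro t ht
        rw [Subgroup.mem_centralizer_iff]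
        intro h hh
        rw [Set.mem_singleton_iff] at hh
        rw [hh]
        exact (hycomm t (hTS ht)).symm)
    have hSX : (S : Subgroup G) ≤ Subgroup.centralizer ({y} : Set G) := by
      intro s hs
      rw [Subgroup.mem_centralizer_iff]
      intro h hh
      rw [Set.mem_singleton_iff] at hh
      rw [hh]
      exact (hycomm s hs).symm
    have := Subgroup.card_dvd_of_le (hSX.trans hX2)
    rw [hS, hN] at this
    revert this
    decide
  -- `|T₀| = 4`
  have hT04 : Nat.card ↥(C ⊓ T) = 4 := by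
    rcases hT0card with h | h
    · exact h
    · exfalso
      have : C ⊓ T = T := Subgroup.eq_of_le_of_card_ge hT0T (by rw [h, hT8])
      apply hyC
      have hy' : y ∈ C ⊓ T := by rw [this]; exact hyT
      exact hy'.1
  -- `T = T₀ ⊔ ⟨y⟩`
  have hM : (C ⊓ T) ⊔ Subgroup.zpowers y = T := by
    have hle : (C ⊓ T) ⊔ Subgroup.zpowers y ≤ T :=
      sup_le hT0T (Subgroup.zpowers_le.2 hyT)
    apply Subgroup.eq_of_le_of_card_ge hle
    have h1 : Nat.card ↥((C ⊓ T) ⊔ Subgroup.zpowers y) ∣ 8 := by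
      rw [← hT8]; exact Subgroup.card_dvd_of_le hle
    have h2 : 4 ∣ Nat.card ↥((C ⊓ T) ⊔ Subgroup.zpowers y) := by
      rw [← hT04]; exact Subgroup.card_dvd_of_le le_sup_left
    have h3 : Nat.card ↥((C ⊓ T) ⊔ Subgroup.zpowers y) ≠ 4 := by
      intro h4
      have : C ⊓ T = (C ⊓ T) ⊔ Subgroup.zpowers y :=
        Subgroup.eq_of_le_of_card_ge le_sup_left (by rw [h4, hT04])
      apply hyC
      have hy' : y ∈ C ⊓ T := by
        rw [this]
        exact (le_sup_right : Subgroup.zpowers y ≤ _) (Subgroup.mem_zpowers y)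
      exact hy'.1
    rw [hT8]
    obtain ⟨j, hj⟩ := h2
    rw [hj] at h1 h3 ⊢
    have hj2 : j ≤ 2 := by
      have := Nat.le_of_dvd (by norm_num) h1
      omega
    interval_cases j
    · norm_num at h1
    · exact absurd rfl h3
    · norm_num
  have hT0comm : IsMulCommutative ↥(C ⊓ T) :=
    IsPGroup.isMulCommutative_of_card_eq_prime_sq (p := 2) (by rw [hT04]; norm_num)
  have hT0cent : C ⊓ T ≤ Subgroup.centralizer ((C ⊓ T : Subgroup G) : Set G) :=
    Subgroup.le_centralizer_iff_isMulCommutative.2 hT0comm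
  -- centralizers of nontrivial elements of `T₀`
  have hZ : ∀ z ∈ C ⊓ T, z ≠ 1 → Subgroup.centralizer ({z} : Set G) ≤ N := by
    intro z hz hz1
    apply F _ (o459648_centralizer_ne_top hna z hz1)
      ((Cfsg.Agent.S1017.le_centralizer_singleton_iff _ z).2 (hCdef ▸ hz.1))
    rw [← hM]
    apply sup_le
    · intro a ha
      rw [Subgroup.mem_centralizer_iff]
      intro h hh
      rw [Set.mem_singleton_iff] at hh
      rw [hh]
      exact Subgroup.mem_centralizer_iff.1 (hT0cent ha) z hz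
    · rw [Subgroup.zpowers_le, Subgroup.mem_centralizer_iff]
      intro h hh
      rw [Set.mem_singleton_iff] at hh
      rw [hh]
      exact hycomm z (hTS hz.2)
  -- a second fixed point of `T₀` on `Syl_19(G)`
  have hpg : IsPGroup 2 ↥(C ⊓ T) := IsPGroup.of_card (n := 2) (by rw [hT04]; norm_num)
  have hmod := hpg.card_modEq_card_fixedPoints (Sylow 19 G)
  have hPfix : P ∈ MulAction.fixedPoints ↥(C ⊓ T) (Sylow 19 G) := by
    intro t
    rw [Subgroup.smul_def]
    apply Sylow.smul_eq_iff_mem_normalizer.2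
    have h0 : (t : G) ∈ N := hCN t.2.1
    rw [hNdef] at h0
    exact h0
  obtain ⟨P', hP'fix, hP'ne⟩ : ∃ P' ∈ MulAction.fixedPoints ↥(C ⊓ T) (Sylow 19 G), P' ≠ P := by
    by_contra hall
    push Not at hall
    have h1 : Nat.card ↥(MulAction.fixedPoints ↥(C ⊓ T) (Sylow 19 G)) = 1 := by
      rw [Nat.card_eq_one_iff_unique]
      exact ⟨⟨fun a b => Subtype.ext ((hall a.1 a.2).trans (hall b.1 b.2).symm)⟩,
        ⟨⟨P, hPfix⟩⟩⟩
    rw [h1008, h1] at hmod
    revert hmod
    decide
  have hP' := hPall P'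
  have hT0N' : C ⊓ T ≤ Subgroup.normalizer ((P' : Subgroup G) : Set G) := by
    intro t ht
    have := hP'fix ⟨t, ht⟩
    rw [Subgroup.smul_def] at this
    exact Sylow.smul_eq_iff_mem_normalizer.1 this
  have hr18' := o459648_relIndex_dvd (P' : Subgroup G) hP' (C ⊓ T) hT0N'
  have hcm' := card_inf_mul_relIndex (Subgroup.centralizer ((P' : Subgroup G) : Set G)) (C ⊓ T)
  rw [hT04] at hcm'
  obtain ⟨z, hz, hz1⟩ : ∃ z ∈ Subgroup.centralizer ((P' : Subgroup G) : Set G) ⊓ (C ⊓ T),
      z ≠ 1 := by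
    by_contra hall
    push Not at hall
    have hbot : Subgroup.centralizer ((P' : Subgroup G) : Set G) ⊓ (C ⊓ T) = ⊥ :=
      (Subgroup.eq_bot_iff_forall _).2 hall
    rw [hbot, Subgroup.card_bot, one_mul] at hcm'
    rw [hcm'] at hr18'
    revert hr18'
    decide
  have hP'N : (P' : Subgroup G) ≤ N :=
    ((Cfsg.Agent.S1017.le_centralizer_singleton_iff _ z).2 hz.1).trans (hZ z hz.2 hz1)
  apply hP'ne
  symm
  rw [← Cfsg.Agent.S1017.fixed_iff P' P]
  intro x hx
  apply Sylow.smul_eq_iff_mem_normalizer.2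
  have h0 : x ∈ N := hP'N hx
  rw [hNdef] at h0
  exact h0

/-- **No simple group of order 459648.** -/
theorem o459648_no_simple [IsSimpleGroup G] : Nat.card G ≠ 459648 := by
  intro hG
  have hna : ¬ IsMulCommutative G := not_comm_of_not_prime (by rw [hG]; norm_num)
  have hf19 : Nat.card G = 19 ^ 1 * 24192 := by rw [hG]; norm_num
  have hn19 : ¬ 19 ∣ 24192 := by norm_num
  obtain ⟨hd1, hd2⟩ := sylow_count (G := G) hf19 hn19
  have hne := sylow_count_ne_one (G := G) hf19 hn19 one_ne_zero (by norm_num)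
  obtain ⟨d, hd⟩ : ∃ d, d = Nat.card (Sylow 19 G) := ⟨_, rfl⟩
  rw [← hd] at hd1 hd2 hne
  have hdle : d ≤ 24192 := Nat.le_of_dvd (by norm_num) hd1
  have hdk : d = 19 * (d / 19) + 1 := by omega
  have hk : d / 19 < 1274 := by omega
  have h3 := o459648_num19 (d / 19) (List.mem_range.2 hk) (by rw [← hdk]; exact hd1)
  rcases h3 with h | h | h
  · omega
  · exact o459648_not_96 hG (by rw [← hd]; omega)
  · exact o459648_not_1008 hna hG (by rw [← hd]; omega)

end

end Cfsg.Agent.Helper81.O459648
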