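import Mathlib

/-!
# O5760 (A2): a sum over a fintype of a function supported on four points
-/

set_option autoImplicit false

namespace Cfsg.Agent.Helper81.O5760

universe u

/-- (A2) -/
theorem sum_four {I : Type u} [Fintype I] [DecidableEq I] (i0 i1 i2 i3 : I)
    (h01 : i0 ≠ i1) (h02 : i0 ≠ i2) (h03 : i0 ≠ i3) (h12 : i1 ≠ i2) (h13 : i1 ≠ i3) (h23 : i2 ≠ i3)
    (f : I → ℂ) (hf : ∀ i, i ≠ i0 → i ≠ i1 → i ≠ i2 → i ≠ i3 → f i = 0) :
    ∑ i, f i = f i0 + f i1 + f i2 + f i3 := by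
  have h : ∑ i, f i = ∑ i ∈ ({i0, i1, i2, i3} : Finset I), f i := by
    symm
    apply Finset.sum_subset (Finset.subset_univ _)
    intro i _ hi
    simp only [Finset.mem_insert, Finset.mem_singleton, not_or] at hi
    exact hf i hi.1 hi.2.1 hi.2.2.1 hi.2.2.2
  rw [h, Finset.sum_insert, Finset.sum_insert, Finset.sum_insert, Finset.sum_singleton]
  · ring
  · simp [h23]
  · simp [h12, h13]
  · simp [h01, h02, h03]

end Cfsg.Agent.Helper81.O5760
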