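import Mathlib
import Cfsg.Agent.Lib.Helper78.CharSchur
import Cfsg.Agent.Lib.Helper79.CharBasic
import Cfsg.Agent.Lib.Helper10.O4320B2d

/-!
# O5760 (A4): involution centralizers are small in the case `n_5 = 576`
-/

set_option autoImplicit false

namespace Cfsg.Agent.Helper81.O5760

open Cfsg
open scoped ComplexConjugate

universe u

/-- centralizers of conjugate elements have the same order (via column orthogonality). -/
theorem a4_card_centralizer_conj {G : Type u} [Group G] [Fintype G] (a u : G) :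
    Nat.card (Subgroup.centralizer ({a * u * a⁻¹} : Set G)) =
      Nat.card (Subgroup.centralizer ({u} : Set G)) := by
  have h1 := Helper78.sum_irr_mul_conj (a * u * a⁻¹) (a * u * a⁻¹)
  have h2 := Helper78.sum_irr_mul_conj u u
  rw [if_pos (IsConj.refl _)] at h1 h2
  simp only [Helper79.irr_class] at h1
  rw [h1] at h2
  exact_mod_cast h2

open scoped Classical in
/-- (A4) -/
theorem invol_centralizer_lt {G : Type u} [Group G] [Fintype G] (hG : Nat.card G = 5760) (R : Sylow 5 G)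
    (hR : Nat.card (R : Subgroup G) = 5)
    (hC : Nat.card (Subgroup.centralizer ((R : Subgroup G) : Set G)) = 5)
    (d x : ℕ) (ε w : ℤ) (hε : ε = 1 ∨ ε = -1) (hw : w = 1 ∨ w = -1)
    (hdeg : 1 + ε * (x : ℤ) + (d : ℤ) * w = 0) (hx2 : 2 ≤ x) (θ₁ : IrrCharacter G)
    (h1 : charDegree (θ₁ : G → ℂ) = d)
    (hfaith : ∀ g : G, (θ₁ : G → ℂ) g = (θ₁ : G → ℂ) 1 → g = 1)
    (y : G) (hy : y ∈ (R : Subgroup G)) (hy1 : y ≠ 1)
    (hcs : ∀ u : G, orderOf u = 2 → ∃ b : ℝ, (θ₁ : G → ℂ) u = (b : ℂ) ∧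
      ∑ χ : IrrCharacter G, (χ : G → ℂ) u * (χ : G → ℂ) u * (χ : G → ℂ) y⁻¹ / (χ : G → ℂ) 1 =
        (((d : ℝ) - b) ^ 2 / ((d : ℝ) * (x : ℝ)) : ℝ))
    (u : G) (hu : orderOf u = 2) : Nat.card (Subgroup.centralizer ({u} : Set G)) < 128 := by
  -- degrees
  obtain ⟨hd1, hdpos⟩ := Helper79.irr_one_eq θ₁
  rw [h1] at hd1 hdpos
  have hdR : (0 : ℝ) < d := by exact_mod_cast hdpos
  have hxR : (2 : ℝ) ≤ x := by exact_mod_cast hx2
  have hdx : (d : ℝ) ≤ x + 1 := by
    have : d ≤ x + 1 := by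
      rcases hε with rfl | rfl <;> rcases hw with rfl | rfl <;> omega
    exact_mod_cast this
  -- conjugates of `u` are involutions
  have hord : ∀ a : G, orderOf (a * u * a⁻¹) = 2 := by
    intro a
    have := orderOf_injective (MulAut.conj a).toMonoidHom (MulAut.conj a).injective u
    simpa [MulAut.conj_apply, hu] using this
  -- `y` has order 5 and `C(y) = C(R)`
  have hy5 : orderOf y = 5 := by
    have hdvd : orderOf y ∣ 5 := by
      have := orderOf_dvd_natCard (⟨y, hy⟩ : (R : Subgroup G))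
      rw [hR] at this
      rwa [Subgroup.orderOf_mk] at this
    rcases (Nat.dvd_prime (by norm_num : Nat.Prime 5)).1 hdvd with h | h
    · exact absurd (orderOf_eq_one_iff.1 h) hy1
    · exact h
  have hzp : Subgroup.zpowers y = (R : Subgroup G) := by
    apply Subgroup.eq_of_le_of_card_ge
    · exact Subgroup.zpowers_le.2 hy
    · rw [hR, Nat.card_zpowers, hy5]
  have hCy : Nat.card (Subgroup.centralizer ({y} : Set G)) = 5 := by
    have : Subgroup.centralizer ({y} : Set G) =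
        Subgroup.centralizer ((R : Subgroup G) : Set G) := by
      apply le_antisymm
      · intro g hg
        rw [Subgroup.mem_centralizer_iff] at hg ⊢
        intro r hr
        have hr' : r ∈ Subgroup.zpowers y := by rw [hzp]; exact hr
        obtain ⟨k, rfl⟩ := Subgroup.mem_zpowers_iff.1 hr'
        have hc : Commute y g := hg y rfl
        exact (hc.zpow_left k).eq
      · exact Subgroup.centralizer_le (Set.singleton_subset_iff.2 hy)
    rw [this, hC]
  -- the class sum for `u` is positive, so a pair exists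
  obtain ⟨b, hb, hsum⟩ := hcs u hu
  have hbd : b ≠ d := by
    intro h
    have h2 : (θ₁ : G → ℂ) u = (θ₁ : G → ℂ) 1 := by
      rw [hb, hd1, h]; norm_cast
    have h3 := hfaith u h2
    rw [h3, orderOf_one] at hu
    omega
  have hcount := Helper78.sum_irr_mul_mul_div u u y⁻¹
  rw [hsum, hG] at hcount
  have hpos : (0 : ℝ) < ((d : ℝ) - b) ^ 2 / ((d : ℝ) * (x : ℝ)) := by
    apply div_pos
    · have : (d : ℝ) - b ≠ 0 := sub_ne_zero.2 (Ne.symm hbd)
      positivity
    · positivity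
  have hne : (Finset.univ.filter
        (fun ab : G × G => ab.1 * u * ab.1⁻¹ * (ab.2 * u * ab.2⁻¹) * y⁻¹ = 1)).Nonempty := by
    rw [Finset.nonempty_iff_ne_empty]
    intro hemp
    rw [hemp, Finset.card_empty] at hcount
    have h4 : ((5760 : ℕ) : ℝ) * (((d : ℝ) - b) ^ 2 / ((d : ℝ) * (x : ℝ))) = ((0 : ℕ) : ℝ) := by
      exact_mod_cast hcount
    have : (0 : ℝ) < ((5760 : ℕ) : ℝ) * (((d : ℝ) - b) ^ 2 / ((d : ℝ) * (x : ℝ))) := by positivity
    rw [h4] at this
    simp at this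
  obtain ⟨⟨a, c⟩, hac⟩ := hne
  simp only [Finset.mem_filter, Finset.mem_univ, true_and] at hac
  -- the involution `t`
  obtain ⟨t, htdef⟩ : ∃ t, t = a * u * a⁻¹ := ⟨_, rfl⟩
  obtain ⟨t₂, ht2def⟩ : ∃ t₂, t₂ = c * u * c⁻¹ := ⟨_, rfl⟩
  rw [← htdef, ← ht2def] at hac
  have ht : orderOf t = 2 := by rw [htdef]; exact hord a
  have ht2 : orderOf t₂ = 2 := by rw [ht2def]; exact hord c
  have htt : t * t = 1 := by
    have := pow_orderOf_eq_one t
    rwa [ht, pow_two] at this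
  have htt2 : t₂ * t₂ = 1 := by
    have := pow_orderOf_eq_one t₂
    rwa [ht2, pow_two] at this
  have htinv : t⁻¹ = t := inv_eq_of_mul_eq_one_left htt
  have hyeq : t * t₂ = y := mul_inv_eq_one.1 hac
  have hyinv : y⁻¹ = t₂ * t := by
    apply inv_eq_of_mul_eq_one_right
    rw [← hyeq]
    calc t * t₂ * (t₂ * t) = t * (t₂ * t₂) * t := by simp only [mul_assoc]
      _ = 1 := by rw [htt2, mul_one, htt]
  have hty : t * y * t⁻¹ = y⁻¹ := by
    rw [hyinv, htinv, ← hyeq, ← mul_assoc t t t₂, htt, one_mul]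
  -- the count for `t`
  obtain ⟨b', hb', hsum'⟩ := hcs t ht
  have hcount' := Helper78.sum_irr_mul_mul_div t t y⁻¹
  rw [hsum', hG, Helper10.O4320.pairs_count y t hy5 hCy ht hty] at hcount'
  have hreal : ((5760 : ℕ) : ℝ) * (((d : ℝ) - b') ^ 2 / ((d : ℝ) * (x : ℝ))) =
      ((5 * Nat.card (Subgroup.centralizer ({t} : Set G)) ^ 2 : ℕ) : ℝ) := by
    exact_mod_cast hcount'
  -- bound on `b'`
  have hnorm := Helper79.irr_norm_le θ₁ t
  rw [hb', h1, Complex.norm_real, Real.norm_eq_abs] at hnorm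
  have hb1 : -(d : ℝ) ≤ b' := by
    have := neg_abs_le b'
    linarith
  have hb2 : b' ≤ (d : ℝ) := le_trans (le_abs_self b') hnorm
  have hsq : ((d : ℝ) - b') ^ 2 ≤ 4 * (d : ℝ) ^ 2 := by nlinarith
  -- conclude
  rw [← a4_card_centralizer_conj a u, ← htdef]
  by_contra hge
  push Not at hge
  have hC128 : (128 : ℝ) ≤ (Nat.card (Subgroup.centralizer ({t} : Set G)) : ℝ) := by
    exact_mod_cast hge
  set Cr : ℝ := (Nat.card (Subgroup.centralizer ({t} : Set G)) : ℝ) with hCr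
  have hreal2 : 5760 * (((d : ℝ) - b') ^ 2 / ((d : ℝ) * (x : ℝ))) = 5 * Cr ^ 2 := by
    rw [hCr]
    push_cast at hreal
    exact hreal
  have hxpos : (0 : ℝ) < x := by linarith
  have hdxpos : (0 : ℝ) < (d : ℝ) * (x : ℝ) := by positivity
  have h5 : 5760 * ((d : ℝ) - b') ^ 2 = 5 * Cr ^ 2 * ((d : ℝ) * (x : ℝ)) := by
    rw [← hreal2]
    field_simp
  have h6 : 5 * Cr ^ 2 * ((d : ℝ) * (x : ℝ)) ≤ 5760 * (4 * (d : ℝ) ^ 2) := by
    rw [← h5]
    linarith
  have h7 : Cr ^ 2 * (x : ℝ) ≤ 4608 * (d : ℝ) := by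
    have : (d : ℝ) * (5 * (Cr ^ 2 * (x : ℝ))) ≤ (d : ℝ) * (5 * (4608 * (d : ℝ))) := by nlinarith
    have := le_of_mul_le_mul_left this hdR
    linarith
  have h8 : (16384 : ℝ) ≤ Cr ^ 2 := by nlinarith
  have h9 : 16384 * (x : ℝ) ≤ Cr ^ 2 * (x : ℝ) := by nlinarith
  nlinarith

end Cfsg.Agent.Helper81.O5760
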