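import Mathlib

set_option autoImplicit false

namespace Cfsg.Agent.Helper81

/-- In a finite group with a central Sylow `p`-subgroup `Z`, the `p`-regular elements form a
transversal of `Z`. -/
theorem card_pRegular_of_central {C : Type*} [Group C] [Finite C] (p : ℕ) [hp : Fact p.Prime]
    (Z : Subgroup C) (hZc : Z ≤ Subgroup.center C) (hZp : IsPGroup p Z) (hidx : ¬ p ∣ Z.index) :
    Nat.card {s : C // ¬ p ∣ orderOf s} = Z.index := by
  classical
  have hZn : Z.Normal := by
    refine ⟨fun n hn g => ?_⟩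
    have hc := Subgroup.mem_center_iff.mp (hZc hn) g
    have : g * n * g⁻¹ = n := by rw [hc]; group
    rw [this]; exact hn
  have hcop : (Nat.card (C ⧸ Z)).Coprime (Nat.card Z) := by
    obtain ⟨b, hb⟩ := hZp.exists_card_eq
    rw [hb, ← Subgroup.index_eq_card]
    exact Nat.Coprime.pow_right b ((Nat.Prime.coprime_iff_not_dvd hp.out).mpr hidx).symm
  rw [Subgroup.index_eq_card]
  refine Nat.card_congr (Equiv.ofBijective
    (fun s : {s : C // ¬ p ∣ orderOf s} => (QuotientGroup.mk (s : C) : C ⧸ Z)) ⟨?_, ?_⟩)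
  · rintro ⟨s, hs⟩ ⟨s', hs'⟩ h
    simp only at h
    have hz : s⁻¹ * s' ∈ Z := QuotientGroup.eq.mp h
    have hzc := Subgroup.mem_center_iff.mp (hZc hz)
    set z := s⁻¹ * s' with hzdef
    have hs'eq : s' = s * z := by rw [hzdef]; group
    have hcomm : Commute s⁻¹ s' := by
      rw [hs'eq]
      have h1 : Commute s⁻¹ z := hzc s⁻¹
      exact ((Commute.refl s).inv_left).mul_right h1
    set m := orderOf s * orderOf s' with hm
    have hzm : z ^ m = 1 := by
      rw [hzdef, hcomm.mul_pow, inv_pow, hm, pow_mul, pow_orderOf_eq_one, one_pow, inv_one,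
        one_mul, mul_comm, pow_mul, pow_orderOf_eq_one, one_pow]
    obtain ⟨k, hk⟩ := hZp ⟨z, hz⟩
    have hk' : z ^ (p ^ k) = 1 := by
      have := congrArg (fun x : Z => (x : C)) hk
      simpa using this
    have h1 : orderOf z ∣ m := orderOf_dvd_of_pow_eq_one hzm
    have h2 : orderOf z ∣ p ^ k := orderOf_dvd_of_pow_eq_one hk'
    have hcopm : Nat.Coprime m (p ^ k) := by
      apply Nat.Coprime.pow_right
      rw [hm]
      exact Nat.Coprime.mul_left ((Nat.Prime.coprime_iff_not_dvd hp.out).mpr hs).symm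
        ((Nat.Prime.coprime_iff_not_dvd hp.out).mpr hs').symm
    have h3 : orderOf z = 1 := Nat.eq_one_of_dvd_coprimes hcopm h1 h2
    have hz1 : z = 1 := orderOf_eq_one_iff.mp h3
    apply Subtype.ext
    simp only
    rw [hs'eq, hz1, mul_one]
  · intro c
    obtain ⟨y', hy'⟩ := (powCoprime hcop).surjective c
    obtain ⟨y, rfl⟩ := QuotientGroup.mk_surjective y'
    have hyidx : y ^ Nat.card (C ⧸ Z) ∈ Z := by
      rw [← QuotientGroup.eq_one_iff, QuotientGroup.mk_pow]
      exact pow_card_eq_one'
    have hs1 : (y ^ Nat.card Z) ^ Nat.card (C ⧸ Z) = 1 := by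
      rw [← pow_mul, mul_comm, pow_mul]
      have h1 : (⟨y ^ Nat.card (C ⧸ Z), hyidx⟩ : Z) ^ Nat.card Z = 1 := pow_card_eq_one'
      have h2 := congrArg Subtype.val h1
      rw [Subgroup.coe_pow] at h2
      exact h2
    refine ⟨⟨y ^ Nat.card Z, ?_⟩, ?_⟩
    · intro hdvd
      have h1 : orderOf (y ^ Nat.card Z) ∣ Nat.card (C ⧸ Z) := orderOf_dvd_of_pow_eq_one hs1
      apply hidx
      rw [Subgroup.index_eq_card]
      exact hdvd.trans h1
    · simp only
      rw [QuotientGroup.mk_pow]
      exact hy'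

/-- Counting `p`-regular elements mod `p` via conjugation by a `p`-subgroup. -/
theorem card_pRegular_modEq_centralizer {X : Type*} [Group X] [Finite X] (p : ℕ)
    [hp : Fact p.Prime] (P : Subgroup X) (hP : IsPGroup p P) :
    Nat.card {x : X // ¬ p ∣ orderOf x} ≡
      Nat.card {c : Subgroup.centralizer (P : Set X) // ¬ p ∣ orderOf c} [MOD p] := by
  classical
  let act : MulAction P {x : X // ¬ p ∣ orderOf x} :=
    { smul := fun g x => ⟨(g : X) * x.1 * (g : X)⁻¹, by
        have ho : orderOf ((g : X) * x.1 * (g : X)⁻¹) = orderOf x.1 :=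
          MulEquiv.orderOf_eq (MulAut.conj (g : X)) x.1
        rw [ho]; exact x.2⟩
      one_smul := fun x => by
        apply Subtype.ext
        show ((1 : P) : X) * x.1 * ((1 : P) : X)⁻¹ = x.1
        simp
      mul_smul := fun g h x => by
        apply Subtype.ext
        show ((g * h : P) : X) * x.1 * ((g * h : P) : X)⁻¹ = (g : X) * ((h : X) * x.1 * (h : X)⁻¹) * (g : X)⁻¹
        simp only [Subgroup.coe_mul, mul_inv_rev]
        group }
  have h1 := hP.card_modEq_card_fixedPoints {x : X // ¬ p ∣ orderOf x}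
  have hsmul : ∀ (g : P) (x : {x : X // ¬ p ∣ orderOf x}),
      ((g • x : {x : X // ¬ p ∣ orderOf x}) : X) = (g : X) * x.1 * (g : X)⁻¹ := fun _ _ => rfl
  have h2 : Nat.card (MulAction.fixedPoints P {x : X // ¬ p ∣ orderOf x}) =
      Nat.card {c : Subgroup.centralizer (P : Set X) // ¬ p ∣ orderOf c} := by
    refine Nat.card_congr
      { toFun := fun x => ⟨⟨x.1.1, ?_⟩, ?_⟩
        invFun := fun c => ⟨⟨c.1.1, ?_⟩, ?_⟩
        left_inv := fun x => rfl
        right_inv := fun c => rfl }
    · rw [Subgroup.mem_centralizer_iff]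
      intro g hg
      have hx := x.2
      rw [MulAction.mem_fixedPoints] at hx
      have h3 := congrArg Subtype.val (hx ⟨g, hg⟩)
      rw [hsmul] at h3
      simp only at h3
      calc g * x.1.1 = g * x.1.1 * g⁻¹ * g := by group
        _ = x.1.1 * g := by rw [h3]
    · have := x.1.2
      rwa [← Subgroup.orderOf_coe] 
    · have := c.2
      rwa [← Subgroup.orderOf_coe] at this
    · rw [MulAction.mem_fixedPoints]
      intro g
      apply Subtype.ext
      rw [hsmul]
      simp only
      have h3 := Subgroup.mem_centralizer_iff.mp c.1.2 (g : X) g.2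
      calc (g : X) * (c.1 : X) * (g : X)⁻¹ = (c.1 : X) * (g : X) * (g : X)⁻¹ := by rw [h3]
        _ = (c.1 : X) := by group
  rw [← h2]
  exact h1

/-- The number of `p`-regular elements of a finite group is prime to `p`. -/
theorem not_dvd_card_pRegular (X : Type*) [Group X] [Finite X] (p : ℕ) [hp : Fact p.Prime] :
    ¬ p ∣ Nat.card {x : X // ¬ p ∣ orderOf x} := by
  classical
  obtain ⟨P⟩ : Nonempty (Sylow p X) := inferInstance
  set C := Subgroup.centralizer ((P : Subgroup X) : Set X) with hC
  obtain ⟨R⟩ : Nonempty (Sylow p C) := inferInstance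
  -- R lies in P
  have hRP : ∀ r : C, r ∈ (R : Subgroup C) → (r : X) ∈ (P : Subgroup X) := by
    intro r hr
    set K := (R : Subgroup C).map C.subtype with hK
    have hKp : IsPGroup p K := R.2.map _
    have hKC : K ≤ C := by
      rintro _ ⟨c, _, rfl⟩
      exact c.2
    have hKn : K ≤ Subgroup.normalizer ((P : Subgroup X) : Set X) :=
      hKC.trans (Subgroup.centralizer_le_normalizer _)
    have hsup : IsPGroup p ((P : Subgroup X) ⊔ K : Subgroup X) :=
      P.2.to_sup_of_normal_left' hKp hKn
    have heq : (P : Subgroup X) ⊔ K = P := P.is_maximal' hsup le_sup_left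
    have : (r : X) ∈ K := ⟨r, hr, rfl⟩
    rw [← heq]
    exact (le_sup_right : K ≤ _) this
  have hRc : (R : Subgroup C) ≤ Subgroup.center C := by
    intro r hr
    rw [Subgroup.mem_center_iff]
    intro c
    apply Subtype.ext
    simp only [Subgroup.coe_mul]
    exact (Subgroup.mem_centralizer_iff.mp c.2 (r : X) (hRP r hr)).symm
  have hidx : ¬ p ∣ (R : Subgroup C).index := R.not_dvd_index
  have h1 := card_pRegular_of_central p (R : Subgroup C) hRc R.2 hidx
  have h2 := card_pRegular_modEq_centralizer p (P : Subgroup X) P.2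
  intro hdvd
  apply hidx
  rw [← h1]
  exact (Nat.modEq_zero_iff_dvd.mp ((h2.symm.trans (Nat.modEq_zero_iff_dvd.mpr hdvd))))

end Cfsg.Agent.Helper81
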