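import Mathlib
import Cfsg.Agent.Lib.Helper78.Domination2
import Cfsg.Agent.Lib.Helper77.SubpairChain

/-!
# Averaged indicator functions of normal `p'`-subgroups and kernels of blocks (helper81)

For a subgroup `X` the function `avgFun X = |X|⁻¹ · 1_X` is (when `X` is normal) the central
idempotent `e_X`; the central character of an irreducible character `χ` takes the value `1` or
`0` at it according as `X ≤ ker χ` or not.  Consequently, for a normal `p'`-subgroup, lying in
the kernel is a property of blocks, and it can be transported along induced blocks and along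
normal inclusions of Brauer pairs.
-/

set_option autoImplicit false
set_option linter.style.haveILetI false
set_option linter.unusedSectionVars false
open Cfsg

namespace Cfsg.Agent.Helper81

open Cfsg.Agent.Helper77

universe u

section avg

variable {G : Type u} [Group G]

/-- The averaged indicator function of a subgroup. -/
noncomputable def avgFun (X : Subgroup G) : G → ℂ := fun g => by
  classical exact if g ∈ X then (Nat.card X : ℂ)⁻¹ else 0

theorem avgFun_of_mem (X : Subgroup G) {g : G} (hg : g ∈ X) :
    avgFun X g = (Nat.card X : ℂ)⁻¹ := by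
  unfold avgFun
  rw [if_pos hg]

theorem avgFun_of_notMem (X : Subgroup G) {g : G} (hg : g ∉ X) : avgFun X g = 0 := by
  unfold avgFun
  rw [if_neg hg]

theorem avgFun_conj (X : Subgroup G) {u : G} (hu : u ∈ Subgroup.normalizer (X : Set G)) (x : G) :
    avgFun X (u * x * u⁻¹) = avgFun X x := by
  have h := (Subgroup.mem_normalizer_iff.mp hu) x
  by_cases hx : x ∈ X
  · rw [avgFun_of_mem X hx, avgFun_of_mem X (h.mp hx)]
  · rw [avgFun_of_notMem X hx, avgFun_of_notMem X (fun h' => hx (h.mpr h'))]

theorem isClassFunction_avgFun (X : Subgroup G) [hX : X.Normal] : IsClassFunction G (avgFun X) := by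
  intro g h
  have hh : h ∈ Subgroup.normalizer (X : Set G) := by
    rw [Subgroup.normalizer_eq_top X]
    exact Subgroup.mem_top h
  exact avgFun_conj X hh g

theorem isRValued_avgFun {p : ℕ} {M : Ideal AlgInt} (hM : IsPModular p M) (X : Subgroup G)
    (hX : ¬ p ∣ Nat.card X) : IsRValued M (avgFun X) := by
  haveI := isPrime_of_isPModular hM
  intro g
  by_cases hg : g ∈ X
  · rw [avgFun_of_mem X hg]
    exact memLocalRing_inv (memLocalRing_natCast _)
      (fun h => hX ((memLocalIdeal_natCast_iff hM _).mp h))
  · rw [avgFun_of_notMem X hg]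
    exact memLocalRing_zero (ne_top_of_isPModular hM)

end avg

section sums

variable {C : Type u} [Group C] [Fintype C]

/-- The central character at a scaled indicator function of a normal subgroup. -/
theorem omega_indicator (Y : Subgroup C) [hY : Y.Normal] (ξ : IrrCharacter C) (c : ℂ) :
    omega (ξ : C → ℂ) (fun x => by classical exact if x ∈ Y then c else 0) =
      by classical exact if Y ≤ Cfsg.Agent.Helper79.irrKer ξ then c * (Nat.card Y : ℂ) else 0 := by
  classical
  letI : Fintype Y := Fintype.ofFinite Y
  have hξ1 : (ξ : C → ℂ) 1 ≠ 0 := irrChar_one_ne_zero ξ.2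
  have hsum : ∑ x : C, (if x ∈ Y then c else 0) * (ξ : C → ℂ) x = c * ∑ n : Y, (ξ : C → ℂ) n := by
    rw [Finset.mul_sum]
    rw [← Finset.sum_subset (Finset.subset_univ (Finset.univ.filter (· ∈ Y)))]
    · rw [Finset.sum_subtype (Finset.univ.filter (· ∈ Y)) (p := (· ∈ Y)) (by simp)]
      refine Finset.sum_congr rfl fun n _ => ?_
      rw [if_pos n.2]
    · intro y _ hy
      simp only [Finset.mem_filter, Finset.mem_univ, true_and] at hy
      rw [if_neg hy, zero_mul]
  unfold omega
  have hsum' : ∑ x : C, (if x ∈ Y then c else 0) * (ξ : C → ℂ) x =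
      c * ∑ n : Y, (ξ : C → ℂ) n := hsum
  have e : (∑ g : C, (fun x => if x ∈ Y then c else 0) g * (ξ : C → ℂ) g) =
      c * ∑ n : Y, (ξ : C → ℂ) n := hsum'
  have hsn := Cfsg.Agent.Helper78.sum_normal_eq Y ξ
  by_cases h : Y ≤ Cfsg.Agent.Helper79.irrKer ξ
  · rw [if_pos h] at hsn
    rw [if_pos h]
    convert_to (c * ∑ n : Y, (ξ : C → ℂ) n) / (ξ : C → ℂ) 1 = c * (Nat.card Y : ℂ)
    · congr 1
    · rw [hsn]
      field_simp
  · rw [if_neg h] at hsn
    rw [if_neg h]
    convert_to (c * ∑ n : Y, (ξ : C → ℂ) n) / (ξ : C → ℂ) 1 = 0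
    · congr 1
    · rw [hsn]
      simp

/-- The central character at the averaged indicator of a normal subgroup is `1` or `0`. -/
theorem omega_avgFun (X : Subgroup C) [hX : X.Normal] (ξ : IrrCharacter C) :
    omega (ξ : C → ℂ) (avgFun X) =
      by classical exact if X ≤ Cfsg.Agent.Helper79.irrKer ξ then 1 else 0 := by
  classical
  have h := omega_indicator X ξ (Nat.card X : ℂ)⁻¹
  have hne : (Nat.card X : ℂ) ≠ 0 := by
    exact_mod_cast (Nat.card_pos (α := X)).ne'
  have e : avgFun X = fun x => if x ∈ X then (Nat.card X : ℂ)⁻¹ else 0 := by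
    funext x
    unfold avgFun
    congr
  rw [e]
  convert h using 2
  rw [inv_mul_cancel₀ hne]

end sums

section brauer

variable {G : Type u} [Group G] [Fintype G]

/-- The Brauer map image of the averaged indicator of `X`, evaluated by the central character of
an irreducible character of `C_G(P)`, when `X ∩ C_G(P)` is normal in `C_G(P)`. -/
theorem brauerOmega_avgFun (P X : Subgroup G)
    (hY : (X.subgroupOf (Subgroup.centralizer (P : Set G))).Normal)
    (ξ : IrrCharacter (Subgroup.centralizer (P : Set G))) :
    brauerOmega P (avgFun X) (ξ : Subgroup.centralizer (P : Set G) → ℂ) =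
      by classical exact if X.subgroupOf (Subgroup.centralizer (P : Set G)) ≤
          Cfsg.Agent.Helper79.irrKer ξ then
        (Nat.card X : ℂ)⁻¹ * (Nat.card (X.subgroupOf (Subgroup.centralizer (P : Set G))) : ℂ)
        else 0 := by
  classical
  letI : Fintype (Subgroup.centralizer (P : Set G)) := Fintype.ofFinite _
  rw [brauerOmega_eq_omega]
  have h := omega_indicator (X.subgroupOf (Subgroup.centralizer (P : Set G))) ξ
    (Nat.card X : ℂ)⁻¹
  have e : (fun x : Subgroup.centralizer (P : Set G) => avgFun X (x : G)) =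
      fun x => if x ∈ X.subgroupOf (Subgroup.centralizer (P : Set G)) then
        (Nat.card X : ℂ)⁻¹ else 0 := by
    funext x
    by_cases hx : (x : G) ∈ X
    · rw [avgFun_of_mem X hx, if_pos (Subgroup.mem_subgroupOf.mpr hx)]
    · rw [avgFun_of_notMem X hx, if_neg (fun h' => hx (Subgroup.mem_subgroupOf.mp h'))]
  rw [e]
  convert h using 2

end brauer

section card

variable {G : Type u} [Group G] [Finite G]

/-- A `p`-group normalizing a subgroup `X`: the number of fixed points is congruent to `|X|`. -/
theorem card_modEq_card_inf_centralizer_of_isPGroup (p : ℕ) [hp : Fact p.Prime]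
    (P X : Subgroup G) (hP : IsPGroup p P) (hPX : P ≤ Subgroup.normalizer (X : Set G)) :
    Nat.card X ≡ Nat.card (X.subgroupOf (Subgroup.centralizer (P : Set G))) [MOD p] := by
  classical
  letI act : MulAction P X :=
    { smul := fun u x => ⟨(u : G) * (x : G) * (u : G)⁻¹,
        ((Subgroup.mem_normalizer_iff.mp (hPX u.2)) (x : G)).mp x.2⟩
      one_smul := fun x => by
        apply Subtype.ext
        show ((1 : P) : G) * (x : G) * ((1 : P) : G)⁻¹ = (x : G)
        simp
      mul_smul := fun u v x => by
        apply Subtype.ext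
        show ((u * v : P) : G) * (x : G) * ((u * v : P) : G)⁻¹ =
          (u : G) * ((v : G) * (x : G) * (v : G)⁻¹) * (u : G)⁻¹
        simp only [Subgroup.coe_mul]
        group }
  have hsm : ∀ (u : P) (x : X), ((u • x : X) : G) = (u : G) * (x : G) * (u : G)⁻¹ :=
    fun _ _ => rfl
  have h1 := hP.card_modEq_card_fixedPoints (α := X)
  have e : MulAction.fixedPoints P X ≃ X.subgroupOf (Subgroup.centralizer (P : Set G)) :=
    { toFun := fun x => ⟨⟨(x : X), by
          rw [Subgroup.mem_centralizer_iff]
          intro u hu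
          have := congrArg Subtype.val (x.2 ⟨u, hu⟩)
          rw [hsm] at this
          simp only at this
          calc u * ((x : X) : G) = u * ((x : X) : G) * u⁻¹ * u := by group
            _ = ((x : X) : G) * u := by rw [this]⟩, by
        rw [Subgroup.mem_subgroupOf]
        exact (x : X).2⟩
      invFun := fun y => ⟨⟨(y : G), Subgroup.mem_subgroupOf.mp y.2⟩, by
        intro u
        apply Subtype.ext
        rw [hsm]
        have := (Subgroup.mem_centralizer_iff.mp (y : Subgroup.centralizer (P : Set G)).2) u u.2
        simp only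
        rw [this]
        group⟩
      left_inv := fun x => by
        apply Subtype.ext
        apply Subtype.ext
        rfl
      right_inv := fun y => by
        apply Subtype.ext
        apply Subtype.ext
        rfl }
  rw [Nat.card_congr e] at h1
  exact h1

end card

section localring

/-- If `|Y| ≡ |X|` modulo `p` and `p ∤ |X|` then `|Y| / |X| ≡ 1` in the local ring. -/
theorem memLocalIdeal_inv_mul_sub_one {p : ℕ} {M : Ideal AlgInt} (hM : IsPModular p M)
    {a b : ℕ} (ha : ¬ p ∣ a) (hab : a ≡ b [MOD p]) :
    MemLocalIdeal M ((a : ℂ)⁻¹ * (b : ℂ) - 1) := by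
  haveI := isPrime_of_isPModular hM
  have ha0 : (a : ℂ) ≠ 0 := by
    intro h
    apply ha
    have : a = 0 := by exact_mod_cast h
    rw [this]
    exact dvd_zero p
  have hinv : MemLocalRing M (a : ℂ)⁻¹ :=
    memLocalRing_inv (memLocalRing_natCast _) (fun h => ha ((memLocalIdeal_natCast_iff hM _).mp h))
  have hdiff : MemLocalIdeal M ((b : ℂ) - (a : ℂ)) := by
    have h1 : (p : ℤ) ∣ (b : ℤ) - (a : ℤ) := (Nat.modEq_iff_dvd.mp hab)
    obtain ⟨k, hk⟩ := h1
    have h2 : ((b : ℂ) - (a : ℂ)) = (p : ℂ) * (k : ℂ) := by
      have := congrArg (fun z : ℤ => (z : ℂ)) hk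
      simpa using this
    rw [h2]
    exact memLocalIdeal_mul_right ((memLocalIdeal_natCast_iff hM p).mpr dvd_rfl)
      (memLocalRing_intCast k)
  have e : (a : ℂ)⁻¹ * (b : ℂ) - 1 = (a : ℂ)⁻¹ * ((b : ℂ) - (a : ℂ)) := by
    field_simp
  rw [e]
  exact memLocalIdeal_mul_left hinv hdiff

end localring

end Cfsg.Agent.Helper81
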