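import Mathlib
import Cfsg.Agent.Lib.Helper81.PiBlock1
import Cfsg.Agent.Lib.Helper62.PiCore
import Cfsg.Agent.Lib.Helper77.PairConj

/-!
# `π`-cores of centralizers and kernels of Brauer pairs (helper81)

Transport of `piCore` along isomorphisms, invariance of characteristic subgroups of a subgroup
under its normalizer, and the properties `KerPi` / `HallPi` of a Brauer pair.
-/

set_option autoImplicit false
set_option linter.style.haveILetI false
set_option linter.unusedSectionVars false
open Cfsg

namespace Cfsg.Agent.Helper81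

open Cfsg.Agent.Helper77 Cfsg.Agent.Helper62

universe u

section picore

variable {H K : Type u} [Group H] [Group K]

theorem map_piCore_le [Finite H] (π : Set ℕ) (φ : H ≃* K) :
    (piCore π H).map φ.toMonoidHom ≤ piCore π K := by
  apply le_piCore π
  · exact Subgroup.Normal.map inferInstance _ φ.surjective
  · exact isPi_map_equiv π φ (isPi_piCore π)

theorem mem_piCore_equiv [Finite H] [Finite K] (π : Set ℕ) (φ : H ≃* K) (x : H) :
    φ x ∈ piCore π K ↔ x ∈ piCore π H := by
  constructor
  · intro h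
    have := map_piCore_le π φ.symm ⟨φ x, h, rfl⟩
    simpa using this
  · intro h
    exact map_piCore_le π φ ⟨x, h, rfl⟩

end picore

section charn

variable {G : Type u} [Group G]

/-- Conjugation by an element of the normalizer of `K`, as an automorphism of `K`. -/
def normConj (K : Subgroup G) (n : G) (hn : n ∈ Subgroup.normalizer (K : Set G)) : K ≃* K where
  toFun k := ⟨n * k * n⁻¹, (Subgroup.mem_normalizer_iff.mp hn k).mp k.2⟩
  invFun k := ⟨n⁻¹ * k * n, by
    have h := (Subgroup.mem_normalizer_iff.mp hn (n⁻¹ * k * n)).mpr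
    apply h
    have e : n * (n⁻¹ * (k : G) * n) * n⁻¹ = (k : G) := by group
    rw [e]
    exact k.2⟩
  left_inv k := by apply Subtype.ext; simp [mul_assoc]
  right_inv k := by apply Subtype.ext; simp [mul_assoc]
  map_mul' a b := by
    apply Subtype.ext
    show n * ((a * b : K) : G) * n⁻¹ = (n * (a : G) * n⁻¹) * (n * (b : G) * n⁻¹)
    rw [Subgroup.coe_mul]
    group

theorem normConj_apply_coe (K : Subgroup G) (n : G) (hn : n ∈ Subgroup.normalizer (K : Set G))
    (k : K) : ((normConj K n hn k : K) : G) = n * k * n⁻¹ := rfl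

/-- The image in `G` of a characteristic subgroup of `K` is normalized by `N_G(K)`. -/
theorem normalizer_le_normalizer_map_of_characteristic (K : Subgroup G) (Y : Subgroup K)
    [hY : Y.Characteristic] :
    Subgroup.normalizer (K : Set G) ≤ Subgroup.normalizer ((Y.map K.subtype : Subgroup G) : Set G) := by
  have key : ∀ n ∈ Subgroup.normalizer (K : Set G), ∀ y ∈ Y.map K.subtype,
      n * y * n⁻¹ ∈ Y.map K.subtype := by
    intro n hn y hy
    obtain ⟨k, hk, rfl⟩ := hy
    have h1 : normConj K n hn k ∈ Y := by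
      have := (Subgroup.characteristic_iff_map_le.mp hY) (normConj K n hn)
      exact this ⟨k, hk, rfl⟩
    exact ⟨normConj K n hn k, h1, rfl⟩
  intro n hn
  rw [Subgroup.mem_normalizer_iff]
  intro y
  constructor
  · exact key n hn y
  · intro h
    have := key n⁻¹ (Subgroup.inv_mem _ hn) _ h
    have e : n⁻¹ * (n * y * n⁻¹) * n⁻¹⁻¹ = y := by group
    rwa [e] at this

end charn

section pic

variable {G : Type u} [Group G]

/-- `O_π(C_G(Q))` as a subgroup of `G`. -/
def piC (π : Set ℕ) (Q : Subgroup G) : Subgroup G :=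
  (piCore π ↥(Subgroup.centralizer (Q : Set G))).map (Subgroup.centralizer (Q : Set G)).subtype

theorem piC_le (π : Set ℕ) (Q : Subgroup G) : piC π Q ≤ Subgroup.centralizer (Q : Set G) := by
  rintro _ ⟨y, _, rfl⟩
  exact y.2

theorem mem_piC_iff (π : Set ℕ) (Q : Subgroup G) (x : ↥(Subgroup.centralizer (Q : Set G))) :
    (x : G) ∈ piC π Q ↔ x ∈ piCore π ↥(Subgroup.centralizer (Q : Set G)) := by
  constructor
  · rintro ⟨y, hy, hxy⟩
    have : y = x := Subtype.ext hxy
    rwa [← this]
  · intro hx
    exact ⟨x, hx, rfl⟩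

theorem piC_subgroupOf (π : Set ℕ) (Q : Subgroup G) :
    (piC π Q).subgroupOf (Subgroup.centralizer (Q : Set G)) =
      piCore π ↥(Subgroup.centralizer (Q : Set G)) := by
  ext x
  rw [Subgroup.mem_subgroupOf, mem_piC_iff]

theorem card_piC (π : Set ℕ) (Q : Subgroup G) :
    Nat.card (piC π Q) = Nat.card (piCore π ↥(Subgroup.centralizer (Q : Set G))) :=
  Nat.card_congr ((piCore π ↥(Subgroup.centralizer (Q : Set G))).equivMapOfInjective
    (Subgroup.centralizer (Q : Set G)).subtype (Subgroup.subtype_injective _)).symm.toEquiv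

theorem isPi_piC [Finite G] (π : Set ℕ) (Q : Subgroup G) : IsPi π (piC π Q) :=
  isPi_map_subtype π _ (isPi_piCore π)

theorem not_dvd_card_piC [Finite G] (π : Set ℕ) (Q : Subgroup G) {p : ℕ} (hp : p.Prime)
    (hpπ : p ∉ π) : ¬ p ∣ Nat.card (piC π Q) :=
  fun h => hpπ (isPi_piC π Q p hp h)

theorem normalizer_le_normalizer_centralizer' (Q : Subgroup G) :
    Subgroup.normalizer (Q : Set G) ≤
      Subgroup.normalizer ((Subgroup.centralizer (Q : Set G) : Subgroup G) : Set G) := by
  have key : ∀ n ∈ Subgroup.normalizer (Q : Set G), ∀ c ∈ Subgroup.centralizer (Q : Set G),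
      n * c * n⁻¹ ∈ Subgroup.centralizer (Q : Set G) := by
    intro n hn c hc
    rw [Subgroup.mem_centralizer_iff] at hc ⊢
    intro u hu
    have hu' : n⁻¹ * u * n ∈ Q := by
      have := (Subgroup.mem_normalizer_iff.mp (Subgroup.inv_mem _ hn) u).mp hu
      simpa using this
    have := hc _ hu'
    have h1 : u * (n * c * n⁻¹) = n * (n⁻¹ * u * n * c) * n⁻¹ := by group
    have h2 : n * c * n⁻¹ * u = n * (c * (n⁻¹ * u * n)) * n⁻¹ := by group
    rw [h1, h2, this]
  intro n hn
  rw [Subgroup.mem_normalizer_iff]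
  intro c
  constructor
  · exact key n hn c
  · intro h
    have := key n⁻¹ (Subgroup.inv_mem _ hn) _ h
    have e : n⁻¹ * (n * c * n⁻¹) * n⁻¹⁻¹ = c := by group
    rwa [e] at this

theorem normalizer_le_normalizer_piC (π : Set ℕ) (Q : Subgroup G) :
    Subgroup.normalizer (Q : Set G) ≤ Subgroup.normalizer ((piC π Q : Subgroup G) : Set G) :=
  (normalizer_le_normalizer_centralizer' Q).trans
    (normalizer_le_normalizer_map_of_characteristic _ _)

theorem centralizer_le_normalizer_piC (π : Set ℕ) (Q : Subgroup G) :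
    Subgroup.centralizer (Q : Set G) ≤ Subgroup.normalizer ((piC π Q : Subgroup G) : Set G) :=
  (Subgroup.centralizer_le_normalizer _).trans (normalizer_le_normalizer_piC π Q)

/-- For `X ≤ G` normalized by `C`, the subgroup `X ∩ C` of `C` is normal. -/
theorem normal_subgroupOf_of_le_normalizer (X C : Subgroup G)
    (h : C ≤ Subgroup.normalizer (X : Set G)) : (X.subgroupOf C).Normal := by
  constructor
  intro y hy c
  rw [Subgroup.mem_subgroupOf] at hy ⊢
  exact (Subgroup.mem_normalizer_iff.mp (h c.2) (y : G)).mp hy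

/-- `|X ∩ C|` divides `|X|`. -/
theorem isPi_subgroupOf' [Finite G] (π : Set ℕ) (X C : Subgroup G) (h : IsPi π X) :
    IsPi π (X.subgroupOf C) := by
  intro q hq hdvd
  apply h q hq
  have e : Nat.card (X.subgroupOf C) = Nat.card (X ⊓ C : Subgroup G) := by
    rw [← Subgroup.inf_subgroupOf_right]
    exact Nat.card_congr (Subgroup.subgroupOfEquivOfLe inf_le_right).toEquiv
  rw [e] at hdvd
  exact hdvd.trans (Subgroup.card_dvd_of_le inf_le_left)

end pic

section props

variable {G : Type u} [Group G]

/-- Every element of `O_π(C_G(Q))` lies in the kernel of every member of `f`. -/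
def KerPi (π : Set ℕ) (Q : Subgroup G)
    (f : Set (IrrCharacter ↥(Subgroup.centralizer (Q : Set G)))) : Prop :=
  ∀ x : ↥(Subgroup.centralizer (Q : Set G)),
    x ∈ piCore π ↥(Subgroup.centralizer (Q : Set G)) → x ∈ blockKer f

/-- `O_π(C_G(Q))` contains every `π`-element of `C_G(Q)`. -/
def HallPi (π : Set ℕ) (Q : Subgroup G) : Prop :=
  ∀ x : ↥(Subgroup.centralizer (Q : Set G)), (∀ q : ℕ, q.Prime → q ∣ orderOf x → q ∈ π) →
    x ∈ piCore π ↥(Subgroup.centralizer (Q : Set G))

theorem kerPi_iff [Finite G] (π : Set ℕ) (Q : Subgroup G)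
    (f : Set (IrrCharacter ↥(Subgroup.centralizer (Q : Set G)))) :
    KerPi π Q f ↔ ∀ η ∈ f, piCore π ↥(Subgroup.centralizer (Q : Set G)) ≤
      Cfsg.Agent.Helper79.irrKer η := by
  constructor
  · intro h η hη x hx
    rw [Cfsg.Agent.Helper79.mem_irrKer]
    exact h x hx η hη
  · intro h x hx η hη
    have := h η hη hx
    rwa [Cfsg.Agent.Helper79.mem_irrKer] at this

end props

section transport

variable {A A' : Type u} [Group A] [Group A'] [Finite A] [Finite A']

/-- Transport of "the `π`-core lies in the kernel of the block" along an isomorphism. -/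
theorem piCore_le_blockKer_mapSet (π : Set ℕ) (φ : A ≃* A') (f : Set (IrrCharacter A))
    (h : ∀ x : A, x ∈ piCore π A → x ∈ blockKer f) :
    ∀ x' : A', x' ∈ piCore π A' → x' ∈ blockKer (mapSet φ f) := by
  intro x' hx' ξ' hξ'
  obtain ⟨ξ, hξ, rfl⟩ := hξ'
  rw [mapIrr_coe, mapIrr_coe, map_one]
  apply h _ _ ξ hξ
  rw [← mem_piCore_equiv π φ]
  simpa using hx'

theorem piCore_le_blockKer_of_mapSet (π : Set ℕ) (φ : A ≃* A') (f : Set (IrrCharacter A))
    (h : ∀ x' : A', x' ∈ piCore π A' → x' ∈ blockKer (mapSet φ f)) :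
    ∀ x : A, x ∈ piCore π A → x ∈ blockKer f := by
  have := piCore_le_blockKer_mapSet π φ.symm (mapSet φ f) h
  rwa [mapSet_symm_mapSet] at this

end transport

end Cfsg.Agent.Helper81
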