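import Mathlib
import Cfsg.Agent.Lib.Helper81.PiBlock2
import Cfsg.Agent.Lib.Helper77.PairConjugacy

/-!
# `O_π(C_G(Q)) ≤ ker f` along inclusions of Brauer pairs (helper81)

For a set `π` of primes not containing `p`: along a normal inclusion `(Q, f) ⊴ (P, e)` of Brauer
pairs the property `KerPi` ("`O_π(C_G(Q))` lies in the kernel of `f`") descends, and it ascends
when `O_π(C_G(Q))` contains all `π`-elements of `C_G(Q)`.
-/

set_option autoImplicit false
set_option linter.style.haveILetI false
set_option linter.unusedSectionVars false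
open Cfsg

namespace Cfsg.Agent.Helper81

open Cfsg.Agent.Helper77 Cfsg.Agent.Helper62

universe u

section step

variable {G : Type u} [Group G] [Fintype G] {p : ℕ} [hp : Fact p.Prime] {M : Ideal AlgInt}

theorem normalSubpair_avg_congr (hM : IsPModular p M) (π : Set ℕ) (hpπ : p ∉ π)
    {Q P : Subgroup G} {f : Set (IrrCharacter (Subgroup.centralizer (Q : Set G)))}
    {e : Set (IrrCharacter (Subgroup.centralizer (P : Set G)))}
    (h : IsNormalSubpair p M Q f P e)
    {ξ : IrrCharacter (Subgroup.centralizer (P : Set G))} (hξ : ξ ∈ e)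
    {η : IrrCharacter (Subgroup.centralizer (Q : Set G))} (hη : η ∈ f) :
    MemLocalIdeal M (brauerOmega P (avgFun (piC π Q)) (ξ : Subgroup.centralizer (P : Set G) → ℂ) -
      brauerOmega Q (avgFun (piC π Q)) (η : Subgroup.centralizer (Q : Set G) → ℂ)) := by
  refine brauerOmega_congr_of_isNormalSubpair hM P Q e f h
    (isRValued_avgFun hM _ (not_dvd_card_piC π Q hp.out hpπ)) ?_ ?_ hξ hη
  · intro u hu x
    exact avgFun_conj _ (centralizer_le_normalizer_piC π Q hu) x
  · intro u hu x
    exact avgFun_conj _ (normalizer_le_normalizer_piC π Q (h.2.2.2.1 hu)) x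

theorem brauerOmega_avgFun_piC_self (π : Set ℕ) (Q : Subgroup G)
    (η : IrrCharacter (Subgroup.centralizer (Q : Set G))) :
    brauerOmega Q (avgFun (piC π Q)) (η : Subgroup.centralizer (Q : Set G) → ℂ) =
      by classical exact if piCore π ↥(Subgroup.centralizer (Q : Set G)) ≤
        Cfsg.Agent.Helper79.irrKer η then 1 else 0 := by
  classical
  have hY : ((piC π Q).subgroupOf (Subgroup.centralizer (Q : Set G))).Normal :=
    normal_subgroupOf_of_le_normalizer _ _ (centralizer_le_normalizer_piC π Q)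
  rw [brauerOmega_avgFun Q (piC π Q) hY η, piC_subgroupOf, card_piC]
  have hne : (Nat.card (piCore π ↥(Subgroup.centralizer (Q : Set G))) : ℂ) ≠ 0 := by
    exact_mod_cast (Nat.card_pos (α := piCore π ↥(Subgroup.centralizer (Q : Set G)))).ne'
  rw [inv_mul_cancel₀ hne]

/-- prime divisors of the order of an element of the `π`-core lie in `π`. -/
theorem prime_dvd_orderOf_of_mem_piCore {H : Type u} [Group H] [Finite H] (π : Set ℕ) {x : H}
    (hx : x ∈ piCore π H) : ∀ q : ℕ, q.Prime → q ∣ orderOf x → q ∈ π := by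
  intro q hq hdvd
  apply isPi_piCore (G := H) π q hq
  have h1 : orderOf (⟨x, hx⟩ : piCore π H) = orderOf x := by
    rw [← Subgroup.orderOf_coe]
  rw [← h1] at hdvd
  exact hdvd.trans (orderOf_dvd_natCard _)

variable (hM : IsPModular p M) (π : Set ℕ) (hpπ : p ∉ π)

include hM hpπ in
/-- `KerPi` descends along a normal inclusion of Brauer pairs. -/
theorem kerPi_down_step {Q P : Subgroup G}
    {f : Set (IrrCharacter (Subgroup.centralizer (Q : Set G)))}
    {e : Set (IrrCharacter (Subgroup.centralizer (P : Set G)))}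
    (h : IsNormalSubpair p M Q f P e) (hP : KerPi π P e) : KerPi π Q f := by
  classical
  haveI := isPrime_of_isPModular hM
  rw [kerPi_iff] at hP ⊢
  intro η hη
  by_contra hno
  obtain ⟨ξ, hξ⟩ := nonempty_of_isPBlock h.2.1.2
  have hc := normalSubpair_avg_congr hM π hpπ h hξ hη
  rw [brauerOmega_avgFun_piC_self, if_neg hno, sub_zero] at hc
  have hCPQ : Subgroup.centralizer (P : Set G) ≤ Subgroup.centralizer (Q : Set G) :=
    Subgroup.centralizer_le h.2.2.1
  have hYn : ((piC π Q).subgroupOf (Subgroup.centralizer (P : Set G))).Normal :=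
    normal_subgroupOf_of_le_normalizer _ _ (hCPQ.trans (centralizer_le_normalizer_piC π Q))
  have hYle : (piC π Q).subgroupOf (Subgroup.centralizer (P : Set G)) ≤
      Cfsg.Agent.Helper79.irrKer ξ :=
    (le_piCore π hYn (isPi_subgroupOf' π _ _ (isPi_piC π Q))).trans (hP ξ hξ)
  rw [brauerOmega_avgFun P (piC π Q) hYn ξ, if_pos hYle] at hc
  have h1 := memLocalIdeal_inv_mul_sub_one hM (not_dvd_card_piC π Q hp.out hpπ)
    (card_modEq_card_inf_centralizer_of_isPGroup p P (piC π Q) h.2.1.1
      (h.2.2.2.1.trans (normalizer_le_normalizer_piC π Q)))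
  apply not_memLocalIdeal_one (M := M)
  have := memLocalIdeal_sub hc h1
  convert this using 1
  ring

include hM hpπ in
/-- `KerPi` together with `HallPi` ascends along a normal inclusion of Brauer pairs. -/
theorem kerPi_up_step {Q P : Subgroup G}
    {f : Set (IrrCharacter (Subgroup.centralizer (Q : Set G)))}
    {e : Set (IrrCharacter (Subgroup.centralizer (P : Set G)))}
    (h : IsNormalSubpair p M Q f P e) (hQ : KerPi π Q f) (hH : HallPi π Q) :
    KerPi π P e ∧ HallPi π P := by
  classical
  haveI := isPrime_of_isPModular hM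
  have hCPQ : Subgroup.centralizer (P : Set G) ≤ Subgroup.centralizer (Q : Set G) :=
    Subgroup.centralizer_le h.2.2.1
  have hYn : ((piC π Q).subgroupOf (Subgroup.centralizer (P : Set G))).Normal :=
    normal_subgroupOf_of_le_normalizer _ _ (hCPQ.trans (centralizer_le_normalizer_piC π Q))
  have hYpi : (piC π Q).subgroupOf (Subgroup.centralizer (P : Set G)) ≤
      piCore π ↥(Subgroup.centralizer (P : Set G)) :=
    le_piCore π hYn (isPi_subgroupOf' π _ _ (isPi_piC π Q))
  -- `π`-elements of `C_G(P)` lie in `Y`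
  have hel : ∀ x : ↥(Subgroup.centralizer (P : Set G)),
      (∀ q : ℕ, q.Prime → q ∣ orderOf x → q ∈ π) →
      x ∈ (piC π Q).subgroupOf (Subgroup.centralizer (P : Set G)) := by
    intro x hx
    rw [Subgroup.mem_subgroupOf]
    have h1 : (⟨(x : G), hCPQ x.2⟩ : ↥(Subgroup.centralizer (Q : Set G))) ∈
        piCore π ↥(Subgroup.centralizer (Q : Set G)) := by
      apply hH
      intro q hq hdvd
      apply hx q hq
      rw [← Subgroup.orderOf_coe] at hdvd ⊢
      exact hdvd
    exact (mem_piC_iff π Q ⟨(x : G), hCPQ x.2⟩).mpr h1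
  refine ⟨?_, fun x hx => hYpi (hel x hx)⟩
  rw [kerPi_iff] at hQ ⊢
  intro ξ hξ
  have hYle : (piC π Q).subgroupOf (Subgroup.centralizer (P : Set G)) ≤
      Cfsg.Agent.Helper79.irrKer ξ := by
    by_contra hno
    obtain ⟨η, hη⟩ := nonempty_of_isPBlock h.1.2
    have hc := normalSubpair_avg_congr hM π hpπ h hξ hη
    rw [brauerOmega_avgFun_piC_self, if_pos (hQ η hη),
      brauerOmega_avgFun P (piC π Q) hYn ξ, if_neg hno, zero_sub] at hc
    apply not_memLocalIdeal_one (M := M)
    have := memLocalIdeal_neg hc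
    rwa [neg_neg] at this
  intro x hx
  exact hYle (hel x (prime_dvd_orderOf_of_mem_piCore π hx))

end step

section chain

variable {G : Type u} [Group G] [Fintype G] {p : ℕ} [hp : Fact p.Prime] {M : Ideal AlgInt}

theorem kerPi_of_reflTransGen (hM : IsPModular p M) (π : Set ℕ) (hpπ : p ∉ π)
    {a b : BrauerPairIdx G} (h : Relation.ReflTransGen (NormalSubpairRel p M) a b)
    (hb : KerPi π b.1 b.2) : KerPi π a.1 a.2 := by
  induction h with
  | refl => exact hb
  | tail _ hbc ih => exact ih (kerPi_down_step hM π hpπ hbc hb)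

/-- `KerPi` descends along an inclusion of Brauer pairs. -/
theorem kerPi_of_subpairLE (hM : IsPModular p M) (π : Set ℕ) (hpπ : p ∉ π)
    {Q P : Subgroup G} {f : Set (IrrCharacter (Subgroup.centralizer (Q : Set G)))}
    {e : Set (IrrCharacter (Subgroup.centralizer (P : Set G)))}
    (hle : SubpairLE p M Q f P e) (hP : KerPi π P e) : KerPi π Q f :=
  kerPi_of_reflTransGen hM π hpπ (a := ⟨Q, f⟩) (b := ⟨P, e⟩) hle hP

theorem kerPi_hallPi_of_reflTransGen (hM : IsPModular p M) (π : Set ℕ) (hpπ : p ∉ π)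
    {a b : BrauerPairIdx G} (h : Relation.ReflTransGen (NormalSubpairRel p M) a b)
    (ha : KerPi π a.1 a.2) (hH : HallPi π a.1) : KerPi π b.1 b.2 ∧ HallPi π b.1 := by
  induction h with
  | refl => exact ⟨ha, hH⟩
  | tail _ hbc ih => exact kerPi_up_step hM π hpπ hbc ih.1 ih.2

/-- `KerPi` and `HallPi` ascend along an inclusion of Brauer pairs. -/
theorem kerPi_hallPi_of_subpairLE (hM : IsPModular p M) (π : Set ℕ) (hpπ : p ∉ π)
    {Q P : Subgroup G} {f : Set (IrrCharacter (Subgroup.centralizer (Q : Set G)))}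
    {e : Set (IrrCharacter (Subgroup.centralizer (P : Set G)))}
    (hle : SubpairLE p M Q f P e) (hQ : KerPi π Q f) (hH : HallPi π Q) :
    KerPi π P e ∧ HallPi π P :=
  kerPi_hallPi_of_reflTransGen hM π hpπ (a := ⟨Q, f⟩) (b := ⟨P, e⟩) hle hQ hH

end chain

section conj

variable {G : Type u} [Group G] [Finite G]

theorem kerPi_conjBlock (π : Set ℕ) (Q : Subgroup G) (x : G)
    (f : Set (IrrCharacter (Subgroup.centralizer (Q : Set G)))) (h : KerPi π Q f) :
    KerPi π (Q.map (MulAut.conj x).toMonoidHom) (conjBlock Q x f) := by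
  rw [conjBlock_eq_mapSet]
  exact piCore_le_blockKer_mapSet π (centEquiv Q x) f h

theorem kerPi_of_conjBlock (π : Set ℕ) (Q : Subgroup G) (x : G)
    (f : Set (IrrCharacter (Subgroup.centralizer (Q : Set G))))
    (h : KerPi π (Q.map (MulAut.conj x).toMonoidHom) (conjBlock Q x f)) : KerPi π Q f := by
  rw [conjBlock_eq_mapSet] at h
  exact piCore_le_blockKer_of_mapSet π (centEquiv Q x) f h

theorem hallPi_conj (π : Set ℕ) (Q : Subgroup G) (x : G) (h : HallPi π Q) :
    HallPi π (Q.map (MulAut.conj x).toMonoidHom) := by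
  intro y hy
  have h1 : (centEquiv Q x).symm y ∈ piCore π ↥(Subgroup.centralizer (Q : Set G)) := by
    apply h
    intro q hq hdvd
    apply hy q hq
    rwa [MulEquiv.orderOf_eq] at hdvd
  have := (mem_piCore_equiv π (centEquiv Q x) ((centEquiv Q x).symm y)).mpr h1
  rwa [MulEquiv.apply_symm_apply] at this

end conj

end Cfsg.Agent.Helper81
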