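import Mathlib
import Cfsg.Agent.Lib.Helper81.PiBlock3
import Cfsg.Agent.Lib.Helper76.InBlock3

/-!
# Kernels and induced blocks; local Brauer pairs (helper81)

* `induced_kernel_iff` : for `b^A = B` from a subgroup `H` and a normal `p'`-subgroup `X` of `A`
  with `|X ∩ H| ≡ |X|` mod `p`:  `X ∩ H ≤ ker ξ ↔ X ≤ ker χ` for `ξ ∈ b`, `χ ∈ B`.
* `exists_local_pair` : a block `b` of `L ≥ C_G(D)` with defect group `D` inducing `B` gives a
  `B`-Brauer pair `(D, c)` with `c^L = b`.
* `piCore_le_blockKer_of_kerPi`, `kerPi_of_piCore_le_blockKer` : passage between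
  `O_π(L) ≤ ker b` and `O_π(C_G(D)) ≤ ker c`.
-/

set_option autoImplicit false
set_option linter.style.haveILetI false
set_option linter.unusedSectionVars false
open Cfsg

namespace Cfsg.Agent.Helper81

open Cfsg.Agent.Helper77 Cfsg.Agent.Helper62 Cfsg.Agent.Helper76.InBlock

universe u

section ind

variable {A : Type u} [Group A] [Fintype A] {p : ℕ} [hp : Fact p.Prime] {M : Ideal AlgInt}

theorem induced_kernel_iff (hM : IsPModular p M) (H : Subgroup A)
    {b : Set (IrrCharacter H)} {B : Set (IrrCharacter A)} (hind : IsInducedBlock M H b B)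
    (X : Subgroup A) [hX : X.Normal] (hpX : ¬ p ∣ Nat.card X)
    (hcard : Nat.card X ≡ Nat.card (X.subgroupOf H) [MOD p])
    {ξ : IrrCharacter H} (hξ : ξ ∈ b) {χ : IrrCharacter A} (hχ : χ ∈ B) :
    X.subgroupOf H ≤ Cfsg.Agent.Helper79.irrKer ξ ↔ X ≤ Cfsg.Agent.Helper79.irrKer χ := by
  classical
  haveI := isPrime_of_isPModular hM
  letI : Fintype H := Fintype.ofFinite H
  have e := omega_restr_congr_of_isInducedBlock H hind hξ hχ (isClassFunction_avgFun X)
    (isRValued_avgFun hM X hpX)
  rw [omega_avgFun X χ] at e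
  have hr : restr H (avgFun X) = fun h : H => if h ∈ X.subgroupOf H then
      (Nat.card X : ℂ)⁻¹ else 0 := by
    funext h
    show avgFun X (h : A) = _
    by_cases hx : (h : A) ∈ X
    · rw [avgFun_of_mem X hx, if_pos (Subgroup.mem_subgroupOf.mpr hx)]
    · rw [avgFun_of_notMem X hx, if_neg (fun h' => hx (Subgroup.mem_subgroupOf.mp h'))]
  have hom := omega_indicator (X.subgroupOf H) ξ (Nat.card X : ℂ)⁻¹
  have h1 := memLocalIdeal_inv_mul_sub_one hM hpX hcard
  constructor
  · intro hl
    by_contra hno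
    rw [if_neg hno, sub_zero, hr] at e
    have e' : MemLocalIdeal M ((Nat.card X : ℂ)⁻¹ * (Nat.card (X.subgroupOf H) : ℂ)) := by
      have : omega (ξ : H → ℂ) (fun h : H => if h ∈ X.subgroupOf H then
          (Nat.card X : ℂ)⁻¹ else 0) =
          (Nat.card X : ℂ)⁻¹ * (Nat.card (X.subgroupOf H) : ℂ) := by
        convert hom using 1
        rw [if_pos hl]
      rwa [this] at e
    apply not_memLocalIdeal_one (M := M)
    have := memLocalIdeal_sub e' h1
    convert this using 1
    ring
  · intro hr'
    by_contra hno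
    rw [if_pos hr', hr] at e
    have : omega (ξ : H → ℂ) (fun h : H => if h ∈ X.subgroupOf H then
        (Nat.card X : ℂ)⁻¹ else 0) = 0 := by
      convert hom using 1
      rw [if_neg hno]
    rw [this, zero_sub] at e
    apply not_memLocalIdeal_one (M := M)
    have := memLocalIdeal_neg e
    rwa [neg_neg] at this

end ind

section loc

variable {G : Type u} [Group G] [Fintype G] {p : ℕ} [hp : Fact p.Prime] {M : Ideal AlgInt}

/-- A block `b` of `L ≥ C_G(D)` with defect group `D`, inducing `B`, yields a `B`-Brauer pair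
`(D, c)` whose block `c` induces `b`. -/
theorem exists_local_pair (hM : IsPModular p M) (L D : Subgroup G) (hDL : D ≤ L)
    (hKL : Subgroup.centralizer (D : Set G) ≤ L)
    {b : Set (IrrCharacter L)} (hb : IsPBlock M b)
    (hΔ : IsDefectGroup p M b (D.subgroupOf L))
    {B : Set (IrrCharacter G)} (hind : IsInducedBlock M L b B) :
    ∃ c : Set (IrrCharacter (Subgroup.centralizer (D : Set G))),
      IsBrauerPairOf p M B D c ∧
      IsInducedBlock M ((Subgroup.centralizer (D : Set G)).subgroupOf L)
        (downSet L (Subgroup.centralizer (D : Set G)) hKL c) b := by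
  classical
  haveI := isPrime_of_isPModular hM
  letI : Fintype L := Fintype.ofFinite L
  letI : Fintype (Subgroup.centralizer (D : Set G)) := Fintype.ofFinite _
  obtain ⟨β, -, hβind, -⟩ := abs_defect hM hb hΔ
    ((Subgroup.centralizer (D : Set G)).subgroupOf L) (centralizer_subgroupOf_eq D L hDL)
  refine ⟨mapSet (Subgroup.subgroupOfEquivOfLe hKL) β, ?_, ?_⟩
  · have hdown : downSet L (Subgroup.centralizer (D : Set G)) hKL
        (mapSet (Subgroup.subgroupOfEquivOfLe hKL) β) = β := by
      unfold downSet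
      exact mapSet_symm_mapSet _ β
    have h1 : IsInducedBlock M ((Subgroup.centralizer (D : Set G)).subgroupOf L)
        (downSet L (Subgroup.centralizer (D : Set G)) hKL
          (mapSet (Subgroup.subgroupOfEquivOfLe hKL) β)) b := by
      rw [hdown]
      exact hβind
    have h2 := induced_trans' L (Subgroup.centralizer (D : Set G)) hKL h1 hind
    have hDp : IsPGroup p D := by
      have h3 : IsPGroup p (D.subgroupOf L) := isPGroup_of_isDefectGroup hΔ
      exact h3.of_equiv (Subgroup.subgroupOfEquivOfLe hDL)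
    exact isBrauerPairOf_of_isInducedBlock_gen hM D hDp h2
  · have hdown : downSet L (Subgroup.centralizer (D : Set G)) hKL
        (mapSet (Subgroup.subgroupOfEquivOfLe hKL) β) = β := by
      unfold downSet
      exact mapSet_symm_mapSet _ β
    rw [hdown]
    exact hβind

/-- From `O_π(C_G(D)) ≤ ker c` to `O_π(L) ≤ ker b` when `c^L = b`. -/
theorem piCore_le_blockKer_of_kerPi (hM : IsPModular p M) (π : Set ℕ) (hpπ : p ∉ π)
    (L D : Subgroup G) (hDL : D ≤ L) (hDp : IsPGroup p D)
    (hKL : Subgroup.centralizer (D : Set G) ≤ L)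
    {b : Set (IrrCharacter L)} {c : Set (IrrCharacter (Subgroup.centralizer (D : Set G)))}
    (hind : IsInducedBlock M ((Subgroup.centralizer (D : Set G)).subgroupOf L)
      (downSet L (Subgroup.centralizer (D : Set G)) hKL c) b)
    (hker : KerPi π D c) : ∀ x : L, x ∈ piCore π L → x ∈ blockKer b := by
  classical
  haveI := isPrime_of_isPModular hM
  letI : Fintype L := Fintype.ofFinite L
  have hpY : ¬ p ∣ Nat.card (piCore π ↥L) := fun h => hpπ (isPi_piCore π p hp.out h)
  have hcard : Nat.card (piCore π ↥L) ≡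
      Nat.card ((piCore π ↥L).subgroupOf ((Subgroup.centralizer (D : Set G)).subgroupOf L))
        [MOD p] := by
    rw [centralizer_subgroupOf_eq D L hDL]
    refine card_modEq_card_inf_centralizer_of_isPGroup p (D.subgroupOf L) (piCore π ↥L)
      hDp.comap_subtype ?_
    rw [Subgroup.normalizer_eq_top]
    exact le_top
  obtain ⟨ξ, hξ⟩ := nonempty_of_isPBlock hind.1
  -- the image of `O_π(L)` in `G`, cut down to `C_G(D)`, lies in `O_π(C_G(D))`
  have hZn : Subgroup.centralizer (D : Set G) ≤
      Subgroup.normalizer (((piCore π ↥L).map L.subtype : Subgroup G) : Set G) :=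
    (hKL.trans Subgroup.le_normalizer).trans
      (normalizer_le_normalizer_map_of_characteristic L (piCore π ↥L))
  have hZle : ((piCore π ↥L).map L.subtype).subgroupOf (Subgroup.centralizer (D : Set G)) ≤
      piCore π ↥(Subgroup.centralizer (D : Set G)) :=
    le_piCore π (normal_subgroupOf_of_le_normalizer _ _ hZn)
      (isPi_subgroupOf' π _ _ (isPi_map_subtype π L (isPi_piCore π)))
  have hleft : (piCore π ↥L).subgroupOf ((Subgroup.centralizer (D : Set G)).subgroupOf L) ≤
      Cfsg.Agent.Helper79.irrKer ξ := by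
    obtain ⟨η, hη, rfl⟩ := hξ
    intro y hy
    rw [Cfsg.Agent.Helper79.mem_irrKer, mapIrr_coe, mapIrr_coe, map_one]
    have hy' : (Subgroup.subgroupOfEquivOfLe hKL).symm.symm y ∈
        piCore π ↥(Subgroup.centralizer (D : Set G)) := by
      apply hZle
      rw [Subgroup.mem_subgroupOf]
      exact ⟨(y : L), Subgroup.mem_subgroupOf.mp hy, rfl⟩
    exact hker _ hy' η hη
  intro x hx χ hχ
  have := (induced_kernel_iff hM _ hind (piCore π ↥L) hpY hcard hξ hχ).mp hleft hx
  rwa [Cfsg.Agent.Helper79.mem_irrKer] at this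

/-- From `O_π(L) ≤ ker b` to `O_π(C_G(D)) ≤ ker c` when `c^L = b` and `D ⊴ L`. -/
theorem kerPi_of_piCore_le_blockKer (hM : IsPModular p M) (π : Set ℕ) (hpπ : p ∉ π)
    (L D : Subgroup G) (hLN : L ≤ Subgroup.normalizer (D : Set G))
    (hKL : Subgroup.centralizer (D : Set G) ≤ L)
    {b : Set (IrrCharacter L)} {c : Set (IrrCharacter (Subgroup.centralizer (D : Set G)))}
    (hind : IsInducedBlock M ((Subgroup.centralizer (D : Set G)).subgroupOf L)
      (downSet L (Subgroup.centralizer (D : Set G)) hKL c) b)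
    (hker : ∀ x : L, x ∈ piCore π L → x ∈ blockKer b) : KerPi π D c := by
  classical
  haveI := isPrime_of_isPModular hM
  letI : Fintype L := Fintype.ofFinite L
  haveI hXn : ((piC π D).subgroupOf L).Normal :=
    normal_subgroupOf_of_le_normalizer _ _ (hLN.trans (normalizer_le_normalizer_piC π D))
  have hXpi : IsPi π ((piC π D).subgroupOf L) := isPi_subgroupOf' π _ _ (isPi_piC π D)
  have hpX : ¬ p ∣ Nat.card ((piC π D).subgroupOf L) := fun h => hpπ (hXpi p hp.out h)
  have hXle : (piC π D).subgroupOf L ≤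
      (Subgroup.centralizer (D : Set G)).subgroupOf L := by
    intro y hy
    rw [Subgroup.mem_subgroupOf] at hy ⊢
    exact piC_le π D hy
  have hcard : Nat.card ((piC π D).subgroupOf L) ≡
      Nat.card (((piC π D).subgroupOf L).subgroupOf
        ((Subgroup.centralizer (D : Set G)).subgroupOf L)) [MOD p] := by
    rw [Nat.card_congr (Subgroup.subgroupOfEquivOfLe hXle).toEquiv]
  obtain ⟨χ, hχ⟩ := nonempty_of_isPBlock hind.2.1
  have hright : (piC π D).subgroupOf L ≤ Cfsg.Agent.Helper79.irrKer χ := by
    intro y hy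
    rw [Cfsg.Agent.Helper79.mem_irrKer]
    exact hker y (le_piCore π hXn hXpi hy) χ hχ
  intro x hx η hη
  have hξ : mapIrr (Subgroup.subgroupOfEquivOfLe hKL).symm η ∈
      downSet L (Subgroup.centralizer (D : Set G)) hKL c := ⟨η, hη, rfl⟩
  have hl := (induced_kernel_iff hM _ hind ((piC π D).subgroupOf L) hpX hcard hξ hχ).mpr hright
  have hy : (Subgroup.subgroupOfEquivOfLe hKL).symm x ∈ ((piC π D).subgroupOf L).subgroupOf
      ((Subgroup.centralizer (D : Set G)).subgroupOf L) := by
    rw [Subgroup.mem_subgroupOf, Subgroup.mem_subgroupOf]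
    exact (mem_piC_iff π D x).mpr hx
  have := hl hy
  rw [Cfsg.Agent.Helper79.mem_irrKer, mapIrr_coe, mapIrr_coe, map_one] at this
  simpa using this

end loc

end Cfsg.Agent.Helper81
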