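import Mathlib
import Cfsg.Agent.Lib.Helper81.PiBlock4

/-!
# Brauer's `π`-block kernel conditions (helper81)

* `exists_maxpair_of_normalizer_block` : the Brauer correspondent `B₁` (in `N_G(D)`) of a block
  `B` with defect group `D` yields a maximal `B`-Brauer pair `(D, c)` with `c^{N_G(D)} = B₁`.
* `piCore_le_blockKer_descends` : if `O_π(N_G(D)) ≤ ker B₁` then `O_π(G₀) ≤ ker B₀` for every
  block `B₀` of a subgroup `G₀ ≥ C_G(D₀)` (`D₀` a defect group of `B₀`) inducing `B`.
-/

set_option autoImplicit false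
set_option linter.style.haveILetI false
set_option linter.unusedSectionVars false
open Cfsg

namespace Cfsg.Agent.Helper81

open Cfsg.Agent.Helper77 Cfsg.Agent.Helper62 Cfsg.Agent.Helper76.InBlock

universe u

section top

variable {G : Type u} [Group G] [Fintype G] {p : ℕ} [hp : Fact p.Prime] {M : Ideal AlgInt}

/-- The Brauer correspondent gives a maximal Brauer pair on the defect group. -/
theorem exists_maxpair_of_normalizer_block (hM : IsPModular p M)
    {B : Set (IrrCharacter G)} (hB : IsPBlock M B) (D : Subgroup G)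
    (hBD : IsDefectGroup p M B D)
    (B₁ : Set (IrrCharacter ↥(Subgroup.normalizer (D : Set G))))
    (hB₁ : IsInducedBlock M (Subgroup.normalizer (D : Set G)) B₁ B)
    (hB₁D : IsDefectGroup p M B₁ (D.subgroupOf (Subgroup.normalizer (D : Set G)))) :
    ∃ c : Set (IrrCharacter (Subgroup.centralizer (D : Set G))),
      IsMaximalBrauerPair p M B D c ∧
      IsInducedBlock M ((Subgroup.centralizer (D : Set G)).subgroupOf
          (Subgroup.normalizer (D : Set G)))
        (downSet (Subgroup.normalizer (D : Set G)) (Subgroup.centralizer (D : Set G))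
          (Subgroup.centralizer_le_normalizer _) c) B₁ := by
  classical
  obtain ⟨c, hpair, hind⟩ := exists_local_pair hM (Subgroup.normalizer (D : Set G)) D
    Subgroup.le_normalizer (Subgroup.centralizer_le_normalizer _) hB₁.1 hB₁D hB₁
  refine ⟨c, ?_, hind⟩
  obtain ⟨R, g, hmax, hle⟩ := exists_maximal_above (p := p) (M := M) B _ D c hpair rfl
  have hRD := isDefectGroup_of_isMaximalBrauerPair hM hmax
  have hcard := card_eq_of_isDefectGroup hM hB hBD hRD
  exact isMaximalBrauerPair_of_card_eq hM hmax hpair hcard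

/-- **Brauer**: the kernel condition at the Brauer correspondent descends to all local blocks. -/
theorem piCore_le_blockKer_descends (hM : IsPModular p M) (π : Set ℕ) (hpπ : p ∉ π)
    {B : Set (IrrCharacter G)} (hB : IsPBlock M B) (D : Subgroup G)
    (hBD : IsDefectGroup p M B D)
    (B₁ : Set (IrrCharacter ↥(Subgroup.normalizer (D : Set G))))
    (hB₁ : IsInducedBlock M (Subgroup.normalizer (D : Set G)) B₁ B)
    (hB₁D : IsDefectGroup p M B₁ (D.subgroupOf (Subgroup.normalizer (D : Set G))))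
    (hker : ∀ n : ↥(Subgroup.normalizer (D : Set G)),
      n ∈ piCore π ↥(Subgroup.normalizer (D : Set G)) → n ∈ blockKer B₁)
    (G₀ : Subgroup G) (B₀ : Set (IrrCharacter ↥G₀)) (hB₀ : IsInducedBlock M G₀ B₀ B)
    (D₀ : Subgroup ↥G₀) (hD₀ : IsDefectGroup p M B₀ D₀)
    (hC : Subgroup.centralizer ((D₀.map G₀.subtype : Subgroup G) : Set G) ≤ G₀) :
    ∀ x : ↥G₀, x ∈ piCore π ↥G₀ → x ∈ blockKer B₀ := by
  classical
  obtain ⟨c₁, hmax, hind₁⟩ := exists_maxpair_of_normalizer_block hM hB D hBD B₁ hB₁ hB₁D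
  have hK₁ : KerPi π D c₁ :=
    kerPi_of_piCore_le_blockKer hM π hpπ (Subgroup.normalizer (D : Set G)) D le_rfl
      (Subgroup.centralizer_le_normalizer _) hind₁ hker
  have hD₀L : D₀.map G₀.subtype ≤ G₀ := Subgroup.map_subtype_le D₀
  have hΔ : IsDefectGroup p M B₀ ((D₀.map G₀.subtype).subgroupOf G₀) := by
    have e : (D₀.map G₀.subtype).subgroupOf G₀ = D₀ :=
      Subgroup.comap_map_eq_self_of_injective G₀.subtype_injective D₀
    rw [e]
    exact hD₀
  obtain ⟨c₀, hpair₀, hind₀⟩ := exists_local_pair hM G₀ (D₀.map G₀.subtype) hD₀L hC hB₀.1 hΔ hB₀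
  obtain ⟨x, hle⟩ := exists_conj_subpairLE hM hmax hpair₀
  have hK₀ : KerPi π (D₀.map G₀.subtype) c₀ :=
    kerPi_of_conjBlock π _ x c₀ (kerPi_of_subpairLE hM π hpπ hle hK₁)
  exact piCore_le_blockKer_of_kerPi hM π hpπ G₀ (D₀.map G₀.subtype) hD₀L hpair₀.1.1 hC hind₀ hK₀

end top

end Cfsg.Agent.Helper81
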