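import Mathlib
import Cfsg.Agent.Lib.Helper81.PiBlock5
import Cfsg.Agent.Lib.Helper77.ExtDefect

/-!
# Brauer's `π`-block kernel conditions: ascent (helper81)

* `kernel_constituent` : for `X ≤ N` both normal in `A`, `θ ∈ Irr(A)` over `ζ ∈ Irr(N)`:
  `X ≤ ker θ → X ≤ ker ζ`.
* `exists_pair_kerPi_of_sup_centralizer` : a block `b` of `P C_G(P)` inducing `B` with
  `O_π(C_G(P)) ≤ ker b` gives a `B`-Brauer pair `(P, e)` with `O_π(C_G(P)) ≤ ker e`.
* `piCore_le_blockKer_ascends` : S4728.
-/

set_option autoImplicit false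
set_option linter.style.haveILetI false
set_option linter.unusedSectionVars false
open Cfsg

namespace Cfsg.Agent.Helper81

open Cfsg.Agent.Helper77 Cfsg.Agent.Helper62 Cfsg.Agent.Helper76.InBlock

universe u

section const

variable {A : Type u} [Group A] [Fintype A]

theorem kernel_constituent (N : Subgroup A) [hN : N.Normal] [Fintype N] (X : Subgroup A)
    [hX : X.Normal] (hXN : X ≤ N) (θ : IrrCharacter A) (ζ : IrrCharacter N)
    (hne : classInner (fun n : N => (θ : A → ℂ) n) (ζ : N → ℂ) ≠ 0)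
    (hker : X ≤ Cfsg.Agent.Helper79.irrKer θ) :
    X.subgroupOf N ≤ Cfsg.Agent.Helper79.irrKer ζ := by
  classical
  have h1 := omega_eq_of_constituent N θ ζ hne (isClassFunction_avgFun X)
    (fun g hg => avgFun_of_notMem X (fun h => hg (hXN h)))
  rw [omega_avgFun X θ, if_pos hker] at h1
  have hr : restr N (avgFun X) = fun h : N => if h ∈ X.subgroupOf N then
      (Nat.card X : ℂ)⁻¹ else 0 := by
    funext h
    show avgFun X (h : A) = _
    by_cases hx : (h : A) ∈ X
    · rw [avgFun_of_mem X hx, if_pos (Subgroup.mem_subgroupOf.mpr hx)]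
    · rw [avgFun_of_notMem X hx, if_neg (fun h' => hx (Subgroup.mem_subgroupOf.mp h'))]
  have hom := omega_indicator (X.subgroupOf N) ζ (Nat.card X : ℂ)⁻¹
  by_contra hno
  rw [hr] at h1
  have : omega (ζ : N → ℂ) (fun h : N => if h ∈ X.subgroupOf N then
      (Nat.card X : ℂ)⁻¹ else 0) = 0 := by
    convert hom using 1
    rw [if_neg hno]
  rw [this] at h1
  exact one_ne_zero h1

end const

section sup

variable {G : Type u} [Group G] [Fintype G] {p : ℕ} [hp : Fact p.Prime] {M : Ideal AlgInt}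

/-- A block of `P C_G(P)` inducing `B` whose kernel contains `O_π(C_G(P))` gives a `B`-Brauer
pair `(P, e)` with `O_π(C_G(P)) ≤ ker e`. -/
theorem exists_pair_kerPi_of_sup_centralizer (hM : IsPModular p M) (π : Set ℕ)
    (P : Subgroup G) (hP : IsPGroup p P)
    {b : Set (IrrCharacter ↥(P ⊔ Subgroup.centralizer (P : Set G)))}
    {B : Set (IrrCharacter G)}
    (hind : IsInducedBlock M (P ⊔ Subgroup.centralizer (P : Set G)) b B)
    (hkerb : ∀ x : ↥(Subgroup.centralizer (P : Set G)),
      x ∈ piCore π ↥(Subgroup.centralizer (P : Set G)) → ∀ θ ∈ b,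
      ∀ h : ↥(P ⊔ Subgroup.centralizer (P : Set G)), (h : G) = (x : G) →
        (θ : ↥(P ⊔ Subgroup.centralizer (P : Set G)) → ℂ) h =
          (θ : ↥(P ⊔ Subgroup.centralizer (P : Set G)) → ℂ) 1) :
    ∃ e : Set (IrrCharacter (Subgroup.centralizer (P : Set G))),
      IsBrauerPairOf p M B P e ∧ KerPi π P e := by
  classical
  haveI hpr := isPrime_of_isPModular hM
  letI : Fintype ↥(P ⊔ Subgroup.centralizer (P : Set G)) := Fintype.ofFinite _
  letI : Fintype (Subgroup.centralizer (P : Set G)) := Fintype.ofFinite _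
  have hb : IsPBlock M b := hind.1
  have hPH : P ≤ P ⊔ Subgroup.centralizer (P : Set G) := le_sup_left
  have hCH : Subgroup.centralizer (P : Set G) ≤ P ⊔ Subgroup.centralizer (P : Set G) :=
    le_sup_right
  have hHN : P ⊔ Subgroup.centralizer (P : Set G) ≤ Subgroup.normalizer (P : Set G) :=
    sup_le Subgroup.le_normalizer (Subgroup.centralizer_le_normalizer _)
  have hNC := normalizer_le_normalizer_centralizer P
  have hHNC : P ⊔ Subgroup.centralizer (P : Set G) ≤ Subgroup.normalizer
      ((Subgroup.centralizer (P : Set G) : Subgroup G) : Set G) := hHN.trans hNC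
  obtain ⟨e, he, hbe⟩ := exists_block_down hCH hHNC
    (fun f _ => isStableSet_sup_centralizer P _ rfl hHNC f)
    (fun F hF t ht => blockCoeff_eq_zero_of_hT hM hP hPH hHN hF t ht) hb
  refine ⟨e, Cfsg.Agent.Helper77.isBrauerPairOf_of_isInducedBlock hM P hP _ hPH hCH hHN hb hind
    he hbe, ?_⟩
  haveI hCn : ((Subgroup.centralizer (P : Set G)).subgroupOf
      (P ⊔ Subgroup.centralizer (P : Set G))).Normal :=
    (Subgroup.normal_subgroupOf_iff_le_normalizer hCH).mpr hHNC
  letI : Fintype ((Subgroup.centralizer (P : Set G)).subgroupOf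
      (P ⊔ Subgroup.centralizer (P : Set G))) := Fintype.ofFinite _
  obtain ⟨φ, hφdef⟩ : ∃ φ : (Subgroup.centralizer (P : Set G)).subgroupOf
      (P ⊔ Subgroup.centralizer (P : Set G)) ≃* Subgroup.centralizer (P : Set G),
      φ = Subgroup.subgroupOfEquivOfLe hCH := ⟨_, rfl⟩
  have hφc : ∀ x : Subgroup.centralizer (P : Set G), (((φ.symm x :
      (Subgroup.centralizer (P : Set G)).subgroupOf (P ⊔ Subgroup.centralizer (P : Set G))) :
      ↥(P ⊔ Subgroup.centralizer (P : Set G))) : G) = (x : G) := by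
    intro x
    rw [hφdef]
    rfl
  have hsuppb : ∀ h : ↥(P ⊔ Subgroup.centralizer (P : Set G)),
      h ∉ (Subgroup.centralizer (P : Set G)).subgroupOf (P ⊔ Subgroup.centralizer (P : Set G)) →
      blockCoeff b h = 0 := fun h hh =>
    blockCoeff_eq_zero_of_hT hM hP hPH hHN hb h (fun hc => hh (Subgroup.mem_subgroupOf.mpr hc))
  -- the normal `π`-subgroup of `P C_G(P)`
  haveI hXn : ((piC π P).subgroupOf (P ⊔ Subgroup.centralizer (P : Set G))).Normal :=
    normal_subgroupOf_of_le_normalizer _ _ (hHN.trans (normalizer_le_normalizer_piC π P))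
  have hXle : (piC π P).subgroupOf (P ⊔ Subgroup.centralizer (P : Set G)) ≤
      (Subgroup.centralizer (P : Set G)).subgroupOf (P ⊔ Subgroup.centralizer (P : Set G)) := by
    intro y hy
    rw [Subgroup.mem_subgroupOf] at hy ⊢
    exact piC_le π P hy
  intro x hx η hη
  obtain ⟨θ, hθ⟩ := Cfsg.Agent.Helper16.exists_lying_over
    ((Subgroup.centralizer (P : Set G)).subgroupOf (P ⊔ Subgroup.centralizer (P : Set G)))
    (mapIrr φ.symm η)
  have hθb : θ ∈ b := by
    have h1 := omega_eq_of_constituent ((Subgroup.centralizer (P : Set G)).subgroupOf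
      (P ⊔ Subgroup.centralizer (P : Set G))) θ
      (mapIrr φ.symm η) hθ (isClassFunction_blockCoeff b) hsuppb
    rw [omega_mapIrr] at h1
    have h2 : (fun x : Subgroup.centralizer (P : Set G) =>
        restr ((Subgroup.centralizer (P : Set G)).subgroupOf
          (P ⊔ Subgroup.centralizer (P : Set G))) (blockCoeff b) (φ.symm x)) =
        blockCoeff e := by
      funext x
      show blockCoeff b ((φ.symm x : (Subgroup.centralizer (P : Set G)).subgroupOf
        (P ⊔ Subgroup.centralizer (P : Set G))) : ↥(P ⊔ Subgroup.centralizer (P : Set G))) = _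
      rw [hbe, hφc, subgroupBlockCoeff_eq_extZ, extZ_of_mem]
    rw [h2, omega_blockCoeff, omega_blockCoeff, if_pos hη] at h1
    by_contra hcon
    rw [if_neg hcon] at h1
    exact zero_ne_one h1
  have hXθ : (piC π P).subgroupOf (P ⊔ Subgroup.centralizer (P : Set G)) ≤
      Cfsg.Agent.Helper79.irrKer θ := by
    intro y hy
    rw [Cfsg.Agent.Helper79.mem_irrKer]
    rw [Subgroup.mem_subgroupOf] at hy
    obtain ⟨x', hx', hxy⟩ := hy
    exact hkerb x' hx' θ hθb y hxy.symm
  have hl := kernel_constituent _ _ hXle θ (mapIrr φ.symm η) hθ hXθ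
  have hy : φ.symm x ∈ ((piC π P).subgroupOf (P ⊔ Subgroup.centralizer (P : Set G))).subgroupOf
      ((Subgroup.centralizer (P : Set G)).subgroupOf (P ⊔ Subgroup.centralizer (P : Set G))) := by
    rw [Subgroup.mem_subgroupOf, Subgroup.mem_subgroupOf, hφc]
    exact (mem_piC_iff π P x).mpr hx
  have := hl hy
  rw [Cfsg.Agent.Helper79.mem_irrKer, mapIrr_coe, mapIrr_coe, map_one] at this
  simpa using this

/-- **Brauer**: the local kernel condition (with the Hall condition) at a `p`-subgroup `D₀`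
implies the kernel condition at the Brauer correspondent. -/
theorem piCore_le_blockKer_ascends (hM : IsPModular p M) (π : Set ℕ) (hpπ : p ∉ π)
    {B : Set (IrrCharacter G)} (hB : IsPBlock M B) (D : Subgroup G)
    (hBD : IsDefectGroup p M B D)
    (B₁ : Set (IrrCharacter ↥(Subgroup.normalizer (D : Set G))))
    (hB₁ : IsInducedBlock M (Subgroup.normalizer (D : Set G)) B₁ B)
    (hB₁D : IsDefectGroup p M B₁ (D.subgroupOf (Subgroup.normalizer (D : Set G))))
    (D₀ : Subgroup G) (hD₀ : IsPGroup p D₀)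
    (b : Set (IrrCharacter ↥(D₀ ⊔ Subgroup.centralizer (D₀ : Set G))))
    (hb : IsInducedBlock M (D₀ ⊔ Subgroup.centralizer (D₀ : Set G)) b B)
    (hcompl : HallPi π D₀)
    (hkerb : ∀ x : ↥(Subgroup.centralizer (D₀ : Set G)),
      x ∈ piCore π ↥(Subgroup.centralizer (D₀ : Set G)) → ∀ θ ∈ b,
      ∀ h : ↥(D₀ ⊔ Subgroup.centralizer (D₀ : Set G)), (h : G) = (x : G) →
        (θ : ↥(D₀ ⊔ Subgroup.centralizer (D₀ : Set G)) → ℂ) h =
          (θ : ↥(D₀ ⊔ Subgroup.centralizer (D₀ : Set G)) → ℂ) 1) :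
    ∀ n : ↥(Subgroup.normalizer (D : Set G)),
      n ∈ piCore π ↥(Subgroup.normalizer (D : Set G)) → n ∈ blockKer B₁ := by
  classical
  obtain ⟨e, hpair, hK₀⟩ := exists_pair_kerPi_of_sup_centralizer hM π D₀ hD₀ hb hkerb
  obtain ⟨c₁, hmax, hind₁⟩ := exists_maxpair_of_normalizer_block hM hB D hBD B₁ hB₁ hB₁D
  obtain ⟨x, hle⟩ := exists_conj_subpairLE hM hmax hpair
  have hup := kerPi_hallPi_of_subpairLE hM π hpπ hle (kerPi_conjBlock π D₀ x e hK₀)
    (hallPi_conj π D₀ x hcompl)
  exact piCore_le_blockKer_of_kerPi hM π hpπ (Subgroup.normalizer (D : Set G)) D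
    Subgroup.le_normalizer hmax.1.1.1 (Subgroup.centralizer_le_normalizer _) hind₁ hup.1

end sup

end Cfsg.Agent.Helper81
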