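import Mathlib
import Cfsg.Agent.Lib.Helper81.PiBlock5
import Cfsg.Agent.Lib.Helper16.SecondMain2
import Cfsg.Agent.S0923

/-!
# Brauer's `π`-block kernel conditions: values on `π`-sections (helper81)

If `O_π(N_G(D)) ≤ ker B₁` for the Brauer correspondent `B₁` of `B`, `y` is a `p`-element and
`O_π(C_G(y))` contains all `π`-elements of `C_G(y)`, then `χ(y x) = χ(y)` for `χ ∈ B` and every
`π`-element `x` of `C_G(y)` (second main theorem + descent of the kernel condition).
-/

set_option autoImplicit false
set_option linter.style.haveILetI false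
set_option linter.unusedSectionVars false
open Cfsg

namespace Cfsg.Agent.Helper81

open Cfsg.Agent.Helper77 Cfsg.Agent.Helper62 Cfsg.Agent.Helper16

universe u

section decomp

variable {C : Type u} [Group C] [Fintype C]

/-- A class function is the sum of its block parts. -/
theorem classFunction_eq_sum_blockPart (M : Ideal AlgInt) [hpr : M.IsPrime] {ϑ : C → ℂ}
    (hϑ : IsClassFunction C ϑ) (c : C) :
    ϑ c = ∑ b ∈ allBlocks M C, blockPart b ϑ c := by
  classical
  have h1 : ∀ b ∈ allBlocks M C, blockPart b ϑ c = ∑ k : C, blockCoeff b k * ϑ (k * c) :=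
    fun b _ => blockPart_eq_sum_blockCoeff b hϑ c
  rw [Finset.sum_congr rfl h1, Finset.sum_comm]
  have h2 : ∀ k : C, ∑ b ∈ allBlocks M C, blockCoeff b k * ϑ (k * c) =
      (delta : C → ℂ) k * ϑ (k * c) := by
    intro k
    rw [← Finset.sum_mul]
    congr 1
    have := congrFun (sum_blockCoeff_allBlocks (M := M) (G := C)) k
    rw [Finset.sum_apply] at this
    exact this
  rw [Finset.sum_congr rfl (fun k _ => h2 k)]
  rw [Finset.sum_eq_single (1 : C)]
  · unfold delta
    rw [if_pos rfl, one_mul, one_mul]
  · intro k _ hk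
    unfold delta
    rw [if_neg hk, zero_mul]
  · intro h
    exact absurd (Finset.mem_univ _) h

end decomp

section main

variable {G : Type u} [Group G] [Fintype G] {p : ℕ} [hp : Fact p.Prime] {M : Ideal AlgInt}

/-- **Brauer**: characters of a block with the kernel condition at the Brauer correspondent are
constant on the cosets `y · O_π(C_G(y))`. -/
theorem value_mul_eq_of_kernel_condition (hM : IsPModular p M) (π : Set ℕ) (hpπ : p ∉ π)
    {B : Set (IrrCharacter G)} (hB : IsPBlock M B) (D : Subgroup G)
    (hBD : IsDefectGroup p M B D)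
    (B₁ : Set (IrrCharacter ↥(Subgroup.normalizer (D : Set G))))
    (hB₁ : IsInducedBlock M (Subgroup.normalizer (D : Set G)) B₁ B)
    (hB₁D : IsDefectGroup p M B₁ (D.subgroupOf (Subgroup.normalizer (D : Set G))))
    (hker : ∀ n : ↥(Subgroup.normalizer (D : Set G)),
      n ∈ piCore π ↥(Subgroup.normalizer (D : Set G)) → n ∈ blockKer B₁)
    (y : G) (hy : ∃ k : ℕ, orderOf y = p ^ k)
    (hC : ∀ x : ↥(Subgroup.centralizer ({y} : Set G)),
      (∀ q : ℕ, q.Prime → q ∣ orderOf x → q ∈ π) →
      x ∈ piCore π ↥(Subgroup.centralizer ({y} : Set G)))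
    (χ : IrrCharacter G) (hχ : χ ∈ B) (x : G) (hx : x ∈ Subgroup.centralizer ({y} : Set G))
    (hxπ : ∀ q : ℕ, q.Prime → q ∣ orderOf x → q ∈ π) :
    (χ : G → ℂ) (y * x) = (χ : G → ℂ) y := by
  classical
  haveI hpr := isPrime_of_isPModular hM
  letI : Fintype (Subgroup.centralizer ({y} : Set G)) := Fintype.ofFinite _
  have hχcl := isClassFunction_of_isIrrCharacter χ.2
  -- the class function `ϑ(c) = χ(y c)` on `C_G(y)`
  have hϑ : IsClassFunction (Subgroup.centralizer ({y} : Set G))
      (fun c : Subgroup.centralizer ({y} : Set G) => (χ : G → ℂ) (y * (c : G))) := by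
    intro c k
    show (χ : G → ℂ) (y * ((k * c * k⁻¹ : Subgroup.centralizer ({y} : Set G)) : G)) =
      (χ : G → ℂ) (y * (c : G))
    have hky : (k : G) * y = y * (k : G) :=
      ((Subgroup.mem_centralizer_iff.mp k.2) y (Set.mem_singleton y)).symm
    have : y * ((k * c * k⁻¹ : Subgroup.centralizer ({y} : Set G)) : G) =
        (k : G) * (y * (c : G)) * (k : G)⁻¹ := by
      push_cast
      calc y * ((k : G) * (c : G) * (k : G)⁻¹) = (y * (k : G)) * (c : G) * (k : G)⁻¹ := by group
        _ = ((k : G) * y) * (c : G) * (k : G)⁻¹ := by rw [hky]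
        _ = (k : G) * (y * (c : G)) * (k : G)⁻¹ := by group
    rw [this, hχcl]
  have hxreg : ¬ p ∣ orderOf (⟨x, hx⟩ : Subgroup.centralizer ({y} : Set G)) := by
    intro h
    apply hpπ
    apply hxπ p hp.out
    rw [← Subgroup.orderOf_coe] at h
    exact h
  have h1reg : ¬ p ∣ orderOf (1 : Subgroup.centralizer ({y} : Set G)) := by
    rw [orderOf_one]
    exact hp.out.one_lt.ne' ∘ Nat.dvd_one.mp
  have hxcore : (⟨x, hx⟩ : Subgroup.centralizer ({y} : Set G)) ∈
      piCore π ↥(Subgroup.centralizer ({y} : Set G)) := by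
    apply hC
    intro q hq hdvd
    apply hxπ q hq
    rw [← Subgroup.orderOf_coe] at hdvd
    exact hdvd
  -- compare the block parts
  have hparts : ∀ b ∈ allBlocks M ↥(Subgroup.centralizer ({y} : Set G)),
      blockPart b (fun c : Subgroup.centralizer ({y} : Set G) => (χ : G → ℂ) (y * (c : G)))
        ⟨x, hx⟩ =
      blockPart b (fun c : Subgroup.centralizer ({y} : Set G) => (χ : G → ℂ) (y * (c : G)))
        1 := by
    intro b hbmem
    have hb : IsPBlock M b := mem_allBlocks.mp hbmem
    by_cases hind : IsInducedBlock M (Subgroup.centralizer ({y} : Set G)) b B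
    · -- the kernel condition descends to `b`
      obtain ⟨D₀, hD₀⟩ := exists_isDefectGroup (M := M) p hb
      have hyC : y ∈ Subgroup.centralizer ({y} : Set G) := by
        rw [Subgroup.mem_centralizer_iff]
        intro z hz
        rw [Set.mem_singleton_iff] at hz
        rw [hz]
      -- the central `p`-subgroup generated by `y`
      have hZn : (Subgroup.zpowers (⟨y, hyC⟩ : Subgroup.centralizer ({y} : Set G))).Normal := by
        constructor
        intro n hn g
        have hcomm : ∀ g : Subgroup.centralizer ({y} : Set G),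
            g * (⟨y, hyC⟩ : Subgroup.centralizer ({y} : Set G)) = ⟨y, hyC⟩ * g := by
          intro g
          apply Subtype.ext
          exact ((Subgroup.mem_centralizer_iff.mp g.2) y (Set.mem_singleton y)).symm
        obtain ⟨k, rfl⟩ := Subgroup.mem_zpowers_iff.mp hn
        have : g * (⟨y, hyC⟩ : Subgroup.centralizer ({y} : Set G)) ^ k * g⁻¹ =
            (⟨y, hyC⟩ : Subgroup.centralizer ({y} : Set G)) ^ k := by
          have hc : Commute g ((⟨y, hyC⟩ : Subgroup.centralizer ({y} : Set G)) ^ k) :=
            (Commute.zpow_right (hcomm g) k)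
          rw [hc.eq, mul_inv_cancel_right]
        rw [this]
        exact Subgroup.zpow_mem_zpowers _ k
      have hZp : IsPGroup p (Subgroup.zpowers (⟨y, hyC⟩ : Subgroup.centralizer ({y} : Set G))) := by
        obtain ⟨k, hk⟩ := hy
        apply IsPGroup.of_card (n := k)
        rw [Nat.card_zpowers, ← hk, ← Subgroup.orderOf_coe]
      have hyD₀ : (⟨y, hyC⟩ : Subgroup.centralizer ({y} : Set G)) ∈ D₀ :=
        normal_le_of_isDefectGroup hM hb hD₀ _ hZp (Subgroup.mem_zpowers _)
      have hCle : Subgroup.centralizer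
          ((D₀.map (Subgroup.centralizer ({y} : Set G)).subtype : Subgroup G) : Set G) ≤
          Subgroup.centralizer ({y} : Set G) := by
        apply Subgroup.centralizer_le
        intro z hz
        rw [Set.mem_singleton_iff] at hz
        rw [hz]
        exact ⟨⟨y, hyC⟩, hyD₀, rfl⟩
      have hkb := piCore_le_blockKer_descends hM π hpπ hB D hBD B₁ hB₁ hB₁D hker
        (Subgroup.centralizer ({y} : Set G)) b hind D₀ hD₀ hCle ⟨x, hx⟩ hxcore
      unfold blockPart
      refine finsum_mem_congr rfl fun ψ hψ => ?_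
      rw [hkb ψ hψ]
    · rw [Cfsg.Agent.S0923.result p M hM y hy B hB χ hχ b hb hind ⟨x, hx⟩ hxreg,
        Cfsg.Agent.S0923.result p M hM y hy B hB χ hχ b hb hind 1 h1reg]
  have e1 := classFunction_eq_sum_blockPart M hϑ ⟨x, hx⟩
  have e2 := classFunction_eq_sum_blockPart M hϑ 1
  rw [Finset.sum_congr rfl hparts, ← e2] at e1
  simpa using e1

end main

end Cfsg.Agent.Helper81
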