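import Cfsg.Agent.Lib.Helper81.CharInd
import Cfsg.Agent.Lib.Helper77.BlockIdem
import Cfsg.Agent.Lib.Helper77.Principal
import Cfsg.Agent.Lib.Helper16.WBO
import Cfsg.Agent.Lib.Helper16.Osima
import Cfsg.Agent.Lib.Helper79.Linear
import Cfsg.Agent.Lib.Helper78.CharLinear
import Cfsg.Agent.Lib.Helper78.CharCount
import Cfsg.Agent.Lib.Helper50.FocalFrattini

set_option autoImplicit false
set_option linter.unusedSectionVars false
set_option linter.style.haveILetI false

namespace Cfsg.Agent.Helper81

open Cfsg
open scoped ComplexConjugate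
open scoped commutatorElement

universe u

section

variable {G : Type u} [Group G] [Fintype G] {p : ℕ} {M : Ideal AlgInt}

/-- If `p ∣ χ(1)` and the class of `g` has `p'`-size then `χ g` lies in the local ideal. -/
theorem memLocalIdeal_apply_of_dvd_degree (hM : IsPModular p M) {χ : G → ℂ}
    (hχ : IsIrrCharacter G χ) (g : G)
    (hg : ¬ p ∣ (Subgroup.centralizer ({g} : Set G)).index) (d : ℕ) (hd : χ 1 = d)
    (hpd : p ∣ d) : MemLocalIdeal M (χ g) := by
  have hprime := Cfsg.Agent.Helper77.isPrime_of_isPModular hM
  have h1 : MemLocalRing M (centralChar χ g) := Cfsg.Agent.Helper77.memLocalRing_centralChar hχ g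
  have h2 : MemLocalIdeal M ((d : ℕ) : ℂ) :=
    (Cfsg.Agent.Helper77.memLocalIdeal_natCast_iff hM d).2 hpd
  have h3 : ¬ MemLocalIdeal M (((Subgroup.centralizer ({g} : Set G)).index : ℕ) : ℂ) := fun h =>
    hg ((Cfsg.Agent.Helper77.memLocalIdeal_natCast_iff hM _).1 h)
  have h4 : MemLocalRing M ((((Subgroup.centralizer ({g} : Set G)).index : ℕ) : ℂ))⁻¹ :=
    Cfsg.Agent.Helper77.memLocalRing_inv (Cfsg.Agent.Helper77.memLocalRing_natCast _) h3
  have hne : (((Subgroup.centralizer ({g} : Set G)).index : ℕ) : ℂ) ≠ 0 := by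
    intro h0
    apply h3
    rw [h0]
    exact Cfsg.Agent.Helper77.memLocalIdeal_zero hprime.ne_top
  have hd0 : χ 1 ≠ 0 := Cfsg.Agent.Helper77.irrChar_one_ne_zero hχ
  have heq : χ g = (d : ℂ) * (centralChar χ g *
      ((((Subgroup.centralizer ({g} : Set G)).index : ℕ) : ℂ))⁻¹) := by
    unfold centralChar
    rw [← hd]
    field_simp
  rw [heq]
  exact Cfsg.Agent.Helper77.memLocalIdeal_mul_right h2
    (Cfsg.Agent.Helper77.memLocalRing_mul h1 h4)


open Cfsg.Agent.Helper77 in
/-- If every `p'`-degree character of the principal block is linear, then every linear character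
of a Sylow `p`-subgroup extends to a linear character of `G` lying in the principal block. -/
theorem exists_linear_extension_of_principal [Fact p.Prime] (hM : IsPModular p M)
    (hlin : ∀ χ : IrrCharacter G, χ ∈ principalBlock M G → ¬ p ∣ charDegree (χ : G → ℂ) →
      (χ : G → ℂ) 1 = 1)
    (P : Sylow p G) (μ : P →* ℂˣ) :
    ∃ χ : IrrCharacter G, χ ∈ principalBlock M G ∧ (χ : G → ℂ) 1 = 1 ∧
      ∀ u : P, (χ : G → ℂ) u = ((μ u : ℂˣ) : ℂ) := by
  classical
  have hprime := isPrime_of_isPModular hM
  have hp : p.Prime := Fact.out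
  obtain ⟨B, hBdef⟩ : ∃ B, B = principalBlock M G := ⟨_, rfl⟩
  have hB : IsPBlock M B := hBdef ▸ isPBlock_principalBlock M
  obtain ⟨g, hg1, hg2, hg3⟩ := exists_isDefectClass hB
  have hgidx : ¬ p ∣ (Subgroup.centralizer ({g} : Set G)).index := by
    intro hd
    apply hg3 (trivIrr G) (hBdef ▸ trivIrr_mem_principalBlock M)
    have : centralChar ((trivIrr G : IrrCharacter G) : G → ℂ) g =
        (((Subgroup.centralizer ({g} : Set G)).index : ℕ) : ℂ) := by
      unfold centralChar
      rw [trivIrr_apply, trivIrr_apply]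
      simp
    rw [this]
    exact (memLocalIdeal_natCast_iff hM _).2 hd
  have hgreg : ¬ p ∣ orderOf g := by
    intro hd
    apply hg2
    rw [Cfsg.Agent.Helper16.blockCoeff_eq_zero_of_singular hM hB g hd]
    exact memLocalIdeal_zero hprime.ne_top
  obtain ⟨μf, hμf⟩ : ∃ μf : P → ℂ, μf = fun u => ((μ u : ℂˣ) : ℂ) := ⟨_, rfl⟩
  have hμirr : IsIrrCharacter P μf := by
    have := (Cfsg.Agent.Helper79.linChar μ).2
    have h2 : ((Cfsg.Agent.Helper79.linChar μ : IrrCharacter P) : P → ℂ) = μf := by
      funext u
      rw [Cfsg.Agent.Helper79.linChar_apply, hμf]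
    rw [← h2]
    exact this
  have hmult : ∀ χ : IrrCharacter G, ∃ k : ℕ,
      classInner (fun u : P => (χ : G → ℂ) u) μf = (k : ℂ) := fun χ =>
    exists_nat_classInner (isCharacter_restrict (P : Subgroup G) (IsIrrCharacter.isCharacter χ.2)) hμirr
  choose m hm using hmult
  have hcardP : (Nat.card P : ℂ) ≠ 0 := by
    exact_mod_cast (Nat.card_pos (α := P)).ne'
  have hcardG : (Nat.card G : ℂ) ≠ 0 := by
    exact_mod_cast (Nat.card_pos (α := G)).ne'
  have hsumP : ∀ χ : IrrCharacter G, ∑ u : P, (χ : G → ℂ) u * conj (μf u) =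
      (Nat.card P : ℂ) * (m χ : ℂ) := by
    intro χ
    have := hm χ
    unfold classInner at this
    rw [← this]
    field_simp
    exact mul_comm _ _
  have hkey : ∑ χ ∈ (Set.toFinite B).toFinset,
      conj ((χ : G → ℂ) g) * ((Nat.card P : ℂ) * (m χ : ℂ)) =
      (Nat.card G : ℂ) * blockCoeff B g := by
    calc ∑ χ ∈ (Set.toFinite B).toFinset, conj ((χ : G → ℂ) g) * ((Nat.card P : ℂ) * (m χ : ℂ))
        = ∑ χ ∈ (Set.toFinite B).toFinset, ∑ u : P,
            conj (μf u) * (conj ((χ : G → ℂ) g) * (χ : G → ℂ) u) := by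
          refine Finset.sum_congr rfl fun χ _ => ?_
          rw [← hsumP χ, Finset.mul_sum]
          refine Finset.sum_congr rfl fun u _ => ?_
          ring
      _ = ∑ u : P, conj (μf u) * ∑ χ ∈ (Set.toFinite B).toFinset,
            (conj ((χ : G → ℂ) g) * (χ : G → ℂ) u) := by
          rw [Finset.sum_comm]
          refine Finset.sum_congr rfl fun u _ => ?_
          rw [Finset.mul_sum]
      _ = conj (μf 1) * ∑ χ ∈ (Set.toFinite B).toFinset,
            (conj ((χ : G → ℂ) g) * (χ : G → ℂ) ((1 : P) : G)) := by
          refine Finset.sum_eq_single (1 : P) ?_ (fun h => absurd (Finset.mem_univ _) h)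
          intro u _ hu
          have hpu : p ∣ orderOf (u : G) := by
            obtain ⟨k, hk⟩ := (IsPGroup.iff_orderOf.1 P.2) u
            rw [Subgroup.orderOf_coe, hk]
            cases k with
            | zero =>
              exfalso
              rw [pow_zero, orderOf_eq_one_iff] at hk
              exact hu hk
            | succ k => exact dvd_pow_self p (Nat.succ_ne_zero k)
          have hw := Cfsg.Agent.Helper16.weak_block_orthogonality hM hB g (u : G) hgreg hpu
          have hw2 : ∑ χ ∈ (Set.toFinite B).toFinset,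
              (conj ((χ : G → ℂ) g) * (χ : G → ℂ) (u : G)) = 0 := by
            have := congrArg conj hw
            rw [map_sum, map_zero] at this
            rw [← this]
            refine Finset.sum_congr rfl fun χ _ => ?_
            rw [map_mul, Complex.conj_conj]
          rw [hw2, mul_zero]
      _ = (Nat.card G : ℂ) * blockCoeff B g := by
          rw [blockCoeff_eq_sum]
          have h1 : μf 1 = 1 := by rw [hμf]; simp
          rw [h1, map_one, one_mul, ← mul_assoc, mul_inv_cancel₀ hcardG, one_mul]
          refine Finset.sum_congr rfl fun χ _ => ?_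
          rw [Subgroup.coe_one]
          ring
  by_contra hcon
  push Not at hcon
  -- every term lies in the local ideal
  have hterm : ∀ χ ∈ (Set.toFinite B).toFinset,
      MemLocalIdeal M (conj ((χ : G → ℂ) g) * (m χ : ℂ)) := by
    intro χ hχ
    have hχB : χ ∈ principalBlock M G := by
      rw [← hBdef]
      exact (Set.Finite.mem_toFinset _).1 hχ
    by_cases hm0 : m χ = 0
    · rw [hm0, Nat.cast_zero, mul_zero]
      exact memLocalIdeal_zero hprime.ne_top
    · have hpd : p ∣ charDegree (χ : G → ℂ) := by
        by_contra hnd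
        have h1 := hlin χ hχB hnd
        obtain ⟨u, hu⟩ := hcon χ hχB h1
        -- the restriction is an irreducible character of `P`
        let lam : G →* ℂˣ := Cfsg.Agent.Helper78.linearCharHom χ.2 h1
        have hres : IsIrrCharacter P (fun u : P => (χ : G → ℂ) u) := by
          have := (Cfsg.Agent.Helper79.linChar (lam.comp (P : Subgroup G).subtype)).2
          have h2 : ((Cfsg.Agent.Helper79.linChar (lam.comp (P : Subgroup G).subtype) :
              IrrCharacter P) : P → ℂ) = fun u : P => (χ : G → ℂ) u := by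
            funext v
            rw [Cfsg.Agent.Helper79.linChar_apply]
            exact Cfsg.Agent.Helper78.linearCharHom_apply χ.2 h1 (v : G)
          rw [← h2]
          exact this
        have horth := irr_orthonormal hres hμirr
        rw [hm χ] at horth
        by_cases heq : (fun u : P => (χ : G → ℂ) u) = μf
        · apply hu
          have := congrFun heq u
          rw [hμf] at this
          exact this
        · rw [if_neg heq] at horth
          apply hm0
          exact_mod_cast horth
      have hinv : conj ((χ : G → ℂ) g) = (χ : G → ℂ) g⁻¹ :=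
        (Cfsg.Agent.Helper79.irr_inv χ g).symm
      rw [hinv]
      have hidx : (Subgroup.centralizer ({g⁻¹} : Set G)).index =
          (Subgroup.centralizer ({g} : Set G)).index := by
        congr 1
        ext x
        simp only [Subgroup.mem_centralizer_iff, Set.mem_singleton_iff, forall_eq]
        constructor
        · intro h
          have := congrArg (fun y => g * y * g) h
          simp only [mul_assoc, inv_mul_cancel, mul_one] at this
          simpa [mul_assoc] using this.symm
        · intro h
          have := congrArg (fun y => g⁻¹ * y * g⁻¹) h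
          simp only [mul_assoc, mul_inv_cancel, mul_one] at this
          simpa [mul_assoc] using this.symm
      have hgi : ¬ p ∣ (Subgroup.centralizer ({g⁻¹} : Set G)).index := by rw [hidx]; exact hgidx
      exact memLocalIdeal_mul_right
        (memLocalIdeal_apply_of_dvd_degree hM χ.2 g⁻¹ hgi _
          (Cfsg.Agent.Helper78.irr_charDegree χ.2).1 hpd)
        (memLocalRing_natCast _)
  have hS := memLocalIdeal_sum (M := M) _ _ hterm
  -- compare with the block coefficient
  apply hg2
  have hidxP : ¬ p ∣ (P : Subgroup G).index := P.not_dvd_index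
  have hci : (Nat.card G : ℂ) = (Nat.card P : ℂ) * (((P : Subgroup G).index : ℕ) : ℂ) := by
    rw [← (P : Subgroup G).card_mul_index]
    push_cast
    rfl
  have hidx0 : ¬ MemLocalIdeal M ((((P : Subgroup G).index : ℕ) : ℂ)) := fun h =>
    hidxP ((memLocalIdeal_natCast_iff hM _).1 h)
  have hidxne : ((((P : Subgroup G).index : ℕ) : ℂ)) ≠ 0 := by
    intro h0
    apply hidx0
    rw [h0]
    exact memLocalIdeal_zero hprime.ne_top
  have hfin : blockCoeff B g = (∑ χ ∈ (Set.toFinite B).toFinset,
      conj ((χ : G → ℂ) g) * (m χ : ℂ)) * ((((P : Subgroup G).index : ℕ) : ℂ))⁻¹ := by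
    have h1 : (Nat.card P : ℂ) * ∑ χ ∈ (Set.toFinite B).toFinset,
        conj ((χ : G → ℂ) g) * (m χ : ℂ) = (Nat.card G : ℂ) * blockCoeff B g := by
      rw [← hkey, Finset.mul_sum]
      refine Finset.sum_congr rfl fun χ _ => ?_
      ring
    rw [hci] at h1
    field_simp
    have h2 := mul_left_cancel₀ hcardP (by rw [h1]; ring :
      (Nat.card P : ℂ) * ∑ χ ∈ (Set.toFinite B).toFinset,
        conj ((χ : G → ℂ) g) * (m χ : ℂ) =
      (Nat.card P : ℂ) * ((((P : Subgroup G).index : ℕ) : ℂ) * blockCoeff B g))
    rw [h2]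
    ring
  rw [hfin]
  exact memLocalIdeal_mul_right hS
    (memLocalRing_inv (memLocalRing_natCast _) hidx0)


/-- In a finite nilpotent group the commutator subgroup lies in the Frattini subgroup. -/
theorem commutator_le_frattini_of_nilpotent {F : Type*} [Group F] [Finite F]
    [hF : Group.IsNilpotent F] : commutator F ≤ frattini F := by
  unfold frattini Order.radical
  rw [le_iInf₂_iff]
  intro M hM
  have q := (Group.isNilpotent_of_finite_tfae (G := F)).out 0 2
  have hMn : M.Normal := (q.mp hF) M hM
  by_contra hle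
  have hM' : IsCoatom M := hM
  have htop : commutator F ⊔ M = ⊤ := by
    by_contra hne
    have hlt : M < commutator F ⊔ M :=
      lt_of_le_of_ne le_sup_right (fun h => hle (h ▸ le_sup_left))
    exact hne (hM'.2 _ hlt)
  haveI : Nontrivial (F ⧸ M) := by
    rw [← not_subsingleton_iff_nontrivial]
    intro hss
    exact hM.1 (QuotientGroup.subsingleton_iff.mp hss)
  have hlt := Group.IsSolvable.commutator_lt_top_of_nontrivial (F ⧸ M)
  apply hlt.ne
  rw [eq_top_iff]
  intro q _
  obtain ⟨x, rfl⟩ := QuotientGroup.mk_surjective q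
  have hx : x ∈ commutator F ⊔ M := by rw [htop]; trivial
  have hx' : x ∈ ((commutator F ⊔ M : Subgroup F) : Set F) := hx
  rw [Subgroup.mul_normal] at hx'
  obtain ⟨c, hc, m, hm, rfl⟩ := hx'
  have h1 : (QuotientGroup.mk (c * m) : F ⧸ M) = QuotientGroup.mk c := by
    rw [QuotientGroup.mk_mul, (QuotientGroup.eq_one_iff m).mpr hm, mul_one]
  rw [h1]
  have h2 := map_derivedSeries_le_derivedSeries (QuotientGroup.mk' M) 1
  rw [derivedSeries_one, derivedSeries_one] at h2
  exact h2 ⟨c, hc, rfl⟩

/-- If every `p'`-degree character of the principal `p`-block is linear then `G` has a normal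
`p`-complement (corollary of Isaacs--Smith). -/
theorem hasNormalPComplement_of_principal_linear [Fact p.Prime] (hM : IsPModular p M)
    (hlin : ∀ χ : IrrCharacter G, χ ∈ principalBlock M G → ¬ p ∣ charDegree (χ : G → ℂ) →
      (χ : G → ℂ) 1 = 1) : HasNormalPComplement p G := by
  classical
  obtain ⟨P⟩ : Nonempty (Sylow p G) := inferInstance
  apply Cfsg.Agent.Helper50.hasNormalPComplement_of_focal_le_frattini P
  rw [← Subgroup.map_focalSubgroupOf]
  apply Subgroup.map_mono
  haveI : Group.IsNilpotent P := P.2.isNilpotent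
  refine le_trans ?_ (commutator_le_frattini_of_nilpotent (F := P))
  rw [Subgroup.focalSubgroupOf_eq_closure, Subgroup.closure_le]
  rintro y ⟨x, hx, u, hy⟩
  show y ∈ commutator P
  by_contra hny
  have hne : (Abelianization.of y : Abelianization P) ≠ 1 := by
    intro h1
    apply hny
    rw [← Abelianization.ker_of]
    exact h1
  obtain ⟨φ, hφ⟩ := CommGroup.exists_apply_ne_one_of_hasEnoughRootsOfUnity
    (Abelianization P) ℂ hne
  obtain ⟨χ, hχB, hχ1, hχ⟩ := exists_linear_extension_of_principal hM hlin P
    (φ.comp Abelianization.of)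
  apply hφ
  have h1 := hχ y
  rw [hy] at h1
  have h2 := Cfsg.Agent.Helper78.linearCharHom_apply χ.2 hχ1 ⁅x, u⁆
  have h3 : Cfsg.Agent.Helper78.linearCharHom χ.2 hχ1 ⁅x, u⁆ = 1 := by
    rw [map_commutatorElement]
    exact commutatorElement_eq_one_iff_commute.2 (Commute.all _ _)
  rw [h3, Units.val_one] at h2
  rw [← h2] at h1
  have h4 : ((φ.comp Abelianization.of) y : ℂˣ) = 1 := by
    apply Units.ext
    rw [← h1, Units.val_one]
  exact h4

end

end Cfsg.Agent.Helper81
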