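import Mathlib
import Cfsg.Agent.Lib.Helper81.FongConstrained
import Cfsg.Agent.Lib.Helper77.NilpotentExt

/-!
# The Brauer map of the idempotent `e_θ` of an invariant character of a normal `p'`-subgroup

For `N ⊴ G` and a `G`-invariant `θ ∈ Irr(N)`, the set `B = Irr(G | θ)` has idempotent coefficient
function `θ(1)/|N| · θ(g⁻¹)` supported on `N`; we compute the central characters of subgroups at
its truncations.
-/

set_option autoImplicit false
set_option linter.style.haveILetI false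
set_option linter.unusedSectionVars false
open Cfsg

namespace Cfsg.Agent.Helper81

open scoped ComplexConjugate

universe u

section partB

variable {G : Type u} [Group G] [Fintype G]

/-- The extension by zero of `n ↦ θ n⁻¹` is a class function when `θ` is invariant. -/
theorem isClassFunction_extInv_of_invariant (N : Subgroup G) [hN : N.Normal] (θ : N → ℂ)
    (hinv : ∀ (g : G) (n : N), θ ⟨g * n * g⁻¹, hN.conj_mem n n.2 g⟩ = θ n) :
    IsClassFunction G (Cfsg.Agent.Helper77.extInv N θ) := by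
  intro g h
  by_cases hg : g ∈ N
  · have hg' : h * g * h⁻¹ ∈ N := hN.conj_mem g hg h
    have e1 : Cfsg.Agent.Helper77.extInv N θ (h * g * h⁻¹) = θ (⟨h * g * h⁻¹, hg'⟩ : N)⁻¹ :=
      Cfsg.Agent.Helper77.extInv_of_mem N _ ⟨h * g * h⁻¹, hg'⟩
    have e2 : Cfsg.Agent.Helper77.extInv N θ g = θ (⟨g, hg⟩ : N)⁻¹ :=
      Cfsg.Agent.Helper77.extInv_of_mem N _ ⟨g, hg⟩
    rw [e1, e2]
    have h3 := hinv h (⟨g, hg⟩ : N)⁻¹
    rw [← h3]
    exact congrArg θ (Subtype.ext (by simp [mul_assoc]))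
  · have hg' : h * g * h⁻¹ ∉ N := by
      intro h1
      apply hg
      have := hN.conj_mem _ h1 h⁻¹
      simpa [mul_assoc] using this
    rw [Cfsg.Agent.Helper77.extInv_of_notMem N _ hg,
      Cfsg.Agent.Helper77.extInv_of_notMem N _ hg']

/-- The idempotent of `Irr(G | θ)` for an invariant `θ`. -/
theorem blockCoeff_of_over_invariant (N : Subgroup G) [hN : N.Normal] [Fintype N]
    (θ : IrrCharacter N)
    (hinv : ∀ (g : G) (n : N), (θ : N → ℂ) ⟨g * n * g⁻¹, hN.conj_mem n n.2 g⟩ = (θ : N → ℂ) n)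
    (B : Set (IrrCharacter G))
    (hB : ∀ χ : IrrCharacter G, χ ∈ B ↔ classInner (fun n : N => (χ : G → ℂ) n) (θ : N → ℂ) ≠ 0) :
    blockCoeff B = ((θ : N → ℂ) 1 / (Nat.card N : ℂ)) •
      Cfsg.Agent.Helper77.extInv N (θ : N → ℂ) := by
  classical
  have hinv' : ∀ g : G, conjFun N hN (θ : N → ℂ) g = (θ : N → ℂ) := by
    intro g; funext m; rw [conjFun_apply]; exact hinv g m
  apply Cfsg.Agent.Helper77.eq_of_omega_eq (Cfsg.Agent.Helper77.isClassFunction_blockCoeff B)
    (Cfsg.Agent.Helper77.isClassFunction_smul _ (isClassFunction_extInv_of_invariant N _ hinv))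
  intro χ
  rw [Cfsg.Agent.Helper77.omega_blockCoeff, Cfsg.Agent.Helper77.omega_smul, omega_extInv]
  have hN0 : (Nat.card N : ℂ) ≠ 0 := by
    have : 0 < Nat.card N := Nat.card_pos
    exact_mod_cast this.ne'
  obtain ⟨hd1, hdpos⟩ := Cfsg.Agent.Helper78.irr_charDegree θ.2
  have hθ1 : (θ : N → ℂ) 1 ≠ 0 := by
    rw [hd1]; exact_mod_cast hdpos.ne'
  by_cases hχ : χ ∈ B
  · rw [if_pos hχ]
    have h0 := (hB χ).mp hχ
    have hres := restrict_eq_smul_of_invariant N hN χ.2 θ.2 h0 hinv'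
    have hres1 : (χ : G → ℂ) 1 =
        classInner (fun n : N => (χ : G → ℂ) n) (θ : N → ℂ) * (θ : N → ℂ) 1 := by
      have := congrFun hres 1
      simp only [Pi.smul_apply, smul_eq_mul] at this
      exact this
    rw [hres1]
    field_simp
  · rw [if_neg hχ]
    have h0 : classInner (fun n : N => (χ : G → ℂ) n) (θ : N → ℂ) = 0 := by
      by_contra h; exact hχ ((hB χ).mpr h)
    rw [h0]; simp

/-- Central character of a subgroup of `N` at the truncation of `c • e`. -/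
theorem omega_restr_smul_extInv (N H : Subgroup G) [Fintype N] [Fintype H] (hHN : H ≤ N)
    (θ : N → ℂ) (ξ : IrrCharacter H) (c : ℂ) :
    Cfsg.Agent.Helper77.omega (ξ : H → ℂ)
        (Cfsg.Agent.Helper77.restr H (c • Cfsg.Agent.Helper77.extInv N θ)) =
      c * (Nat.card H : ℂ) * classInner (resTo hHN θ) (ξ : H → ℂ) / (ξ : H → ℂ) 1 := by
  classical
  unfold Cfsg.Agent.Helper77.omega Cfsg.Agent.Helper77.restr classInner
  congr 1
  have hH0 : (Nat.card H : ℂ) ≠ 0 := by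
    have : 0 < Nat.card H := Nat.card_pos
    exact_mod_cast this.ne'
  rw [mul_assoc, ← mul_assoc (Nat.card H : ℂ), mul_inv_cancel₀ hH0, one_mul, Finset.mul_sum]
  rw [← Equiv.sum_comp (Equiv.inv H)]
  refine Finset.sum_congr rfl fun h _ => ?_
  simp only [Equiv.inv_apply, Pi.smul_apply, smul_eq_mul]
  have e1 : Cfsg.Agent.Helper77.extInv N θ ((h⁻¹ : H) : G) = θ (⟨((h⁻¹ : H) : G), hHN (h⁻¹).2⟩ : N)⁻¹ :=
    Cfsg.Agent.Helper77.extInv_of_mem N θ ⟨((h⁻¹ : H) : G), hHN (h⁻¹).2⟩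
  rw [e1, Cfsg.Agent.Helper79.irr_inv ξ h]
  have e2 : (⟨((h⁻¹ : H) : G), hHN (h⁻¹).2⟩ : N)⁻¹ = ⟨(h : G), hHN h.2⟩ := by
    apply Subtype.ext
    simp
  rw [e2]
  unfold resTo
  ring

end partB

end Cfsg.Agent.Helper81
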