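import Mathlib
import Cfsg.Agent.Lib.Helper81.PrincType1
import Cfsg.Agent.Lib.Helper79.Glaub.PGroup

/-!
# The Glauberman correspondent of an invariant character and the Brauer map

`K ⊴ G` a `p'`-group, `θ ∈ Irr(K)` invariant in `G`, `R ≤ G` a `p`-subgroup.  There is a unique
`θ* ∈ Irr(C_K(R))` whose multiplicity in `θ` is prime to `p`; it is `C_G(R)`-invariant.
-/

set_option autoImplicit false
set_option linter.style.haveILetI false
set_option linter.unusedSectionVars false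
open Cfsg

namespace Cfsg.Agent.Helper81

open scoped ComplexConjugate

universe u

section partC

variable {G : Type u} [Group G] [Fintype G]

theorem mem_normalizer_inf_centralizer (K R : Subgroup G) [hK : K.Normal] {c : G}
    (hc : c ∈ Subgroup.centralizer (R : Set G)) :
    c ∈ Subgroup.normalizer ((K ⊓ Subgroup.centralizer (R : Set G) : Subgroup G) : Set G) := by
  rw [Subgroup.mem_normalizer_iff]
  intro h
  constructor
  · rintro ⟨h1, h2⟩
    exact ⟨hK.conj_mem h h1 c, Subgroup.mul_mem _ (Subgroup.mul_mem _ hc h2) (Subgroup.inv_mem _ hc)⟩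
  · rintro ⟨h1, h2⟩
    refine ⟨?_, ?_⟩
    · have := hK.conj_mem _ h1 c⁻¹
      simpa [mul_assoc] using this
    · have := Subgroup.mul_mem _ (Subgroup.mul_mem _ (Subgroup.inv_mem _ hc) h2) hc
      simpa [mul_assoc] using this

/-- **Glauberman correspondent** (existence, uniqueness mod `p`, invariance). -/
theorem exists_glauberman_correspondent (p : ℕ) [hp : Fact p.Prime]
    (K : Subgroup G) [hK : K.Normal] [Fintype K] (hpK : ¬ p ∣ Nat.card K)
    (θ : IrrCharacter K)
    (hinv : ∀ (g : G) (n : K), (θ : K → ℂ) ⟨g * n * g⁻¹, hK.conj_mem n n.2 g⟩ = (θ : K → ℂ) n)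
    (R : Subgroup G) (hR : IsPGroup p R)
    (KR : Subgroup G) (hKR : KR = K ⊓ Subgroup.centralizer (R : Set G)) [Fintype KR]
    (hle : KR ≤ K) :
    ∃ θs : IrrCharacter KR,
      (∃ m : ℕ, classInner (resTo hle (θ : K → ℂ)) (θs : KR → ℂ) = (m : ℂ) ∧ ¬ p ∣ m) ∧
      (∀ ξ : IrrCharacter KR, ξ ≠ θs →
        ∃ m : ℕ, classInner (resTo hle (θ : K → ℂ)) (ξ : KR → ℂ) = (m : ℂ) ∧ p ∣ m) ∧
      (∀ c ∈ Subgroup.centralizer (R : Set G),
        ∀ k k' : KR, (k' : G) = c * k * c⁻¹ → (θs : KR → ℂ) k' = (θs : KR → ℂ) k) := by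
  classical
  have hcop : (Nat.card K).Coprime (Nat.card R) := by
    obtain ⟨k, hk⟩ := IsPGroup.iff_card.mp hR
    rw [hk]
    exact Nat.Coprime.pow_right k ((Nat.Prime.coprime_iff_not_dvd hp.out).mpr hpK).symm
  have hnorm : ∀ s ∈ R, Cfsg.Agent.Helper79.Glaub.NormAt K s := by
    intro s _
    rw [Cfsg.Agent.Helper79.Glaub.normAt_iff_mem_normalizer, Subgroup.normalizer_eq_top]
    exact Subgroup.mem_top s
  have hpkg := Cfsg.Agent.Helper79.Glaub.pkg_pgroup p hp.out (Nat.card R) K R rfl hnorm hcop hR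
    KR hKR hle
  obtain ⟨h1, -, -, -⟩ := hpkg
  have hInv : ∀ x ∈ R, Cfsg.Agent.Helper79.Glaub.InvAt K (θ : K → ℂ) x := by
    intro x _ g g' hg'
    have := hinv x g
    rw [← this]
    exact congrArg (θ : K → ℂ) (Subtype.ext hg')
  obtain ⟨θs, ⟨m, hm, hpm⟩, huniq⟩ := h1 θ hInv
  have hresEq : (fun c : KR => (θ : K → ℂ) (Subgroup.inclusion hle c)) =
      resTo hle (θ : K → ℂ) := rfl
  rw [hresEq] at hm
  have hresc : IsCharacter KR (resTo hle (θ : K → ℂ)) :=
    isCharacter_resTo hle (IsIrrCharacter.isCharacter θ.2)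
  refine ⟨θs, ⟨m, hm, hpm⟩, ?_, ?_⟩
  · intro ξ hξ
    obtain ⟨m', hm'⟩ := exists_nat_classInner_char hresc (IsIrrCharacter.isCharacter ξ.2)
    refine ⟨m', hm', ?_⟩
    by_contra hnd
    exact hξ (huniq ξ ⟨m', hm', hnd⟩)
  · intro c hc k k' hkk'
    have hcK : c ∈ Subgroup.normalizer (K : Set G) := by
      rw [Subgroup.normalizer_eq_top]; exact Subgroup.mem_top c
    have hcKR : c ∈ Subgroup.normalizer (KR : Set G) := by
      rw [hKR]; exact mem_normalizer_inf_centralizer K R hc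
    have hθc : Cfsg.Agent.Helper77.conjIrr K c hcK θ = θ := by
      apply Subtype.ext
      funext n
      show (θ : K → ℂ) ((Cfsg.Agent.Helper77.conjEquivOf K c hcK).symm n) = (θ : K → ℂ) n
      have := hinv c⁻¹ n
      rw [← this]
      exact congrArg (θ : K → ℂ) (Subtype.ext (by
        rw [Cfsg.Agent.Helper77.conjEquivOf_symm_apply_coe]; simp))
    have h2 := Cfsg.Agent.Helper77.classInner_resSub_conjIrr hle c hcKR hcK θ θs
    rw [hθc] at h2
    have h3 : Cfsg.Agent.Helper77.conjIrr KR c hcKR θs = θs := by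
      apply huniq
      refine ⟨m, ?_, hpm⟩
      rw [← hm]
      exact h2
    have h4 : (Cfsg.Agent.Helper77.conjIrr KR c hcKR θs : KR → ℂ) k' = (θs : KR → ℂ) k' := by
      rw [h3]
    rw [← h4]
    show (θs : KR → ℂ) ((Cfsg.Agent.Helper77.conjEquivOf KR c hcKR).symm k') = (θs : KR → ℂ) k
    have h5 : (Cfsg.Agent.Helper77.conjEquivOf KR c hcKR).symm k' = k := by
      apply Subtype.ext
      rw [Cfsg.Agent.Helper77.conjEquivOf_symm_apply_coe, hkk']
      group
    rw [h5]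

/-- **The Brauer map of `e_θ`**: the value of the central character of `ζ ∈ Irr(C_G(R))` at the
truncation of the idempotent of `Irr(G | θ)`, in terms of a constituent `ξ` of `ζ` on `C_K(R)`. -/
theorem brauerOmega_blockCoeff_over (K : Subgroup G) [hK : K.Normal] [Fintype K]
    (θ : IrrCharacter K)
    (hinv : ∀ (g : G) (n : K), (θ : K → ℂ) ⟨g * n * g⁻¹, hK.conj_mem n n.2 g⟩ = (θ : K → ℂ) n)
    (B : Set (IrrCharacter G))
    (hB : ∀ χ : IrrCharacter G, χ ∈ B ↔ classInner (fun n : K => (χ : G → ℂ) n) (θ : K → ℂ) ≠ 0)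
    (R : Subgroup G) [Fintype (Subgroup.centralizer (R : Set G))]
    (KR : Subgroup G) (hKR : KR = K ⊓ Subgroup.centralizer (R : Set G)) [Fintype KR]
    (hle : KR ≤ K) (hleC : KR ≤ Subgroup.centralizer (R : Set G))
    (ζ : IrrCharacter (Subgroup.centralizer (R : Set G))) (ξ : IrrCharacter KR)
    (hne : classInner (Cfsg.Agent.Helper77.resSub hleC (ζ : Subgroup.centralizer (R : Set G) → ℂ))
      (ξ : KR → ℂ) ≠ 0) :
    brauerOmega R (blockCoeff B) (ζ : Subgroup.centralizer (R : Set G) → ℂ) =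
      ((θ : K → ℂ) 1 / (Nat.card K : ℂ)) * (Nat.card KR : ℂ) *
        classInner (resTo hle (θ : K → ℂ)) (ξ : KR → ℂ) / (ξ : KR → ℂ) 1 := by
  classical
  rw [Cfsg.Agent.Helper77.brauerOmega_eq_omega_restr]
  have hCn : Subgroup.centralizer (R : Set G) ≤ Subgroup.normalizer (KR : Set G) := by
    intro c hc
    rw [hKR]; exact mem_normalizer_inf_centralizer K R hc
  have hfun := blockCoeff_of_over_invariant K θ hinv B hB
  have h1 := Cfsg.Agent.Helper77.omega_eq_of_constituent_rel hleC hCn ζ ξ hne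
    (a := blockCoeff B)
    (fun u _ x => Cfsg.Agent.Helper77.isClassFunction_blockCoeff B x u)
    (fun g hgC hgKR => by
      rw [hfun]
      simp only [Pi.smul_apply, smul_eq_mul]
      rw [Cfsg.Agent.Helper77.extInv_of_notMem K _ (fun hgK => hgKR (by rw [hKR]; exact ⟨hgK, hgC⟩)),
        mul_zero])
  rw [h1, hfun]
  exact omega_restr_smul_extInv K KR hle (θ : K → ℂ) ξ _

end partC

section partC2

variable {G : Type u} [Group G] [Fintype G] {p : ℕ} {M : Ideal AlgInt}

/-- A quotient of naturals `a / b` with `p ∣ a`, `p ∤ b` lies in the local ideal. -/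
theorem memLocalIdeal_natCast_div (hM : IsPModular p M) {a b : ℕ} (ha : p ∣ a) (hb : ¬ p ∣ b) :
    MemLocalIdeal M ((a : ℂ) / (b : ℂ)) := by
  haveI hpr := Cfsg.Agent.Helper77.isPrime_of_isPModular hM
  rw [div_eq_mul_inv]
  apply Cfsg.Agent.Helper77.memLocalIdeal_mul_right
  · exact (Cfsg.Agent.Helper77.memLocalIdeal_natCast_iff hM a).mpr ha
  · apply Cfsg.Agent.Helper77.memLocalRing_inv (Cfsg.Agent.Helper77.memLocalRing_natCast b)
    rw [Cfsg.Agent.Helper77.memLocalIdeal_natCast_iff hM]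
    exact hb

/-- A quotient of naturals `a / b` with `p ∤ a`, `p ∤ b` does not lie in the local ideal. -/
theorem not_memLocalIdeal_natCast_div (hM : IsPModular p M) {a b : ℕ} (ha : ¬ p ∣ a)
    (hb : b ≠ 0) : ¬ MemLocalIdeal M ((a : ℂ) / (b : ℂ)) := by
  haveI hpr := Cfsg.Agent.Helper77.isPrime_of_isPModular hM
  intro h
  have h1 := Cfsg.Agent.Helper77.memLocalIdeal_mul_right h
    (Cfsg.Agent.Helper77.memLocalRing_natCast (M := M) b)
  have hb0 : (b : ℂ) ≠ 0 := by exact_mod_cast hb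
  rw [div_mul_cancel₀ _ hb0, Cfsg.Agent.Helper77.memLocalIdeal_natCast_iff hM] at h1
  exact ha h1

/-- The value of the Brauer map of `e_θ` on a character over `ξ`, modulo `M`. -/
theorem brauer_value_mod [hp : Fact p.Prime] (hM : IsPModular p M) (K KR : Subgroup G) [Fintype K]
    [Fintype KR] (hle : KR ≤ K) (hpK : ¬ p ∣ Nat.card K) (θ : IrrCharacter K)
    (ξ : IrrCharacter KR) (m : ℕ)
    (hm : classInner (resTo hle (θ : K → ℂ)) (ξ : KR → ℂ) = (m : ℂ)) :
    (¬ p ∣ m → ¬ MemLocalIdeal M (((θ : K → ℂ) 1 / (Nat.card K : ℂ)) * (Nat.card KR : ℂ) *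
        classInner (resTo hle (θ : K → ℂ)) (ξ : KR → ℂ) / (ξ : KR → ℂ) 1)) ∧
    (p ∣ m → MemLocalIdeal M (((θ : K → ℂ) 1 / (Nat.card K : ℂ)) * (Nat.card KR : ℂ) *
        classInner (resTo hle (θ : K → ℂ)) (ξ : KR → ℂ) / (ξ : KR → ℂ) 1)) := by
  obtain ⟨d, hd1, hddvd, hdpos⟩ := irr_degree_dvd_card θ.2
  obtain ⟨e, he1, hedvd, hepos⟩ := irr_degree_dvd_card ξ.2
  have hKRdvd : Nat.card KR ∣ Nat.card K := Subgroup.card_dvd_of_le hle
  have hK0 : (Nat.card K : ℂ) ≠ 0 := by
    have : 0 < Nat.card K := Nat.card_pos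
    exact_mod_cast this.ne'
  have he0 : (e : ℂ) ≠ 0 := by exact_mod_cast hepos.ne'
  have hval : ((θ : K → ℂ) 1 / (Nat.card K : ℂ)) * (Nat.card KR : ℂ) *
        classInner (resTo hle (θ : K → ℂ)) (ξ : KR → ℂ) / (ξ : KR → ℂ) 1 =
      ((d * Nat.card KR * m : ℕ) : ℂ) / ((Nat.card K * e : ℕ) : ℂ) := by
    rw [hm, hd1, he1]
    push_cast
    field_simp
  rw [hval]
  have hpd : ¬ p ∣ d := fun h => hpK (h.trans hddvd)
  have hpKR : ¬ p ∣ Nat.card KR := fun h => hpK (h.trans hKRdvd)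
  have hpe : ¬ p ∣ e := fun h => hpKR (h.trans hedvd)
  constructor
  · intro hpm
    apply not_memLocalIdeal_natCast_div hM
    · intro h
      rcases (Nat.Prime.dvd_mul hp.out).mp h with h | h
      · rcases (Nat.Prime.dvd_mul hp.out).mp h with h | h
        · exact hpd h
        · exact hpKR h
      · exact hpm h
    · exact Nat.mul_ne_zero Nat.card_pos.ne' hepos.ne'
  · intro hpm
    apply memLocalIdeal_natCast_div hM
    · exact Dvd.dvd.mul_left hpm _
    · intro h
      rcases (Nat.Prime.dvd_mul hp.out).mp h with h | h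
      · exact hpK h
      · exact hpe h

end partC2

end Cfsg.Agent.Helper81
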