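import Mathlib
import Cfsg.Agent.Lib.Helper30.AxB

/-!
# Local `p`-constraint: `p`-regular elements of `C_G(R)` centralizing a Sylow subgroup of
`C_L(R)` lie in `L`
-/

set_option autoImplicit false
set_option linter.style.haveILetI false
set_option linter.unusedSectionVars false

namespace Cfsg.Agent.Helper81

universe u

section partD

variable {G : Type u} [Group G]

/-- The action of `P` on `K` obtained by transporting conjugation on the coset `g K`. -/
@[reducible] def cosetConjAction (P K : Subgroup G) [hK : K.Normal] (g : G)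
    (h : ∀ u ∈ P, g⁻¹ * u * g * u⁻¹ ∈ K) : MulAction P K where
  smul u k := ⟨g⁻¹ * u * g * (u : G)⁻¹ * (u * k * (u : G)⁻¹),
    K.mul_mem (h u u.2) (hK.conj_mem k k.2 u)⟩
  one_smul k := by
    apply Subtype.ext
    show g⁻¹ * ((1 : P) : G) * g * ((1 : P) : G)⁻¹ * (((1 : P) : G) * k * ((1 : P) : G)⁻¹) = k
    simp
  mul_smul u v k := by
    apply Subtype.ext
    show g⁻¹ * ((u * v : P) : G) * g * ((u * v : P) : G)⁻¹ *
        (((u * v : P) : G) * k * ((u * v : P) : G)⁻¹) =
      g⁻¹ * (u : G) * g * (u : G)⁻¹ * ((u : G) *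
        (g⁻¹ * (v : G) * g * (v : G)⁻¹ * ((v : G) * k * (v : G)⁻¹)) * (u : G)⁻¹)
    simp only [Subgroup.coe_mul]
    group

theorem cosetConjAction_smul_coe (P K : Subgroup G) [hK : K.Normal] (g : G)
    (h : ∀ u ∈ P, g⁻¹ * u * g * u⁻¹ ∈ K) (u : P) (k : K) :
    ((@HSMul.hSMul P K K (@instHSMul P K (cosetConjAction P K g h).toSMul) u k : K) : G) =
      g⁻¹ * u * g * (u : G)⁻¹ * (u * k * (u : G)⁻¹) := rfl

/-- **Fixed points on cosets**: a `p`-group stabilizing a coset of a normal `p'`-subgroup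
centralizes an element of it. -/
theorem exists_fixed_in_coset [Finite G] {p : ℕ} [Fact p.Prime] (P K : Subgroup G)
    [hK : K.Normal] (hP : IsPGroup p P) (hpK : ¬ p ∣ Nat.card K) (g : G)
    (h : ∀ u ∈ P, g⁻¹ * u * g * u⁻¹ ∈ K) :
    ∃ k ∈ K, ∀ u ∈ P, u * (g * k) * u⁻¹ = g * k := by
  letI := cosetConjAction P K g h
  obtain ⟨k, hk⟩ := hP.nonempty_fixed_point_of_prime_not_dvd_card K hpK
  refine ⟨k, k.2, fun u hu => ?_⟩
  have h1 := hk ⟨u, hu⟩
  have h2 := congrArg (Subtype.val : K → G) h1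
  rw [cosetConjAction_smul_coe] at h2
  simp only at h2
  calc u * (g * k) * u⁻¹ = g * (g⁻¹ * u * g * u⁻¹ * (u * k * u⁻¹)) := by group
    _ = g * k := by rw [h2]

/-- Elements of `L` have `p`-power order modulo `K` when `|L : K|` is a power of `p`. -/
theorem pow_mem_of_relIndex {p : ℕ} (K L : Subgroup G) [hK : K.Normal]
    {j : ℕ} (hidx : K.relIndex L = p ^ j) {l : G} (hl : l ∈ L) : l ^ p ^ j ∈ K := by
  haveI : (K.subgroupOf L).Normal := hK.subgroupOf L
  have h1 : (⟨l, hl⟩ : L) ^ (K.subgroupOf L).index ∈ K.subgroupOf L :=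
    Subgroup.pow_index_mem _ _
  have hidx' : (K.subgroupOf L).index = p ^ j := hidx
  rw [hidx', Subgroup.mem_subgroupOf] at h1
  simpa using h1

/-- **Local constraint.** -/
theorem mem_of_regular_centralizer_local [Finite G] {p : ℕ} [hp : Fact p.Prime]
    (K L : Subgroup G) [hK : K.Normal] [hL : L.Normal] (hKL : K ≤ L) (hpK : ¬ p ∣ Nat.card K)
    (hidx : ∃ j : ℕ, K.relIndex L = p ^ j)
    (Q : Subgroup G) (hQL : Q ≤ L) (hQp : IsPGroup p Q)
    (hCQ : Subgroup.centralizer (Q : Set G) ≤ L)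
    (R : Subgroup G) (hR : IsPGroup p R)
    (Q' : Subgroup G) (hQ'le : Q' ≤ Subgroup.centralizer (R : Set G) ⊓ L)
    (hQ'S : ¬ p ∣ Q'.relIndex (Subgroup.centralizer (R : Set G) ⊓ L))
    (x : G) (hxR : x ∈ Subgroup.centralizer (R : Set G)) (hx : ¬ p ∣ orderOf x)
    (hxQ' : x ∈ Subgroup.centralizer (Q' : Set G)) : x ∈ L := by
  classical
  obtain ⟨j, hj⟩ := hidx
  set C := Subgroup.centralizer (R : Set G) with hC
  set π := QuotientGroup.mk' K with hπ
  have hπ1 : ∀ g : G, π g = 1 ↔ g ∈ K := fun g => QuotientGroup.eq_one_iff g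
  -- Step 1: `x` commutes modulo `K` with every element of `C ⊓ L`
  have hstep1 : ∀ h ∈ C ⊓ L, π x * π h = π h * π x := by
    set T : Subgroup G := (C ⊓ L) ⊓ (Subgroup.centralizer ({π x} : Set (G ⧸ K))).comap π with hT
    have hTle : T ≤ C ⊓ L := inf_le_left
    have hQ'T : Q' ≤ T := by
      intro q hq
      refine Subgroup.mem_inf.mpr ⟨hQ'le hq, ?_⟩
      rw [Subgroup.mem_comap, Subgroup.mem_centralizer_iff]
      intro y hy
      rw [Set.mem_singleton_iff] at hy
      rw [hy, ← map_mul, ← map_mul]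
      rw [Subgroup.mem_centralizer_iff] at hxQ'
      rw [hxQ' q hq]
    have hH0T : C ⊓ K ≤ T := by
      intro k hk
      have hk' := Subgroup.mem_inf.mp hk
      refine Subgroup.mem_inf.mpr ⟨Subgroup.mem_inf.mpr ⟨hk'.1, hKL hk'.2⟩, ?_⟩
      rw [Subgroup.mem_comap, Subgroup.mem_centralizer_iff]
      intro y hy
      rw [(hπ1 k).mpr hk'.2, mul_one, one_mul]
    have hd1 : T.relIndex (C ⊓ L) ∣ Q'.relIndex (C ⊓ L) :=
      Subgroup.relIndex_dvd_of_le_left (C ⊓ L) hQ'T
    have hd2 : T.relIndex (C ⊓ L) ∣ (C ⊓ K).relIndex (C ⊓ L) :=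
      Subgroup.relIndex_dvd_of_le_left (C ⊓ L) hH0T
    have hd3 : (C ⊓ K).relIndex (C ⊓ L) ∣ p ^ j := by
      have e1 : C ⊓ K = K ⊓ (C ⊓ L) := by
        ext g
        simp only [Subgroup.mem_inf]
        constructor
        · rintro ⟨h1, h2⟩; exact ⟨h2, h1, hKL h2⟩
        · rintro ⟨h1, h2, _⟩; exact ⟨h2, h1⟩
      rw [e1, Subgroup.inf_relIndex_right, ← hj]
      have hle : C ⊓ L ≤ L := inf_le_right
      rw [← Subgroup.relIndex_subgroupOf hle]
      haveI : (K.subgroupOf L).Normal := hK.subgroupOf L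
      exact Subgroup.relIndex_dvd_index_of_normal _ _
    have hone : T.relIndex (C ⊓ L) = 1 := by
      have hcop : Nat.Coprime (Q'.relIndex (C ⊓ L)) (p ^ j) :=
        Nat.Coprime.pow_right j ((Nat.Prime.coprime_iff_not_dvd hp.out).mpr hQ'S).symm
      exact Nat.eq_one_of_dvd_coprimes hcop hd1 (hd2.trans hd3)
    have hall : C ⊓ L ≤ T := Subgroup.relIndex_eq_one.mp hone
    intro h hh
    have h1 := (Subgroup.mem_inf.mp (hall hh)).2
    rw [Subgroup.mem_comap, Subgroup.mem_centralizer_iff] at h1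
    exact h1 (π x) (Set.mem_singleton _)
  -- Step 2: Thompson's `A × B` lemma in `G ⧸ K`
  have hA : IsPGroup p (R.map π) := hR.map π
  have hB : (Nat.card ((Subgroup.zpowers x).map π)).Coprime p := by
    have h1 : Nat.card ((Subgroup.zpowers x).map π) ∣ orderOf x := by
      rw [← Nat.card_zpowers]; exact Subgroup.card_map_dvd _ π
    exact Nat.Coprime.coprime_dvd_left h1
      ((Nat.Prime.coprime_iff_not_dvd hp.out).mpr hx).symm
  have hAB : ⁅R.map π, (Subgroup.zpowers x).map π⁆ = ⊥ := by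
    rw [← Subgroup.map_commutator]
    have : ⁅R, Subgroup.zpowers x⁆ = ⊥ := by
      rw [Subgroup.commutator_eq_bot_iff_le_centralizer]
      intro r hr
      rw [Subgroup.mem_centralizer_iff]
      intro z hz
      obtain ⟨n, rfl⟩ := Subgroup.mem_zpowers_iff.mp hz
      rw [Subgroup.mem_centralizer_iff] at hxR
      have hc : Commute x r := (hxR r hr).symm
      exact (hc.zpow_left n).eq
    rw [this, Subgroup.map_bot]
  have hQm : IsPGroup p (L.map π) := by
    rintro ⟨y, hy⟩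
    obtain ⟨l, hl, rfl⟩ := hy
    refine ⟨j, ?_⟩
    apply Subtype.ext
    rw [Subgroup.coe_pow, Subgroup.coe_one]
    show π l ^ p ^ j = 1
    rw [← map_pow, hπ1]
    exact pow_mem_of_relIndex K L hj hl
  haveI hLn : (L.map π).Normal :=
    Subgroup.Normal.map hL π (QuotientGroup.mk'_surjective K)
  have hnorm : Subgroup.normalizer ((L.map π : Subgroup (G ⧸ K)) : Set (G ⧸ K)) = ⊤ :=
    Subgroup.normalizer_eq_top _
  have hCcond : L.map π ⊓ Subgroup.centralizer ((R.map π : Subgroup (G ⧸ K)) : Set (G ⧸ K)) ≤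
      Subgroup.centralizer (((Subgroup.zpowers x).map π : Subgroup (G ⧸ K)) : Set (G ⧸ K)) := by
    intro y hy
    obtain ⟨hyL, hyR⟩ := Subgroup.mem_inf.mp hy
    obtain ⟨l, hl, rfl⟩ := hyL
    rw [Subgroup.mem_centralizer_iff] at hyR
    have hfix : ∀ u ∈ R, l⁻¹ * u * l * u⁻¹ ∈ K := by
      intro u hu
      rw [← hπ1]
      have h1 := hyR (π u) (Subgroup.mem_map_of_mem π hu)
      simp only [map_mul, map_inv]
      calc (π l)⁻¹ * π u * π l * (π u)⁻¹ = (π l)⁻¹ * (π u * π l) * (π u)⁻¹ := by group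
        _ = (π l)⁻¹ * (π l * π u) * (π u)⁻¹ := by rw [h1]
        _ = 1 := by group
    obtain ⟨k, hkK, hk⟩ := exists_fixed_in_coset R K hR hpK l hfix
    have hlkC : l * k ∈ C := by
      rw [hC, Subgroup.mem_centralizer_iff]
      intro u hu
      have := hk u hu
      calc u * (l * k) = u * (l * k) * u⁻¹ * u := by group
        _ = l * k * u := by rw [this]
    have hlkL : l * k ∈ L := L.mul_mem hl (hKL hkK)
    have h2 := hstep1 (l * k) ⟨hlkC, hlkL⟩
    have hπlk : π (l * k) = π l := by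
      rw [map_mul, (hπ1 k).mpr hkK, mul_one]
    rw [hπlk] at h2
    rw [Subgroup.mem_centralizer_iff]
    intro z hz
    obtain ⟨w, hw, rfl⟩ := hz
    obtain ⟨n, rfl⟩ := Subgroup.mem_zpowers_iff.mp hw
    rw [map_zpow]
    have hc : Commute (π x) (π l) := h2
    exact (hc.zpow_left n).eq
  have hthom := Cfsg.Agent.Helper30.thompson_AxB (R.map π) ((Subgroup.zpowers x).map π) hA hB hAB
    (L.map π) hQm (hnorm ▸ le_top) (hnorm ▸ le_top) hCcond
  have hstep2 : ∀ l ∈ L, π l * π x = π x * π l := by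
    intro l hl
    rw [Subgroup.commutator_eq_bot_iff_le_centralizer] at hthom
    have h1 := hthom (Subgroup.mem_map_of_mem π hl)
    rw [Subgroup.mem_centralizer_iff] at h1
    exact (h1 (π x) (Subgroup.mem_map_of_mem π (Subgroup.mem_zpowers x))).symm
  -- Step 3: a fixed point of `Q` on the coset `x K`
  have hfixQ : ∀ u ∈ Q, x⁻¹ * u * x * u⁻¹ ∈ K := by
    intro u hu
    rw [← hπ1]
    have h1 := hstep2 u (hQL hu)
    simp only [map_mul, map_inv]
    calc (π x)⁻¹ * π u * π x * (π u)⁻¹ = (π x)⁻¹ * (π u * π x) * (π u)⁻¹ := by group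
      _ = (π x)⁻¹ * (π x * π u) * (π u)⁻¹ := by rw [h1]
      _ = 1 := by group
  obtain ⟨k, hkK, hk⟩ := exists_fixed_in_coset Q K hQp hpK x hfixQ
  have hxk : x * k ∈ L := by
    apply hCQ
    rw [Subgroup.mem_centralizer_iff]
    intro u hu
    have := hk u hu
    calc u * (x * k) = u * (x * k) * u⁻¹ * u := by group
      _ = x * k * u := by rw [this]
  have : x = x * k * k⁻¹ := by group
  rw [this]
  exact L.mul_mem hxk (L.inv_mem (hKL hkK))

/-- `|C ∩ L : C ∩ K|` divides `|L : K|` for a normal subgroup `K ≤ L`. -/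
theorem relIndex_inf_dvd (C K L : Subgroup G) [hK : K.Normal] (hKL : K ≤ L) :
    (C ⊓ K).relIndex (C ⊓ L) ∣ K.relIndex L := by
  have e1 : C ⊓ K = K ⊓ (C ⊓ L) := by
    ext g
    simp only [Subgroup.mem_inf]
    constructor
    · rintro ⟨h1, h2⟩; exact ⟨h2, h1, hKL h2⟩
    · rintro ⟨h1, h2, _⟩; exact ⟨h2, h1⟩
  rw [e1, Subgroup.inf_relIndex_right]
  have hle : C ⊓ L ≤ L := inf_le_right
  rw [← Subgroup.relIndex_subgroupOf hle]
  haveI : (K.subgroupOf L).Normal := hK.subgroupOf L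
  exact Subgroup.relIndex_dvd_index_of_normal _ _

end partD

end Cfsg.Agent.Helper81
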