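import Mathlib
import Cfsg.Agent.Lib.Helper81.PrincType2
import Cfsg.Agent.Lib.Helper81.PrincType3
import Cfsg.Agent.Lib.Helper76.InBlock3

/-!
# Blocks of principal type over an invariant character of a normal `p'`-subgroup

`K ⊴ G` a `p'`-group, `L ⊴ G` with `L/K` a `p`-group, `Q` a Sylow `p`-subgroup of `L` with
`C_G(Q) ≤ L`, and `θ ∈ Irr(K)` invariant in `G`.  Then `B = Irr(G | θ)` is a block with Sylow
defect groups, and for every `p`-subgroup `R` exactly one block of `C_G(R)` induces `B`.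
-/

set_option autoImplicit false
set_option linter.style.haveILetI false
set_option linter.unusedSectionVars false
open Cfsg

namespace Cfsg.Agent.Helper81

open scoped ComplexConjugate

universe u

section main

variable {G : Type u} [Group G] [Fintype G] {p : ℕ} {M : Ideal AlgInt}

/-- `Irr(G | θ)` is a block with Sylow defect groups. -/
theorem isPBlock_over_of_constrained [hp : Fact p.Prime] (hM : IsPModular p M)
    (K : Subgroup G) [hK : K.Normal] [Fintype K] (hpK : ¬ p ∣ Nat.card K)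
    (L : Subgroup G) [hL : L.Normal] (hKL : K ≤ L) (hidx : ∃ j : ℕ, K.relIndex L = p ^ j)
    (Q : Subgroup G) (hQL : Q ≤ L) (hQp : IsPGroup p Q) (hQS : ¬ p ∣ Q.relIndex L)
    (hCQ : Subgroup.centralizer (Q : Set G) ≤ L)
    (θ : IrrCharacter K)
    (hinv : ∀ (g : G) (n : K), (θ : K → ℂ) ⟨g * n * g⁻¹, hK.conj_mem n n.2 g⟩ = (θ : K → ℂ) n)
    (B : Set (IrrCharacter G))
    (hB : ∀ χ : IrrCharacter G, χ ∈ B ↔ classInner (fun n : K => (χ : G → ℂ) n) (θ : K → ℂ) ≠ 0) :
    IsPBlock M B ∧ ∀ S : Sylow p G, IsDefectGroup p M B (S : Subgroup G) := by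
  classical
  letI : Fintype L := Fintype.ofFinite L
  obtain ⟨χ₀, hχ₀1, hχ₀2⟩ := exists_pprime_degree_over p K hpK θ.2 hinv
  have heq : B = blockOf M (χ₀ : G → ℂ) := by
    ext χ
    rw [hB χ]
    constructor
    · intro h
      exact sameBlock_of_over_of_constrained hM K hpK L hKL hidx Q hQL hQp hQS
        (fun x _ hx => hCQ hx) θ hinv χ₀ χ hχ₀1 h
    · intro hs
      exact over_of_sameBlock hM K hpK θ hinv χ₀ χ hχ₀1 hs
  have hBb : IsPBlock M B := ⟨χ₀, heq⟩
  refine ⟨hBb, fun S => ?_⟩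
  exact isDefectGroup_sylow_of_not_dvd_degree hM hBb χ₀ ((hB χ₀).mpr hχ₀1) hχ₀2 S

end main

section princ

variable {G : Type u} [Group G] [Fintype G] {p : ℕ} {M : Ideal AlgInt} (R : Subgroup G)

local notation "CR" => Subgroup.centralizer (R : Set G)

/-- **Principal type**: for every `p`-subgroup `R`, exactly one block of `C_G(R)` induces
`B = Irr(G | θ)`. -/
theorem existsUnique_induced_of_constrained [hp : Fact p.Prime] (hM : IsPModular p M)
    (K : Subgroup G) [hK : K.Normal] [Fintype K] (hpK : ¬ p ∣ Nat.card K)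
    (L : Subgroup G) [hL : L.Normal] (hKL : K ≤ L) (hidx : ∃ j : ℕ, K.relIndex L = p ^ j)
    (Q : Subgroup G) (hQL : Q ≤ L) (hQp : IsPGroup p Q)
    (hCQ : Subgroup.centralizer (Q : Set G) ≤ L)
    (θ : IrrCharacter K)
    (hinv : ∀ (g : G) (n : K), (θ : K → ℂ) ⟨g * n * g⁻¹, hK.conj_mem n n.2 g⟩ = (θ : K → ℂ) n)
    (B : Set (IrrCharacter G))
    (hB : ∀ χ : IrrCharacter G, χ ∈ B ↔ classInner (fun n : K => (χ : G → ℂ) n) (θ : K → ℂ) ≠ 0)
    (hBb : IsPBlock M B) (hR : IsPGroup p R) :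
    ∃! f : Set (IrrCharacter CR), IsInducedBlock M CR f B := by
  classical
  haveI hpr := Cfsg.Agent.Helper77.isPrime_of_isPModular hM
  letI : Fintype CR := Fintype.ofFinite _
  obtain ⟨j, hj⟩ := hidx
  -- the subgroup `C_K(R)`
  obtain ⟨KR, hKR⟩ : ∃ KR : Subgroup G, KR = K ⊓ CR := ⟨_, rfl⟩
  letI : Fintype KR := Fintype.ofFinite _
  have hle : KR ≤ K := hKR ▸ inf_le_left
  have hleC : KR ≤ CR := hKR ▸ inf_le_right
  have hCn : CR ≤ Subgroup.normalizer (KR : Set G) := by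
    intro c hc
    rw [hKR]; exact mem_normalizer_inf_centralizer K R hc
  -- the Glauberman correspondent
  obtain ⟨θs, ⟨m, hm, hpm⟩, hother, hθsinv⟩ :=
    exists_glauberman_correspondent p K hpK θ hinv R hR KR hKR hle
  -- values of the Brauer map
  have hval : ∀ (ζ : IrrCharacter CR) (ξ : IrrCharacter KR),
      classInner (Cfsg.Agent.Helper77.resSub hleC (ζ : CR → ℂ)) (ξ : KR → ℂ) ≠ 0 →
      brauerOmega R (blockCoeff B) (ζ : CR → ℂ) =
        ((θ : K → ℂ) 1 / (Nat.card K : ℂ)) * (Nat.card KR : ℂ) *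
          classInner (resTo hle (θ : K → ℂ)) (ξ : KR → ℂ) / (ξ : KR → ℂ) 1 :=
    fun ζ ξ hne => brauerOmega_blockCoeff_over K θ hinv B hB R KR hKR hle hleC ζ ξ hne
  have hecl := Cfsg.Agent.Helper77.isClassFunction_blockCoeff B
  have heR := Cfsg.Agent.Helper77.isRValued_blockCoeff (M := M) hBb
  -- over `θs` the value is `≡ 1`
  have hone : ∀ ζ : IrrCharacter CR,
      classInner (Cfsg.Agent.Helper77.resSub hleC (ζ : CR → ℂ)) (θs : KR → ℂ) ≠ 0 →
      MemLocalIdeal M (brauerOmega R (blockCoeff B) (ζ : CR → ℂ) - 1) := by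
    intro ζ hne
    have hv := hval ζ θs hne
    have hnot : ¬ MemLocalIdeal M (brauerOmega R (blockCoeff B) (ζ : CR → ℂ)) := by
      rw [hv]
      exact (brauer_value_mod hM K KR hle hpK θ θs m hm).1 hpm
    have hring := Cfsg.Agent.Helper77.memLocalRing_brauerOmega (M := M) R hecl heR ζ.2
    have hconv := Cfsg.Agent.Helper77.brauerOmega_conv hM R hR hecl hecl heR heR ζ.2
    rw [Cfsg.Agent.Helper77.conv_blockCoeff_self] at hconv
    set v := brauerOmega R (blockCoeff B) (ζ : CR → ℂ) with hvdef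
    have h1 : MemLocalIdeal M (v * (v - 1)) := by
      have : v * (v - 1) = -(v - v * v) := by ring
      rw [this]
      exact Cfsg.Agent.Helper77.memLocalIdeal_neg hconv
    have hring1 : MemLocalRing M (v - 1) :=
      Cfsg.Agent.Helper77.memLocalRing_sub hring (Cfsg.Agent.Helper77.memLocalRing_one hpr.ne_top)
    rcases Cfsg.Agent.Helper77.memLocalIdeal_or_of_mul hring hring1 h1 with h | h
    · exact absurd h hnot
    · exact h
  -- over another character the value is `≡ 0`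
  have hzero : ∀ (ζ : IrrCharacter CR) (ξ : IrrCharacter KR), ξ ≠ θs →
      classInner (Cfsg.Agent.Helper77.resSub hleC (ζ : CR → ℂ)) (ξ : KR → ℂ) ≠ 0 →
      MemLocalIdeal M (brauerOmega R (blockCoeff B) (ζ : CR → ℂ)) := by
    intro ζ ξ hξ hne
    obtain ⟨m', hm', hpm'⟩ := hother ξ hξ
    rw [hval ζ ξ hne]
    exact (brauer_value_mod hM K KR hle hpK θ ξ m' hm').2 hpm'
  -- the normal subgroup `N' = C_K(R)` of `C_G(R)` and its character
  set N' : Subgroup CR := KR.subgroupOf CR with hN'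
  haveI hN'n : N'.Normal := (Subgroup.normal_subgroupOf_iff_le_normalizer hleC).mpr hCn
  letI : Fintype N' := Fintype.ofFinite _
  have hpN' : ¬ p ∣ Nat.card N' := by
    rw [Nat.card_congr (Subgroup.subgroupOfEquivOfLe hleC).toEquiv]
    intro h
    exact hpK (h.trans (Subgroup.card_dvd_of_le hle))
  set φ' : IrrCharacter N' :=
    Cfsg.Agent.Helper77.mapIrr (Subgroup.subgroupOfEquivOfLe hleC).symm θs with hφ'
  have hinv' : ∀ (g : CR) (n : N'),
      (φ' : N' → ℂ) ⟨g * n * g⁻¹, hN'n.conj_mem n n.2 g⟩ = (φ' : N' → ℂ) n := by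
    intro g n
    rw [hφ', Cfsg.Agent.Helper77.mapIrr_coe, Cfsg.Agent.Helper77.mapIrr_coe]
    apply hθsinv (g : G) g.2
    rfl
  have hover : ∀ ζ : IrrCharacter CR,
      classInner (fun n : N' => (ζ : CR → ℂ) n) (φ' : N' → ℂ) =
        classInner (Cfsg.Agent.Helper77.resSub hleC (ζ : CR → ℂ)) (θs : KR → ℂ) :=
    fun ζ => Cfsg.Agent.Helper77.classInner_subgroupOf_eq hleC (ζ : CR → ℂ) θs
  -- the subgroup `L' = C_L(R)`
  set L' : Subgroup CR := L.subgroupOf CR with hL'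
  haveI hL'n : L'.Normal := hL.subgroupOf CR
  letI : Fintype L' := Fintype.ofFinite _
  have hL'eq : L' = (CR ⊓ L).subgroupOf CR := by
    rw [hL', Subgroup.inf_subgroupOf_left]
  have hN'L' : N' ≤ L' := by
    intro y hy
    rw [hN', Subgroup.mem_subgroupOf, hKR] at hy
    rw [hL', Subgroup.mem_subgroupOf]
    exact hKL hy.1
  have hidx' : ∃ k : ℕ, N'.relIndex L' = p ^ k := by
    have h1 : N'.relIndex L' = KR.relIndex (CR ⊓ L) := by
      rw [hN', hL'eq]
      exact Subgroup.relIndex_subgroupOf inf_le_left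
    have h2 : KR.relIndex (CR ⊓ L) ∣ p ^ j := by
      rw [hKR, inf_comm K, ← hj]
      exact relIndex_inf_dvd CR K L hKL
    obtain ⟨k, -, hk⟩ := (Nat.dvd_prime_pow hp.out).mp h2
    exact ⟨k, h1.trans hk⟩
  -- a Sylow subgroup of `C_L(R)`
  obtain ⟨P₃⟩ : Nonempty (Sylow p ↥(CR ⊓ L)) := inferInstance
  obtain ⟨Q'G, hQ'G⟩ : ∃ Q'G : Subgroup G,
      Q'G = (P₃ : Subgroup ↥(CR ⊓ L)).map (CR ⊓ L).subtype := ⟨_, rfl⟩
  have hQ'le : Q'G ≤ CR ⊓ L := by rw [hQ'G]; exact Subgroup.map_subtype_le _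
  have hQ'Gp : IsPGroup p Q'G := by rw [hQ'G]; exact P₃.isPGroup'.map _
  have hQ'S : ¬ p ∣ Q'G.relIndex (CR ⊓ L) := by
    have h1 : Q'G.subgroupOf (CR ⊓ L) = (P₃ : Subgroup ↥(CR ⊓ L)) := by
      rw [hQ'G]
      exact Subgroup.comap_map_eq_self_of_injective Subtype.val_injective _
    unfold Subgroup.relIndex
    rw [h1]
    exact P₃.not_dvd_index
  set Q'' : Subgroup CR := Q'G.subgroupOf CR with hQ''
  have hQ''L : Q'' ≤ L' := by
    intro y hy
    rw [hQ'', Subgroup.mem_subgroupOf] at hy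
    rw [hL', Subgroup.mem_subgroupOf]
    exact (hQ'le hy).2
  have hQ''p : IsPGroup p Q'' := hQ'Gp.comap_of_injective (Subgroup.subtype CR) Subtype.val_injective
  have hQ''S : ¬ p ∣ Q''.relIndex L' := by
    have h1 : Q''.relIndex L' = Q'G.relIndex (CR ⊓ L) := by
      rw [hQ'', hL'eq]
      exact Subgroup.relIndex_subgroupOf inf_le_left
    rw [h1]; exact hQ'S
  have hreg : ∀ x : CR, ¬ p ∣ orderOf x → x ∈ Subgroup.centralizer (Q'' : Set CR) → x ∈ L' := by
    intro x hx hxc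
    rw [hL', Subgroup.mem_subgroupOf]
    refine mem_of_regular_centralizer_local K L hKL hpK ⟨j, hj⟩ Q hQL hQp hCQ R hR Q'G hQ'le hQ'S
      (x : G) x.2 ?_ ?_
    · rwa [Subgroup.orderOf_coe]
    · rw [Subgroup.mem_centralizer_iff]
      intro q hq
      have hqC : q ∈ CR := (hQ'le hq).1
      rw [Subgroup.mem_centralizer_iff] at hxc
      have hq'' : (⟨q, hqC⟩ : CR) ∈ Q'' := by
        rw [hQ'', Subgroup.mem_subgroupOf]; exact hq
      have h1 := hxc ⟨q, hqC⟩ hq''
      exact congrArg Subtype.val h1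
  have hF := sameBlock_of_over_of_constrained hM N' hpN' L' hN'L' hidx' Q'' hQ''L hQ''p hQ''S
    hreg φ' hinv'
  -- the block `f`
  obtain ⟨ζ₀, hζ₀⟩ := Cfsg.Agent.Helper77.exists_lying_over_rel hleC θs
  set f : Set (IrrCharacter CR) :=
    {ζ | classInner (Cfsg.Agent.Helper77.resSub hleC (ζ : CR → ℂ)) (θs : KR → ℂ) ≠ 0} with hf
  have hfeq : f = blockOf M (ζ₀ : CR → ℂ) := by
    ext ζ
    constructor
    · intro h
      exact hF ζ₀ ζ (by rw [hover]; exact hζ₀) (by rw [hover]; exact h)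
    · intro hs
      have := over_of_sameBlock hM N' hpN' φ' hinv' ζ₀ ζ (by rw [hover]; exact hζ₀) hs
      rw [hover] at this
      exact this
  have hfb : IsPBlock M f := ⟨ζ₀, hfeq⟩
  have hpair : IsBrauerPairOf p M B R f := ⟨⟨hR, hfb⟩, hBb, fun ζ hζ => hone ζ hζ⟩
  refine ⟨f, Cfsg.Agent.Helper76.InBlock.isInducedBlock_of_isBrauerPairOf_gen hM R hpair, ?_⟩
  intro f' hf'
  have hpair' := Cfsg.Agent.Helper76.InBlock.isBrauerPairOf_of_isInducedBlock_gen hM R hR hf'
  obtain ⟨⟨-, hf'b⟩, -, hom'⟩ := hpair'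
  obtain ⟨ζ, hζ⟩ := Cfsg.Agent.Helper77.nonempty_of_isPBlock hf'b
  obtain ⟨ξ, hξ⟩ := Cfsg.Agent.Helper77.exists_constituent_rel hleC hCn ζ
  have hξeq : ξ = θs := by
    by_contra hne
    have h0 := hzero ζ ξ hne hξ
    have h1 := hom' ζ hζ
    have h2 := Cfsg.Agent.Helper77.memLocalIdeal_sub h0 h1
    rw [sub_sub_cancel] at h2
    exact Cfsg.Agent.Helper77.not_memLocalIdeal_one h2
  rw [hξeq] at hξ
  exact (Cfsg.Agent.Helper77.eq_of_isPBlock_of_mem hfb hf'b hξ hζ).symm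

end princ

end Cfsg.Agent.Helper81
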