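import Mathlib
import Cfsg.Agent.Lib.Helper2.SR0
import Cfsg.Agent.Lib.Helper81.SRC0

/-!
# SR server (helper2, S2281): piece (C11) forms
-/

set_option autoImplicit false

namespace Cfsg.Agent.Helper81.SR

open Matrix Cfsg Cfsg.Agent.Helper13 Cfsg.Agent.Helper84.SpRoot Cfsg.Agent.Helper5.SpAut
open Cfsg.Agent.Helper2.SR

section C
variable {F : Type*} [Field F] {m : ℕ}

/-- (C11) uses C0 -/
theorem forms (s : F) :
    Cfsg.sympForm (m + 2) F (be 1) (be 0) = 0 ∧
    Cfsg.sympForm (m + 2) F (pV s) (be 0) = 0 ∧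
    Cfsg.sympForm (m + 2) F (be 1) (pV s) = s ∧
    Cfsg.sympForm (m + 2) F (- be 0 + (2 : F) • be 1 + s • bf 0) (be 0) = s := by
  have h10 : (1 : Fin (m + 2)) ≠ 0 := by
    intro h
    have := congrArg Fin.val h
    simp at this
  have h01 : (0 : Fin (m + 2)) ≠ 1 := fun h => h10 h.symm
  refine ⟨?_, ?_, ?_, ?_⟩
  · rw [(form_basis _ _).1]
    simp [be]
  · rw [(form_basis _ _).1]
    simp [pV, be, bf, h01]
  · rw [(form_basis _ _).2.2.1]
    simp [pV, be, bf]
  · rw [(form_basis _ _).1]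
    simp [be, bf]

end C

end Cfsg.Agent.Helper81.SR
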