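import Mathlib
import Cfsg.Agent.Lib.Helper17.Sieve
import Cfsg.Agent.Lib.Helper17.SieveInter
import Cfsg.Agent.Lib.Helper17.AutPSq
import Cfsg.Agent.Lib.Helper17.FamilyCount
import Cfsg.Agent.Lib.Helper17.Burnside
import Cfsg.Agent.Lib.Helper17.EmbedNormalizer

/-!
# No simple group of order 5600 = 2^5 * 5^2 * 7 (exercise order for S0983)

* every proper subgroup has index `≥ 10` (`25 ∤ 9!`);
* `n_5 = 16`: `|N(P₅)| = 350`, `Aut(P₅)` has no element of order 7, so an element `x` of order 7
  centralizes `P₅`, hence `175 ∣ |N(⟨x⟩)|`, `n_7 ∣ 32`, `n_7 ∈ {1, 8}`: impossible;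
* `n_5 = 56 ≢ 1 mod 25`: two Sylow 5-subgroups meet in `D` of order 5, `N = N_G(D) ≥ P, R` has
  `n_5(N) = 16 = |N : P|`, `|N| = 400`, `N_N(P) = P` is abelian: Burnside gives a normal subgroup `T`
  of `N` of order 16; `T` has index 2 in a Sylow 2-subgroup `S`, so `N_G(T) ≥ N, S` has order divisible
  by 800, index `≤ 7`: `T` is normal in `G`.
-/

set_option autoImplicit false

namespace Cfsg.Agent.Helper81.SV

open Nat Cfsg.Agent.Helper17 Cfsg.Agent.Helper17.Sieve

universe u

section

variable {G : Type u} [Group G] [Finite G] [IsSimpleGroup G]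

theorem sv5600_index_ge_ten (hna : ¬ IsMulCommutative G) (hG : Nat.card G = 5600)
    (H : Subgroup G) (hH : H ≠ ⊤) : 10 ≤ H.index := by
  by_contra h
  push Not at h
  have h1 := two_mul_card_dvd_factorial hna H hH
  rw [hG] at h1
  have h2 : (H.index)! ∣ 9 ! := Nat.factorial_dvd_factorial (by omega)
  have h3 := h1.trans h2
  revert h3
  decide

/-- Two Sylow `p`-subgroups meeting in a subgroup of index `p` whose normalizer is proper
(the first half of `Helper17.Sieve.inter_kill`). -/
theorem sv_inter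
    (p k m : ℕ) [hp : Fact p.Prime] (hk : 2 ≤ k) (hn : Nat.card G = p ^ k * m) (hpm : ¬ p ∣ m)
    (hmod : ¬ Nat.card (Sylow p G) ≡ 1 [MOD p ^ 2]) :
    ∃ P R : Sylow p G, P ≠ R ∧
      Nat.card ↥((P : Subgroup G) ⊓ (R : Subgroup G)) = p ^ (k - 1) ∧
      (P : Subgroup G) ≤ Subgroup.normalizer ((((P : Subgroup G) ⊓ (R : Subgroup G) : Subgroup G)) : Set G) ∧
      (R : Subgroup G) ≤ Subgroup.normalizer ((((P : Subgroup G) ⊓ (R : Subgroup G) : Subgroup G)) : Set G) ∧
      Subgroup.normalizer ((((P : Subgroup G) ⊓ (R : Subgroup G) : Subgroup G)) : Set G) ≠ ⊤ := by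
  obtain ⟨P⟩ : Nonempty (Sylow p G) := inferInstance
  obtain ⟨R, hPR, hidx⟩ := exists_sylow_large_inter p 2 hmod P
  have hcP : Nat.card (P : Subgroup G) = p ^ k := sylow_card_eq P hn hpm
  have hcR : Nat.card (R : Subgroup G) = p ^ k := sylow_card_eq R hn hpm
  have hp1 : 1 < p := hp.out.one_lt
  have hppos : 0 < p := hp.out.pos
  change (R : Subgroup G).relIndex (P : Subgroup G) ≤ p ^ (2 - 1) at hidx
  rw [show 2 - 1 = 1 from rfl, pow_one] at hidx
  have hd : (R : Subgroup G).relIndex (P : Subgroup G) ∣ p ^ k := by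
    rw [← hcP]; exact Subgroup.relIndex_dvd_card _ _
  have hne : (R : Subgroup G).relIndex (P : Subgroup G) ≠ 1 := by
    intro h1
    rw [Subgroup.relIndex_eq_one] at h1
    apply hPR
    apply Sylow.ext
    exact Subgroup.eq_of_le_of_card_ge h1 (by rw [hcP, hcR])
  have h5 : (R : Subgroup G).relIndex (P : Subgroup G) = p := by
    obtain ⟨e, _, he⟩ := (Nat.dvd_prime_pow hp.out).1 hd
    rw [he] at hidx hne ⊢
    have he0 : e ≠ 0 := by rintro rfl; exact hne (pow_zero p)
    have he1 : e ≤ 1 := by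
      by_contra hgt
      push Not at hgt
      have : p ^ 1 < p ^ e := Nat.pow_lt_pow_right hp1 hgt
      rw [pow_one] at this
      omega
    have : e = 1 := by omega
    rw [this, pow_one]
  have h5' : (P : Subgroup G).relIndex (R : Subgroup G) = p := by
    rw [← sylow_relIndex_symm]; exact h5
  have hcD : Nat.card ↥((P : Subgroup G) ⊓ (R : Subgroup G)) * p = p ^ k := by
    have := card_inf_mul_relIndex (P : Subgroup G) (R : Subgroup G)
    rw [h5', hcR] at this
    exact this
  have hcD' : Nat.card ↥((P : Subgroup G) ⊓ (R : Subgroup G)) = p ^ (k - 1) := by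
    have h1 : p ^ k = p ^ (k - 1) * p := by
      rw [← pow_succ]; congr 1; omega
    rw [h1] at hcD
    exact Nat.eq_of_mul_eq_mul_right hppos hcD
  have hPN : (P : Subgroup G) ≤
      Subgroup.normalizer ((((P : Subgroup G) ⊓ (R : Subgroup G) : Subgroup G)) : Set G) :=
    le_normalizer_inf_of_relIndex_eq_prime P R h5
  have hRN : (R : Subgroup G) ≤
      Subgroup.normalizer ((((P : Subgroup G) ⊓ (R : Subgroup G) : Subgroup G)) : Set G) := by
    rw [inf_comm]
    exact le_normalizer_inf_of_relIndex_eq_prime R P h5'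
  have hm0 : m ≠ 0 := fun h0 => hpm (h0 ▸ dvd_zero p)
  refine ⟨P, R, hPR, hcD', hPN, hRN, ?_⟩
  intro htop
  have hnorm : ((P : Subgroup G) ⊓ (R : Subgroup G)).Normal :=
    Subgroup.normalizer_eq_top_iff.1 htop
  apply normal_card_absurd _ hnorm
  · rw [hcD']
    exact (Nat.one_lt_pow (by omega) hp1).ne'
  · rw [hcD', hn]
    intro h
    have h1 : p ^ (k - 1) < p ^ k := Nat.pow_lt_pow_right hp1 (by omega)
    have h2 : p ^ k ≤ p ^ k * m := Nat.le_mul_of_pos_right _ (Nat.pos_of_ne_zero hm0)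
    omega

theorem sv5600_not_sixteen (hna : ¬ IsMulCommutative G) (hG : Nat.card G = 5600)
    (h16 : Nat.card (Sylow 5 G) = 16) : False := by
  have : Fact (Nat.Prime 5) := ⟨by norm_num⟩
  have : Fact (Nat.Prime 7) := ⟨by norm_num⟩
  obtain ⟨P⟩ : Nonempty (Sylow 5 G) := inferInstance
  have hf5 : Nat.card G = 5 ^ 2 * 224 := by rw [hG]; norm_num
  have hn5 : ¬ 5 ∣ 224 := by norm_num
  have hcP : Nat.card (P : Subgroup G) = 5 ^ 2 := sylow_card_eq P hf5 hn5
  have hN := card_normalizer_mul_sylow_count P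
  rw [h16, hG] at hN
  have hN350 : Nat.card ↥(Subgroup.normalizer ((P : Subgroup G) : Set G)) = 350 := by omega
  have key := Subgroup.card_dvd_of_injective _
    (QuotientGroup.kerLift_injective (P : Subgroup G).normalizerMonoidHom)
  rw [Subgroup.normalizerMonoidHom_ker, ← Subgroup.index, ← Subgroup.relIndex] at key
  change (Subgroup.centralizer ((P : Subgroup G) : Set G)).relIndex
      (Subgroup.normalizer ((P : Subgroup G) : Set G)) ∣ Nat.card (MulAut ↥(P : Subgroup G)) at key
  have h7 : ¬ 7 ∣ (Subgroup.centralizer ((P : Subgroup G) : Set G)).relIndex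
      (Subgroup.normalizer ((P : Subgroup G) : Set G)) := by
    intro h
    obtain ⟨α, hα⟩ := exists_prime_orderOf_dvd_card' (G := MulAut ↥(P : Subgroup G)) 7
      (h.trans key)
    have := aut_order_of_card_sq (p := 5) (s := 7) (by norm_num) (by norm_num) hcP α hα
      (by norm_num)
    omega
  have hCN := card_centralizer_mul_relIndex (P : Subgroup G)
  rw [hN350] at hCN
  have h7C : 7 ∣ Nat.card (Subgroup.centralizer ((P : Subgroup G) : Set G)) := by
    have h : 7 ∣ Nat.card (Subgroup.centralizer ((P : Subgroup G) : Set G)) *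
        (Subgroup.centralizer ((P : Subgroup G) : Set G)).relIndex
          (Subgroup.normalizer ((P : Subgroup G) : Set G)) := by rw [hCN]; norm_num
    rcases (Nat.Prime.dvd_mul (by norm_num)).1 h with h | h
    · exact h
    · exact absurd h h7
  obtain ⟨x', hx'⟩ := exists_prime_orderOf_dvd_card'
    (G := ↥(Subgroup.centralizer ((P : Subgroup G) : Set G))) 7 h7C
  have hx7 : orderOf (x' : G) = 7 := by rw [Subgroup.orderOf_coe]; exact hx'
  have hxC : (x' : G) ∈ Subgroup.centralizer ((P : Subgroup G) : Set G) := x'.2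
  generalize (x' : G) = x at hx7 hxC
  -- a Sylow 7-subgroup containing `x`
  have hxp : IsPGroup 7 (Subgroup.zpowers x) := by
    apply IsPGroup.of_card (n := 1)
    rw [Nat.card_zpowers, hx7, pow_one]
  obtain ⟨Q, hQ⟩ := hxp.exists_le_sylow
  have hf7 : Nat.card G = 7 ^ 1 * 800 := by rw [hG]; norm_num
  have hn7 : ¬ 7 ∣ 800 := by norm_num
  have hcQ : Nat.card (Q : Subgroup G) = 7 ^ 1 := sylow_card_eq Q hf7 hn7
  have hQeq : Subgroup.zpowers x = (Q : Subgroup G) := by
    apply Subgroup.eq_of_le_of_card_ge hQ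
    rw [hcQ, Nat.card_zpowers, hx7, pow_one]
  have hPCQ : (P : Subgroup G) ≤ Subgroup.centralizer ((Q : Subgroup G) : Set G) := by
    intro g hg
    rw [Subgroup.mem_centralizer_iff]
    intro q hq
    have hq' : q ∈ Subgroup.zpowers x := by rw [hQeq]; exact hq
    obtain ⟨j, rfl⟩ := Subgroup.mem_zpowers_iff.1 hq'
    have hgx : g * x = x * g := (Subgroup.mem_centralizer_iff.1 hxC) g hg
    have hc : Commute x g := hgx.symm
    exact (hc.zpow_left j).eq
  have hPNQ : (P : Subgroup G) ≤ Subgroup.normalizer ((Q : Subgroup G) : Set G) :=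
    hPCQ.trans (Subgroup.centralizer_le_normalizer _)
  have h25 : 25 ∣ Nat.card ↥(Subgroup.normalizer ((Q : Subgroup G) : Set G)) := by
    have := Subgroup.card_dvd_of_le hPNQ
    rwa [hcP] at this
  have h7' : 7 ∣ Nat.card ↥(Subgroup.normalizer ((Q : Subgroup G) : Set G)) := by
    have := Subgroup.card_dvd_of_le (Subgroup.le_normalizer (H := (Q : Subgroup G)))
    rwa [hcQ] at this
  have h175 : 175 ∣ Nat.card ↥(Subgroup.normalizer ((Q : Subgroup G) : Set G)) := by
    have : Nat.Coprime 25 7 := by norm_num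
    exact this.mul_dvd_of_dvd_of_dvd h25 h7'
  have hNQ := card_normalizer_mul_sylow_count Q
  rw [hG] at hNQ
  obtain ⟨hd7, hm7⟩ := sylow_count (G := G) hf7 hn7
  have hne7 := sylow_count_ne_one (G := G) hf7 hn7 (by norm_num) (by norm_num)
  have hfac7 := sylow_count_factorial hna hne7
  rw [hG] at hfac7
  obtain ⟨c, hc⟩ := h175
  rw [hc] at hNQ
  generalize Nat.card (Sylow 7 G) = n at *
  have hcn : c * n = 32 := by nlinarith
  have hn32 : n ∣ 32 := Dvd.intro_left c hcn
  have hle : n ≤ 32 := Nat.le_of_dvd (by norm_num) hn32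
  have hn8 : n = 8 := by
    interval_cases n <;> omega
  subst hn8
  revert hfac7
  decide

/-- the arithmetic of the case `n_5 = 56`. -/
theorem sv5600_arith (a i n : ℕ) (h1 : a * i = 224) (hi : 10 ≤ i) (hd : n ∣ a) (hm : n % 5 = 1)
    (h2 : 2 ≤ n) : a = 16 ∧ n = 16 := by
  have ha : a ≤ 22 := by nlinarith
  have ha0 : 0 < a := by
    rcases Nat.eq_zero_or_pos a with h | h
    · rw [h] at h1; omega
    · exact h
  have hn : n ≤ a := Nat.le_of_dvd ha0 hd
  interval_cases a <;> first | omega | (interval_cases n <;> omega)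

theorem sv5600_not_fiftysix (hna : ¬ IsMulCommutative G) (hG : Nat.card G = 5600)
    (h56 : Nat.card (Sylow 5 G) = 56) : False := by
  have : Fact (Nat.Prime 5) := ⟨by norm_num⟩
  have : Fact (Nat.Prime 2) := ⟨Nat.prime_two⟩
  have hf5 : Nat.card G = 5 ^ 2 * 224 := by rw [hG]; norm_num
  have hn5 : ¬ 5 ∣ 224 := by norm_num
  have hmod : ¬ Nat.card (Sylow 5 G) ≡ 1 [MOD 5 ^ 2] := by rw [h56]; decide
  obtain ⟨P, R, hPR, hcD, hPN, hRN, hNtop⟩ := sv_inter (G := G) 5 2 224 (by norm_num) hf5 hn5 hmod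
  have hcP : Nat.card (P : Subgroup G) = 5 ^ 2 := sylow_card_eq P hf5 hn5
  set N : Subgroup G :=
    Subgroup.normalizer ((((P : Subgroup G) ⊓ (R : Subgroup G) : Subgroup G)) : Set G) with hNdef
  have hidx10 := sv5600_index_ge_ten hna hG N hNtop
  have hPi : (P : Subgroup G).index = 224 := sylow_index_eq P hf5 hn5
  have h1 := Subgroup.relIndex_mul_index hPN
  rw [hPi] at h1
  -- Sylow 5-subgroups of `N`
  have hP'R' : (P.subtype hPN : Sylow 5 ↥N) ≠ R.subtype hRN := by
    intro h
    apply hPR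
    have h2 : (P : Subgroup G).subgroupOf N = (R : Subgroup G).subgroupOf N := by
      have := congrArg (fun S : Sylow 5 ↥N => (S : Subgroup ↥N)) h
      simpa [Sylow.coe_subtype] using this
    apply Sylow.ext
    have h3 := (Subgroup.subgroupOf_inj).1 h2
    rwa [inf_of_le_left hPN, inf_of_le_left hRN] at h3
  have hn'ge : 2 ≤ Nat.card (Sylow 5 ↥N) := by
    have : Nontrivial (Sylow 5 ↥N) := ⟨⟨_, _, hP'R'⟩⟩
    exact Finite.one_lt_card_iff_nontrivial.2 this
  have hn'mod : Nat.card (Sylow 5 ↥N) % 5 = 1 := card_sylow_modEq_one 5 ↥N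
  have hn'dvd : Nat.card (Sylow 5 ↥N) ∣ (P : Subgroup G).relIndex N := by
    have := (P.subtype hPN : Sylow 5 ↥N).card_dvd_index
    rwa [Sylow.coe_subtype] at this
  obtain ⟨ha16, hn16⟩ := sv5600_arith _ _ _ h1 hidx10 hn'dvd hn'mod hn'ge
  -- `|N| = 400`
  have hN400 : Nat.card ↥N = 400 := by
    have := card_inf_mul_relIndex (P : Subgroup G) N
    rw [inf_of_le_left hPN, hcP, ha16] at this
    omega
  have hfN : Nat.card ↥N = 5 ^ 2 * 16 := by rw [hN400]; norm_num
  have hnN : ¬ 5 ∣ 16 := by norm_num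
  have hcP' : Nat.card ((P.subtype hPN : Sylow 5 ↥N) : Subgroup ↥N) = 5 ^ 2 :=
    sylow_card_eq (P.subtype hPN : Sylow 5 ↥N) hfN hnN
  have hNP' := card_normalizer_mul_sylow_count (P.subtype hPN : Sylow 5 ↥N)
  rw [hn16, hN400] at hNP'
  have hNP'25 : Nat.card ↥(Subgroup.normalizer
      (((P.subtype hPN : Sylow 5 ↥N) : Subgroup ↥N) : Set ↥N)) = 25 := by omega
  have hPcomm : IsMulCommutative ↥((P.subtype hPN : Sylow 5 ↥N) : Subgroup ↥N) :=
    IsPGroup.isMulCommutative_of_card_eq_prime_sq hcP'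
  have hnorm_eq : ((P.subtype hPN : Sylow 5 ↥N) : Subgroup ↥N) =
      Subgroup.normalizer (((P.subtype hPN : Sylow 5 ↥N) : Subgroup ↥N) : Set ↥N) := by
    apply Subgroup.eq_of_le_of_card_ge Subgroup.le_normalizer
    rw [hNP'25, hcP']; norm_num
  have hle : Subgroup.normalizer (((P.subtype hPN : Sylow 5 ↥N) : Subgroup ↥N) : Set ↥N) ≤
      Subgroup.centralizer (((P.subtype hPN : Sylow 5 ↥N) : Subgroup ↥N) : Set ↥N) := by
    rw [← hnorm_eq]
    exact Subgroup.le_centralizer _
  obtain ⟨K, hKn, hKc, _⟩ := exists_normal_pcomplement (P.subtype hPN : Sylow 5 ↥N) hle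
  rw [hcP', hN400] at hKc
  have hK16 : Nat.card K = 16 := by omega
  -- the image `T` of `K` in `G`
  set T : Subgroup G := K.map N.subtype with hTdef
  have hT16 : Nat.card T = 16 := by
    rw [hTdef, Subgroup.card_map_of_injective N.subtype_injective, hK16]
  have hNT : N ≤ Subgroup.normalizer (T : Set G) := by
    have h1 := Subgroup.le_normalizer_map (H := K) N.subtype
    have h2 : Subgroup.normalizer (K : Set ↥N) = ⊤ := Subgroup.normalizer_eq_top_iff.2 hKn
    rw [h2, ← MonoidHom.range_eq_map, Subgroup.range_subtype] at h1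
    exact h1
  have hTp : IsPGroup 2 T := by
    apply IsPGroup.of_card (n := 4)
    rw [hT16]; norm_num
  obtain ⟨S, hTS⟩ := hTp.exists_le_sylow
  have hf2 : Nat.card G = 2 ^ 5 * 175 := by rw [hG]; norm_num
  have hn2 : ¬ 2 ∣ 175 := by norm_num
  have hcS : Nat.card (S : Subgroup G) = 2 ^ 5 := sylow_card_eq S hf2 hn2
  have hrel : T.relIndex (S : Subgroup G) = 2 := by
    have := card_inf_mul_relIndex T (S : Subgroup G)
    rw [inf_of_le_left hTS, hT16, hcS] at this
    omega
  have hST : (S : Subgroup G) ≤ Subgroup.normalizer (T : Set G) := by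
    have := le_normalizer_inf_of_relIndex_eq_prime S T hrel
    rwa [inf_of_le_right hTS] at this
  set M : Subgroup G := Subgroup.normalizer (T : Set G) with hMdef
  have h400 : 400 ∣ Nat.card ↥M := by
    have := Subgroup.card_dvd_of_le hNT
    rwa [hN400] at this
  have h32 : 32 ∣ Nat.card ↥M := by
    have := Subgroup.card_dvd_of_le hST
    rw [hcS] at this
    norm_num at this
    exact this
  have h800 : 800 ∣ Nat.card ↥M := by
    have := Nat.lcm_dvd h400 h32
    have hl : Nat.lcm 400 32 = 800 := by decide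
    rwa [hl] at this
  have hMi := M.card_mul_index
  rw [hG] at hMi
  have hMtop : M = ⊤ := by
    by_contra hne
    have h10 := sv5600_index_ge_ten hna hG M hne
    obtain ⟨c, hc⟩ := h800
    rw [hc] at hMi
    have : c * M.index = 7 := by nlinarith
    have hc0 : 0 < c := by
      rcases Nat.eq_zero_or_pos c with h | h
      · rw [h] at this; omega
      · exact h
    nlinarith
  have hTn : T.Normal := Subgroup.normalizer_eq_top_iff.1 hMtop
  apply normal_card_absurd T hTn
  · rw [hT16]; norm_num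
  · rw [hT16, hG]; norm_num

end

/-- No nonabelian simple group has order `5600 = 2^5 * 5^2 * 7`. -/
theorem no_5600.{v} : Cfsg.Agent.Helper17.Sieve.NoSimple.{v} 5600 := by
  intro G _ _ _ hna hG
  have : Fact (Nat.Prime 5) := ⟨by norm_num⟩
  have hf5 : Nat.card G = 5 ^ 2 * 224 := by rw [hG]; norm_num
  have hn5 : ¬ 5 ∣ 224 := by norm_num
  obtain ⟨hd, hm⟩ := sylow_count (G := G) hf5 hn5
  have hne := sylow_count_ne_one (G := G) hf5 hn5 (by norm_num) (by norm_num)
  have hcases : Nat.card (Sylow 5 G) = 16 ∨ Nat.card (Sylow 5 G) = 56 := by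
    generalize Nat.card (Sylow 5 G) = n at *
    have hmem : n ∈ Nat.divisors 224 := Nat.mem_divisors.2 ⟨hd, by norm_num⟩
    have hdiv : Nat.divisors 224 = {1, 2, 4, 7, 8, 14, 16, 28, 32, 56, 112, 224} := by decide
    rw [hdiv] at hmem
    simp only [Finset.mem_insert, Finset.mem_singleton] at hmem
    rcases hmem with rfl | rfl | rfl | rfl | rfl | rfl | rfl | rfl | rfl | rfl | rfl | rfl <;> omega
  rcases hcases with h | h
  · exact sv5600_not_sixteen hna hG h
  · exact sv5600_not_fiftysix hna hG h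

end Cfsg.Agent.Helper81.SV
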