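import Mathlib
import Cfsg.Prelude.Def_Local
import Cfsg.Agent.Lib.Helper89.TH1Defs
import Cfsg.Agent.Lib.Helper81.TH1BDefs
import Cfsg.Agent.Lib.Helper25.TH1CoreB2

/-!
# TH1-B sub-server (helper81): the small pieces (ENE) and (Q0)
-/

set_option autoImplicit false

namespace Cfsg.Agent.Helper81.TH1B

open Cfsg Subgroup Cfsg.Agent.Helper89.TH1
open scoped commutatorElement

universe u

variable {G : Type u} [Group G] [Finite G] {W Y K₁ E Q₀ N : Subgroup G}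

/-- (TRIV) in `kerM` form, from helper25's `triv_of_sq_triv`. -/
theorem triv (hC : Core G W Y K₁ E Q₀ N) (e : G) (he : e ∈ E) (he2 : e ^ 2 ∈ kerM W Y)
    (hek : ∀ k ∈ K₁, ⁅e, k⁆ ∈ kerM W Y) : e ∈ kerM W Y :=
  ⟨E_le_actG hC he, Cfsg.Agent.Helper25.TH1.triv_of_sq_triv hC he (fun y hy => he2.2 y hy)
    (fun k hk y hy => (hek k hk).2 y hy)⟩

/-- (ENE) `E` does not act trivially on `M`. -/
theorem not_E_le_kerM (hC : Core G W Y K₁ E Q₀ N) : ¬ E ≤ kerM W Y := by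
  intro hE
  have h1 : ⁅K₁, E⁆ ≤ kerM W Y := by
    rw [Subgroup.commutator_le]
    intro k hk e he
    have e1 : ⁅k, e⁆ = (k * e * k⁻¹) * e⁻¹ := by
      simp only [commutatorElement_def]
    rw [e1]
    exact (kerM W Y).mul_mem (conj_mem_kerM (K₁_le_actG hC hk) (hE he))
      ((kerM W Y).inv_mem (hE he))
  have h2 : K₁ ≤ kerM W Y := hC.K_comm.trans h1
  have h3 : Y ≤ W := by
    intro y hy
    apply hC.K_fpf y hy
    intro k hk
    have := (h2 hk).2 y hy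
    rw [← commutatorElement_inv]
    exact W.inv_mem this
  exact (not_le_of_gt hC.W_lt_Y) h3

/-- (Q0) `Q₀` acts trivially on `M`. -/
theorem Q₀_le_kerM (hC : Core G W Y K₁ E Q₀ N)
    (htriv : ∀ e ∈ E, e ^ 2 ∈ kerM W Y → (∀ k ∈ K₁, ⁅e, k⁆ ∈ kerM W Y) → e ∈ kerM W Y) :
    Q₀ ≤ kerM W Y := by
  have key : ∀ j : ℕ, ∀ q ∈ Q₀, q ^ (2 ^ j) = 1 → q ∈ kerM W Y := by
    intro j
    induction j with
    | zero =>
      intro q _ h
      rw [pow_zero, pow_one] at h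
      rw [h]; exact (kerM W Y).one_mem
    | succ j ih =>
      intro q hq h
      have h2 : (q ^ 2) ^ (2 ^ j) = 1 := by
        rw [← pow_mul, ← pow_succ']; exact h
      have h3 : q ^ 2 ∈ kerM W Y := ih (q ^ 2) (Q₀.pow_mem hq 2) h2
      apply htriv q (hC.Q₀_le hq) h3
      intro k hk
      have : ⁅q, k⁆ = 1 := by
        rw [commutatorElement_eq_one_iff_mul_comm]; exact hC.Q₀_K q hq k hk
      rw [this]; exact (kerM W Y).one_mem
  intro q hq
  obtain ⟨j, hj⟩ := (IsPGroup.iff_orderOf.mp hC.E_two) ⟨q, hC.Q₀_le hq⟩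
  rw [Subgroup.orderOf_mk] at hj
  apply key j q hq
  rw [← hj]; exact pow_orderOf_eq_one q

end Cfsg.Agent.Helper81.TH1B
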