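import Mathlib
import Cfsg.Prelude.Def_Local
import Cfsg.Agent.Lib.Helper89.TH1Defs
import Cfsg.Agent.Lib.Helper81.TH1BDefs
import Cfsg.Agent.Lib.Helper81.TH1BSmall
import Cfsg.Agent.Lib.Helper25.TH1CoreB1
import Cfsg.Agent.Lib.Helper59.TH1BPAIR
import Cfsg.Agent.Lib.Helper33.TH1BSTAR
import Cfsg.Agent.Lib.Helper59.TH1BIV
import Cfsg.Agent.Lib.Helper78.TH1BFGABS
import Cfsg.Agent.Lib.Helper63.TH1BFGC
import Cfsg.Agent.Lib.Helper12.TH1BFIN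

/-!
# TH1 (COREB) `core_false` for helper89's S3797 server: assembly of the TH1-B sub-server pieces

Pieces: (CNT), (TRIV) helper25; (ENE), (Q0) helper81; (PAIR), (IV) helper59; (STAR) helper33;
(FGABS) helper78; (FGC) helper63; (FIN) helper12.
-/

set_option autoImplicit false

namespace Cfsg.Agent.Helper81.TH1

open Cfsg Subgroup Cfsg.Agent.Helper89.TH1
open scoped commutatorElement

universe u

variable {G : Type u} [Group G] [Finite G]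

open Cfsg.Agent.Helper81.TH1B in
/-- (COREB) the final contradiction. -/
theorem core_false {W Y K₁ E Q₀ N : Subgroup G} (hC : Core G W Y K₁ E Q₀ N)
    (hcard : Nat.card Y = Nat.card W ^ 3)
    (hnd : ∀ W₀ : Subgroup G, W₀ ≤ W → W₀.relIndex W = 2 →
        ∀ y ∈ Y, (∀ x ∈ Y, ⁅x, y⁆ ∈ W₀) → y ∈ W) : False := by
  have htriv : ∀ e ∈ E, e ^ 2 ∈ kerM W Y → (∀ k ∈ K₁, ⁅e, k⁆ ∈ kerM W Y) → e ∈ kerM W Y :=
    fun e he h2 hk => triv hC e he h2 hk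
  have hQ : Q₀ ≤ kerM W Y := Q₀_le_kerM hC htriv
  have hne := not_E_le_kerM hC
  obtain ⟨τ, hτ, τ', hτ', h1, h2, h3⟩ := Cfsg.Agent.Helper59.TH1B.exists_pair hC
    (Cfsg.Agent.Helper25.TH1.card_sub_one_dvd hC) hne
  have hstar := fun e he hne C hCm => Cfsg.Agent.Helper33.TH1B.star hC hcard hnd hQ e he hne C hCm
  have hgen : ∀ (α β : MulAut ↥K₁), α * α = 1 → β * β = 1 → α * β = β * α → ∀ Z : Subgroup ↥K₁,
      (∀ k, α k = k → k ∈ Z) → (∀ k, β k = k → k ∈ Z) → (∀ k, α (β k) = k → k ∈ Z) → Z = ⊤ :=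
    fun α β hα hβ hαβ Z h1 h2 h3 =>
      Cfsg.Agent.Helper78.TH1B.four_group_gen hC.K_odd α β hα hβ hαβ Z h1 h2 h3
  obtain ⟨k, hk, hkn, hkτ, hkσ⟩ :=
    Cfsg.Agent.Helper63.TH1B.exists_k hC hQ htriv hgen τ τ' hτ hτ' h1
  rcases hkσ with h | h
  · obtain ⟨hi, hii⟩ := Cfsg.Agent.Helper59.TH1B.iv hC hQ hstar τ τ' hτ hτ' h1 h2
    exact hkn (Cfsg.Agent.Helper12.TH1B.fin hC hQ τ τ' k hτ hτ' hk hi hii h hkτ)
  · obtain ⟨hi, hii⟩ :=
      Cfsg.Agent.Helper59.TH1B.iv hC hQ hstar τ (τ * τ') hτ (E.mul_mem hτ hτ') h1 h3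
    exact hkn (Cfsg.Agent.Helper12.TH1B.fin hC hQ τ (τ * τ') k hτ (E.mul_mem hτ hτ') hk hi hii h hkτ)

end Cfsg.Agent.Helper81.TH1
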